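import Cfsg.Agent.Omega.ML.Ex.TIE

/-!
# LEMMA E at one element: the alternative EQ(x) of the exact K-list (OMEGA; helper269); K-free

`X` acts faithfully on `M` (exponent 2), `A ≤ X` elementary abelian and quadratic on `M`, `x ∈ A` with
`C_M(x) = C_M(A) =: F`.  Then `E := EE F = {h | [F,h] = 1, [M,h] ≤ F}` is elementary abelian, `A ≤ E`, `C_M(E) = F`,
`N_X(E) = N_X(F) ≥ C_X(x)` and `x^g ∈ E → g ∈ N_X(E)`.

* `TieX A E F x`, **`exists_tieX`**;
* `TieX.normalizer_eq` : if `C_X(x)` is maximal and `N_X(E) ≠ X`, then `N_X(E) = C_X(x)`; `TieX.eq_of_conj`;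
* **`quad_of_atom`** : `A` abelian, `A ≠ 1`, `|A| |C_M(A)| ≥ |M|` and `|D| |C_M(D)| < |A| |C_M(A)|` for `1 < D < A` imply that
  `A` is quadratic (Timmesfeld);
* `normal_eq_bot` : a normal abelian subgroup of exponent 2 of `X` is trivial if `X` has a normal simple subgroup `K`
  with `C_X(K) = 1`.
-/

set_option autoImplicit false

namespace Cfsg.Agent.Omega.ML.Ex.TieX

open Subgroup Cfsg.Agent.ClassTwoFusion.Quad Cfsg.Agent.Omega.ML.Ex.TIE

variable {X : Type*} [Group X] {M : Type*} [Group M] [MulDistribMulAction X M]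

/-- The output at one element. -/
structure TieX (A E : Subgroup X) (F : Subgroup M) (x : X) : Prop where
  le : A ≤ E
  el : ∀ e ∈ E, e * e = 1
  mem : x ∈ E
  fixx : cv M ({x} : Set X) = F
  fixE : cv M (E : Set X) = F
  com : ∀ e ∈ E, ∀ m : M, (e • m) * m⁻¹ ∈ F
  big : ∀ e : X, (∀ m ∈ F, e • m = m) → (∀ m : M, (e • m) * m⁻¹ ∈ F) → e ∈ E
  norm : ∀ g : X, g ∈ normalizer (E : Set X) ↔ ∀ m, m ∈ F ↔ g • m ∈ F
  cent : centralizer {x} ≤ normalizer (E : Set X)
  ti : ∀ g : X, g * x * g⁻¹ ∈ E → g ∈ normalizer (E : Set X)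

/-- **LEMMA E at one element** -/
theorem exists_tieX [Finite M] (sq : ∀ m : M, m * m = 1)
    (faith : ∀ x : X, (∀ m : M, x • m = m) → x = 1) {A : Subgroup X} {x : X} (hx : x ∈ A)
    (eq : cv M ({x} : Set X) = cv M (A : Set X))
    (quad : ∀ a ∈ A, ∀ b ∈ A, ∀ m : M, b • ((a • m) * m⁻¹) = (a • m) * m⁻¹) :
    TieX A (EE (cv M (A : Set X)) : Subgroup X) (cv M (A : Set X)) x := by
  set F := cv M (A : Set X) with hF
  have hA : A ≤ (EE F : Subgroup X) := fun a ha => ⟨fun m hm => hm a ha, fun m b hb => quad a ha b hb m⟩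
  have hxE : x ∈ (EE F : Subgroup X) := hA hx
  have hst : ∀ g : X, g * x * g⁻¹ ∈ (EE F : Subgroup X) → ∀ m, m ∈ F ↔ g • m ∈ F := by
    intro g hg m
    -- `g F ≤ F` by orders
    have h1 : F ≤ F.map (MulDistribMulAction.toMulEquiv M g : M ≃* M).toMonoidHom := by
      intro f hf
      refine ⟨g⁻¹ • f, ?_, smul_inv_smul g f⟩
      change g⁻¹ • f ∈ F
      rw [← eq, mem_cv_singleton]
      have h2 := hg.1 f hf
      rw [mul_smul, mul_smul] at h2
      calc x • g⁻¹ • f = g⁻¹ • (g • x • g⁻¹ • f) := (inv_smul_smul _ _).symm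
        _ = g⁻¹ • f := by rw [h2]
    have h3 : Nat.card (F.map (MulDistribMulAction.toMulEquiv M g : M ≃* M).toMonoidHom) = Nat.card F :=
      card_map_of_injective (MulDistribMulAction.toMulEquiv M g : M ≃* M).injective
    have h4 := Subgroup.eq_of_le_of_card_ge h1 h3.le
    constructor
    · intro hm
      rw [h4]
      exact ⟨m, hm, rfl⟩
    · intro hm
      rw [h4] at hm
      obtain ⟨n, hn, hn'⟩ := hm
      have h5 : g • n = g • m := hn'
      rw [← (smul_left_cancel_iff g).1 h5]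
      exact hn
  have hnor : ∀ g : X, (∀ m, m ∈ F ↔ g • m ∈ F) → g ∈ normalizer ((EE F : Subgroup X) : Set X) := by
    intro g hg
    have hg' : ∀ m, m ∈ F ↔ g⁻¹ • m ∈ F := fun m => by rw [hg (g⁻¹ • m), smul_inv_smul]
    rw [mem_normalizer_iff]
    refine fun x => ⟨fun hx => smul_mem_EE hg hx, fun hx => ?_⟩
    have h1 := smul_mem_EE hg' hx
    have h2 : g⁻¹ * (g * x * g⁻¹) * g⁻¹⁻¹ = x := by group
    rwa [h2] at h1
  exact {
    le := hA
    el := fun e he => EE_sq sq faith he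
    mem := hxE
    fixx := eq
    fixE := le_antisymm (fun m hm => by rw [← eq, mem_cv_singleton]; exact hm x hxE)
      (fun m hm e he => he.1 m hm)
    com := fun e he => he.2
    big := fun e h1 h2 => ⟨h1, h2⟩
    norm := fun g => ⟨fun hg => hst g ((mem_normalizer_iff.1 hg x).1 hxE), hnor g⟩
    cent := fun g hg => hnor g (hst g (by
      have h1 : g * x = x * g := (mem_centralizer_iff.1 hg x rfl).symm
      rw [h1, mul_inv_cancel_right]
      exact hxE))
    ti := fun g hg => hnor g (hst g hg) }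

section max

variable {A E : Subgroup X} {F : Subgroup M} {x : X}

/-- a maximal centraliser -/
theorem TieX.normalizer_eq (h : TieX A E F x)
    (hmax : ∀ R : Subgroup X, centralizer {x} ≤ R → R ≠ ⊤ → R = centralizer {x})
    (hE : normalizer (E : Set X) ≠ ⊤) : normalizer (E : Set X) = centralizer {x} :=
  hmax _ h.cent hE

/-- `x` is the only conjugate of `x` in `E` -/
theorem TieX.eq_of_conj (h : TieX A E F x) (hN : normalizer (E : Set X) = centralizer {x}) {g : X}
    (hg : g * x * g⁻¹ ∈ E) : g * x * g⁻¹ = x := by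
  have h1 := h.ti g hg
  rw [hN] at h1
  rw [← (mem_centralizer_iff.1 h1 x rfl), mul_inv_cancel_right]

/-- `E` is normalised by `C_X(x)` -/
theorem TieX.conj_mem (h : TieX A E F x) {g y : X} (hg : g ∈ centralizer {x}) (hy : y ∈ E) : g * y * g⁻¹ ∈ E :=
  (mem_normalizer_iff.1 (h.cent hg) y).1 hy

/-- `E` is abelian -/
theorem TieX.comm (h : TieX A E F x) {a b : X} (ha : a ∈ E) (hb : b ∈ E) : a * b = b * a := by
  have h1 : ∀ z ∈ E, z⁻¹ = z := fun z hz => inv_eq_of_mul_eq_one_right (h.el z hz)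
  calc a * b = (a * b)⁻¹ := (h1 _ (E.mul_mem ha hb)).symm
    _ = b⁻¹ * a⁻¹ := mul_inv_rev _ _
    _ = b * a := by rw [h1 _ ha, h1 _ hb]

/-- `E ≤ C_X(x)` -/
theorem TieX.le_centralizer (h : TieX A E F x) : E ≤ centralizer {x} := fun e he =>
  mem_centralizer_iff.2 fun y hy => by
    rw [Set.mem_singleton_iff] at hy
    subst hy
    exact h.comm h.mem he

theorem TieX.card_le [Finite X] (h : TieX A E F x) : Nat.card A ≤ Nat.card E := card_le_of_le h.le

end max

/-! ### Quadratic action -/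

/-- `C_A([u, A])` -/
def st (A : Subgroup X) (u : M) : Subgroup X where
  carrier := {c | c ∈ A ∧ ∀ a ∈ A, c • ((a • u) * u⁻¹) = (a • u) * u⁻¹}
  one_mem' := ⟨A.one_mem, fun a _ => one_smul _ _⟩
  mul_mem' := fun {c e} hc he => ⟨A.mul_mem hc.1 he.1, fun a ha => by rw [mul_smul, he.2 a ha, hc.2 a ha]⟩
  inv_mem' := fun {c} hc => ⟨A.inv_mem hc.1, fun a ha => by rw [inv_smul_eq_iff, hc.2 a ha]⟩

omit [MulDistribMulAction X M] in
theorem card_fib' [Finite X] [Finite M] {A S : Subgroup X} {C W : Subgroup M} (hCW : C ≤ W) (f : X → M)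
    (hf : ∀ a ∈ A, f a ∈ W) (hfib : ∀ a ∈ A, ∀ b ∈ A, (f b)⁻¹ * f a ∈ C → b⁻¹ * a ∈ S) :
    Nat.card A * Nat.card C ≤ Nat.card S * Nat.card W := by
  classical
  let F : A × C → W := fun p => ⟨f p.1 * p.2, W.mul_mem (hf _ p.1.2) (hCW p.2.2)⟩
  let r : W → A × C := fun w => if h : ∃ p, F p = w then h.choose else 1
  have hr : ∀ p, F (r (F p)) = F p := by
    intro p
    have h : ∃ q, F q = F p := ⟨p, rfl⟩
    have e : r (F p) = h.choose := dif_pos h
    rw [e]; exact h.choose_spec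
  have hS : ∀ p q : A × C, F q = F p → (q.1 : X)⁻¹ * p.1 ∈ S := by
    intro p q h
    refine hfib _ p.1.2 _ q.1.2 ?_
    have h1 : f q.1 * q.2 = f p.1 * p.2 := congrArg Subtype.val h
    have h2 : (f q.1)⁻¹ * f p.1 = q.2 * (p.2 : M)⁻¹ := by
      rw [inv_mul_eq_iff_eq_mul, ← mul_assoc, h1, mul_inv_cancel_right]
    rw [h2]
    exact C.mul_mem q.2.2 (C.inv_mem p.2.2)
  rw [← Nat.card_prod, ← Nat.card_prod]
  refine Nat.card_le_card_of_injective
    (fun p : A × C => ((⟨((r (F p)).1 : X)⁻¹ * p.1, hS p (r (F p)) (hr p)⟩ : S), F p)) ?_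
  intro p q h
  simp only [Prod.mk.injEq, Subtype.mk.injEq] at h
  obtain ⟨h1, h2⟩ := h
  rw [h2] at h1
  have h3 : (p.1 : X) = q.1 := mul_left_cancel h1
  have h4 : f p.1 * p.2 = f q.1 * q.2 := congrArg Subtype.val h2
  rw [h3] at h4
  exact Prod.ext (Subtype.ext h3) (Subtype.ext (mul_left_cancel h4))

/-- Atoms are quadratic (Timmesfeld's replacement). -/
theorem quad_of_atom [Finite X] [Finite M] (sq : ∀ m : M, m * m = 1) {A : Subgroup X}
    (ab : ∀ a ∈ A, ∀ b ∈ A, a * b = b * a) (hne : A ≠ ⊥)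
    (hbot : Nat.card M ≤ Nat.card A * Nat.card (cv M (A : Set X)))
    (hmin : ∀ D < A, D ≠ ⊥ → Nat.card D * Nat.card (cv M (D : Set X)) < Nat.card A * Nat.card (cv M (A : Set X))) :
    ∀ a ∈ A, ∀ b ∈ A, ∀ m : M, b • ((a • m) * m⁻¹) = (a • m) * m⁻¹ := by
  have hc : ∀ a b : M, a * b = b * a := fun a b => by
    have h1 : ∀ z : M, z⁻¹ = z := fun z => inv_eq_of_mul_eq_one_right (sq z)
    calc a * b = (a * b)⁻¹ := (h1 _).symm
      _ = b⁻¹ * a⁻¹ := mul_inv_rev _ _
      _ = b * a := by rw [h1, h1]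
  intro a₁ ha₁ b₁ hb₁ u
  have hle : st A u ≤ A := fun c hc => hc.1
  -- the fibres
  have hfib : ∀ a ∈ A, ∀ b ∈ A, (b • u * u⁻¹)⁻¹ * (a • u * u⁻¹) ∈ cv M (A : Set X) → b⁻¹ * a ∈ st A u := by
    intro a ha b hb h
    refine ⟨A.mul_mem (A.inv_mem hb) ha, fun e he => ?_⟩
    set c := b⁻¹ * a with hcdef
    have hcA : c ∈ A := A.mul_mem (A.inv_mem hb) ha
    have h0 : a = b * c := by rw [hcdef, mul_inv_cancel_left]
    have h2 : c • u * u⁻¹ ∈ cv M (A : Set X) := by
      have h3 : (b • u * u⁻¹)⁻¹ * (a • u * u⁻¹) = b • (c • u * u⁻¹) := by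
        rw [smul_mul', smul_inv', ← mul_smul, ← h0, mul_inv_rev, inv_inv, mul_assoc, hc (b • u)⁻¹ (a • u * u⁻¹),
          hc (a • u) u⁻¹, mul_assoc, ← mul_assoc u, mul_inv_cancel, one_mul]
      rw [h3] at h
      intro x hx
      have h4 := h b⁻¹ (A.inv_mem hb)
      rw [inv_smul_smul] at h4
      rw [h4]
      exact h x hx
    have h3 : c • (e • u) = e • (c • u) := by rw [← mul_smul, ← mul_smul, ab c hcA e he]
    have h4 := h2 e he
    rw [smul_mul', smul_inv'] at h4
    -- `h4 : e • c • u * (e • u)⁻¹ = c • u * u⁻¹`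
    rw [smul_mul', smul_inv', h3]
    calc e • (c • u) * (c • u)⁻¹ = (e • (c • u) * (e • u)⁻¹) * (e • u * (c • u)⁻¹) := by group
      _ = (c • u * u⁻¹) * (e • u * (c • u)⁻¹) := by rw [h4]
      _ = (e • u * (c • u)⁻¹) * (c • u * u⁻¹) := hc _ _
      _ = e • u * u⁻¹ := by group
  have h1 : Nat.card A * Nat.card (cv M (A : Set X)) ≤ Nat.card (st A u) * Nat.card (cv M (st A u : Set X)) :=
    card_fib' (cv_anti (SetLike.coe_subset_coe.2 hle)) (fun a => a • u * u⁻¹) (fun a ha c hc => hc.2 a ha) hfib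
  by_cases hst : st A u = ⊥
  · exfalso
    have hA1 : Nat.card A * Nat.card (cv M (A : Set X)) = Nat.card M := by
      refine le_antisymm ?_ hbot
      rw [hst, card_bot, one_mul] at h1
      exact h1.trans (Nat.card_le_card_of_injective _ Subtype.val_injective)
    have hinj : ∀ a ∈ A, ∀ b ∈ A, (b • u * u⁻¹)⁻¹ * (a • u * u⁻¹) ∈ cv M (A : Set X) → a = b := by
      intro a ha b hb h
      have := hfib a ha b hb h
      rw [hst, mem_bot, inv_mul_eq_one] at this
      exact this.symm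
    have hbij : Function.Bijective (fun x : A × cv M (A : Set X) => (((x.1 : X) • u * u⁻¹) * (x.2 : M) : M)) := by
      rw [Nat.bijective_iff_injective_and_card]
      refine ⟨?_, ?_⟩
      · rintro ⟨a, c⟩ ⟨a', c'⟩ h
        have h' : ((a : X) • u * u⁻¹) * (c : M) = ((a' : X) • u * u⁻¹) * (c' : M) := h
        have e : (a : X) = a' := by
          apply hinj a a.2 a' a'.2
          have : ((a' : X) • u * u⁻¹)⁻¹ * ((a : X) • u * u⁻¹) = (c' : M) * (c : M)⁻¹ := by
            rw [inv_mul_eq_iff_eq_mul, ← mul_assoc, ← h', mul_inv_cancel_right]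
          rw [this]
          exact mul_mem c'.2 (inv_mem c.2)
        rw [e] at h'
        exact Prod.ext (Subtype.ext e) (Subtype.ext (mul_left_cancel h'))
      · rw [Nat.card_prod]; exact hA1
    obtain ⟨⟨a, c⟩, hac⟩ := hbij.2 u
    have hac' : ((a : X) • u * u⁻¹) * (c : M) = u := hac
    have h3 : (a : X) • u = (c : M)⁻¹ := by
      have h5 : (a : X) • u = u * (c : M)⁻¹ * u := by
        calc (a : X) • u = ((a : X) • u * u⁻¹ * (c : M)) * (c : M)⁻¹ * u := by group
          _ = u * (c : M)⁻¹ * u := by rw [hac']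
      rw [h5, hc u (c : M)⁻¹, mul_assoc, sq, mul_one]
    have h4 : (a : X) • u ∈ cv M (A : Set X) := by rw [h3]; exact inv_mem c.2
    have h5 : u ∈ cv M (A : Set X) := by
      have := h4 (a : X)⁻¹ (A.inv_mem a.2)
      rw [inv_smul_smul] at this
      rw [this]; exact h4
    apply hne
    rw [Subgroup.eq_bot_iff_forall]
    intro x hx
    apply hinj x hx 1 A.one_mem
    rw [h5 x hx, one_smul, mul_inv_cancel, inv_one, one_mul]
    exact one_mem _
  · have : st A u = A := by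
      by_contra h
      exact absurd (hmin _ (lt_of_le_of_ne hle h) hst) (not_lt.2 h1)
    have hb' : b₁ ∈ st A u := by rw [this]; exact hb₁
    exact hb'.2 a₁ ha₁

/-! ### No normal elementary abelian subgroups -/

/-- a normal subgroup of exponent 2 of `X` is trivial if `X` has a normal simple subgroup `K` with `C_X(K) = 1` -/
theorem normal_eq_bot {K E : Subgroup X} (hK : K.Normal) (hs : IsSimpleGroup K) (hcen : centralizer (K : Set X) = ⊥)
    (hE : E.Normal) (el : ∀ e ∈ E, e * e = 1) : E = ⊥ := by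
  have hcomm : ∀ a ∈ E, ∀ b ∈ E, a * b = b * a := by
    intro a ha b hb
    have h1 : ∀ z ∈ E, z⁻¹ = z := fun z hz => inv_eq_of_mul_eq_one_right (el z hz)
    calc a * b = (a * b)⁻¹ := (h1 _ (E.mul_mem ha hb)).symm
      _ = b⁻¹ * a⁻¹ := mul_inv_rev _ _
      _ = b * a := by rw [h1 _ ha, h1 _ hb]
  have h1 : (E.subgroupOf K).Normal := Subgroup.Normal.subgroupOf hE K
  have h2 : E ⊓ K = ⊥ := by
    rcases hs.eq_bot_or_eq_top_of_normal _ h1 with h | h
    · exact (subgroupOf_eq_bot.1 h).eq_bot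
    · exfalso
      have hKE : K ≤ E := subgroupOf_eq_top.1 h
      have h3 : K ≤ centralizer (K : Set X) := fun a ha =>
        mem_centralizer_iff.2 fun b hb => hcomm b (hKE hb) a (hKE ha)
      rw [hcen, le_bot_iff] at h3
      obtain ⟨k, hk⟩ := exists_ne (1 : K)
      exact hk (Subtype.ext (mem_bot.1 (h3 ▸ k.2)))
  have h3 : E ≤ centralizer (K : Set X) := by
    intro e he
    refine mem_centralizer_iff.2 fun k hk => ?_
    have h4 : e * k * e⁻¹ * k⁻¹ ∈ E ⊓ K :=
      ⟨by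
        have h5 := hE.conj_mem _ (E.inv_mem he) k
        have h6 : e * k * e⁻¹ * k⁻¹ = e * (k * e⁻¹ * k⁻¹) := by group
        rw [h6]
        exact E.mul_mem he h5,
       K.mul_mem (hK.conj_mem _ hk e) (K.inv_mem hk)⟩
    rw [h2, mem_bot] at h4
    have h5 : e * k * e⁻¹ = k := by
      have h6 := mul_inv_eq_one.1 h4
      exact h6
    calc k * e = (e * k * e⁻¹) * e := by rw [h5]
      _ = e * k := by group
  rw [hcen, le_bot_iff] at h3
  exact h3

end Cfsg.Agent.Omega.ML.Ex.TieX
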