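import Cfsg.Agent.Omega.ML.Rows

/-!
# The K-list for EXACT subgroups (EXL): the literal situation (helper995)

Output of THEOREM RED (#21158 = #21163 = #21287): `H` finite, faithful and irreducible on the elementary abelian
2-group `M`, `K ⊴ H` simple, `C_H(K) = 1`, `H = KT`, `T` a Sylow 2-subgroup of `H` which is in at least two maximal
subgroups, `A ≤ T` elementary abelian, `|A| ≥ 4`, EXACT (`|A| = |M : C_M(A)|`), SUB-EXACT (`|C| ≤ |M : C_M(C)|` for
`C ≤ A`) and LOW (`A ≤ O₂(R)` for all `T ≤ R < H`).  `A` need not be normal in `T`.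

WARNING: `A` NEED NOT BE AN ATOM OF THE IRREDUCIBLE MODULE `M` (RED gives an atom of a module `N` with `M = N / C_N(K)`;
there are real examples, `Sp_{2n}(2)` on the natural module, `A = ⋂ O₂(P_i)`, of non-atoms).  So there may be
transvections in `A`.  `Atm M A` is the additional hypothesis that `A` is an atom, for those who have it.

* `InX H M K T A` : this situation;  `DeadX 𝒮` : it does not occur with `K` in the class `𝒮`;
* `ASx S T A` : its group-theoretic part (`AS` of `Rows.lean` with `H = KT` instead of `H = KA`);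
* `DeadGX 𝒮` : the group-theoretic row, `|A| ≤ 4`;  `DeadGX.dead` : then only `|A| = 4` is left;
* `InX.index_le_four` : `|A| = 4` : `|M : C_M(a)| ≤ 4` for all `a ∈ A`;  `InX.index_le` : `|M : C_M(C)| ≤ |A|`, `C ≤ A`;
* `Atm M A`, and for atoms: **`InX.hyp`** : `C_M(D) = C_M(A)` for a hyperplane `D ≠ 1` of `A`; **`InX.cv_four`**,
  `InX.index_four` : `|A| = 4` : `C_M(a) = C_M(A)` of index 4 for all `a ∈ A#`; `InX.four_le_index`.
-/

set_option autoImplicit false

namespace Cfsg.Agent.Omega.ML.Ex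

open Subgroup Cfsg Cfsg.Agent.ZN Cfsg.Agent.Omega.NOThree.NoOver Cfsg.Agent.Omega.ML.CD
open Cfsg.Agent.ClassTwoFusion.Quad
open Cfsg.Agent.MinSimple.VModule (o2_isPGroup o2_le le_o2 le_normalizer_o2)

universe u v w

/-- The situation of (EXL). -/
structure InX (H : Type u) [Group H] (M : Type v) [Group M] [MulDistribMulAction H M] (K T A : Subgroup H) :
    Prop where
  sq : ∀ m : M, m * m = 1
  faith : ∀ h : H, (∀ m : M, h • m = m) → h = 1
  irr : ∀ W : Subgroup M, (∀ h : H, ∀ w ∈ W, h • w ∈ W) → W = ⊥ ∨ W = ⊤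
  norm : K.Normal
  simple : IsSimpleGroup K
  cen : centralizer (K : Set H) = ⊥
  gen : K ⊔ T = ⊤
  two : IsPGroup 2 T
  syl : ¬ 2 ∣ T.index
  AT : A ≤ T
  el : ∀ a ∈ A, a * a = 1
  four : 4 ≤ Nat.card A
  exact : (cv M (A : Set H)).index = Nat.card A
  sub : ∀ C : Subgroup H, C ≤ A → Nat.card C ≤ (cv M (C : Set H)).index
  low : ∀ R : Subgroup H, T ≤ R → R ≠ ⊤ → A ≤ o2 R
  nmax : ¬ ∃ N : Subgroup H, N ≠ ⊤ ∧ ∀ R : Subgroup H, T ≤ R → R ≠ ⊤ → R ≤ N

/-- `A` is an atom: no smaller subgroup `≠ 1` is exact -/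
def Atm {H : Type u} [Group H] (M : Type v) [Group M] [MulDistribMulAction H M] (A : Subgroup H) : Prop :=
  ∀ C : Subgroup H, C ≤ A → C ≠ ⊥ → C ≠ A → Nat.card C < (cv M (C : Set H)).index

/-- The row of the class `𝒮` of simple groups. -/
def DeadX (𝒮 : ∀ (S : Type u) [Group S], Prop) : Prop :=
  ∀ (H : Type u) [Group H] [Finite H] (M : Type v) [Group M] [Finite M] [MulDistribMulAction H M]
    (K T A : Subgroup H), InX H M K T A → 𝒮 K → False

/-- The group-theoretic part: `X` almost simple with socle `S`, `X = ST`. -/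
structure ASx {X : Type u} [Group X] (S T A : Subgroup X) : Prop where
  norm : S.Normal
  simple : IsSimpleGroup S
  cen : centralizer (S : Set X) = ⊥
  gen : S ⊔ T = ⊤
  two : IsPGroup 2 T
  syl : ¬ 2 ∣ T.index
  AT : A ≤ T
  el : ∀ a ∈ A, a * a = 1
  low : ∀ R : Subgroup X, T ≤ R → R ≠ ⊤ → A ≤ o2 R
  nmax : ¬ ∃ N : Subgroup X, N ≠ ⊤ ∧ ∀ R : Subgroup X, T ≤ R → R ≠ ⊤ → R ≤ N

/-- The group-theoretic row of the class `𝒮`. -/
def DeadGX (𝒮 : ∀ (S : Type u) [Group S], Prop) : Prop :=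
  ∀ (X : Type u) [Group X] [Finite X] (S T A : Subgroup X), ASx S T A → 𝒮 S → Nat.card A ≤ 4

section tools

variable {X : Type u} [Group X] {S T A : Subgroup X}

/-- `T ≠ ⊤`. -/
theorem ASx.ne_top (h : ASx S T A) : T ≠ ⊤ := by
  intro h1
  have hsim := h.simple
  refine h.nmax ⟨⊥, ?_, fun R hTR hR => absurd (top_le_iff.1 (h1 ▸ hTR)) hR⟩
  intro h2
  obtain ⟨x, hx⟩ := exists_ne (1 : S)
  exact hx (Subtype.ext (mem_bot.1 (h2 ▸ mem_top (x : X))))

/-- One overgroup. -/
theorem ASx.card_le_four (h : ASx S T A) {R : Subgroup X} (hT : T ≤ R) (hR : R ≠ ⊤)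
    (hc : ∀ B ≤ o2 R, (∀ b ∈ B, b * b = 1) → Nat.card B ≤ 4) : Nat.card A ≤ 4 :=
  hc A (h.low R hT hR) h.el

/-- Two overgroups. -/
theorem ASx.card_le_four₂ (h : ASx S T A) {R R' : Subgroup X} (hT : T ≤ R) (hR : R ≠ ⊤) (hT' : T ≤ R')
    (hR' : R' ≠ ⊤) (hc : ∀ B ≤ o2 R ⊓ o2 R', (∀ b ∈ B, b * b = 1) → Nat.card B ≤ 4) : Nat.card A ≤ 4 :=
  hc A (le_inf (h.low R hT hR) (h.low R' hT' hR')) h.el

/-- An overgroup with `|O₂(R)| ≤ 4`. -/
theorem ASx.card_le_four_of_o2 [Finite X] (h : ASx S T A) {R : Subgroup X} (hT : T ≤ R) (hR : R ≠ ⊤)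
    (hc : Nat.card (o2 R) ≤ 4) : Nat.card A ≤ 4 :=
  (card_le_of_le (h.low R hT hR)).trans hc

/-- `A` is in `S` if `O₂(R) ≤ S` for one overgroup `R` of `T`. -/
theorem ASx.le_of_le (h : ASx S T A) {R : Subgroup X} (hT : T ≤ R) (hR : R ≠ ⊤) (hS : o2 R ≤ S) : A ≤ S :=
  (h.low R hT hR).trans hS

end tools

section module

variable {H : Type u} [Group H] {M : Type v} [Group M] [MulDistribMulAction H M] {K T A : Subgroup H}

namespace InX

/-- The group-theoretic part. -/
theorem asx (h : InX H M K T A) : ASx K T A where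
  norm := h.norm
  simple := h.simple
  cen := h.cen
  gen := h.gen
  two := h.two
  syl := h.syl
  AT := h.AT
  el := h.el
  low := h.low
  nmax := h.nmax

theorem comm (h : InX H M K T A) (x y : M) : x * y = y * x := by
  have h1 : ∀ z : M, z⁻¹ = z := fun z => inv_eq_of_mul_eq_one_right (h.sq z)
  calc x * y = (x * y)⁻¹ := (h1 _).symm
    _ = y⁻¹ * x⁻¹ := mul_inv_rev _ _
    _ = y * x := by rw [h1, h1]

theorem A_ne_bot (h : InX H M K T A) : A ≠ ⊥ := by
  intro h1
  have h2 := h.four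
  rw [h1, card_bot] at h2
  omega

theorem A_two (h : InX H M K T A) : IsPGroup 2 A := h.two.to_le h.AT

theorem A_comm (h : InX H M K T A) : ∀ a ∈ A, ∀ b ∈ A, a * b = b * a := by
  intro a ha b hb
  have h1 : ∀ z ∈ A, z⁻¹ = z := fun z hz => inv_eq_of_mul_eq_one_right (h.el z hz)
  calc a * b = (a * b)⁻¹ := (h1 _ (A.mul_mem ha hb)).symm
    _ = b⁻¹ * a⁻¹ := mul_inv_rev _ _
    _ = b * a := by rw [h1 _ ha, h1 _ hb]

theorem M_two (h : InX H M K T A) [Finite M] : IsPGroup 2 M := by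
  intro m
  exact ⟨1, by rw [pow_one, pow_two, h.sq]⟩

/-- sub-exactness -/
theorem le_index (h : InX H M K T A) {C : Subgroup H} (hC : C ≤ A) :
    Nat.card C ≤ (cv M (C : Set H)).index := h.sub C hC

/-- `|M : C_M(C)| ≤ |A|` for `C ≤ A` -/
theorem index_le (h : InX H M K T A) [Finite M] {C : Set H} (hC : C ⊆ A) : (cv M C).index ≤ Nat.card A := by
  rw [← h.exact]
  have h1 : cv M (A : Set H) ≤ cv M C := cv_anti hC
  exact Nat.le_of_dvd (Nat.pos_of_ne_zero index_ne_zero_of_finite) (index_dvd_of_le h1)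

/-- **`|A| = 4`**: `|M : C_M(a)| ≤ 4` for all `a ∈ A`. -/
theorem index_le_four (h : InX H M K T A) [Finite M] (h4 : Nat.card A = 4) {a : H} (ha : a ∈ A) :
    (cv M ({a} : Set H)).index ≤ 4 := by
  rw [← h4]
  exact h.index_le (Set.singleton_subset_iff.2 ha)

/-- **Hyperplanes** of an atom: `C_M(D) = C_M(A)` if `|A| ≤ 2 |D|`, `D ≠ 1`. -/
theorem hyp (h : InX H M K T A) (hat : Atm M A) [Finite H] [Finite M] {D : Subgroup H} (hD : D ≤ A) (h1 : D ≠ ⊥)
    (h2 : Nat.card A ≤ 2 * Nat.card D) : cv M (D : Set H) = cv M (A : Set H) := by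
  by_cases hDA : D = A
  · rw [hDA]
  have hle : cv M (A : Set H) ≤ cv M (D : Set H) := cv_anti (SetLike.coe_subset_coe.2 hD)
  refine le_antisymm ?_ hle
  rw [← relIndex_eq_one]
  have h3 := hat D hD h1 hDA
  have h4 : (cv M (A : Set H)).relIndex (cv M (D : Set H)) * (cv M (D : Set H)).index =
      (cv M (A : Set H)).index := relIndex_mul_index hle
  rw [h.exact] at h4
  have h5 : (cv M (A : Set H)).relIndex (cv M (D : Set H)) ≠ 0 := relIndex_ne _ _
  by_contra h6
  have h7 : 2 ≤ (cv M (A : Set H)).relIndex (cv M (D : Set H)) := by omega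
  have h8 : 2 * (cv M (D : Set H)).index ≤ Nat.card A := by
    rw [← h4]
    exact Nat.mul_le_mul_right _ h7
  omega

/-- **`|A| = 4`**, `A` an atom: `C_M(a) = C_M(A)` for all `a ∈ A#`. -/
theorem cv_four (h : InX H M K T A) (hat : Atm M A) [Finite H] [Finite M] (h4 : Nat.card A = 4) {a : H} (ha : a ∈ A) (ha1 : a ≠ 1) :
    cv M ({a} : Set H) = cv M (A : Set H) := by
  have h1 : zpowers a ≤ A := by rwa [zpowers_le]
  have h2 : zpowers a ≠ ⊥ := by rwa [Ne, zpowers_eq_bot]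
  have h3 : Nat.card (zpowers a) = 2 := by
    rw [Nat.card_zpowers]
    exact orderOf_eq_prime (by rw [pow_two, h.el a ha]) ha1
  have h5 := h.hyp hat h1 h2 (by rw [h3, h4])
  rw [← h5]
  refine le_antisymm ?_ (cv_anti (by simp))
  intro v hv x hx
  have h6 : zpowers a ≤ MulAction.stabilizer H v := by
    rw [zpowers_le]
    exact MulAction.mem_stabilizer_iff.2 (hv a rfl)
  exact MulAction.mem_stabilizer_iff.1 (h6 hx)

/-- **`|A| = 4`**, `A` an atom: `|M : C_M(a)| = 4` for all `a ∈ A#`. -/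
theorem index_four (h : InX H M K T A) (hat : Atm M A) [Finite H] [Finite M] (h4 : Nat.card A = 4) {a : H} (ha : a ∈ A)
    (ha1 : a ≠ 1) : (cv M ({a} : Set H)).index = 4 := by
  rw [h.cv_four hat h4 ha ha1, h.exact, h4]

/-- An atom contains no transvections: `|M : C_M(a)| ≥ 4` for `a ∈ A#`. -/
theorem four_le_index (h : InX H M K T A) (hat : Atm M A) [Finite H] [Finite M] {a : H} (ha : a ∈ A) (ha1 : a ≠ 1) :
    4 ≤ (cv M ({a} : Set H)).index := by
  have h1 : zpowers a ≤ A := by rwa [zpowers_le]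
  have h2 : zpowers a ≠ ⊥ := by rwa [Ne, zpowers_eq_bot]
  have h3 : Nat.card (zpowers a) = 2 := by
    rw [Nat.card_zpowers]
    exact orderOf_eq_prime (by rw [pow_two, h.el a ha]) ha1
  have hne : zpowers a ≠ A := by
    intro h5
    have := h.four
    rw [← h5, h3] at this
    omega
  have h5 := hat _ h1 h2 hne
  rw [h3] at h5
  have h6 : cv M ((zpowers a : Subgroup H) : Set H) = cv M ({a} : Set H) := by
    refine le_antisymm (cv_anti (by simp)) ?_
    intro v hv x hx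
    have h6 : zpowers a ≤ MulAction.stabilizer H v := by
      rw [zpowers_le]
      exact MulAction.mem_stabilizer_iff.2 (hv a rfl)
    exact MulAction.mem_stabilizer_iff.1 (h6 hx)
  rw [h6] at h5
  obtain ⟨n, hn⟩ := (IsPGroup.iff_card.1 h.M_two)
  have h7 : (cv M ({a} : Set H)).index ∣ 2 ^ n := by
    rw [← hn]
    exact index_dvd_card _
  obtain ⟨k, -, hk⟩ := (Nat.dvd_prime_pow Nat.prime_two).1 h7
  rw [hk] at h5 ⊢
  match k, h5 with
  | 0, h5 => simp at h5
  | 1, h5 => simp at h5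
  | k + 2, _ => rw [pow_add]; have := Nat.one_le_two_pow (n := k); omega

theorem ne_top (h : InX H M K T A) : T ≠ ⊤ := h.asx.ne_top

end InX

/-- A group-theoretic row leaves `|A| = 4`. -/
theorem DeadGX.card_eq {𝒮 : ∀ (S : Type u) [Group S], Prop} (hd : DeadGX 𝒮) [Finite H] (h : InX H M K T A)
    (hS : 𝒮 K) : Nat.card A = 4 := le_antisymm (hd H K T A h.asx hS) h.four

/-- `DeadGX` and the case `|A| = 4`. -/
theorem DeadGX.dead {𝒮 : ∀ (S : Type u) [Group S], Prop} (hd : DeadGX 𝒮)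
    (h4 : ∀ (H : Type u) [Group H] [Finite H] (M : Type v) [Group M] [Finite M] [MulDistribMulAction H M]
      (K T A : Subgroup H), InX H M K T A → 𝒮 K → Nat.card A = 4 → False) : DeadX.{u, v} 𝒮 :=
  fun H _ _ M _ _ _ K T A h hS => h4 H M K T A h hS (hd.card_eq h hS)

end module

end Cfsg.Agent.Omega.ML.Ex
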