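import Cfsg.Agent.Omega.NO3S.EMany.LowGen
import Cfsg.Agent.Omega.ML.Ex.Two
import Cfsg.Agent.Omega.KLF.Def

/-!
# `O(H) = 1` for the consumers of EXT (helper529)

`Two.SysT` needs `odd : N ⊴ H` of odd order is trivial (RED and the rows have `K` simple).

* `SysW.sup_ne_top`, `SysW.le_center` : over helper566's `SysW` (no `fixN`): a normal subgroup of odd order is in the center
  of `H`; `SysW.ne_of_center` : `1 ≠ z ∈ Z(H)` fixes no `m ≠ 1`; `SysW.odd_of` : the form for the consumers with `q ≥ 4`;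
* `sysE_of_sys` : `KL.Def.Sys T A V x y → SysE T A x y`;
* `sysE_of_out` : `KLF.Def.Out T A x y → SysE T A x y ∨ SysE T A y x`.
-/

set_option autoImplicit false

namespace Cfsg.Agent.Omega.ML.Ex.TwoOdd

open Subgroup Cfsg Cfsg.Agent.ZN Cfsg.Agent.ClassTwoFusion.Quad Cfsg.Agent.Omega.ML.MinFrame
open Cfsg.Agent.MinSimple.MinParabolic (IsMinPar le_of_forall)
open Cfsg.Agent.MinSimple.VModule (o2_isPGroup o2_le le_o2 le_normalizer_o2 o2_le_of_sylow)
open Cfsg.Agent.Omega.NO3S.EMany.Low (SysW SysE Km Km_le eq_one_of_odd comm_odd)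

universe u v

section

variable {H : Type u} [Group H] [Finite H] {M : Type v} [Group M] [Finite M] [MulDistribMulAction H M]
  {T A : Subgroup H} {x y : M}

omit [Finite M] in
/-- `H ≠ N T` for `N` of odd order -/
theorem SysW.sup_ne_top (h : SysW T A x y) {N : Subgroup H} (hN : N.Normal) (hNo : Odd (Nat.card N)) :
    N ⊔ T ≠ ⊤ := by
  intro hNT
  let D : Subgroup H := N ⊓ centralizer {z : H | ∃ t ∈ T, ∃ a ∈ A, z = t * a * t⁻¹}
  have hDT : ∀ s ∈ T, ∀ d ∈ D, s * d * s⁻¹ ∈ D := by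
    intro s hs d hd
    refine ⟨hN.conj_mem d hd.1 s, mem_centralizer_iff.2 ?_⟩
    rintro _ ⟨t, ht, a, ha, rfl⟩
    have h1 := mem_centralizer_iff.1 hd.2 _ ⟨s⁻¹ * t, mul_mem (inv_mem hs) ht, a, ha, rfl⟩
    have h2 := congrArg (fun w => s * w * s⁻¹) h1
    simp only [mul_inv_rev, inv_inv] at h2
    calc t * a * t⁻¹ * (s * d * s⁻¹) = s * (s⁻¹ * t * a * (t⁻¹ * s) * d) * s⁻¹ := by group
      _ = s * (d * (s⁻¹ * t * a * (t⁻¹ * s))) * s⁻¹ := h2
      _ = s * d * s⁻¹ * (t * a * t⁻¹) := by group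
  have hDn : T ≤ normalizer (D : Set H) := by
    intro s hs
    rw [mem_normalizer_iff]
    intro z
    refine ⟨hDT s hs z, fun hz => ?_⟩
    have h1 := hDT s⁻¹ (inv_mem hs) _ hz
    have h2 : s⁻¹ * (s * z * s⁻¹) * s⁻¹⁻¹ = z := by group
    rwa [h2] at h1
  refine h.nmax ⟨D ⊔ T, ?_, ?_⟩
  · intro htop
    have hcen : ∀ n ∈ N, ∀ t ∈ T, ∀ a ∈ A, t * a * t⁻¹ * n = n * (t * a * t⁻¹) := by
      intro e he t' ht' a ha
      have h2 : e ∈ ((D ⊔ T : Subgroup H) : Set H) := htop ▸ mem_top e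
      rw [coe_mul_of_right_le_normalizer_left D T hDn] at h2
      obtain ⟨d, hd, t, ht, rfl⟩ := h2
      have h3 : t ∈ N := by
        have := N.mul_mem (N.inv_mem hd.1) he
        simpa using this
      have h4 : t = 1 := eq_one_of_odd hNo h.two h3 ht
      rw [h4]
      simp only [mul_one]
      exact mem_centralizer_iff.1 hd.2 _ ⟨t', ht', a, ha, rfl⟩
    let K1 : Subgroup H := closure {z : H | ∃ t ∈ T, ∃ a ∈ A, z = t * a * t⁻¹}
    have hK1T : K1 ≤ T := by
      rw [closure_le]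
      rintro _ ⟨t, ht, a, ha, rfl⟩
      exact T.mul_mem (T.mul_mem ht (h.AT ha)) (T.inv_mem ht)
    have hK1 : K1 ≤ o2 (⊤ : Subgroup H) := by
      refine le_o2 le_top (h.two.to_le hK1T) ?_
      rw [← hNT]
      refine sup_le ?_ ?_
      · intro n hn
        have h1 : n ∈ centralizer (K1 : Set H) := by
          rw [centralizer_closure, mem_centralizer_iff]
          rintro _ ⟨t, ht, a, ha, rfl⟩
          exact hcen n hn t ht a ha
        exact centralizer_le_normalizer _ h1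
      · have hconj : ∀ s ∈ T, ∀ k ∈ K1, s * k * s⁻¹ ∈ K1 := by
          intro s hs k hk
          have h1 : K1 ≤ K1.comap (MulAut.conj s).toMonoidHom := by
            rw [closure_le]
            rintro _ ⟨t, ht, a, ha, rfl⟩
            refine subset_closure ⟨s * t, T.mul_mem hs ht, a, ha, ?_⟩
            change s * (t * a * t⁻¹) * s⁻¹ = _
            group
          exact h1 hk
        intro s hs
        rw [mem_normalizer_iff]
        intro z
        refine ⟨hconj s hs z, fun hz => ?_⟩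
        have h1 := hconj s⁻¹ (inv_mem hs) _ hz
        have h2 : s⁻¹ * (s * z * s⁻¹) * s⁻¹⁻¹ = z := by group
        rwa [h2] at h1
    exact h.lb.nb fun a ha => hK1 (subset_closure ⟨1, one_mem T, a, ha, by group⟩)
  · intro R hTR hR
    have h1 : R ⊓ N ⊔ T = R := by
      apply le_antisymm (sup_le inf_le_left hTR)
      intro r hr
      have h1 : r ∈ N ⊔ T := hNT ▸ mem_top r
      rw [mem_sup_of_normal_left] at h1
      obtain ⟨n, hn, s, hs, rfl⟩ := h1
      refine mul_mem_sup ⟨?_, hn⟩ hs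
      have := R.mul_mem hr (R.inv_mem (hTR hs))
      rwa [mul_inv_cancel_right] at this
    rw [← h1]
    refine sup_le_sup_right ?_ T
    intro e he
    refine ⟨he.2, mem_centralizer_iff.2 ?_⟩
    rintro _ ⟨t, ht, a, ha, rfl⟩
    have h3 : t * a * t⁻¹ ∈ o2 R := (mem_normalizer_iff.1 (le_normalizer_o2 R (hTR ht)) a).1 (h.low R hTR hR ha)
    exact (comm_odd hN hNo he.2 he.1 h3).symm

omit [Finite M] in
/-- **A normal subgroup of odd order is in the center.** -/
theorem SysW.le_center (h : SysW T A x y) {N : Subgroup H} (hN : N.Normal) (hNo : Odd (Nat.card N)) :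
    N ≤ center H := by
  have hgen : Km A ⊔ T = ⊤ := h.lb.gen
  have hNT := SysW.sup_ne_top h hN hNo
  have hAN : Km A ≤ centralizer (N : Set H) := by
    refine Km_le inferInstance fun a ha => mem_centralizer_iff.2 fun n hn => ?_
    exact comm_odd hN hNo hn (mem_sup_left hn) (h.low _ le_sup_right hNT ha)
  have hP : ∀ P : Subgroup H, IsMinPar T P → P ≤ N ⊔ T → False := by
    intro P hP hPN
    have h4 : P ⊓ N ⊔ T = P := by
      apply le_antisymm (sup_le inf_le_left hP.le)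
      intro r hr
      have h1 : r ∈ N ⊔ T := hPN hr
      rw [mem_sup_of_normal_left] at h1
      obtain ⟨n, hn, s, hs, rfl⟩ := h1
      refine mul_mem_sup ⟨?_, hn⟩ hs
      have := P.mul_mem hr (P.inv_mem (hP.le hs))
      rwa [mul_inv_cancel_right] at this
    have h5 : (P ⊓ N).Normal := by
      rw [← normalizer_eq_top_iff, eq_top_iff, ← hgen]
      refine sup_le ?_ ?_
      · intro k hk
        have h1 : k ∈ centralizer ((P ⊓ N : Subgroup H) : Set H) := by
          rw [mem_centralizer_iff]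
          intro z hz
          exact mem_centralizer_iff.1 (hAN hk) z hz.2
        exact centralizer_le_normalizer _ h1
      · intro t ht
        rw [mem_normalizer_iff]
        intro z
        constructor
        · rintro ⟨hz1, hz2⟩
          exact ⟨P.mul_mem (P.mul_mem (hP.le ht) hz1) (P.inv_mem (hP.le ht)), hN.conj_mem z hz2 t⟩
        · rintro ⟨hz1, hz2⟩
          have h7 : t⁻¹ * (t * z * t⁻¹) * t⁻¹⁻¹ = z := by group
          refine ⟨?_, ?_⟩
          · rw [← h7]
            exact P.mul_mem (P.mul_mem (P.inv_mem (hP.le ht)) hz1) (P.inv_mem (P.inv_mem (hP.le ht)))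
          · rw [← h7]
            exact hN.conj_mem _ hz2 t⁻¹
    obtain ⟨m, hm, hPm⟩ := h.fixP P hP
    have h6 : P ⊓ N = ⊥ := h.bot_of_fix h5 hm fun n hn => hPm n hn.1
    rw [h6, bot_sup_eq] at h4
    exact hP.ne h4
  have hNT' : N ⊔ T ≤ normalizer (T : Set H) :=
    le_of_forall le_sup_right inf_le_right fun P hP1 hP2 => (hP P hP1 hP2).elim
  intro n hn
  have h1 : (⊤ : Subgroup H) ≤ centralizer ({n} : Set H) := by
    rw [← hgen]
    refine sup_le ?_ ?_
    · intro k hk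
      rw [mem_centralizer_singleton_iff]
      exact ((mem_centralizer_iff.1 (hAN hk)) n hn).symm
    · intro t ht
      rw [mem_centralizer_singleton_iff]
      -- `[n, t] ∈ N ∩ T = 1`
      have h2 : n * t * n⁻¹ ∈ T := (mem_normalizer_iff.1 (hNT' (mem_sup_left hn)) t).1 ht
      have h3 : n * t * n⁻¹ * t⁻¹ ∈ N := by
        have h4 : t * n⁻¹ * t⁻¹ ∈ N := hN.conj_mem _ (inv_mem hn) t
        have h5 : n * t * n⁻¹ * t⁻¹ = n * (t * n⁻¹ * t⁻¹) := by group
        rw [h5]
        exact mul_mem hn h4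
      have h4 : n * t * n⁻¹ * t⁻¹ = 1 := eq_one_of_odd hNo h.two h3 (mul_mem h2 (inv_mem ht))
      have h5 : n * t = (n * t * n⁻¹ * t⁻¹) * (t * n) := by group
      rw [h5, h4, one_mul]
  rw [mem_center_iff]
  intro g
  exact mem_centralizer_singleton_iff.1 (h1 (mem_top g))

omit [Finite H] [Finite M] in
/-- `1 ≠ z ∈ Z(H)` fixes no `m ≠ 1` -/
theorem SysW.ne_of_center (h : SysW T A x y) {z : H} (hz : z ∈ center H) (h1 : z ≠ 1) {m : M} (hm : m ≠ 1) :
    z • m ≠ m := by
  intro h2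
  have h3 : (zpowers z).Normal := by
    refine ⟨fun a ha g => ?_⟩
    have h4 : a ∈ center H := (zpowers_le.2 hz) ha
    rwa [mem_center_iff.1 h4 g, mul_assoc, mul_inv_cancel, mul_one]
  have h4 : zpowers z = ⊥ := by
    refine h.bot_of_fix h3 hm ?_
    have h5 : zpowers z ≤ MulAction.stabilizer H m := zpowers_le.2 (MulAction.mem_stabilizer_iff.2 h2)
    exact fun n hn => MulAction.mem_stabilizer_iff.1 (h5 hn)
  exact h1 (zpowers_eq_bot.1 h4)

omit [Finite M] in
/-- **`O(H) = 1` if the center has odd elements only trivially.** -/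
theorem SysW.odd_of (h : SysW T A x y) (hz : ∀ z ∈ center H, Odd (orderOf z) → z = 1) {N : Subgroup H}
    (hN : N.Normal) (hNo : Odd (Nat.card N)) : N = ⊥ := by
  rw [eq_bot_iff]
  intro n hn
  refine mem_bot.2 (hz n (SysW.le_center h hN hNo hn) (hNo.of_dvd_nat ?_))
  have := orderOf_dvd_natCard (⟨n, hn⟩ : N)
  rwa [orderOf_mk] at this

/-! ### THEOREM KL -/

omit [Finite M] in
/-- **the middle of THEOREM KL is helper566's output** -/
theorem sysE_of_sys {V : Subgroup M} (h : KL.Def.Sys T A V x y) : SysE T A x y where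
  sq := h.sq
  faith := h.faith
  irr := h.irr
  two := h.two
  syl := h.syl
  AT := h.AT
  el := h.el
  A1 := h.A1
  four := h.four
  exact := h.exact
  atom := h.atom
  low := h.low
  nmax := h.nmax
  KH := h.KH
  x1 := h.x1
  y1 := h.y1
  xy := h.xy
  tx := fun _ ht => h.nx _ (le_normalizer ht)
  ty := fun _ ht => h.ny _ (le_normalizer ht)
  fixP := by
    intro P hP
    by_cases h1 : ∃ p ∈ P, p • x ≠ x
    · exact ⟨y, h.y1, (h.uni P hP h1).2⟩
    · push Not at h1
      exact ⟨x, h.x1, h1⟩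
  mov := by
    obtain ⟨P, hP, hx⟩ := Two.exists_mover h
    exact ⟨P, hP, hx, (h.uni P hP hx).2⟩
  fixN := ⟨x, h.x1, h.nx⟩

omit [Finite M] in
/-- **`O(H) = 1` for the middle of THEOREM KL** -/
theorem odd_of_sys {V : Subgroup M} (h : KL.Def.Sys T A V x y) {N : Subgroup H} (hN : N.Normal)
    (hNo : Odd (Nat.card N)) : N = ⊥ :=
  (sysE_of_sys h).odd hN hNo

/-! ### THEOREM KLF -/

omit [Finite M] in
/-- `T`-minimal subgroups and `N(T)` generate: somebody moves `m` -/
theorem exists_mover (irr : ∀ W : Subgroup M, (∀ h : H, ∀ w ∈ W, h • w ∈ W) → W = ⊥ ∨ W = ⊤)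
    (sq : ∀ m : M, m * m = 1) {m m' : M} (h1 : m ≠ 1) (h1' : m' ≠ 1) (hne : m ≠ m') :
    (∃ P : Subgroup H, IsMinPar T P ∧ ∃ p ∈ P, p • m ≠ m) ∨ ∃ g ∈ normalizer (T : Set H), g • m ≠ m := by
  by_contra hcon
  push Not at hcon
  obtain ⟨hc1, hc2⟩ := hcon
  have h2 : (⊤ : Subgroup H) ≤ MulAction.stabilizer H m := by
    refine le_of_forall (S := T) le_top ?_ ?_
    · intro g hg
      exact MulAction.mem_stabilizer_iff.2 (hc2 g hg.2)
    · intro P hP _ p hp
      exact MulAction.mem_stabilizer_iff.2 (hc1 P hP p hp)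
  have h3 : ∀ k : H, ∀ w ∈ zpowers m, k • w ∈ zpowers m := by
    rintro k w ⟨n, rfl⟩
    refine ⟨n, ?_⟩
    change m ^ n = k • (m ^ n)
    rw [smul_zpow', MulAction.mem_stabilizer_iff.1 (h2 (mem_top k))]
  rcases irr _ h3 with h4 | h4
  · exact h1 (zpowers_eq_bot.1 h4)
  · have h5 : m' ∈ zpowers m := h4 ▸ mem_top m'
    obtain ⟨n, hn⟩ := h5
    have hn' : m ^ n = m' := hn
    rcases Int.even_or_odd' n with ⟨k, hk | hk⟩
    · rw [hk, zpow_mul, show m ^ (2 : ℤ) = 1 from by rw [zpow_two, sq], one_zpow] at hn'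
      exact h1' hn'.symm
    · rw [hk, zpow_add, zpow_mul, show m ^ (2 : ℤ) = 1 from by rw [zpow_two, sq], one_zpow, one_mul,
        zpow_one] at hn'
      exact hne hn'

omit [Finite M] in
/-- **the output of THEOREM KLF is helper566's output** -/
theorem sysE_of_out (h : KLF.Def.Out T A x y) : SysE T A x y ∨ SysE T A y x := by
  have hA1 : A ≠ ⊥ := by
    rintro rfl
    have := h.four
    rw [card_bot] at this
    omega
  have hfP : ∀ P : Subgroup H, IsMinPar T P → ∃ m : M, m ≠ 1 ∧ ∀ p ∈ P, p • m = m := by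
    intro P hP
    by_cases h1 : ∃ p ∈ P, p • x ≠ x
    · exact ⟨y, h.y1, h.mP P hP h1⟩
    · push Not at h1
      exact ⟨x, h.x1, h1⟩
  have hfN : ∃ m : M, m ≠ 1 ∧ ∀ g ∈ normalizer (T : Set H), g • m = m := by
    by_cases h1 : ∃ g ∈ normalizer (T : Set H), g • x ≠ x
    · exact ⟨y, h.y1, h.mN h1⟩
    · push Not at h1
      exact ⟨x, h.x1, h1⟩
  by_cases hx : ∃ P : Subgroup H, IsMinPar T P ∧ ∃ p ∈ P, p • x ≠ x
  · left
    obtain ⟨P, hP, hPx⟩ := hx
    exact ⟨⟨h.sq, h.faith, h.irr, h.two, h.syl, h.AT, h.el, hA1, h.four, h.exact, h.atom, h.low, h.nmax, h.KX, h.x1,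
      h.y1, h.xy, h.fx, h.fy, hfP, ⟨P, hP, hPx, h.mP P hP hPx⟩⟩, hfN⟩
  · right
    have hNx : ∃ g ∈ normalizer (T : Set H), g • x ≠ x :=
      (exists_mover (T := T) h.irr h.sq h.x1 h.y1 h.xy).resolve_left hx
    have hNy := h.mN hNx
    have hy : ∃ P : Subgroup H, IsMinPar T P ∧ ∃ p ∈ P, p • y ≠ y := by
      refine (exists_mover (T := T) h.irr h.sq h.y1 h.x1 (Ne.symm h.xy)).resolve_right ?_
      rintro ⟨g, hg, h2⟩
      exact h2 (hNy g hg)
    obtain ⟨P, hP, hPy⟩ := hy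
    push Not at hx
    exact ⟨⟨h.sq, h.faith, h.irr, h.two, h.syl, h.AT, h.el, hA1, h.four, h.exact, h.atom, h.low, h.nmax, h.KX, h.y1,
      h.x1, Ne.symm h.xy, h.fy, h.fx, hfP, ⟨P, hP, hPy, hx P hP⟩⟩, hfN⟩

end

end Cfsg.Agent.Omega.ML.Ex.TwoOdd
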