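import Cfsg.Agent.Omega.ML.Ex.WallCox
import Cfsg.Agent.Nodes.TypeC

/-!
# Trivial walls and good nodes (helper530, for the WALL THEOREM #22477, parts (3) and (4))

`J₀` a type, `LL` the family of the proper invariant types (`LL : Set I → Prop`).

* `Triv cs J₀ LL x` : `x = v t v⁻¹`, `v ∈ W_{J₀}`, `t` a reflection of `W_L`, `LL L`;
* `Good cs J₀ LL i` : `s_i r s_i` is trivial for all reflections `r` of `W_{J₀}`;
* `good_of_subset`, `good_of_laced` (all labels at most 3);
* `triv_of_supp` : in terms of roots;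
* `goodB`, `trivB` : type `B_n`, `n ≥ 3`;  `goodF`, `goodF_graph` : type `F₄`.
-/

set_option autoImplicit false
set_option linter.unusedSectionVars false

namespace Cfsg.Agent.Omega.ML.Ex.WallGood

open CoxeterSystem Cfsg.Agent.ChevalleyStructure.CoxeterGeom Cfsg.Agent.Tits.Roots Cfsg.Agent.Tits.Core
  Cfsg.Agent.Tits.RootComb Cfsg.Agent.Nodes.Comb Cfsg.Agent.Nodes.SubComb Cfsg.Agent.Nodes.Coroot
  Cfsg.Agent.Omega.ML.Ex.WallCox

section Defs

variable {I W : Type*} [Group W] {M : CoxeterMatrix I} (cs : CoxeterSystem M W)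

/-- The reflection `x` is trivial. -/
def Triv (J₀ : Set I) (LL : Set I → Prop) (x : W) : Prop :=
  ∃ v ∈ WJ cs J₀, ∃ L, LL L ∧ ∃ l ∈ WJ cs L, ∃ k ∈ L, x = v * (l * cs.simple k * l⁻¹) * v⁻¹

/-- The node `i` is good. -/
def Good (J₀ : Set I) (LL : Set I → Prop) (i : I) : Prop :=
  ∀ w ∈ WJ cs J₀, ∀ j ∈ J₀, Triv cs J₀ LL (cs.simple i * (w * cs.simple j * w⁻¹) * cs.simple i)

variable {cs} {J₀ : Set I} {LL : Set I → Prop}

theorem simple_mem_WJ' {L : Set I} {i : I} (hi : i ∈ L) : cs.simple i ∈ WJ cs L :=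
  Subgroup.subset_closure ⟨i, hi, rfl⟩

theorem Triv.conj {x v : W} (h : Triv cs J₀ LL x) (hv : v ∈ WJ cs J₀) : Triv cs J₀ LL (v * x * v⁻¹) := by
  obtain ⟨u, hu, L, hL, l, hl, k, hk, rfl⟩ := h
  exact ⟨v * u, mul_mem hv hu, L, hL, l, hl, k, hk, by group⟩

theorem triv_of_mem {L : Set I} (hL : LL L) {l : W} (hl : l ∈ WJ cs L) {k : I} (hk : k ∈ L) :
    Triv cs J₀ LL (l * cs.simple k * l⁻¹) :=
  ⟨1, one_mem _, L, hL, l, hl, k, hk, by group⟩

/-- The node and `J₀` are in a proper invariant type. -/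
theorem good_of_subset {L : Set I} (hL : LL L) (hJ : J₀ ⊆ L) {i : I} (hi : i ∈ L) : Good cs J₀ LL i := by
  intro w hw j hj
  have hw' : w ∈ WJ cs L := Subgroup.closure_mono (Set.image_mono hJ) hw
  have h1 : cs.simple i * (w * cs.simple j * w⁻¹) * cs.simple i =
      (cs.simple i * w) * cs.simple j * (cs.simple i * w)⁻¹ := by
    rw [mul_inv_rev, cs.inv_simple]
    simp only [mul_assoc]
  rw [h1]
  exact triv_of_mem hL (mul_mem (simple_mem_WJ' hi) hw') (hJ hj)

/-- **Simply laced**: all nodes are good. -/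
theorem good_of_laced [Finite I] [Finite W] (hM : ∀ i j, i ≠ j → M i j = 2 ∨ M i j = 3) (hJ : LL J₀) {i : I}
    (hi : ∃ L, LL L ∧ i ∈ L) : Good cs J₀ LL i := by
  intro w hw j hj
  obtain ⟨L, hL, hiL⟩ := hi
  have hr : cs.IsReflection (w * cs.simple j * w⁻¹) := ⟨w, j, rfl⟩
  rcases conj_eq cs hM hr (cs.isReflection_simple i) with h1 | h1
  · rw [h1]
    exact triv_of_mem hJ hw hj
  · rw [h1]
    have h2 : (w * cs.simple j * w⁻¹)⁻¹ = w * cs.simple j * w⁻¹ := by
      rw [mul_inv_rev, mul_inv_rev, inv_inv, cs.inv_simple, mul_assoc]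
    refine ⟨w * cs.simple j * w⁻¹, mul_mem (mul_mem hw (simple_mem_WJ' hj)) (inv_mem hw), L, hL, 1, one_mem _, i, hiL,
      ?_⟩
    rw [h2, one_mul, inv_one, mul_one]

end Defs

/-! ### Roots -/

section Roots

variable {I W : Type*} [Fintype I] [DecidableEq I] [Group W] {M : CoxeterMatrix I}
  (cs : CoxeterSystem M W) {A : I → I → ℤ} (h : IsCartan M A) {J₀ : Set I} {LL : Set I → Prop}

theorem exists_of_support_aux [Finite W] {L : Set I} (n : ℕ) : ∀ x : I → ℤ, IsRoot cs h x → (∀ k, k ∉ L → x k = 0) →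
    0 ≤ x → ht x ≤ n → ∃ v ∈ WJ cs L, ∃ k ∈ L, x = rep cs h v (sr k) := by
  have : Fintype W := Fintype.ofFinite W
  induction n with
  | zero =>
    intro x hx _ h0 hn
    exfalso
    apply hx.ne_zero
    have h1 : ∑ k, x k = 0 := le_antisymm hn (Finset.sum_nonneg fun k _ => h0 k)
    funext k
    exact (Finset.sum_eq_zero_iff_of_nonneg (fun k _ => h0 k)).1 h1 k (Finset.mem_univ k)
  | succ n ih =>
    intro x hx hs h0 hn
    obtain ⟨m, hm, hm'⟩ := exists_pairing_pos cs h h0 hx.ne_zero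
    have hmL : m ∈ L := by
      by_contra hcon
      rw [hs m hcon] at hm
      exact lt_irrefl _ hm
    by_cases hxm : x = sr m
    · exact ⟨1, one_mem _, m, hmL, by rw [map_one, Module.End.one_apply]; exact hxm⟩
    have hmem : cs.simple m ∈ WJ cs L := simple_mem_WJ' hmL
    obtain ⟨v, hv, k, hk, e⟩ := ih (rep cs h (cs.simple m) x) (hx.act _)
      (fun k hk => by rw [rep_apply_of_mem cs h hmem x hk]; exact hs k hk)
      (hx.simple_nonneg h0 m hxm) (by rw [ht_simple]; push_cast at hn ⊢; linarith)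
    refine ⟨cs.simple m * v, mul_mem hmem hv, k, hk, ?_⟩
    rw [rep_mul_apply, ← e, ← rep_mul_apply, simple_mul_simple_self, map_one, Module.End.one_apply]

/-- A root supported on `L` is `v (α_k)` with `v ∈ W_L`, `k ∈ L`. -/
theorem exists_of_support [Finite W] {L : Set I} {x : I → ℤ} (hx : IsRoot cs h x) (hs : ∀ k, k ∉ L → x k = 0) :
    ∃ v ∈ WJ cs L, ∃ k ∈ L, x = rep cs h v (sr k) := by
  rcases hx.pos_or_neg with h0 | h0
  · exact exists_of_support_aux cs h (ht x).toNat x hx hs h0 (Int.self_le_toNat _)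
  · obtain ⟨v, hv, k, hk, e⟩ := exists_of_support_aux cs h (ht (-x)).toNat (-x) hx.neg
      (fun k hk => by rw [Pi.neg_apply, hs k hk, neg_zero]) (neg_nonneg.2 h0) (Int.self_le_toNat _)
    refine ⟨v * cs.simple k, mul_mem hv (simple_mem_WJ' hk), k, hk, ?_⟩
    rw [rep_mul_apply, rep_simple_sr, map_neg, ← e, neg_neg]

/-- A reflection is trivial if a `W_{J₀}`-conjugate of its root is supported on some `L` in `LL`. -/
theorem triv_of_supp [Finite W] {g : W} {c : I} {v : W} (hv : v ∈ WJ cs J₀) {L : Set I} (hL : LL L)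
    (hs : ∀ k, k ∉ L → rep cs h v (rep cs h g (sr c)) k = 0) : Triv cs J₀ LL (g * cs.simple c * g⁻¹) := by
  have hx0 : IsRoot cs h (rep cs h g (sr c)) := ⟨g, c, rfl⟩
  have hx : IsRoot cs h (rep cs h v (rep cs h g (sr c))) := hx0.act v
  obtain ⟨l, hl, k, hk, e⟩ := exists_of_support cs h hx hs
  rw [← rep_mul_apply] at e
  have h1 := conj_simple_eq cs h (Or.inl e)
  refine ⟨v⁻¹, inv_mem hv, L, hL, l, hl, k, hk, ?_⟩
  rw [← h1]
  group

/-- The node `i` is good in terms of the roots of `W_{J₀}`. -/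
theorem good_of_supp [Finite W] {i : I}
    (H : ∀ x, IsRoot cs h x → (∀ k, k ∉ J₀ → x k = 0) → ∃ v ∈ WJ cs J₀, ∃ L, LL L ∧
      ∀ k, k ∉ L → rep cs h v (rep cs h (cs.simple i) x) k = 0) : Good cs J₀ LL i := by
  intro w hw j hj
  have hx : IsRoot cs h (rep cs h w (sr j)) := ⟨w, j, rfl⟩
  obtain ⟨v, hv, L, hL, hs⟩ := H _ hx (fun k hk => by
    rw [rep_apply_of_mem cs h hw _ hk]
    exact sr_ne (fun e => hk (by rw [e]; exact hj)))
  have h1 : cs.simple i * (w * cs.simple j * w⁻¹) * cs.simple i =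
      (cs.simple i * w) * cs.simple j * (cs.simple i * w)⁻¹ := by
    rw [mul_inv_rev, cs.inv_simple]
    simp only [mul_assoc]
  rw [h1]
  refine triv_of_supp cs h hv hL ?_
  intro k hk
  rw [rep_mul_apply]
  exact hs k hk

end Roots

/-! ### Type `B_n` -/

section TypeB

open Cfsg.Agent.Nodes.TypeC

variable {n : ℕ} {W : Type*} [Group W] (cs : CoxeterSystem (CoxeterMatrix.B n) W) {J₀ : Set (Fin n)}
  {LL : Set (Fin n) → Prop}

/-- the sign of a signed index -/
def sn (a : Fin n × Bool) : ℤ := if a.2 then 1 else -1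

theorem sn_cases (a : Fin n × Bool) : sn a = 1 ∨ sn a = -1 := by
  unfold sn; split_ifs <;> simp

/-- coordinates of a root -/
theorem coord {x : Fin n → ℤ} {a b : Fin n × Bool} (e : ee x = wt a + wt b) (k : Fin n) :
    (if (k : ℕ) + 1 < n then 1 else 2) * x k = (if a.1 ≤ k then sn a else 0) + (if b.1 ≤ k then sn b else 0) := by
  have key : ∑ m ∈ Finset.Iic k, ee x m = (if (k : ℕ) + 1 < n then 1 else 2) * x k := by
    have h1 : ∀ m, ee x m = ∑ j, x j * bt j m := by
      intro m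
      simp [ee, Finset.sum_apply]
    simp only [h1]
    rw [Finset.sum_comm]
    simp only [← Finset.mul_sum, sum_bt]
    rw [Finset.sum_eq_single k]
    · simp only [if_true]
      split_ifs <;> ring
    · intro j _ hj
      simp [Ne.symm hj]
    · simp
  have h2 : ∀ c : Fin n × Bool, ∑ m ∈ Finset.Iic k, wt c m = if c.1 ≤ k then sn c else 0 := by
    intro c
    rw [wt, Finset.sum_pi_single']
    simp only [Finset.mem_Iic, sn]
  rw [← key, e]
  simp only [Pi.add_apply, Finset.sum_add_distrib, h2]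

theorem sn_sg {i : Fin n} (hi : (i : ℕ) + 1 < n) (a : Fin n × Bool) : sn (sg i a) = sn a := by
  unfold sn sg
  rw [dif_pos hi]
  split_ifs <;> simp_all

theorem ee_rep_simple {x : Fin n → ℤ} {a b : Fin n × Bool} (e : ee x = wt a + wt b) (i : Fin n) :
    ee (rep cs (isCartan n) (cs.simple i) x) = wt (sg i a) + wt (sg i b) := by
  rw [rep_simple, ee_refl_of e]

theorem eq_zero_of_coord {x : Fin n → ℤ} {a b : Fin n × Bool} (e : ee x = wt a + wt b) {k : Fin n}
    (h : (if a.1 ≤ k then sn a else 0) + (if b.1 ≤ k then sn b else 0) = 0) : x k = 0 := by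
  have h1 := coord e k
  rw [h] at h1
  split_ifs at h1 <;> omega

/-- **Type `B_n`**: every node outside `J₀` is good, unless `J₀` is the complement of the first node. -/
theorem goodB (hn : 3 ≤ n) (hLL : ∀ L, L ≠ Set.univ → LL L) {i : Fin n} (hi : i ∉ J₀)
    (hne : J₀ ≠ {k : Fin n | (k : ℕ) ≠ 0}) : Good cs J₀ LL i := by
  have hW : Finite W := finite_W cs
  by_cases hJ : insert i J₀ = Set.univ
  swap
  · exact good_of_subset (hLL _ hJ) (Set.subset_insert _ _) (Set.mem_insert _ _)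
  have hJ' : ∀ k, k ∈ J₀ ↔ k ≠ i := by
    intro k
    refine ⟨fun hk e => hi (e ▸ hk), fun hk => ?_⟩
    have h1 : k ∈ insert i J₀ := by rw [hJ]; trivial
    rcases h1 with h1 | h1
    · exact absurd h1 hk
    · exact h1
  have hi0 : (i : ℕ) ≠ 0 := by
    intro h0
    apply hne
    ext k
    rw [hJ', Set.mem_ofPred_eq, Ne, Fin.ext_iff, h0]
  have hL : ∀ c : Fin n, LL {k | k ≠ c} := fun c => hLL _ (fun h => by
    have : c ∈ {k : Fin n | k ≠ c} := by rw [h]; trivial
    exact this rfl)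
  refine good_of_supp cs (isCartan n) ?_
  intro x hx hsx
  have hxi : x i = 0 := hsx i hi
  obtain ⟨a, b, hab, e⟩ := exists_of_isRoot cs hx
  have e1 := ee_rep_simple cs e i
  -- it is enough to find a zero coordinate of a `W_{J₀}`-conjugate
  suffices H : ∃ v ∈ WJ cs J₀, ∃ c, rep cs (isCartan n) v (rep cs (isCartan n) (cs.simple i) x) c = 0 by
    obtain ⟨v, hv, c, hc⟩ := H
    refine ⟨v, hv, {k | k ≠ c}, hL c, ?_⟩
    intro k hk
    have hk' : k = c := by
      by_contra h1
      exact hk h1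
    rw [hk', hc]
  have hone : ∀ c, rep cs (isCartan n) (cs.simple i) x c = 0 →
      ∃ v ∈ WJ cs J₀, ∃ c, rep cs (isCartan n) v (rep cs (isCartan n) (cs.simple i) x) c = 0 := by
    intro c hc
    exact ⟨1, one_mem _, c, by rw [map_one, Module.End.one_apply]; exact hc⟩
  have h0 := coord e i
  rw [hxi, mul_zero] at h0
  have hi2 := i.2
  set z : Fin n := ⟨0, by omega⟩ with hz
  set l : Fin n := ⟨n - 1, by omega⟩ with hl
  by_cases hin : (i : ℕ) + 1 < n
  · by_cases hs : sn a + sn b = 0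
    · refine hone l (eq_zero_of_coord e1 ?_)
      have h1 : (sg i a).1 ≤ l := by rw [Fin.le_def, hl]; have := (sg i a).1.2; simp only; omega
      have h2 : (sg i b).1 ≤ l := by rw [Fin.le_def, hl]; have := (sg i b).1.2; simp only; omega
      rw [if_pos h1, if_pos h2, sn_sg hin, sn_sg hin, hs]
    · refine hone z (eq_zero_of_coord e1 ?_)
      have key : ∀ d : Fin n × Bool, ¬ d.1 ≤ i → ¬ (sg i d).1 ≤ z := by
        intro d hd
        rw [Fin.le_def] at hd ⊢
        unfold sg
        rw [dif_pos hin]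
        have h3 : d.1 ≠ i := by rintro rfl; exact hd le_rfl
        rw [if_neg h3]
        by_cases h4 : d.1 = ⟨(i : ℕ) + 1, hin⟩
        · rw [if_pos h4]; simp only [hz]; omega
        · rw [if_neg h4]; simp only [hz]; omega
      have h1 : ¬ a.1 ≤ i := by
        intro h1
        rw [if_pos h1] at h0
        rcases sn_cases a with h2 | h2 <;> rcases sn_cases b with h3 | h3 <;> rw [h2, h3] at h0 hs <;>
          split_ifs at h0 <;> omega
      have h2 : ¬ b.1 ≤ i := by
        intro h2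
        rw [if_neg h1, if_pos h2] at h0
        rcases sn_cases b with h3 | h3 <;> rw [h3] at h0 <;> omega
      rw [if_neg (key a h1), if_neg (key b h2), add_zero]
  · -- the last node
    have hil : i = l := Fin.ext (by simp only [hl]; omega)
    have ha : a.1 ≤ i := by rw [Fin.le_def]; have := a.1.2; omega
    have hb : b.1 ≤ i := by rw [Fin.le_def]; have := b.1.2; omega
    rw [if_pos ha, if_pos hb] at h0
    have hne' : a.1 ≠ b.1 := by
      rcases hab with h1 | h1
      · exact h1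
      · exfalso
        rw [h1] at h0
        rcases sn_cases b with h3 | h3 <;> rw [h3] at h0 <;> omega
    have hfix : ∀ d : Fin n × Bool, d.1 ≠ i → sg i d = d := fun d hd =>
      sg_of_ne hd (by have := d.1.2; omega)
    -- the main case
    have main : ∀ a b : Fin n × Bool, ee (rep cs (isCartan n) (cs.simple i) x) = wt (sg i a) + wt (sg i b) →
        a.1 = i → b.1 ≠ i →
        ∃ v ∈ WJ cs J₀, ∃ c, rep cs (isCartan n) v (rep cs (isCartan n) (cs.simple i) x) c = 0 := by
      intro a b e1 ha hb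
      rw [hfix b hb] at e1
      have hsga : (sg i a).1 = i := by
        unfold sg
        rw [dif_neg hin, if_pos ha]
        exact ha
      by_cases hb0 : b.1 = z
      · refine ⟨cs.simple z, simple_mem_WJ' ((hJ' z).2 ?_), z, ?_⟩
        · intro h1; apply hi0; rw [← h1]
        have e2 := ee_rep_simple cs e1 z
        refine eq_zero_of_coord e2 ?_
        have h1 : sg z (sg i a) = sg i a := sg_of_ne (by rw [hsga]; intro h1; apply hi0; rw [h1])
          (by rw [hsga]; simp only [hz]; omega)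
        have h2 : (sg z b).1 = ⟨(z : ℕ) + 1, by simp only [hz]; omega⟩ := by
          unfold sg
          rw [dif_pos (by simp only [hz]; omega), if_pos hb0]
        rw [h1, hsga, if_neg, if_neg, add_zero]
        · rw [h2, Fin.le_def]; simp only [hz]; omega
        · rw [Fin.le_def]; simp only [hz]; omega
      · refine hone z (eq_zero_of_coord e1 ?_)
        rw [hsga, if_neg, if_neg, add_zero]
        · rw [Fin.le_def]
          intro h1
          apply hb0
          apply Fin.ext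
          simp only [hz] at h1 ⊢
          omega
        · rw [Fin.le_def]; simp only [hz]; omega
    by_cases hai : a.1 = i
    · exact main a b e1 hai (fun h1 => hne' (hai.trans h1.symm))
    · by_cases hbi : b.1 = i
      · exact main b a (by rw [e1, add_comm]) hbi hai
      · refine hone l (eq_zero_of_coord e1 ?_)
        rw [hfix a hai, hfix b hbi, ← hil, if_pos ha, if_pos hb]
        exact h0.symm

/-- **Type `B_n`**, `J₀` the complement of the first node: all reflections are trivial, except one. -/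
theorem trivB (hn : 2 ≤ n) (hLL : ∀ L, L ≠ Set.univ → LL L) (g : W) (c : Fin n) :
    Triv cs {k : Fin n | (k : ℕ) ≠ 0} LL (g * cs.simple c * g⁻¹) ∨
      ∃ s, ee (rep cs (isCartan n) g (sr c)) = wt (⟨0, by omega⟩, s) + wt (⟨0, by omega⟩, s) := by
  have hW : Finite W := finite_W cs
  have hL : ∀ c : Fin n, LL {k | k ≠ c} := fun c => hLL _ (fun h => by
    have : c ∈ {k : Fin n | k ≠ c} := by rw [h]; trivial
    exact this rfl)
  set z : Fin n := ⟨0, by omega⟩ with hz
  set l : Fin n := ⟨n - 1, by omega⟩ with hl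
  have hLz : LL {k : Fin n | (k : ℕ) ≠ 0} := by
    have h1 := hL z
    have h2 : {k : Fin n | (k : ℕ) ≠ 0} = {k | k ≠ z} := by
      ext k
      rw [Set.mem_ofPred_eq, Set.mem_ofPred_eq, Ne, Ne, Fin.ext_iff]
    rwa [h2]
  have hx : IsRoot cs (isCartan n) (rep cs (isCartan n) g (sr c)) := ⟨g, c, rfl⟩
  obtain ⟨a, b, hab, e⟩ := exists_of_isRoot cs hx
  -- flip a sign
  have flip : ∀ d : ℕ, ∀ q : Fin n, (q : ℕ) ≠ 0 → (q : ℕ) + d + 1 = n → ∃ v ∈ WJ cs {k : Fin n | (k : ℕ) ≠ 0},
      ∀ x s t, ee x = wt (z, s) + wt (q, t) → ee (rep cs (isCartan n) v x) = wt (z, s) + wt (l, !t) := by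
    intro d
    induction d with
    | zero =>
      intro q hq hqn
      refine ⟨cs.simple q, simple_mem_WJ' hq, ?_⟩
      intro x s t hx
      have h1 := ee_rep_simple cs hx q
      rw [sg_of_ne (i := q) (x := (z, s)) (by intro h2; apply hq; rw [← show z = q from h2])
        (by simp only [hz]; omega), sg_last (by omega)] at h1
      rw [h1]
      have h2 : q = l := Fin.ext (by simp only [hl]; omega)
      rw [h2]
    | succ d ih =>
      intro q hq hqn
      obtain ⟨v, hv, H⟩ := ih ⟨(q : ℕ) + 1, by omega⟩ (by simp) (by simp only; omega)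
      refine ⟨v * cs.simple q, mul_mem hv (simple_mem_WJ' hq), ?_⟩
      intro x s t hx
      have h1 := ee_rep_simple cs hx q
      rw [sg_of_ne (i := q) (x := (z, s)) (by intro h2; apply hq; rw [← show z = q from h2])
        (by simp only [hz]; omega), sg_up (by omega)] at h1
      rw [rep_mul_apply]
      exact H _ s t h1
  have main : ∀ a b : Fin n × Bool, ee (rep cs (isCartan n) g (sr c)) = wt a + wt b → a.1 = z → b.1 ≠ z →
      Triv cs {k : Fin n | (k : ℕ) ≠ 0} LL (g * cs.simple c * g⁻¹) := by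
    intro a b e ha hb
    have ha' : a = (z, a.2) := Prod.ext ha rfl
    have hb' : b = (b.1, b.2) := rfl
    have hb0 : (b.1 : ℕ) ≠ 0 := fun h1 => hb (Fin.ext (by simp only [hz]; exact h1))
    have hfin : ∀ v ∈ WJ cs {k : Fin n | (k : ℕ) ≠ 0}, rep cs (isCartan n) v (rep cs (isCartan n) g (sr c)) l = 0 →
        Triv cs {k : Fin n | (k : ℕ) ≠ 0} LL (g * cs.simple c * g⁻¹) := by
      intro v hv h1
      refine triv_of_supp cs (isCartan n) hv (hL l) ?_
      intro k hk
      have hk' : k = l := by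
        by_contra h2
        exact hk h2
      rw [hk', h1]
    by_cases hs : a.2 = b.2
    · obtain ⟨v, hv, H⟩ := flip (n - b.1 - 1) b.1 hb0 (by have := b.1.2; omega)
      have h1 := H _ a.2 b.2 (by rw [e]; congr 1; rw [ha'])
      refine hfin v hv (eq_zero_of_coord h1 ?_)
      rw [if_pos (by rw [Fin.le_def]; simp only [hz]; omega), if_pos le_rfl]
      unfold sn
      rw [hs]
      cases b.2 <;> simp
    · refine hfin 1 (one_mem _) ?_
      rw [map_one, Module.End.one_apply]
      refine eq_zero_of_coord e ?_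
      rw [if_pos (by rw [Fin.le_def]; have := a.1.2; simp only [hl]; omega),
        if_pos (by rw [Fin.le_def]; have := b.1.2; simp only [hl]; omega)]
      have h3 : a.2 = !b.2 := Bool.eq_not.2 hs
      unfold sn
      rw [h3]
      cases b.2 <;> simp
  by_cases ha : a.1 = z
  · by_cases hb : b.1 = z
    · right
      have hab' : a = b := by
        rcases hab with h1 | h1
        · exact absurd (ha.trans hb.symm) h1
        · exact h1
      refine ⟨b.2, ?_⟩
      rw [e, hab']
      have hb' : b = (z, b.2) := Prod.ext hb rfl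
      rw [← hb']
    · exact Or.inl (main a b e ha hb)
  · by_cases hb : b.1 = z
    · exact Or.inl (main b a (by rw [e, add_comm]) hb ha)
    · left
      refine triv_of_supp cs (isCartan n) (one_mem _) hLz ?_
      intro k hk
      have hk' : k = z := Fin.ext (by simp only [hz]; by_contra h2; exact hk h2)
      rw [map_one, Module.End.one_apply, hk']
      refine eq_zero_of_coord e ?_
      rw [if_neg, if_neg, add_zero]
      · rw [Fin.le_def]; intro h1; apply hb; apply Fin.ext; simp only [hz] at h1 ⊢; omega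
      · rw [Fin.le_def]; intro h1; apply ha; apply Fin.ext; simp only [hz] at h1 ⊢; omega

/-- The exceptional reflection is unique. -/
theorem unique_of_ee {g g' : W} {c c' z : Fin n} {s s' : Bool}
    (e : ee (rep cs (isCartan n) g (sr c)) = wt (z, s) + wt (z, s))
    (e' : ee (rep cs (isCartan n) g' (sr c')) = wt (z, s') + wt (z, s')) :
    g * cs.simple c * g⁻¹ = g' * cs.simple c' * g'⁻¹ := by
  have hW : Finite W := finite_W cs
  apply conj_simple_eq cs (isCartan n)
  by_cases h1 : s = s'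
  · left
    apply ee_injective
    rw [e, e', h1]
  · right
    apply ee_injective
    have h2 : (z, s) = ng (z, s') := by
      unfold ng
      cases s <;> cases s' <;> simp_all
    rw [e, ee_neg, e', h2, wt_ng]
    abel

end TypeB

/-! ### Type `F₄` -/

section TypeF

variable {W : Type*} [Group W] (cs : CoxeterSystem CoxeterMatrix.F₄ W) {J₀ : Set (Fin 4)} {LL : Set (Fin 4) → Prop}

/-- A Cartan matrix of type `F₄`. -/
def AF : Fin 4 → Fin 4 → ℤ := !![2, -1, 0, 0; -1, 2, -1, 0; 0, -2, 2, -1; 0, 0, -1, 2]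

set_option backward.isDefEq.respectTransparency false in
theorem isCartanF : IsCartan CoxeterMatrix.F₄ AF := by
  constructor <;> decide +kernel

/-- The simple reflections. -/
def rf (k : Fin 4) (x : Fin 4 → ℤ) : Fin 4 → ℤ := fun m =>
  if m = k then x m - (AF k 0 * x 0 + AF k 1 * x 1 + AF k 2 * x 2 + AF k 3 * x 3) else x m

theorem rep_eq_rf (k : Fin 4) (x : Fin 4 → ℤ) : rep cs isCartanF (cs.simple k) x = rf k x := by
  funext m
  unfold rf
  by_cases h : m = k
  · rw [if_pos h, h, rep_simple_apply_self]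
    unfold pairing
    rw [Fin.sum_univ_four]
  · rw [if_neg h, rep_simple_apply _ _ _ _ _ h]

/-- The vector with given coordinates. -/
def vv (a b c d : ℤ) : Fin 4 → ℤ := ![a, b, c, d]

/-- The positive roots. -/
def posF : List (Fin 4 → ℤ) := [
  vv 0 0 0 1, vv 0 0 1 0, vv 0 0 1 1, vv 0 1 0 0,
  vv 0 1 1 0, vv 0 1 1 1, vv 0 1 2 0, vv 0 1 2 1,
  vv 0 1 2 2, vv 1 0 0 0, vv 1 1 0 0, vv 1 1 1 0,
  vv 1 1 1 1, vv 1 1 2 0, vv 1 1 2 1, vv 1 1 2 2,
  vv 1 2 2 0, vv 1 2 2 1, vv 1 2 2 2, vv 1 2 3 1,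
  vv 1 2 3 2, vv 1 2 4 2, vv 1 3 4 2, vv 2 3 4 2]

/-- The roots. -/
def rootsF : List (Fin 4 → ℤ) := posF ++ posF.map (fun x => -x)

theorem sr_mem_F : ∀ k : Fin 4, (sr k : Fin 4 → ℤ) ∈ rootsF := by
  decide +kernel

theorem rf_mem_F : ∀ x ∈ rootsF, ∀ k : Fin 4, rf k x ∈ rootsF := by
  decide +kernel

theorem mem_rootsF {x : Fin 4 → ℤ} (hx : IsRoot cs isCartanF x) : x ∈ rootsF := by
  obtain ⟨w, i, rfl⟩ := hx
  induction w using cs.simple_induction_left with
  | one =>
    rw [map_one, Module.End.one_apply]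
    exact sr_mem_F i
  | mul_simple_left w j ih =>
    rw [rep_mul_apply, rep_eq_rf]
    exact rf_mem_F _ ih j

include cs in
theorem finite_WF : Finite W := by
  have h1 : Function.Injective (fun (w : W) (i : Fin 4) =>
      (⟨rep cs isCartanF w (sr i), mem_rootsF cs ⟨w, i, rfl⟩⟩ : {x // x ∈ rootsF})) := by
    intro w w' e
    apply rep_injective cs isCartanF
    refine LinearMap.pi_ext' fun i => LinearMap.ext_ring ?_
    have h2 := congrArg Subtype.val (congrFun e i)
    exact h2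
  have : Finite {x // x ∈ rootsF} := by
    have h3 : {x | x ∈ rootsF}.Finite := List.finite_toSet rootsF
    exact h3
  exact Finite.of_injective _ h1

/-- The table for the first and the last node. -/
theorem tabF : ∀ x ∈ rootsF,
    (x 0 = 0 → ∃ c, rf 0 x c = 0 ∨ rf 3 (rf 0 x) c = 0 ∨ rf 3 (rf 2 (rf 0 x)) c = 0) ∧
    (x 1 = 0 → ∃ c, rf 1 x c = 0) ∧ (x 2 = 0 → ∃ c, rf 2 x c = 0) ∧
    (x 3 = 0 → ∃ c, rf 3 x c = 0 ∨ rf 0 (rf 3 x) c = 0 ∨ rf 0 (rf 1 (rf 3 x)) c = 0) := by
  decide +kernel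

/-- **Type `F₄`**: every node outside `J₀` is good. -/
theorem goodF (hLL : ∀ L, L ≠ Set.univ → LL L) {i : Fin 4} (hi : i ∉ J₀) : Good cs J₀ LL i := by
  have hW : Finite W := finite_WF cs
  by_cases hJ : insert i J₀ = Set.univ
  swap
  · exact good_of_subset (hLL _ hJ) (Set.subset_insert _ _) (Set.mem_insert _ _)
  have hJ' : ∀ k, k ≠ i → k ∈ J₀ := by
    intro k hk
    have h1 : k ∈ insert i J₀ := by rw [hJ]; trivial
    rcases h1 with h1 | h1
    · exact absurd h1 hk
    · exact h1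
  have hL : ∀ c : Fin 4, LL {k | k ≠ c} := fun c => hLL _ (fun h => by
    have : c ∈ {k : Fin 4 | k ≠ c} := by rw [h]; trivial
    exact this rfl)
  refine good_of_supp cs isCartanF ?_
  intro x hx hsx
  have hxi : x i = 0 := hsx i hi
  have ht := tabF x (mem_rootsF cs hx)
  suffices H : ∃ v ∈ WJ cs J₀, ∃ c, rep cs isCartanF v (rep cs isCartanF (cs.simple i) x) c = 0 by
    obtain ⟨v, hv, c, hc⟩ := H
    refine ⟨v, hv, {k | k ≠ c}, hL c, ?_⟩
    intro k hk
    have hk' : k = c := by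
      by_contra h1
      exact hk h1
    rw [hk', hc]
  have h0 : ∀ c, rf i x c = 0 →
      ∃ v ∈ WJ cs J₀, ∃ c, rep cs isCartanF v (rep cs isCartanF (cs.simple i) x) c = 0 := by
    intro c hc
    exact ⟨1, one_mem _, c, by rw [map_one, Module.End.one_apply, rep_eq_rf]; exact hc⟩
  have h1 : ∀ k, k ≠ i → ∀ c, rf k (rf i x) c = 0 →
      ∃ v ∈ WJ cs J₀, ∃ c, rep cs isCartanF v (rep cs isCartanF (cs.simple i) x) c = 0 := by
    intro k hk c hc
    exact ⟨cs.simple k, simple_mem_WJ' (hJ' k hk), c, by rw [rep_eq_rf, rep_eq_rf]; exact hc⟩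
  have h2 : ∀ k, k ≠ i → ∀ m, m ≠ i → ∀ c, rf k (rf m (rf i x)) c = 0 →
      ∃ v ∈ WJ cs J₀, ∃ c, rep cs isCartanF v (rep cs isCartanF (cs.simple i) x) c = 0 := by
    intro k hk m hm c hc
    refine ⟨cs.simple k * cs.simple m, mul_mem (simple_mem_WJ' (hJ' k hk)) (simple_mem_WJ' (hJ' m hm)), c, ?_⟩
    rw [rep_mul_apply, rep_eq_rf, rep_eq_rf, rep_eq_rf]
    exact hc
  obtain ⟨t0, t1, t2, t3⟩ := ht
  have hcase : ∀ i : Fin 4, i = 0 ∨ i = 1 ∨ i = 2 ∨ i = 3 := by decide
  rcases hcase i with rfl | rfl | rfl | rfl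
  · obtain ⟨c, hc | hc | hc⟩ := t0 hxi
    · exact h0 c hc
    · exact h1 3 (by decide) c hc
    · exact h2 3 (by decide) 2 (by decide) c hc
  · obtain ⟨c, hc⟩ := t1 hxi
    exact h0 c hc
  · obtain ⟨c, hc⟩ := t2 hxi
    exact h0 c hc
  · obtain ⟨c, hc | hc | hc⟩ := t3 hxi
    · exact h0 c hc
    · exact h1 0 (by decide) c hc
    · exact h2 0 (by decide) 1 (by decide) c hc

/-- **Type `F₄` with a graph automorphism**: the nodes 1, 2 are good for `J₀ = {0, 3}`. -/
theorem goodF_graph (h03 : LL {0, 3}) (h12 : LL {1, 2}) {i : Fin 4} (hi : i = 1 ∨ i = 2) :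
    Good cs {0, 3} LL i := by
  have hW : Finite W := finite_WF cs
  refine good_of_supp cs isCartanF ?_
  intro x hx hsx
  have hx1 : x 1 = 0 := hsx 1 (by simp)
  have hx2 : x 2 = 0 := hsx 2 (by simp)
  have key : ∀ x ∈ rootsF, x 1 = 0 → x 2 = 0 →
      (rf 1 x 1 = 0 ∧ rf 1 x 2 = 0 ∨ rf 0 (rf 1 x) 0 = 0 ∧ rf 0 (rf 1 x) 3 = 0) ∧
      (rf 2 x 1 = 0 ∧ rf 2 x 2 = 0 ∨ rf 3 (rf 2 x) 0 = 0 ∧ rf 3 (rf 2 x) 3 = 0) := by
    decide +kernel
  obtain ⟨k1, k2⟩ := key x (mem_rootsF cs hx) hx1 hx2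
  have hA : ∀ y : Fin 4 → ℤ, y 1 = 0 → y 2 = 0 → ∀ k, k ∉ ({0, 3} : Set (Fin 4)) → y k = 0 := by
    intro y h1 h2 k hk
    have h3 : k = 0 ∨ k = 1 ∨ k = 2 ∨ k = 3 := by revert k; decide
    rcases h3 with rfl | rfl | rfl | rfl
    · exact absurd (by simp) hk
    · exact h1
    · exact h2
    · exact absurd (by simp) hk
  have hB : ∀ y : Fin 4 → ℤ, y 0 = 0 → y 3 = 0 → ∀ k, k ∉ ({1, 2} : Set (Fin 4)) → y k = 0 := by
    intro y h1 h2 k hk
    have h3 : k = 0 ∨ k = 1 ∨ k = 2 ∨ k = 3 := by revert k; decide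
    rcases h3 with rfl | rfl | rfl | rfl
    · exact h1
    · exact absurd (by simp) hk
    · exact absurd (by simp) hk
    · exact h2
  rcases hi with rfl | rfl
  · rcases k1 with ⟨h1, h2⟩ | ⟨h1, h2⟩
    · refine ⟨1, one_mem _, {0, 3}, h03, ?_⟩
      rw [map_one, Module.End.one_apply, rep_eq_rf]
      exact hA _ h1 h2
    · refine ⟨cs.simple 0, simple_mem_WJ' (by simp), {1, 2}, h12, ?_⟩
      rw [rep_eq_rf, rep_eq_rf]
      exact hB _ h1 h2
  · rcases k2 with ⟨h1, h2⟩ | ⟨h1, h2⟩
    · refine ⟨1, one_mem _, {0, 3}, h03, ?_⟩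
      rw [map_one, Module.End.one_apply, rep_eq_rf]
      exact hA _ h1 h2
    · refine ⟨cs.simple 3, simple_mem_WJ' (by simp), {1, 2}, h12, ?_⟩
      rw [rep_eq_rf, rep_eq_rf]
      exact hB _ h1 h2

end TypeF

end Cfsg.Agent.Omega.ML.Ex.WallGood
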