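import Cfsg.Agent.Omega.ML.LieRow.Bld
import Cfsg.Agent.Omega.ML.Ex.WallGood
import Cfsg.Agent.Tits.Generic

/-!
# Diagram automorphisms and the nodes left by the WALL THEOREM (helper530; #22477, #23457 (2))

* `sig_M` : `M (σ i) (σ j) = M i j` for the permutation `σ` of the nodes induced by `h ∈ H`;
* `sigB`, `sigF` : type `B_l`, `l ≥ 3`: `σ = 1`; type `F₄`: `σ = 1` or `σ = ` the flip;
* `LLT A T L` : `L` is proper and `T`-invariant;
* `left_laced`, `left_B`, `left_F` : if `i ∉ J₀` is not good, then (simply laced) there is no such `J₀`;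
  (`B_l`, `l ≥ 3`) `J₀ = {k | k ≠ 0}`; (`F₄`) `J₀ = {1, 2}` and `T` induces the flip.
-/

set_option autoImplicit false
set_option linter.unusedSectionVars false

namespace Cfsg.Agent.Omega.ML.Ex.WallSig

open Cfsg.Agent.Tits.Core Cfsg.Agent.Tits Cfsg.Agent.FixBN.Cox Cfsg.Agent.Omega.ML.LieRow
  Cfsg.Agent.Omega.ML.Ex.WallGood

/-! ### The permutation of the nodes -/

/-- The permutation of the nodes preserves the Coxeter matrix. -/
theorem sig_M {I : Type*} {M : CoxeterMatrix I} {W : Type*} [Group W] {cs : CoxeterSystem M W} {C : Type*}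
    {Δ : Bldg cs C} {H : Type*} [Group H] {K : Subgroup H} [MulAction K C] [Finite I] [Finite W] (A : HAct Δ K)
    (h : H) (i j : I) : M (A.σ h i) (A.σ h j) = M i j := by
  rw [← Generic.orderOf_eq cs, ← Generic.orderOf_eq cs, ← A.φ_simple, ← A.φ_simple, ← map_mul]
  exact MulEquiv.orderOf_eq _ _

theorem injective_of_M {I : Type*} {M : CoxeterMatrix I} {s : I → I} (hs : ∀ i j, M (s i) (s j) = M i j) :
    Function.Injective s := by
  intro i j e
  by_contra hij
  have h1 := hs i j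
  rw [e, M.diagonal] at h1
  exact M.off_diagonal i j hij h1.symm

theorem B_apply {n : ℕ} {i j : Fin n} (hij : i ≠ j) : CoxeterMatrix.B n i j =
    if (i : ℕ) = n - 1 ∧ (j : ℕ) = n - 2 ∨ (j : ℕ) = n - 1 ∧ (i : ℕ) = n - 2
      then 4 else (if (j : ℕ) + 1 = i ∨ (i : ℕ) + 1 = j then 3 else 2) := by
  show (if i = j then 1 else _) = _
  rw [if_neg hij]

/-- **Type `B_l`, `l ≥ 3`**: there are no diagram automorphisms. -/
theorem sigB {l : ℕ} (hl : 3 ≤ l) {s : Fin l → Fin l}
    (hs : ∀ i j, CoxeterMatrix.B l (s i) (s j) = CoxeterMatrix.B l i j) (i : Fin l) : s i = i := by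
  have hinj := injective_of_M hs
  set a : Fin l := ⟨l - 1, by omega⟩ with ha
  set b : Fin l := ⟨l - 2, by omega⟩ with hb
  set c : Fin l := ⟨l - 3, by omega⟩ with hc
  have hab : a ≠ b := by rw [Ne, Fin.ext_iff]; simp only [ha, hb]; omega
  have hcb : c ≠ b := by rw [Ne, Fin.ext_iff]; simp only [hb, hc]; omega
  have h1 : CoxeterMatrix.B l a b = 4 := by
    rw [B_apply hab, if_pos]
    left; exact ⟨rfl, rfl⟩
  have h2 : CoxeterMatrix.B l c b = 3 := by
    rw [B_apply hcb, if_neg, if_pos]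
    · right; simp only [hb, hc]; omega
    · simp only [hb, hc]; omega
  have h3 := hs a b
  rw [h1, B_apply (fun e => hab (hinj e))] at h3
  have hsab : (s a = a ∧ s b = b) ∨ (s b = a ∧ s a = b) := by
    have h4 : (s a : ℕ) = l - 1 ∧ (s b : ℕ) = l - 2 ∨ (s b : ℕ) = l - 1 ∧ (s a : ℕ) = l - 2 := by
      by_contra h4
      rw [if_neg h4] at h3
      split_ifs at h3 <;> omega
    rcases h4 with ⟨h5, h6⟩ | ⟨h5, h6⟩
    · left; exact ⟨Fin.ext h5, Fin.ext h6⟩
    · right; exact ⟨Fin.ext h5, Fin.ext h6⟩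
  have hab' : s a = a ∧ s b = b := by
    rcases hsab with h4 | ⟨h4, h5⟩
    · exact h4
    · exfalso
      have h6 := hs c b
      have h7 : s c ≠ a := fun e => hcb (hinj (e.trans h4.symm))
      rw [h2, h4, B_apply h7] at h6
      have h8 := (s c).2
      have h9 : (s c : ℕ) ≠ l - 1 := fun e => h7 (Fin.ext e)
      have ha' : (a : ℕ) = l - 1 := rfl
      split_ifs at h6 <;> omega
  -- downward induction
  have key : ∀ d : ℕ, ∀ k : Fin l, (k : ℕ) + d + 1 = l → s k = k ∧ ((h : (k : ℕ) + 1 < l) → s ⟨k + 1, h⟩ = ⟨k + 1, h⟩) := by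
    intro d
    induction d with
    | zero =>
      intro k hk
      have hka : k = a := Fin.ext (by simp only [ha]; omega)
      exact ⟨by rw [hka]; exact hab'.1, fun h => by omega⟩
    | succ d ih =>
      intro k hk
      obtain ⟨i1, i2⟩ := ih ⟨(k : ℕ) + 1, by omega⟩ (by simp only; omega)
      refine ⟨?_, fun _ => i1⟩
      by_cases hd : d = 0
      · have hkb : k = b := Fin.ext (by simp only [hb]; omega)
        rw [hkb]; exact hab'.2
      set k' : Fin l := ⟨(k : ℕ) + 1, by omega⟩ with hk'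
      have hne : k ≠ k' := by rw [Ne, Fin.ext_iff]; simp only [hk']; omega
      have h4 : CoxeterMatrix.B l k k' = 3 := by
        rw [B_apply hne, if_neg, if_pos]
        · right; simp only [hk']
        · simp only [hk']; omega
      have h5 := hs k k'
      have h6 : s k ≠ k' := fun e => hne (hinj (e.trans i1.symm))
      rw [i1, h4, B_apply h6] at h5
      have h7 : (s k : ℕ) ≠ (k : ℕ) + 2 := by
        intro e
        have h8 := i2 (by simp only [hk']; have := (s k).2; omega)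
        have h9 : s k = ⟨(k' : ℕ) + 1, by simp only [hk']; have := (s k).2; omega⟩ := Fin.ext (by simp only [hk']; omega)
        have h10 := hinj (h9.trans h8.symm)
        rw [Fin.ext_iff] at h10
        simp only [hk'] at h10
        omega
      apply Fin.ext
      simp only [hk'] at h5
      split_ifs at h5 <;> omega
  exact (key (l - i - 1) i (by have := i.2; omega)).1

/-- The flip of `F₄`. -/
def flip (i : Fin 4) : Fin 4 := ![3, 2, 1, 0] i

set_option backward.isDefEq.respectTransparency false in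
theorem sigF_aux : ∀ a b c d : Fin 4, CoxeterMatrix.F₄ a b = 3 → CoxeterMatrix.F₄ b c = 4 →
    CoxeterMatrix.F₄ c d = 3 → (a = 0 ∧ b = 1 ∧ c = 2 ∧ d = 3) ∨ (a = 3 ∧ b = 2 ∧ c = 1 ∧ d = 0) := by
  decide +kernel

/-- **Type `F₄`**: the identity and the flip. -/
theorem sigF {s : Fin 4 → Fin 4} (hs : ∀ i j, CoxeterMatrix.F₄ (s i) (s j) = CoxeterMatrix.F₄ i j) :
    (∀ i, s i = i) ∨ ∀ i, s i = flip i := by
  have hcase : ∀ i : Fin 4, i = 0 ∨ i = 1 ∨ i = 2 ∨ i = 3 := by decide
  rcases sigF_aux (s 0) (s 1) (s 2) (s 3) (hs 0 1) (hs 1 2) (hs 2 3) with ⟨h0, h1, h2, h3⟩ | ⟨h0, h1, h2, h3⟩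
  · left
    intro i
    rcases hcase i with rfl | rfl | rfl | rfl <;> assumption
  · right
    intro i
    rcases hcase i with rfl | rfl | rfl | rfl
    · rw [h0]; rfl
    · rw [h1]; rfl
    · rw [h2]; rfl
    · rw [h3]; rfl

/-! ### The nodes left -/

section Left

variable {I W : Type*} [Group W] {M : CoxeterMatrix I} (cs : CoxeterSystem M W) {J₀ : Set I} {Sg : Set (I → I)}

/-- `L` is proper and invariant under the permutations in `Sg`. -/
def LS (Sg : Set (I → I)) (L : Set I) : Prop := L ≠ Set.univ ∧ ∀ s ∈ Sg, ∀ i ∈ L, s i ∈ L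

/-- **Simply laced**: nothing is left. -/
theorem left_laced [Finite I] [Finite W] (hM : ∀ i j, i ≠ j → M i j = 2 ∨ M i j = 3) (hJ : LS Sg J₀) {i : I}
    (hi : ∃ L, LS Sg L ∧ i ∈ L) (hg : ¬ Good cs J₀ (LS Sg) i) : False :=
  hg (good_of_laced hM hJ hi)

end Left

/-- **Type `B_l`, `l ≥ 3`**: only the complement of the first node is left. -/
theorem left_B {l : ℕ} (hl : 3 ≤ l) {W : Type*} [Group W] (cs : CoxeterSystem (CoxeterMatrix.B l) W)
    {J₀ : Set (Fin l)} {Sg : Set (Fin l → Fin l)}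
    (hs : ∀ s ∈ Sg, ∀ i j, CoxeterMatrix.B l (s i) (s j) = CoxeterMatrix.B l i j) {i : Fin l} (hi : i ∉ J₀)
    (hg : ¬ Good cs J₀ (LS Sg) i) : J₀ = {k : Fin l | (k : ℕ) ≠ 0} := by
  by_contra hne
  refine hg (goodB cs hl ?_ hi hne)
  intro L hL
  refine ⟨hL, fun s hsS i hi => ?_⟩
  rwa [sigB hl (hs s hsS) i]

/-- **Type `F₄`**: only `J₀ = {1, 2}`, with the flip, is left. -/
theorem left_F {W : Type*} [Group W] (cs : CoxeterSystem CoxeterMatrix.F₄ W) {J₀ : Set (Fin 4)}
    {Sg : Set (Fin 4 → Fin 4)} (hs : ∀ s ∈ Sg, ∀ i j, CoxeterMatrix.F₄ (s i) (s j) = CoxeterMatrix.F₄ i j)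
    (hJ : LS Sg J₀) (hg : ∃ i, i ∉ J₀) (hb : ∀ i, i ∉ J₀ → ¬ Good cs J₀ (LS Sg) i) :
    J₀ = {1, 2} ∧ ∃ s ∈ Sg, ∀ i, s i = flip i := by
  obtain ⟨i₀, hi₀⟩ := hg
  have hcase : ∀ i : Fin 4, i = 0 ∨ i = 1 ∨ i = 2 ∨ i = 3 := by decide
  by_cases hall : ∀ s ∈ Sg, ∀ i, s i = i
  · exfalso
    refine hb i₀ hi₀ (goodF cs ?_ hi₀)
    intro L hL
    refine ⟨hL, fun s hsS i hi => ?_⟩
    rwa [hall s hsS i]
  push Not at hall
  obtain ⟨s, hsS, k, hk⟩ := hall
  have hflip : ∀ i, s i = flip i := by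
    rcases sigF (hs s hsS) with h1 | h1
    · exact absurd (h1 k) hk
    · exact h1
  have hinv : ∀ L : Set (Fin 4), L ≠ Set.univ → (∀ i ∈ L, flip i ∈ L) → LS Sg L := by
    intro L hL hf
    refine ⟨hL, fun s' hs' i hi => ?_⟩
    rcases sigF (hs s' hs') with h1 | h1
    · rwa [h1 i]
    · rw [h1 i]; exact hf i hi
  have h03 : LS Sg {0, 3} := by
    apply hinv
    · intro h1
      have : (1 : Fin 4) ∈ ({0, 3} : Set (Fin 4)) := by rw [h1]; trivial
      simp at this
    · intro i hi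
      rcases hi with rfl | hi
      · right; rfl
      · rw [Set.mem_singleton_iff] at hi; subst hi; left; rfl
  have h12 : LS Sg {1, 2} := by
    apply hinv
    · intro h1
      have : (0 : Fin 4) ∈ ({1, 2} : Set (Fin 4)) := by rw [h1]; trivial
      simp at this
    · intro i hi
      rcases hi with rfl | hi
      · right; rfl
      · rw [Set.mem_singleton_iff] at hi; subst hi; left; rfl
  have hJf : ∀ i ∈ J₀, flip i ∈ J₀ := fun i hi => by rw [← hflip i]; exact hJ.2 s hsS i hi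
  refine ⟨?_, s, hsS, hflip⟩
  have e0 : (0 : Fin 4) ∈ J₀ ↔ (3 : Fin 4) ∈ J₀ := ⟨fun h => hJf 0 h, fun h => hJf 3 h⟩
  have e1 : (1 : Fin 4) ∈ J₀ ↔ (2 : Fin 4) ∈ J₀ := ⟨fun h => hJf 1 h, fun h => hJf 2 h⟩
  by_cases c0 : (0 : Fin 4) ∈ J₀
  · by_cases c1 : (1 : Fin 4) ∈ J₀
    · exfalso
      apply hJ.1
      rw [Set.eq_univ_iff_forall]
      intro i
      rcases hcase i with rfl | rfl | rfl | rfl
      · exact c0
      · exact c1
      · exact e1.1 c1
      · exact e0.1 c0
    · exfalso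
      have hJ' : J₀ = {0, 3} := by
        ext i
        rcases hcase i with rfl | rfl | rfl | rfl
        · simp [c0]
        · simp [c1]
        · simp [← e1, c1]
        · simp [← e0, c0]
      subst hJ'
      exact hb 1 c1 (goodF_graph cs h03 h12 (Or.inl rfl))
  · by_cases c1 : (1 : Fin 4) ∈ J₀
    · ext i
      rcases hcase i with rfl | rfl | rfl | rfl
      · simp [c0]
      · simp [c1]
      · simp [← e1, c1]
      · simp [← e0, c0]
    · exfalso
      refine hb 0 c0 ?_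
      intro w hw j hj
      exfalso
      rcases hcase j with rfl | rfl | rfl | rfl
      · exact c0 hj
      · exact c1 hj
      · exact c1 (e1.2 hj)
      · exact c0 (e0.2 hj)

end Cfsg.Agent.Omega.ML.Ex.WallSig
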