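import Cfsg.Agent.Omega.ML.Ex.WPart
import Cfsg.Agent.Omega.ML.Ex.Def
import Cfsg.Agent.Omega.ML.RowsList
import Cfsg.Prelude.Def_Classification2

/-!
# (LA) : the conjugates of `A` which lie in `O₂(C_H(m))` are low (helper854; helper396, 721, 809, 829)

* `LA H M T A m` : `m ≠ 1` is `T`-fixed and every conjugate of `A` in `O₂(C_H(m))` lies in `O₂(R)` for all `T ≤ R < H`;
* `PsR T B p m` : **THE LAST SITUATION of the K-route, any `R = ker p`** : `X` acts on `W`, trivially on `ker p`, `M = W / ker p`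
  is faithful, `O₂(X) = 1`, `M = ⟨m^X⟩`, `C_W(T) ≤ ker p`, `B ≤ T` exact atom of order `≥ 4`, low, with (LA) and (nmax).
-/

set_option autoImplicit false

namespace Cfsg.Agent.Omega.ML.Ex

open Subgroup Cfsg Cfsg.Agent.Omega.NOThree.NoOver
open Cfsg.Agent.ZN (o2)
open Cfsg.Agent.ClassTwoFusion.Quad (cv)

universe u v w

/-- **(LA)** -/
structure LA (H : Type u) [Group H] (M : Type v) [Group M] [MulDistribMulAction H M] (T A : Subgroup H) (m : M) :
    Prop where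
  fix : ∀ t ∈ T, t • m = m
  ne : m ≠ 1
  low : ∀ g : H, cj g A ≤ o2 (MulAction.stabilizer H m) → ∀ R : Subgroup H, T ≤ R → R ≠ ⊤ → cj g A ≤ o2 R

/-- **The last situation of the K-route.** -/
structure PsR {X : Type u} [Group X] {M : Type v} [CommGroup M] [MulDistribMulAction X M] {W : Type w} [CommGroup W]
    [MulDistribMulAction X W] (T B : Subgroup X) (p : W →* M) (m : M) : Prop where
  known : IsKGroupWith IsKnownSimple' X
  sq : ∀ w : W, w * w = 1
  eqv : ∀ (x : X) (w : W), p (x • w) = x • p w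
  surj : Function.Surjective p
  ker : ∀ w : W, p w = 1 → ∀ x : X, x • w = w
  faith : ∀ x : X, (∀ m : M, x • m = m) → x = 1
  core : ∀ N : Subgroup X, N.Normal → IsPGroup 2 N → N = ⊥
  two : IsPGroup 2 T
  syl : ¬ 2 ∣ T.index
  fixT : ∀ w : W, (∀ t ∈ T, t • w = w) → p w = 1
  gen : ∀ U : Subgroup M, (∀ x : X, ∀ u ∈ U, x • u ∈ U) → m ∈ U → U = ⊤
  BT : B ≤ T
  el : ∀ b ∈ B, b * b = 1
  quad : ∀ a ∈ B, ∀ b ∈ B, ∀ m : M, b • ((a • m) * m⁻¹) = (a • m) * m⁻¹
  four : 4 ≤ Nat.card B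
  exact : (cv M (B : Set X)).index = Nat.card B
  atom : ∀ C : Subgroup X, C ≤ B → C ≠ ⊥ → C ≠ B → Nat.card C < (cv M (C : Set X)).index
  low : ∀ R : Subgroup X, T ≤ R → R ≠ ⊤ → B ≤ o2 R
  nmax : ¬ ∃ N : Subgroup X, N ≠ ⊤ ∧ ∀ R : Subgroup X, T ≤ R → R ≠ ⊤ → R ≤ N
  la : LA X M T B m

theorem PsR.sqM {X : Type u} [Group X] {M : Type v} [CommGroup M] [MulDistribMulAction X M] {W : Type w} [CommGroup W]
    [MulDistribMulAction X W] {T B : Subgroup X} {p : W →* M} {m : M} (h : PsR T B p m) (v : M) : v * v = 1 := by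
  obtain ⟨w, rfl⟩ := h.surj v
  rw [← map_mul, h.sq, map_one]

/-- a row with the W-part -/
def DeadXW (𝒮 : ∀ (S : Type u) [Group S], Prop) : Prop :=
  ∀ (X : Type u) [Group X] [Finite X] (M : Type v) [Group M] [Finite M] [MulDistribMulAction X M]
    (W : Type w) [CommGroup W] [Finite W] [MulDistribMulAction X W] (K T A : Subgroup X) (p : W →* M),
    InX X M K T A → WPart K T p → 𝒮 K → False

/-- a row with the W-part and (LA) -/
def DeadXL (𝒮 : ∀ (S : Type u) [Group S], Prop) : Prop :=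
  ∀ (X : Type u) [Group X] [Finite X] (M : Type v) [Group M] [Finite M] [MulDistribMulAction X M]
    (W : Type w) [CommGroup W] [Finite W] [MulDistribMulAction X W] (K T A : Subgroup X) (p : W →* M) (m : M),
    InX X M K T A → WPart K T p → LA X M T A m → 𝒮 K → False

/-- **RED with the W-part and (LA)** -/
def PsRed : Prop :=
  ∀ (X : Type u) [Group X] [Finite X] (M : Type v) [CommGroup M] [Finite M] [MulDistribMulAction X M]
    (W : Type w) [CommGroup W] [Finite W] [MulDistribMulAction X W] (T B : Subgroup X) (p : W →* M) (m : M),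
    PsR T B p m →
    ∃ (X₁ : Type u) (_ : Group X₁) (_ : Finite X₁) (M₁ : Type v) (_ : Group M₁) (_ : Finite M₁)
      (_ : MulDistribMulAction X₁ M₁) (W₁ : Type w) (_ : CommGroup W₁) (_ : Finite W₁)
      (_ : MulDistribMulAction X₁ W₁) (K₁ T₁ B₁ : Subgroup X₁) (p₁ : W₁ →* M₁) (m₁ : M₁),
      InX X₁ M₁ K₁ T₁ B₁ ∧ WPart K₁ T₁ p₁ ∧ LA X₁ M₁ T₁ B₁ m₁ ∧ IsKnownSimple' K₁

/-- **the K-list on `M`** : three exits -/
def ExitX : Prop :=
  ∀ (X : Type u) [Group X] [Finite X] (M : Type v) [Group M] [Finite M] [MulDistribMulAction X M]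
    (K T A : Subgroup X), InX X M K T A → IsKnownSimple' K →
    IsLieTypeChar 2 K ∨ Rows.IsUThreeThree K ∨ Nonempty (K ≃* alternatingGroup (Fin 6))

/-- the pieces behind `PsR` -/
structure EndPieces : Prop where
  red : PsRed.{u, v, w}
  exit : ExitX.{u, v}
  lie2 : DeadXL.{u, v, w} fun S _ => IsLieTypeChar 2 S
  u33 : DeadXW.{u, v, w} fun S _ => Rows.IsUThreeThree S
  a6 : DeadXW.{u, v, w} fun S _ => Nonempty (S ≃* alternatingGroup (Fin 6))

/-- **`PsR` is impossible** -/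
theorem EndPieces.false (P : EndPieces.{u, v, w}) {X : Type u} [Group X] [Finite X] {M : Type v} [CommGroup M]
    [Finite M] [MulDistribMulAction X M] {W : Type w} [CommGroup W] [Finite W] [MulDistribMulAction X W]
    {T B : Subgroup X} {p : W →* M} {m : M} (h : PsR T B p m) : False := by
  obtain ⟨X₁, _, _, M₁, _, _, _, W₁, _, _, _, K₁, T₁, B₁, p₁, m₁, hI, hW, hL, hK⟩ := P.red X M W T B p m h
  rcases P.exit X₁ M₁ K₁ T₁ B₁ hI hK with h | h | h
  · exact P.lie2 X₁ M₁ W₁ K₁ T₁ B₁ p₁ m₁ hI hW hL h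
  · exact P.u33 X₁ M₁ W₁ K₁ T₁ B₁ p₁ hI hW h
  · exact P.a6 X₁ M₁ W₁ K₁ T₁ B₁ p₁ hI hW h

end Cfsg.Agent.Omega.ML.Ex
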