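import Cfsg.Agent.Omega.ML.Ex.Wall
import Cfsg.Agent.Omega.ML.Ex.WallGood
import Cfsg.Agent.Omega.ML.Ex.LA
import Cfsg.Agent.Omega.ML.Ex.Typ.Frame

/-!
# The WALL THEOREM over `InX` and `LA` (helper721)

* `stab_ne_top` : `m ≠ 1` is moved by `H`;
* `nd m`, `le_nd`, `low_nd` : the subgroup generated by the conjugates of `A` in `O₂(C_H(m))`;
* `gen_of_not_norm` : (f*) of helper829: `T ≤ P < H` does not normalise `nd m` implies `⟨P, C_H(m)⟩ = H`;
* **`movers`** : the nodes which move `m` are one `T`-orbit, and all of them are bad;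
* `movers'` : the same over `WallGood.Good`;  **`false_laced`** : all simply laced types are dead.
-/

set_option autoImplicit false
set_option linter.unusedSectionVars false

namespace Cfsg.Agent.Omega.ML.Ex.Wall

open Subgroup Cfsg Cfsg.Agent.Omega.NOThree.NoOver
open Cfsg.Agent.Tits.Core Cfsg.Agent.Tits.Core.Bldg Cfsg.Agent.Tits.Exchange Cfsg.Agent.Tits
open Cfsg.Agent.FixBN Cfsg.Agent.FixBN.Cox Cfsg.Agent.UGT.U2.FOne Cfsg.Agent.Omega.ML.LieRow
open Cfsg.Agent.ZN (o2)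
open Cfsg.Agent.MinSimple.VModule (o2_isPGroup o2_le le_o2 le_normalizer_o2 o2_le_of_sylow mem_normalizer_of_map_le)

universe u v w

section inx

variable {H : Type u} [Group H] {M : Type v} [Group M] [MulDistribMulAction H M] {K T B : Subgroup H} {m : M}

/-- `m ≠ 1` is moved by `H` -/
theorem stab_ne_top (h : InX H M K T B) (hm : m ≠ 1) : MulAction.stabilizer H m ≠ ⊤ := by
  intro htop
  have hfix : ∀ x : H, x • m = m := fun x => by
    have h1 : x ∈ MulAction.stabilizer H m := by rw [htop]; trivial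
    exact h1
  have hfz : ∀ x : H, ∀ w ∈ Subgroup.zpowers m, x • w = w := by
    rintro x _ ⟨n, rfl⟩
    change x • m ^ n = m ^ n
    rw [smul_zpow', hfix]
  rcases h.irr (Subgroup.zpowers m) (fun x w hw => by rw [hfz x w hw]; exact hw) with h1 | h1
  · exact hm (Subgroup.zpowers_eq_bot.1 h1)
  · have h2 : ∀ x : H, x = 1 := fun x => h.faith x fun w => hfz x w (by rw [h1]; trivial)
    have h3 : B = ⊥ := by
      rw [eq_bot_iff]
      exact fun x _ => Subgroup.mem_bot.2 (h2 x)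
    have h4 := h.four
    rw [h3, Subgroup.card_bot] at h4
    omega

theorem le_stab (hL : LA H M T B m) : T ≤ MulAction.stabilizer H m := fun t ht => hL.fix t ht

variable (H B) in
/-- the conjugates of `B` -/
def cjs : Set (Subgroup H) := Set.range fun g : H => cj g B

theorem cjs_inv : ∀ X ∈ cjs H B, ∀ h : H, X.map (MulAut.conj h).toMonoidHom ∈ cjs H B := by
  rintro _ ⟨g, rfl⟩ h
  refine ⟨h * g, ?_⟩
  unfold cj
  simp only
  rw [Subgroup.map_map]
  congr 1
  ext x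
  simp [mul_assoc]

variable (B m) in
/-- the subgroup generated by the conjugates of `B` in `O₂(C_H(m))` -/
def nd : Subgroup H := sSup {X | X ∈ cjs H B ∧ X ≤ o2 (MulAction.stabilizer H m)}

theorem B_mem : B ∈ cjs H B := ⟨1, by
  unfold cj
  simp only
  ext x
  simp⟩

theorem le_nd (h : InX H M K T B) (hL : LA H M T B m) : B ≤ nd B m :=
  le_sSup (⟨B_mem, h.low _ (le_stab hL) (stab_ne_top h hL.ne)⟩ : _ ∈ {X | X ∈ cjs H B ∧ X ≤ o2 (MulAction.stabilizer H m)})

theorem la_nd (hL : LA H M T B m) :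
    ∀ X ∈ cjs H B, X ≤ o2 (MulAction.stabilizer H m) → ∀ R : Subgroup H, T ≤ R → R ≠ ⊤ → X ≤ o2 R := by
  rintro _ ⟨g, rfl⟩ h1
  exact hL.low g h1

theorem nd_low (hL : LA H M T B m) {R : Subgroup H} (hTR : T ≤ R) (hR : R ≠ ⊤) : nd B m ≤ o2 R :=
  sSup_le fun X hX => la_nd hL X hX.1 hX.2 R hTR hR

theorem nd_le_o2 : nd B m ≤ o2 (MulAction.stabilizer H m) := sSup_le fun _ hX => hX.2

theorem stab_le_norm [Finite H] : MulAction.stabilizer H m ≤ Subgroup.normalizer (nd B m : Set H) := by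
  intro g hg
  refine mem_normalizer_sSup (FF := cjs H B) (hinv := cjs_inv) ?_
  rintro X - hX _ ⟨b, hb, rfl⟩
  exact (Subgroup.mem_normalizer_iff.1 (le_normalizer_o2 _ hg) b).1 (hX hb)

/-- **(f\*)** -/
theorem gen_of_not_norm [Finite H] (h : InX H M K T B) (hL : LA H M T B m) {P : Subgroup H} (hTP : T ≤ P)
    (hP : ¬ P ≤ Subgroup.normalizer (nd B m : Set H)) {R : Subgroup H} (hPR : P ≤ R)
    (hmR : MulAction.stabilizer H m ≤ R) : R = ⊤ := by
  by_contra hR
  apply hP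
  intro g hg
  have hTR : T ≤ R := hTP.trans hPR
  refine mem_normalizer_sSup (FF := cjs H B) (hinv := cjs_inv) fun X hX hXo => ?_
  have h1 : X ≤ o2 R := la_nd hL X hX hXo R hTR hR
  have h2 : o2 R ≤ o2 (MulAction.stabilizer H m) := by
    refine le_o2 ?_ (o2_isPGroup R) (hmR.trans (le_normalizer_o2 R))
    refine (o2_le_of_sylow h.two fun h3 => h.syl (h3.trans (Subgroup.relIndex_dvd_index_of_le hTR))).trans (le_stab hL)
  refine le_trans ?_ h2
  rintro _ ⟨b, hb, rfl⟩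
  exact (Subgroup.mem_normalizer_iff.1 (le_normalizer_o2 R (hPR hg)) b).1 (h1 hb)

end inx

section bldg

variable {H : Type u} [Group H] [Finite H] {M : Type v} [Group M] [MulDistribMulAction H M] {K T B : Subgroup H} {m : M}
variable {I : Type*} {Mx : CoxeterMatrix I} {W : Type*} [Group W] {cs : CoxeterSystem Mx W} {C : Type*} {Δ : Bldg cs C}
  [MulAction K C] (A : HAct Δ K) [F : OppRes.Cox cs] (S : Sys Δ K 2) [Nonempty I]

include A S

theorem cen_one (h : InX H M K T B) : ∀ x : H, (∀ k ∈ K, x * k = k * x) → x = 1 := by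
  intro x hx
  have h1 : x ∈ centralizer (K : Set H) := mem_centralizer_iff.2 fun k hk => (hx k hk).symm
  rwa [h.cen, mem_bot] at h1

/-- **The nodes which move `m` are one `T`-orbit, all of them are bad.** -/
theorem movers (h : InX H M K T B) (hL : LA H M T B m) (hth : Δ.Thick) {c : C} (hc : ∀ t ∈ T, A.θ t c = c)
    (hUc : S.U c = T.subgroupOf K) :
    A.Inv (tp Δ ((MulAction.stabilizer H m).subgroupOf K) c) ∧
      (∀ k ∈ Subgroup.normalizer (nd B m : Set H), Δ.δ c (A.θ k c) ∈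
        WJ cs (tp Δ ((MulAction.stabilizer H m).subgroupOf K) c)) ∧
      ∃ i ∉ tp Δ ((MulAction.stabilizer H m).subgroupOf K) c,
        (∀ k ∉ tp Δ ((MulAction.stabilizer H m).subgroupOf K) c, ∃ t ∈ T, A.σ t i = k) ∧
        ∀ k ∉ tp Δ ((MulAction.stabilizer H m).subgroupOf K) c,
          ¬ Good A (tp Δ ((MulAction.stabilizer H m).subgroupOf K) c) k := by
  have hKn := h.norm
  have hKs := h.simple
  have : Nonempty C := ⟨c⟩
  have hC := cen_one A S h
  have htr := not_trans_of_nmax A S hth hc hUc h.gen h.nmax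
  set D₀ : Subgroup H := MulAction.stabilizer H m with hD₀
  have hTD : T ≤ D₀ := le_stab hL
  have hDu : D₀ ≠ ⊤ := stab_ne_top h hL.ne
  set D₁ : Subgroup H := Subgroup.normalizer (nd B m : Set H) with hD₁
  have hUT : ∀ R : Subgroup H, T ≤ R → S.U c ≤ R.subgroupOf K := by
    intro R hTR
    rw [hUc]
    exact fun k hk => hTR hk
  obtain ⟨hJ, hJu, hJD⟩ := over_tp A S h.gen hth hc (hUT D₀ hTD) hTD hDu
  rcases wall_norm A S hth hC h.two h.syl h.gen htr hc hUc (FF := cjs H B) cjs_inv hTD hDu (la_nd hL) (D₁ := D₁) rfl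
    with h1 | ⟨hD01, hD1u, -, hbad⟩
  · exfalso
    have h2 := h1 B B_mem (h.low _ hTD hDu)
    have h4 := h.four
    rw [h2, Subgroup.card_bot] at h4
    omega
  have hTD1 := hTD.trans hD01
  obtain ⟨hJ1, hJ1u, hJ1D⟩ := over_tp A S h.gen hth hc (hUT D₁ hTD1) hTD1 hD1u
  set J := tp Δ (D₀.subgroupOf K) c with hJdef
  set J₁ := tp Δ (D₁.subgroupOf K) c with hJ1def
  have hJJ : J ⊆ J₁ := by
    rintro i ⟨g, hg, hgc⟩
    exact ⟨g, hD01 hg, hgc⟩
  obtain ⟨i, hi⟩ := (Set.ne_univ_iff_exists_notMem J₁).1 hJ1u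
  -- the orbit of `i`
  set O : Set I := {j | ∃ t ∈ T, A.σ t i = j} with hO
  have hOi : A.Inv O := by
    apply inv_of_T A S h.gen
    rintro t ht _ ⟨s, hs, rfl⟩
    exact ⟨t * s, mul_mem ht hs, A.σ_mul t s i⟩
  have hiO : i ∈ O := ⟨1, one_mem _, A.σ_one i⟩
  have hTP : T ≤ HAct.Stb O hOi c := le_Stb A S hOi hc
  have hPn : ¬ HAct.Stb O hOi c ≤ D₁ := by
    intro hP
    apply hi
    obtain ⟨y, -, -, hy, -⟩ := hth c i
    obtain ⟨k, rfl⟩ := exists_smul_top S hth c y
    refine ⟨k, hP ?_, hy⟩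
    change Δ.δ c (A.θ (k : H) c) ∈ WJ cs O
    rw [A.θ_K, hy]
    exact simple_mem_WJ cs hiO
  have hJO : A.Inv (J ∪ O) := by
    rintro x j (hj | hj)
    · exact Or.inl (hJ x j hj)
    · exact Or.inr (hOi x j hj)
  have hmono : ∀ {L L' : Set I}, L ⊆ L' → ∀ {w : W}, w ∈ WJ cs L → w ∈ WJ cs L' := by
    intro L L' hLL w hw
    exact Subgroup.closure_mono (Set.image_mono hLL) hw
  have htop : HAct.Stb (J ∪ O) hJO c = ⊤ := by
    refine gen_of_not_norm h hL hTP hPn (fun x hx => ?_) (fun x hx => ?_)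
    · exact hmono Set.subset_union_right hx
    · exact hmono Set.subset_union_left (hJD x hx)
  have huniv : J ∪ O = Set.univ := by
    by_contra hne
    exact Stb_ne_top A S hth hJO hne c htop
  have hiJ : i ∉ J := fun hiJ => hi (hJJ hiJ)
  have hkO : ∀ k ∉ J, ∃ t ∈ T, A.σ t i = k := by
    intro k hk
    have h1 : k ∈ J ∪ O := by rw [huniv]; trivial
    exact h1.resolve_left hk
  have hJ1J : J₁ = J := by
    refine le_antisymm ?_ hJJ
    intro k hk
    by_contra hkJ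
    obtain ⟨t, -, rfl⟩ := hkO k hkJ
    apply hi
    have h2 := hJ1 t⁻¹ _ hk
    rwa [A.σ_inv_σ] at h2
  refine ⟨hJ, ?_, i, hiJ, hkO, ?_⟩
  · rw [← hJ1J]
    exact hJ1D
  · rw [← hJ1J]
    exact hbad

/-- **The output over `WallGood.Good`.** -/
theorem movers' (h : InX H M K T B) (hL : LA H M T B m) (hth : Δ.Thick) [Finite C] :
    ∃ c : C, (∀ t ∈ T, A.θ t c = c) ∧ S.U c = T.subgroupOf K ∧
      A.Inv (tp Δ ((MulAction.stabilizer H m).subgroupOf K) c) ∧
      (¬ ∀ i j : I, ∃ t ∈ T, A.σ t i = j) ∧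
      ∃ i ∉ tp Δ ((MulAction.stabilizer H m).subgroupOf K) c,
        (∀ k ∉ tp Δ ((MulAction.stabilizer H m).subgroupOf K) c, ∃ t ∈ T, A.σ t i = k) ∧
        ¬ WallGood.Good cs (tp Δ ((MulAction.stabilizer H m).subgroupOf K) c)
          (fun L => L ≠ Set.univ ∧ ∀ t ∈ T, ∀ j ∈ L, A.σ t j ∈ L) i := by
  have hKn := h.norm
  have hKs := h.simple
  obtain ⟨c, hc, hUc⟩ := exists_chamber A S hth h.two h.syl
  have : Nonempty C := ⟨c⟩
  obtain ⟨hJ, -, i, hi, hk, hb⟩ := movers A S h hL hth hc hUc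
  refine ⟨c, hc, hUc, hJ, not_trans_of_nmax A S hth hc hUc h.gen h.nmax, i, hi, hk, fun hg => hb i hi ?_⟩
  intro v hv j hj
  obtain ⟨a, ha, L, ⟨hLu, hL⟩, l, hl, k, hk, e⟩ := hg v hv j hj
  refine ⟨L, inv_of_T A S h.gen hL, hLu, a, ha, l, hl, k, hk, ?_⟩
  rw [e]
  group

end bldg

/-- **All simply laced types are dead.** -/
theorem false_laced {H : Type u} [Group H] [Finite H] {M : Type v} [Group M] [MulDistribMulAction H M]
    {K T B : Subgroup H} {m : M} (h : InX H M K T B) (hL : LA H M T B m) {I : Type*} [Finite I] [Nonempty I]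
    {Mx : CoxeterMatrix I} (F : Typ.Frame K Mx) (hM : Typ.Laced Mx) : False := by
  have hKn := h.norm
  have hKs := h.simple
  obtain ⟨W, gW, cs, C, act, Δ, S, A, hth, hfC, hnC, hfW⟩ := F
  obtain ⟨c, -, -, hJ, htr, i, hi, -, hb⟩ := movers' A S h hL hth
  apply hb
  obtain ⟨L, hLi, hLu, hiL⟩ := exists_orbit A S h.gen htr i
  have hM' : ∀ i j, i ≠ j → Mx i j = 2 ∨ Mx i j = 3 := by
    classical
    have := Fintype.ofFinite I
    intro i j hij
    have h1 := hM i j
    have h2 := Mx.off_diagonal i j hij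
    have h3 : Mx i j ≠ 0 := by
      intro h0
      have h4 := LieRecognition.CoxForm.orderOf_eq cs i j
      rw [h0, orderOf_eq_zero_iff] at h4
      exact h4 (isOfFinOrder_of_finite _)
    omega
  exact WallGood.good_of_laced hM' ⟨fun h1 => hi (by rw [h1]; trivial), fun t _ j hj => hJ t j hj⟩
    ⟨L, ⟨hLu, fun t _ j hj => hLi t j hj⟩, hiL⟩

end Cfsg.Agent.Omega.ML.Ex.Wall
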