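import Cfsg.Agent.Omega.ML.LieRow.Act

/-!
# (ML), exact rows of Lie type in characteristic two: the semiregularity part of the WALL THEOREM (#22477 (5))

`K` is a simple normal subgroup of `H` with a building, `C_H(K) = 1`.

* `eq_one_of_rigid` : an element of `H` which fixes all panels of `c` pointwise and one chamber opposite `c` is trivial;
* `mem_U_of_E1` : **an element of `H` which fixes all panels of `c` pointwise lies in `U c ≤ K`** (so low elements
  are in `K`, no field or graph automorphisms);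
* `fix_near`, `fix_up` : walking away from a wall `ρ`;
* `semi` : if `x` fixes pointwise all panels which it stabilises and which are not on the wall `ρ`, and fixes one chamber
  behind the wall `ρ`, then `x = 1`;
* `card_le` : a group `D` of such elements has order at most `q` (`q + 1` the size of a panel on `ρ`).
-/

set_option autoImplicit false
set_option linter.unusedSectionVars false

namespace Cfsg.Agent.Omega.ML.Ex.WallSemi

open Cfsg.Agent.Tits.Core Cfsg.Agent.Tits.Core.Bldg Cfsg.Agent.Tits.Exchange Cfsg.Agent.Tits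
open Cfsg.Agent.FixBN Cfsg.Agent.FixBN.Cox Cfsg.Agent.UGT.U2.FOne Cfsg.Agent.ZN
open Cfsg.Agent.Omega.ML.LieRow

variable {I : Type*} {M : CoxeterMatrix I} {W : Type*} [Group W] {cs : CoxeterSystem M W} {C : Type*}
  {Δ : Bldg cs C}

local prefix:100 "ℓ" => cs.length

/-! ### Walking -/

section walk

variable {f : C → C} {c : C} {ρ : W}

/-- if `ρ` is a left inversion of `u`, `u v` reduced, then it is one of `u v` -/
theorem inv_mono {u v : W} (h : ℓ (ρ * u) < ℓ u) (hl : ℓ (u * v) = ℓ u + ℓ v) : ℓ (ρ * (u * v)) < ℓ (u * v) := by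
  have h1 := cs.length_mul_le (ρ * u) v
  rw [mul_assoc] at h1
  omega

/-- the chambers behind the wall -/
theorem fix_up (fw : ∀ z, f z = z → ∀ k, Δ.δ c z * cs.simple k * (Δ.δ c z)⁻¹ ≠ ρ → ∀ y ∈ Δ.Pan k z, f y = y)
    {z : C} (hz : f z = z) (hi : ℓ (ρ * Δ.δ c z) < ℓ (Δ.δ c z)) :
    ∀ n : ℕ, ∀ y, ℓ (Δ.δ z y) = n → ℓ (Δ.δ c z * Δ.δ z y) = ℓ (Δ.δ c z) + ℓ (Δ.δ z y) → f y = y := by
  intro n
  induction n with
  | zero =>
    intro y hy _
    rw [cs.length_eq_zero_iff] at hy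
    rw [← Δ.eq_of_δ_eq_one hy, hz]
  | succ n ih =>
    intro y hy hl
    have hne : Δ.δ z y ≠ 1 := by
      intro h
      rw [h, cs.length_one] at hy
      omega
    obtain ⟨k, hk⟩ := cs.exists_rightDescent_of_ne_one hne
    have hk' : ℓ (Δ.δ z y * cs.simple k) < ℓ (Δ.δ z y) := hk
    have hk2 : ℓ (Δ.δ z y * cs.simple k) + 1 = ℓ (Δ.δ z y) := by
      rcases cs.length_mul_simple (Δ.δ z y) k with h | h
      · omega
      · exact h
    obtain ⟨y', hy1, hy2⟩ := Δ.exists_between (x := z) (z := y) (v := Δ.δ z y * cs.simple k) (w := cs.simple k)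
      (by rw [cs.simple_mul_simple_cancel_right]) (by
        rw [cs.simple_mul_simple_cancel_right, cs.length_simple]; omega)
    have hl' : ℓ (Δ.δ c z * Δ.δ z y') = ℓ (Δ.δ c z) + ℓ (Δ.δ z y') := by
      have h1 := cs.length_mul_le (Δ.δ c z) (Δ.δ z y')
      have h2 := cs.length_mul_le (Δ.δ c z * Δ.δ z y') (cs.simple k)
      rw [hy1, mul_assoc, cs.simple_mul_simple_cancel_right, cs.length_simple] at h2
      rw [hy1] at h1 ⊢
      omega
    have h3 : f y' = y' := ih y' (by rw [hy1]; omega) hl'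
    have h4 : Δ.δ c y' = Δ.δ c z * Δ.δ z y' := Δ.δ_mul hl'
    refine fw y' h3 k ?_ y (Or.inr hy2)
    intro h5
    have h6 := inv_mono hi hl'
    have h7 : ρ * Δ.δ c y' = Δ.δ c y' * cs.simple k := by
      rw [← h5]
      group
    rw [← h4, h7, h4, mul_assoc, hy1, cs.simple_mul_simple_cancel_right, hl] at h6
    rw [hy1] at hl'
    omega

/-- the chambers before the wall -/
theorem fix_near (fw : ∀ z, f z = z → ∀ k, Δ.δ c z * cs.simple k * (Δ.δ c z)⁻¹ ≠ ρ → ∀ y ∈ Δ.Pan k z, f y = y)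
    (hc : f c = c) : ∀ n : ℕ, ∀ z, ℓ (Δ.δ c z) = n → ¬ ℓ (ρ * Δ.δ c z) < ℓ (Δ.δ c z) → f z = z := by
  intro n
  induction n with
  | zero =>
    intro z hz _
    rw [cs.length_eq_zero_iff] at hz
    rw [← Δ.eq_of_δ_eq_one hz, hc]
  | succ n ih =>
    intro z hz hi
    have hne : Δ.δ c z ≠ 1 := by
      intro h
      rw [h, cs.length_one] at hz
      omega
    obtain ⟨k, hk⟩ := cs.exists_rightDescent_of_ne_one hne
    have hk2 : ℓ (Δ.δ c z * cs.simple k) + 1 = ℓ (Δ.δ c z) := by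
      have hk' : ℓ (Δ.δ c z * cs.simple k) < ℓ (Δ.δ c z) := hk
      rcases cs.length_mul_simple (Δ.δ c z) k with h | h
      · omega
      · exact h
    obtain ⟨z', hz1, hz2⟩ := Δ.exists_between (x := c) (z := z) (v := Δ.δ c z * cs.simple k) (w := cs.simple k)
      (by rw [cs.simple_mul_simple_cancel_right]) (by
        rw [cs.simple_mul_simple_cancel_right, cs.length_simple]; omega)
    have e : Δ.δ c z = Δ.δ c z' * cs.simple k := by rw [hz1, cs.simple_mul_simple_cancel_right]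
    have h3 : f z' = z' := by
      apply ih z' (by rw [hz1]; omega)
      intro h4
      apply hi
      rw [e]
      apply inv_mono h4
      rw [cs.length_simple, ← e, hz1]
      omega
    refine fw z' h3 k ?_ z (Or.inr hz2)
    intro h5
    apply hi
    have h6 : ρ * Δ.δ c z = Δ.δ c z' := by
      rw [← h5, e]
      calc Δ.δ c z' * cs.simple k * (Δ.δ c z')⁻¹ * (Δ.δ c z' * cs.simple k)
          = Δ.δ c z' * (cs.simple k * cs.simple k) := by group
        _ = Δ.δ c z' := by rw [cs.simple_mul_simple_self, mul_one]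
    rw [h6, hz1]
    omega

end walk

/-! ### Rigidity -/

section rigid

variable {H : Type*} [Group H] {K : Subgroup H} [MulAction K C] (A : HAct Δ K)
  [F : OppRes.Cox cs] (S : Sys Δ K 2)

include A S

/-- an element which fixes the panels of `c` pointwise preserves the types -/
theorem φ_of_E1 [Nonempty I] (hth : Δ.Thick) {x : H} {c : C} (hxP : ∀ i, ∀ y ∈ Δ.Pan i c, A.θ x y = y) (w : W) :
    A.φ x w = w := by
  have hxc : A.θ x c = c := hxP (Classical.arbitrary I) c (Δ.self_mem_Pan _ c)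
  have h1 : ∀ i, A.φ x (cs.simple i) = cs.simple i := by
    intro i
    obtain ⟨y, -, -, hy, -⟩ := hth c i
    rw [← hy, ← A.δ_θ, hxc, hxP i y (Δ.mem_Pan_of_δ hy)]
  obtain ⟨ω, rfl⟩ := cs.wordProd_surjective w
  induction ω with
  | nil => simp
  | cons i ω ih => rw [cs.wordProd_cons, map_mul, ih, h1]

/-- **Rigidity.** -/
theorem eq_one_of_rigid [K.Normal] [Nonempty I] [IsSimpleGroup K] (hth : Δ.Thick)
    (hC : ∀ h : H, (∀ k ∈ K, h * k = k * h) → h = 1) {x : H} {c d : C}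
    (hxP : ∀ i, ∀ y ∈ Δ.Pan i c, A.θ x y = y) (hd : Δ.Opp c d) (hxd : A.θ x d = d) : x = 1 := by
  have : Nonempty C := ⟨c⟩
  have hφ : ∀ w, A.φ x w = w := φ_of_E1 A S hth hxP
  have hiso : ∀ a b, Δ.δ (A.θ x a) (A.θ x b) = Δ.δ a b := fun a b => by rw [A.δ_θ, hφ]
  have hall : ∀ y, A.θ x y = y := by
    intro y
    refine Rigid.rigid (Δ := Δ) (Δ' := Δ) hth (φ := fun y => A.θ x y) (ψ := fun y => y) (J := Set.univ) (c := c)
      (d := d) (fun a _ b _ => hiso a b) (fun a _ b _ => rfl) (fun i _ y hy => hxP i y hy) hd hxd y ?_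
    rw [Δ.Res_univ]; trivial
  apply hC
  intro k hk
  have h1 : (MulAut.conjNormal x ⟨k, hk⟩ : K) = ⟨k, hk⟩ := by
    rw [← mul_inv_eq_one]
    apply eq_one_of_smul S hth
    intro y
    rw [mul_smul]
    have h2 := θ_conj A S x ⟨k, hk⟩ ((⟨k, hk⟩ : K)⁻¹ • y)
    rw [smul_inv_smul, hall, hall] at h2
    exact h2.symm
  have h2 := congrArg Subtype.val h1
  rw [MulAut.conjNormal_apply] at h2
  exact mul_inv_eq_iff_eq_mul.1 h2

/-- **An element which fixes all panels of `c` pointwise lies in `U c`.** -/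
theorem mem_U_of_E1 [K.Normal] [Nonempty I] [IsSimpleGroup K] (hth : Δ.Thick)
    (hC : ∀ h : H, (∀ k ∈ K, h * k = k * h) → h = 1) {x : H} {c : C}
    (hxP : ∀ i, ∀ y ∈ Δ.Pan i c, A.θ x y = y) : ∃ u ∈ S.U c, (u : H) = x := by
  have : Nonempty C := ⟨c⟩
  have hxc : A.θ x c = c := hxP (Classical.arbitrary I) c (Δ.self_mem_Pan _ c)
  have hφ : ∀ w, A.φ x w = w := φ_of_E1 A S hth hxP
  have hiso : ∀ a b, Δ.δ (A.θ x a) (A.θ x b) = Δ.δ a b := fun a b => by rw [A.δ_θ, hφ]
  obtain ⟨d, hd⟩ := Δ.exists_δ c (w0 cs)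
  have hd' : Δ.Opp c (A.θ x d) := by
    change Δ.δ c (A.θ x d) = w0 cs
    have h1 := hiso c d
    rw [hxc] at h1
    rw [h1, hd]
  obtain ⟨u, hu, hud⟩ := S.trans c d (A.θ x d) hd hd'
  refine ⟨u, hu, ?_⟩
  have huc : u • c = c := S.fix c u hu
  -- `u` fixes the panels of `c`
  have hpan : ∀ i, ∀ y ∈ Δ.Pan i c, u • y = y := by
    intro i
    set p := Δ.proj {i} c d with hp
    have hpm : p ∈ Δ.Pan i c := by
      rw [Δ.Pan_eq_Res]
      exact Δ.proj_mem {i} c d
    have hproj := Δ.isProj_proj {i} c d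
    rw [← hp] at hproj
    -- the projection of `θ x d`
    have h1 : Δ.IsProj {i} c (A.θ x d) p := by
      refine ⟨hproj.1, fun a ha => ?_⟩
      have ha' : A.θ x a = a := hxP i a (by rw [Δ.Pan_eq_Res]; exact ha)
      have hp' : A.θ x p = p := hxP i p hpm
      have e1 : Δ.δ (A.θ x d) a = Δ.δ d a := by
        have h2 := hiso d a
        rwa [ha'] at h2
      have e2 : Δ.δ (A.θ x d) p = Δ.δ d p := by
        have h2 := hiso d p
        rwa [hp'] at h2
      rw [e1, e2]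
      exact hproj.2 a ha
    have h2 : Δ.IsProj {i} c (u • d) (u • p) := by
      refine ⟨?_, fun a ha => ?_⟩
      · rw [mem_Res]
        have h3 := S.iso u c p
        rw [huc] at h3
        rw [h3]
        exact hproj.1
      · have h3 : u⁻¹ • a ∈ Δ.Res {i} c := by
          rw [mem_Res]
          have h4 := S.iso u⁻¹ c a
          have h5 : u⁻¹ • c = c := inv_smul_eq_iff.2 huc.symm
          rw [h5] at h4
          rw [h4]
          exact ha
        have h4 := hproj.2 _ h3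
        have e1 : Δ.δ (u • d) a = Δ.δ d (u⁻¹ • a) := by
          rw [← S.iso u d (u⁻¹ • a), smul_inv_smul]
        have e2 : Δ.δ (u • p) a = Δ.δ p (u⁻¹ • a) := by
          rw [← S.iso u p (u⁻¹ • a), smul_inv_smul]
        have e3 : Δ.δ (u • d) (u • p) = Δ.δ d p := S.iso u d p
        rw [e1, e2, e3]
        exact h4
    rw [hud] at h2
    have h3 : u • p = p := by
      rw [← Δ.proj_eq_of_isProj h2, Δ.proj_eq_of_isProj h1]
    have hne : p ≠ c := by
      intro h4
      have h5 := hproj.isMinR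
      rw [isMinR_iff] at h5
      have h6 := h5 i rfl
      rw [h4, Δ.symm c d, hd, F.w0_inv] at h6
      have h7 := F.len_mul_w0 (cs.simple i)
      have h8 := F.len_w0_mul (cs.simple i)
      rw [cs.length_simple] at h8
      omega
    have h4 : Δ.δ c p = cs.simple i := by
      rcases hpm with h | h
      · exact absurd h hne
      · exact h
    intro y hy
    exact S.pan c p i h4 u hu h3 y hy
  -- `u⁻¹ x` is trivial
  have h1 : (u : H)⁻¹ * x = 1 := by
    refine eq_one_of_rigid A S hth hC (c := c) (d := d) ?_ hd ?_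
    · intro i y hy
      rw [A.θ_mul, hxP i y hy]
      have h2 := A.θ_K u y
      rw [hpan i y hy] at h2
      have h3 := A.θ_inv_θ (u : H) y
      rw [h2] at h3
      exact h3
    · rw [A.θ_mul]
      have h2 := A.θ_K u d
      rw [hud] at h2
      rw [← h2, A.θ_inv_θ]
  have h2 := inv_mul_eq_one.1 h1
  exact h2

end rigid

/-! ### Semiregularity -/

section semi

variable {H : Type*} [Group H] {K : Subgroup H} [MulAction K C] (A : HAct Δ K)
  [F : OppRes.Cox cs] (S : Sys Δ K 2) {c : C} {ρ : W}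

include A S

/-- **Semiregularity.** -/
theorem semi [K.Normal] [Nonempty I] [IsSimpleGroup K] (hth : Δ.Thick)
    (hC : ∀ h : H, (∀ k ∈ K, h * k = k * h) → h = 1) {x : H} (hxP : ∀ i, ∀ y ∈ Δ.Pan i c, A.θ x y = y)
    (fw : ∀ z, A.θ x z = z → ∀ k, Δ.δ c z * cs.simple k * (Δ.δ c z)⁻¹ ≠ ρ → ∀ y ∈ Δ.Pan k z, A.θ x y = y)
    {z : C} (hz : A.θ x z = z) (hi : ℓ (ρ * Δ.δ c z) < ℓ (Δ.δ c z)) : x = 1 := by
  obtain ⟨d, hd⟩ := Δ.exists_δ z ((Δ.δ c z)⁻¹ * w0 cs)
  have hl : ℓ (Δ.δ c z * Δ.δ z d) = ℓ (Δ.δ c z) + ℓ (Δ.δ z d) := by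
    have h1 := F.len_mul_w0 (Δ.δ c z)⁻¹
    rw [cs.length_inv] at h1
    rw [hd, mul_inv_cancel_left]
    omega
  have h1 : A.θ x d = d := fix_up (f := fun y => A.θ x y) fw hz hi _ d rfl hl
  refine eq_one_of_rigid A S hth hC hxP (d := d) ?_ h1
  change Δ.δ c d = w0 cs
  rw [Δ.δ_mul hl, hd, mul_inv_cancel_left]

/-- **The order of a group of such elements.** -/
theorem card_le [K.Normal] [Nonempty I] [IsSimpleGroup K] [Finite C] (hth : Δ.Thick)
    (hC : ∀ h : H, (∀ k ∈ K, h * k = k * h) → h = 1) {D : Subgroup H}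
    (hxP : ∀ x ∈ D, ∀ i, ∀ y ∈ Δ.Pan i c, A.θ x y = y)
    (fw : ∀ x ∈ D, ∀ z, A.θ x z = z → ∀ k, Δ.δ c z * cs.simple k * (Δ.δ c z)⁻¹ ≠ ρ → ∀ y ∈ Δ.Pan k z, A.θ x y = y)
    {v : W} {j : I} (hv : v * cs.simple j * v⁻¹ = ρ) (hlt : ℓ v < ℓ (v * cs.simple j)) {q : ℕ}
    (hq : ∀ x, Nat.card (Δ.Pan j x) = q + 1) : Nat.card D ≤ q := by
  classical
  have hvj : ℓ (v * cs.simple j) = ℓ v + 1 := by
    rcases cs.length_mul_simple v j with h | h
    · exact h
    · omega
  obtain ⟨y', hy'⟩ := Δ.exists_δ c v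
  obtain ⟨z, hyz, hcz⟩ := Δ.exists_step c y' j
  have hzl : Δ.δ c z = v * cs.simple j := by rw [hcz, hy']
  have e1 : ρ * v = v * cs.simple j := by rw [← hv]; group
  have e2 : ρ * (v * cs.simple j) = v := by
    rw [← hv]
    calc v * cs.simple j * v⁻¹ * (v * cs.simple j) = v * (cs.simple j * cs.simple j) := by group
      _ = v := by rw [cs.simple_mul_simple_self, mul_one]
  have hxc : ∀ x ∈ D, A.θ x c = c := fun x hx => hxP x hx (Classical.arbitrary I) c (Δ.self_mem_Pan _ c)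
  have hfy : ∀ x ∈ D, A.θ x y' = y' := by
    intro x hx
    refine fix_near (f := fun y => A.θ x y) (fw x hx) (hxc x hx) _ y' rfl ?_
    rw [hy', e1]
    omega
  have hiso : ∀ x ∈ D, ∀ a b, Δ.δ (A.θ x a) (A.θ x b) = Δ.δ a b := fun x hx a b => by
    rw [A.δ_θ, φ_of_E1 A S hth (hxP x hx)]
  let g : D → {y : Δ.Pan j y' // (y : C) ≠ y'} := fun x =>
    ⟨⟨A.θ (x : H) z, by
      have h1 := hiso x x.2 y' z
      rw [hfy x x.2, hyz] at h1
      exact Or.inr h1⟩, by
      intro h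
      have h1 : A.θ (x : H) z = A.θ (x : H) y' := by rw [hfy x x.2]; exact h
      exact Δ.ne_of_δ_simple hyz (A.θ_inj _ h1).symm⟩
  have hg : Function.Injective g := by
    rintro ⟨x, hx⟩ ⟨y, hy⟩ h
    have h1 : A.θ x z = A.θ y z := congrArg Subtype.val (congrArg Subtype.val h)
    have h2 : y⁻¹ * x = 1 := by
      refine semi A S hth hC (hxP _ (D.mul_mem (D.inv_mem hy) hx)) (fw _ (D.mul_mem (D.inv_mem hy) hx)) (z := z) ?_ ?_
      · rw [A.θ_mul, h1, A.θ_inv_θ]
      · rw [hzl, e2]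
        omega
    exact Subtype.ext (inv_mul_eq_one.1 h2).symm
  have hfin : Finite {y : Δ.Pan j y' // (y : C) ≠ y'} := inferInstance
  have h1 := Nat.card_le_card_of_injective g hg
  have h2 : Nat.card {y : Δ.Pan j y' // (y : C) ≠ y'} + 1 = Nat.card (Δ.Pan j y') := by
    have h3 : Nat.card {y : Δ.Pan j y' // ¬ (y : C) ≠ y'} = 1 := by
      have : Unique {y : Δ.Pan j y' // ¬ (y : C) ≠ y'} :=
        ⟨⟨⟨⟨y', Δ.self_mem_Pan j y'⟩, not_not.2 rfl⟩⟩, fun a => Subtype.ext (Subtype.ext (not_not.1 a.2))⟩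
      exact Nat.card_unique
    have h4 := Nat.card_congr (Equiv.sumCompl (fun y : Δ.Pan j y' => (y : C) ≠ y'))
    rw [Nat.card_sum, h3] at h4
    exact h4
  rw [hq] at h2
  omega

end semi

end Cfsg.Agent.Omega.ML.Ex.WallSemi
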