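import Cfsg.Agent.Omega.ML.Ex.Wall
import Cfsg.Agent.Omega.ML.Ex.WallGood
import Cfsg.Agent.Omega.ML.Ex.WallSemi

/-!
# The WALL THEOREM, part (5): one non-trivial wall

* `fix_all` : the members of `F` in `O₂(D₁)` fix pointwise all panels on trivial walls which they stabilise;
* `card_le_of_wall` : if there is only one non-trivial wall `ρ = v s_j v⁻¹` for the type of `D₁`, then a member of `F` in
  `O₂(D₁)` has order at most `q`, `q + 1` the size of the panels of type `j`;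
* `free_of_wall` : it acts freely on the chambers `≠ y'` of a panel `Pan j y'`, fixing `y'`;
* `exists_rho` : type `B_n` : the exceptional reflection is conjugate to the last simple reflection;
* `card_le_B`, `free_B` : type `B_n`, `J₁` the complement of the first node.
-/

set_option autoImplicit false
set_option linter.unusedSectionVars false

namespace Cfsg.Agent.Omega.ML.Ex.WallSemi

open Cfsg.Agent.Tits.Core Cfsg.Agent.Tits.Core.Bldg Cfsg.Agent.Tits.Exchange Cfsg.Agent.Tits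
open Cfsg.Agent.FixBN Cfsg.Agent.FixBN.Cox Cfsg.Agent.UGT.U2.FOne Cfsg.Agent.ZN
open Cfsg.Agent.Omega.ML.LieRow Cfsg.Agent.Omega.ML.Ex.Wall
open Cfsg.Agent.MinSimple.VModule (o2_isPGroup o2_le le_o2 le_normalizer_o2 o2_le_of_sylow mem_normalizer_of_map_le)

variable {I : Type*} {M : CoxeterMatrix I} {W : Type*} [Group W] {cs : CoxeterSystem M W} {C : Type*}
  {Δ : Bldg cs C}

local prefix:100 "ℓ" => cs.length

section main

variable {H : Type*} [Group H] {K : Subgroup H} [MulAction K C] (A : HAct Δ K)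
variable [F : OppRes.Cox cs] (S : Sys Δ K 2) {T : Subgroup H}

include A S

variable [K.Normal] [Finite H] [Nonempty I] [IsSimpleGroup K] (hth : Δ.Thick)
  (hC : ∀ h : H, (∀ k ∈ K, h * k = k * h) → h = 1) (hT : IsPGroup 2 T) (hTi : ¬ 2 ∣ T.index)
  (hKT : K ⊔ T = ⊤) (htr : ¬ ∀ i j : I, ∃ t ∈ T, A.σ t i = j) {c : C} (hc : ∀ t ∈ T, A.θ t c = c)
  (hUc : S.U c = T.subgroupOf K) {FF : Set (Subgroup H)}
  (hinv : ∀ B ∈ FF, ∀ h : H, B.map (MulAut.conj h).toMonoidHom ∈ FF)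

include hth hC hT hTi hKT htr hc hUc hinv

/-- the members of `F` in `O₂(D₁)` fix the residues of the chambers of the residue of `D₁` -/
theorem fix_res {D₁ : Subgroup H} (hTD : T ≤ D₁)
    (la : ∀ B ∈ FF, B ≤ o2 D₁ → ∀ R : Subgroup H, T ≤ R → R ≠ ⊤ → B ≤ o2 R) {B : Subgroup H} (hB : B ∈ FF)
    (hBD : B ≤ o2 D₁) {b : H} (hb : b ∈ B) :
    ∀ x ∈ Δ.Res (tp Δ (D₁.subgroupOf K) c) c, ∀ L : Set I, A.Inv L → L ≠ Set.univ → ∀ y ∈ Δ.Res L x,
      A.θ b y = y := by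
  have : Nonempty C := ⟨c⟩
  have hU : S.U c ≤ D₁.subgroupOf K := by
    rw [hUc]
    exact fun k hk => hTD hk
  intro x hx L hL hLu y hy
  obtain ⟨g, hgD, rfl⟩ := exists_smul S hU hx
  have hgD' : (g : H) ∈ D₁ := hgD
  have hlowg : Low A c ((g : H)⁻¹ * b * (g : H)) := by
    have h1 := hinv B hB (g : H)⁻¹
    refine low_of_o2 A S hth hT hTi hKT htr hc (fun R hTR hR => la _ h1 ?_ R hTR hR ?_)
    · rintro _ ⟨b', hb', rfl⟩
      have h2 := le_normalizer_o2 D₁ (inv_mem hgD')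
      exact (Subgroup.mem_normalizer_iff.1 h2 b').1 (hBD hb')
    · exact ⟨b, hb, by simp⟩
  have h2 : A.θ ((g : H)⁻¹) y ∈ Δ.Res L c := by
    change Δ.δ c (A.θ ((g : H)⁻¹) y) ∈ WJ cs L
    have h3 : A.θ ((g : H)⁻¹) y = g⁻¹ • y := by
      rw [← Subgroup.coe_inv, A.θ_K]
    have hy' : Δ.δ (g • c) y ∈ WJ cs L := hy
    rw [h3]
    rw [← S.iso g, smul_inv_smul]
    exact hy'
  have h1 := hlowg.res L hL hLu _ h2
  have h3 : A.θ ((g : H)⁻¹ * b * g) (A.θ ((g : H)⁻¹) y) = A.θ ((g : H)⁻¹) (A.θ b y) := by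
    rw [← A.θ_mul, ← A.θ_mul]
    congr 1
    group
  rw [h3] at h1
  exact A.θ_inj _ h1

/-- **Panels on trivial walls.** -/
theorem fix_all {D₁ : Subgroup H} (hTD : T ≤ D₁)
    (la : ∀ B ∈ FF, B ≤ o2 D₁ → ∀ R : Subgroup H, T ≤ R → R ≠ ⊤ → B ≤ o2 R) {B : Subgroup H} (hB : B ∈ FF)
    (hBD : B ≤ o2 D₁) {b : H} (hb : b ∈ B) {z : C} (hz : A.θ b z = z) {k : I}
    (htriv : Triv A (tp Δ (D₁.subgroupOf K) c) (Δ.δ c z * cs.simple k * (Δ.δ c z)⁻¹)) :
    ∀ y ∈ Δ.Pan k z, A.θ b y = y := by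
  have : Nonempty C := ⟨c⟩
  have hlow : Low A c b := low_of_o2 A S hth hT hTi hKT htr hc (fun R hTR hR => la B hB hBD R hTR hR hb)
  exact fix_of_triv (A := A) hlow.iso (fix_res A S hth hC hT hTi hKT htr hc hUc hinv hTD la hB hBD hb) htriv hz

/-- **One non-trivial wall**: the order. -/
theorem card_le_of_wall [Finite C] {D₁ : Subgroup H} (hTD : T ≤ D₁)
    (la : ∀ B ∈ FF, B ≤ o2 D₁ → ∀ R : Subgroup H, T ≤ R → R ≠ ⊤ → B ≤ o2 R) {B : Subgroup H} (hB : B ∈ FF)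
    (hBD : B ≤ o2 D₁) {ρ : W}
    (htriv : ∀ g k, g * cs.simple k * g⁻¹ ≠ ρ → Triv A (tp Δ (D₁.subgroupOf K) c) (g * cs.simple k * g⁻¹))
    {v : W} {j : I} (hv : v * cs.simple j * v⁻¹ = ρ) {q : ℕ} (hq : ∀ x, Nat.card (Δ.Pan j x) = q + 1) :
    Nat.card B ≤ q := by
  have : Nonempty C := ⟨c⟩
  have hlow : ∀ b ∈ B, Low A c b := fun b hb =>
    low_of_o2 A S hth hT hTi hKT htr hc (fun R hTR hR => la B hB hBD R hTR hR hb)
  have fw : ∀ x ∈ B, ∀ z, A.θ x z = z → ∀ k, Δ.δ c z * cs.simple k * (Δ.δ c z)⁻¹ ≠ ρ → ∀ y ∈ Δ.Pan k z, A.θ x y = y :=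
    fun x hx z hz k hk => fix_all A S hth hC hT hTi hKT htr hc hUc hinv hTD la hB hBD hx hz (htriv _ _ hk)
  by_cases hlt : ℓ v < ℓ (v * cs.simple j)
  · exact card_le A S hth hC (fun x hx => (hlow x hx).pan) fw hv hlt hq
  · have h1 : ℓ (v * cs.simple j) < ℓ (v * cs.simple j * cs.simple j) := by
      rw [cs.simple_mul_simple_cancel_right]
      have := cs.length_mul_simple v j
      omega
    refine card_le A S hth hC (fun x hx => (hlow x hx).pan) fw (v := v * cs.simple j) (j := j) ?_ h1 hq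
    rw [← hv, mul_inv_rev, cs.inv_simple]
    simp only [mul_assoc, cs.simple_mul_simple_cancel_left]

/-- **One non-trivial wall**: the action on a panel. -/
theorem free_of_wall {D₁ : Subgroup H} (hTD : T ≤ D₁)
    (la : ∀ B ∈ FF, B ≤ o2 D₁ → ∀ R : Subgroup H, T ≤ R → R ≠ ⊤ → B ≤ o2 R) {B : Subgroup H} (hB : B ∈ FF)
    (hBD : B ≤ o2 D₁) {ρ : W}
    (htriv : ∀ g k, g * cs.simple k * g⁻¹ ≠ ρ → Triv A (tp Δ (D₁.subgroupOf K) c) (g * cs.simple k * g⁻¹))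
    {v : W} {j : I} (hv : v * cs.simple j * v⁻¹ = ρ) :
    ∃ y', (∀ b ∈ B, A.θ b y' = y') ∧ ∀ b ∈ B, ∀ z, Δ.δ y' z = cs.simple j → A.θ b z = z → b = 1 := by
  have : Nonempty C := ⟨c⟩
  obtain ⟨v, hv, hlt⟩ : ∃ v, v * cs.simple j * v⁻¹ = ρ ∧ ℓ v < ℓ (v * cs.simple j) := by
    by_cases hlt : ℓ v < ℓ (v * cs.simple j)
    · exact ⟨v, hv, hlt⟩
    · refine ⟨v * cs.simple j, ?_, ?_⟩
      · rw [← hv, mul_inv_rev, cs.inv_simple]
        simp only [mul_assoc, cs.simple_mul_simple_cancel_left]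
      · rw [cs.simple_mul_simple_cancel_right]
        have := cs.length_mul_simple v j
        omega
  have hlow : ∀ b ∈ B, Low A c b := fun b hb =>
    low_of_o2 A S hth hT hTi hKT htr hc (fun R hTR hR => la B hB hBD R hTR hR hb)
  have fw : ∀ x ∈ B, ∀ z, A.θ x z = z → ∀ k, Δ.δ c z * cs.simple k * (Δ.δ c z)⁻¹ ≠ ρ → ∀ y ∈ Δ.Pan k z, A.θ x y = y :=
    fun x hx z hz k hk => fix_all A S hth hC hT hTi hKT htr hc hUc hinv hTD la hB hBD hx hz (htriv _ _ hk)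
  obtain ⟨y', hy'⟩ := Δ.exists_δ c v
  have e1 : ρ * v = v * cs.simple j := by rw [← hv]; group
  have e2 : ρ * (v * cs.simple j) = v := by
    rw [← hv]
    calc v * cs.simple j * v⁻¹ * (v * cs.simple j) = v * (cs.simple j * cs.simple j) := by group
      _ = v := by rw [cs.simple_mul_simple_self, mul_one]
  refine ⟨y', fun b hb => ?_, fun b hb z hz hbz => ?_⟩
  · refine fix_near (f := fun y => A.θ b y) (fw b hb)
      ((hlow b hb).pan (Classical.arbitrary I) c (Δ.self_mem_Pan _ c)) _ y' rfl ?_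
    rw [hy', e1]
    omega
  · have h1 : Δ.δ c z = v * cs.simple j := by
      rw [Δ.step_lt c y' z j hz (by rw [hy']; exact hlt), hy']
    refine semi A S hth hC (hlow b hb).pan (fw b hb) hbz ?_
    rw [h1, e2]
    exact hlt

end main

/-! ### Type `B_n` -/

section TypeB

open Cfsg.Agent.Nodes.TypeC Cfsg.Agent.Nodes.Comb CoxeterSystem Cfsg.Agent.ChevalleyStructure.CoxeterGeom
  Cfsg.Agent.Tits.Roots

variable {n : ℕ} {W : Type*} [Group W] (cs : CoxeterSystem (CoxeterMatrix.B n) W)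

/-- the exceptional reflection is conjugate to the last simple reflection -/
theorem exists_rho (hn : 0 < n) : ∃ v : W, ee (rep cs (isCartan n) v (sr ⟨n - 1, by omega⟩)) =
    wt (⟨0, hn⟩, true) + wt (⟨0, hn⟩, true) := by
  have key : ∀ d : ℕ, ∀ q : Fin n, (q : ℕ) + d + 1 = n → ∃ v : W,
      ee (rep cs (isCartan n) v (sr ⟨n - 1, by omega⟩)) = wt (q, true) + wt (q, true) := by
    intro d
    induction d with
    | zero =>
      intro q hq
      refine ⟨1, ?_⟩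
      have hq' : (⟨n - 1, by omega⟩ : Fin n) = q := Fin.ext (by simp only; omega)
      rw [map_one, Module.End.one_apply, hq', ee_sr, bt, nx, dif_neg (by omega)]
    | succ d ih =>
      intro q hq
      obtain ⟨v, hv⟩ := ih ⟨(q : ℕ) + 1, by omega⟩ (by simp only; omega)
      refine ⟨cs.simple q * v, ?_⟩
      rw [rep_mul_apply, WallGood.ee_rep_simple cs hv q, sg_down (by omega)]
  exact key (n - 1) ⟨0, hn⟩ (by simp only; omega)

/-- **Type `B_n`** : all reflections but one are trivial for the complement of the first node. -/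
theorem triv_B {C : Type*} {Δ : Bldg cs C} {H : Type*} [Group H] {K : Subgroup H} [MulAction K C] (A : HAct Δ K)
    (hn : 2 ≤ n) (hLL : ∀ L : Set (Fin n), L ≠ Set.univ → A.Inv L) :
    ∃ v : W, ∀ g k, g * cs.simple k * g⁻¹ ≠ v * cs.simple ⟨n - 1, by omega⟩ * v⁻¹ →
      Triv A {k : Fin n | (k : ℕ) ≠ 0} (g * cs.simple k * g⁻¹) := by
  obtain ⟨v, hv⟩ := exists_rho cs (n := n) (by omega)
  refine ⟨v, fun g k hgk => ?_⟩
  rcases WallGood.trivB cs hn (LL := fun L => A.Inv L ∧ L ≠ Set.univ) (fun L hL => ⟨hLL L hL, hL⟩) g k with h | ⟨s, hs⟩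
  · obtain ⟨w, hw, L, ⟨hL, hLu⟩, l, hl, m, hm, e⟩ := h
    refine ⟨L, hL, hLu, w, hw, l, hl, m, hm, ?_⟩
    rw [e]
    group
  · exact absurd (WallGood.unique_of_ee cs hs hv) hgk

end TypeB

section rowB

variable {n : ℕ} {W : Type*} [Group W] {cs : CoxeterSystem (CoxeterMatrix.B n) W} {C : Type*} {Δ : Bldg cs C}
  {H : Type*} [Group H] {K : Subgroup H} [MulAction K C] (A : HAct Δ K)
  [F : OppRes.Cox cs] (S : Sys Δ K 2) {T : Subgroup H}

include A S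

variable [K.Normal] [Finite H] [IsSimpleGroup K] (hth : Δ.Thick)
  (hC : ∀ h : H, (∀ k ∈ K, h * k = k * h) → h = 1) (hT : IsPGroup 2 T) (hTi : ¬ 2 ∣ T.index)
  (hKT : K ⊔ T = ⊤) {c : C} (hc : ∀ t ∈ T, A.θ t c = c)
  (hUc : S.U c = T.subgroupOf K) {FF : Set (Subgroup H)}
  (hinv : ∀ B ∈ FF, ∀ h : H, B.map (MulAut.conj h).toMonoidHom ∈ FF)

include hth hC hT hTi hKT hc hUc hinv

/-- **Type `B_n`**, type of `D₁` the complement of the first node: `|B| ≤ q`. -/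
theorem card_le_B [Finite C] (hn : 2 ≤ n) (hLL : ∀ L : Set (Fin n), L ≠ Set.univ → A.Inv L) {D₁ : Subgroup H}
    (hTD : T ≤ D₁) (hJ : tp Δ (D₁.subgroupOf K) c = {k : Fin n | (k : ℕ) ≠ 0})
    (la : ∀ B ∈ FF, B ≤ o2 D₁ → ∀ R : Subgroup H, T ≤ R → R ≠ ⊤ → B ≤ o2 R) {B : Subgroup H} (hB : B ∈ FF)
    (hBD : B ≤ o2 D₁) {q : ℕ} (hq : ∀ x, Nat.card (Δ.Pan ⟨n - 1, by omega⟩ x) = q + 1) : Nat.card B ≤ q := by
  have : Nonempty (Fin n) := ⟨⟨0, by omega⟩⟩
  have htr : ¬ ∀ i j : Fin n, ∃ t ∈ T, A.σ t i = j := by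
    intro h
    obtain ⟨t, -, ht⟩ := h ⟨0, by omega⟩ ⟨1, by omega⟩
    have h1 : A.Inv ({⟨0, by omega⟩} : Set (Fin n)) := by
      apply hLL
      intro h2
      have h3 : (⟨1, by omega⟩ : Fin n) ∈ ({⟨0, by omega⟩} : Set (Fin n)) := by rw [h2]; trivial
      rw [Set.mem_singleton_iff, Fin.ext_iff] at h3
      simp at h3
    have h2 := h1 t _ rfl
    rw [ht, Set.mem_singleton_iff, Fin.ext_iff] at h2
    simp at h2
  obtain ⟨v, hv⟩ := triv_B cs A hn hLL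
  refine card_le_of_wall A S hth hC hT hTi hKT htr hc hUc hinv hTD la hB hBD (v := v)
    (ρ := v * cs.simple ⟨n - 1, by omega⟩ * v⁻¹) ?_ rfl hq
  intro g k hgk
  rw [hJ]
  exact hv g k hgk

/-- **Type `B_n`**, type of `D₁` the complement of the first node: `B` acts freely on `Pan ∖ {y'}`. -/
theorem free_B (hn : 2 ≤ n) (hLL : ∀ L : Set (Fin n), L ≠ Set.univ → A.Inv L) {D₁ : Subgroup H}
    (hTD : T ≤ D₁) (hJ : tp Δ (D₁.subgroupOf K) c = {k : Fin n | (k : ℕ) ≠ 0})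
    (la : ∀ B ∈ FF, B ≤ o2 D₁ → ∀ R : Subgroup H, T ≤ R → R ≠ ⊤ → B ≤ o2 R) {B : Subgroup H} (hB : B ∈ FF)
    (hBD : B ≤ o2 D₁) :
    ∃ y', (∀ b ∈ B, A.θ b y' = y') ∧ ∀ b ∈ B, ∀ z, Δ.δ y' z = cs.simple ⟨n - 1, by omega⟩ → A.θ b z = z → b = 1 := by
  have : Nonempty (Fin n) := ⟨⟨0, by omega⟩⟩
  have htr : ¬ ∀ i j : Fin n, ∃ t ∈ T, A.σ t i = j := by
    intro h
    obtain ⟨t, -, ht⟩ := h ⟨0, by omega⟩ ⟨1, by omega⟩
    have h1 : A.Inv ({⟨0, by omega⟩} : Set (Fin n)) := by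
      apply hLL
      intro h2
      have h3 : (⟨1, by omega⟩ : Fin n) ∈ ({⟨0, by omega⟩} : Set (Fin n)) := by rw [h2]; trivial
      rw [Set.mem_singleton_iff, Fin.ext_iff] at h3
      simp at h3
    have h2 := h1 t _ rfl
    rw [ht, Set.mem_singleton_iff, Fin.ext_iff] at h2
    simp at h2
  obtain ⟨v, hv⟩ := triv_B cs A hn hLL
  refine free_of_wall A S hth hC hT hTi hKT htr hc hUc hinv hTD la hB hBD (v := v)
    (ρ := v * cs.simple ⟨n - 1, by omega⟩ * v⁻¹) ?_ rfl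
  intro g k hgk
  rw [hJ]
  exact hv g k hgk

end rowB

end Cfsg.Agent.Omega.ML.Ex.WallSemi
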