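import Cfsg.Agent.Omega.ML.LieRow.Act

/-!
# The WALL THEOREM, the building part (helper721)

`K` is a simple normal subgroup of `H = K T` acting on its building `Δ`, `C_H(K) = 1`, `T` a Sylow 2-subgroup of `H` in at
least two maximal subgroups, `T ≤ D₀ < H`. `F` is an `H`-invariant family of subgroups such that the members in `O₂(D₀)`
lie in `O₂(R)` for all `T ≤ R < H`. Then all members of `F` in `O₂(D₀)` are trivial, provided that the reflections
`s_i r s_i` (`r` a reflection of `W_{J₀}`, `i ∉ J₀`, `J₀` the type of `D₀`) are *trivial walls* (`Triv`): conjugate by an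
element of `W_{J₀}` to a reflection of `W_L`, `L ≠ I` invariant.

* `exists_pos`, `parallel`, `Triv`, `fix_of_triv`, `wall` : the building part;
* `low_fix`, `low_mem` : elements of `⋂ O₂(R)` lie in `K` and fix the residues;
* `wall_main` : the theorem;  `wall_of_red` : for `s_i r = r s_i ∨ s_i r s_i = r s_i r`.
-/

set_option autoImplicit false
set_option linter.unusedSectionVars false

namespace Cfsg.Agent.Omega.ML.Ex.Wall

open Cfsg.Agent.Tits.Core Cfsg.Agent.Tits.Core.Bldg Cfsg.Agent.Tits.Exchange Cfsg.Agent.Tits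
open Cfsg.Agent.FixBN Cfsg.Agent.FixBN.Cox Cfsg.Agent.UGT.U2.FOne Cfsg.Agent.ZN Cfsg.Agent.Omega.ML.LieRow

variable {I : Type*} {M : CoxeterMatrix I} {W : Type*} [Group W] {cs : CoxeterSystem M W} {C : Type*}
  {Δ : Bldg cs C}

local prefix:100 "ℓ" => cs.length

section building

/-- a chamber in a given position with respect to two chambers -/
theorem exists_pos (x z : C) (v : W) : ∃ x', Δ.δ x x' = v ∧ Δ.δ z x' = Δ.δ z x * v := by
  have key : ∀ n : ℕ, ∀ v : W, ℓ v = n → ∃ x', Δ.δ x x' = v ∧ Δ.δ z x' = Δ.δ z x * v := by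
    intro n
    induction n with
    | zero =>
      intro v hv
      have h1 : v = 1 := cs.length_eq_zero_iff.1 hv
      subst h1
      exact ⟨x, Δ.δ_self x, (mul_one _).symm⟩
    | succ n ih =>
      intro v hv
      have hne : v ≠ 1 := by
        rintro rfl
        rw [cs.length_one] at hv
        omega
      obtain ⟨k, hk⟩ := cs.exists_rightDescent_of_ne_one hne
      have hk' : ℓ (v * cs.simple k) < ℓ v := hk
      have hl : ℓ (v * cs.simple k) = n := by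
        have := cs.length_mul_simple v k
        omega
      obtain ⟨x₁, h1, h2⟩ := ih _ hl
      obtain ⟨x', h3, h4⟩ := Δ.exists_step z x₁ k
      refine ⟨x', ?_, ?_⟩
      · rw [Δ.step_lt x x₁ x' k h3 (by rw [h1, mul_assoc, cs.simple_mul_simple_self, mul_one]; exact hk'), h1,
          mul_assoc, cs.simple_mul_simple_self, mul_one]
      · rw [h4, h2]
        simp only [mul_assoc, cs.simple_mul_simple_self, mul_one]
  exact key _ v rfl

/-- the gate of a panel is determined by its distance -/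
theorem eq_of_gate {x y z : C} {j : I} (hyz : z ∈ Δ.Pan j y) (h : Δ.δ x z = Δ.δ x y)
    (hl : ℓ (Δ.δ x y) < ℓ (Δ.δ x y * cs.simple j)) : z = y := by
  rcases hyz with h1 | h1
  · exact h1
  · exfalso
    have h2 := Δ.step_lt x y z j h1 hl
    rw [h] at h2
    have h3 := congrArg cs.length h2
    omega

/-- **Parallel panels.** -/
theorem parallel {f : C → C} (iso : ∀ a b, Δ.δ (f a) (f b) = Δ.δ a b) {x' y' : C} {k j : I}
    (hm : cs.simple k * Δ.δ x' y' = Δ.δ x' y' * cs.simple j) (hx : ∀ z ∈ Δ.Pan k x', f z = z) (hy' : f y' = y') :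
    ∀ y ∈ Δ.Pan j y', f y = y := by
  intro y hy
  have hfx : f x' = x' := hx x' (Δ.self_mem_Pan k x')
  rcases hy with rfl | hy
  · exact hy'
  -- the other end
  obtain ⟨z, hz, hgl⟩ : ∃ z ∈ Δ.Pan k x', ℓ (Δ.δ z y) < ℓ (Δ.δ z y * cs.simple j) := by
    by_cases h1 : ℓ (Δ.δ x' y') < ℓ (Δ.δ x' y' * cs.simple j)
    · have h2 := Δ.step_lt x' y' y j hy h1
      have h3 : cs.simple k * Δ.δ x' y = Δ.δ x' y' := by
        rw [h2, ← hm, ← mul_assoc, cs.simple_mul_simple_self, one_mul]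
      obtain ⟨z, hz1, hz2⟩ := exists_first Δ (x := x') (y := y) (i := k) (by rw [h3, h2]; exact h1)
      exact ⟨z, Or.inr hz1, by rw [hz2, h3]; exact h1⟩
    · have h1' : ℓ (Δ.δ x' y' * cs.simple j) < ℓ (Δ.δ x' y') := by
        have := cs.length_mul_simple (Δ.δ x' y') j
        omega
      rcases Δ.step x' y' y j hy with h2 | h2
      · refine ⟨x', Δ.self_mem_Pan k x', ?_⟩
        rw [h2, mul_assoc, cs.simple_mul_simple_self, mul_one]
        exact h1'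
      · have h3 : ℓ (cs.simple k * Δ.δ x' y) < ℓ (Δ.δ x' y) := by
          rw [h2, hm]; exact h1'
        obtain ⟨z, hz1, hz2⟩ := exists_first Δ h3
        refine ⟨z, Or.inr hz1, ?_⟩
        rw [hz2, h2, hm, mul_assoc, cs.simple_mul_simple_self, mul_one]
        exact h1'
  have h4 : Δ.δ z (f y) = Δ.δ z y := by
    conv_lhs => rw [← hx z hz]
    exact iso z y
  refine eq_of_gate (j := j) ?_ h4 hgl
  have h5 : Δ.δ y' (f y) = cs.simple j := by
    conv_lhs => rw [← hy']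
    rw [iso, hy]
  have h6 : y ∈ Δ.Pan j y' := Or.inr hy
  have h7 : f y ∈ Δ.Pan j y' := Or.inr h5
  by_cases h8 : f y = y
  · exact Or.inl h8
  · exact Or.inr (Δ.δ_eq_of_mem_Pan h6 h7 (Ne.symm h8))

end building

section triv

variable {H : Type*} [Group H] {K : Subgroup H} [MulAction K C] (A : HAct Δ K)

/-- trivial walls -/
def Triv (J₀ : Set I) (ρ : W) : Prop :=
  ∃ L : Set I, A.Inv L ∧ L ≠ Set.univ ∧ ∃ v ∈ WJ cs J₀, ∃ a ∈ WJ cs L, ∃ k ∈ L,
    ρ = v * a * cs.simple k * (v * a)⁻¹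

variable {A}

/-- panels on trivial walls are fixed -/
theorem fix_of_triv {f : C → C} (iso : ∀ a b, Δ.δ (f a) (f b) = Δ.δ a b) {c y' : C} {j : I} {J₀ : Set I}
    (hf : ∀ x ∈ Δ.Res J₀ c, ∀ L : Set I, A.Inv L → L ≠ Set.univ → ∀ y ∈ Δ.Res L x, f y = y)
    (hT : Triv A J₀ (Δ.δ c y' * cs.simple j * (Δ.δ c y')⁻¹)) (hy' : f y' = y') : ∀ y ∈ Δ.Pan j y', f y = y := by
  obtain ⟨L, hL, hLu, v, hv, a, ha, k, hk, h⟩ := hT
  obtain ⟨x, hx1, hx2⟩ := exists_pos (Δ := Δ) c y' v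
  obtain ⟨x', hx3, hx4⟩ := exists_pos (Δ := Δ) x y' a
  have hxR : x ∈ Δ.Res J₀ c := by
    change Δ.δ c x ∈ WJ cs J₀
    rw [hx1]; exact hv
  have h1 : Δ.δ x' y' = (v * a)⁻¹ * Δ.δ c y' := by
    rw [Δ.symm y' x', hx4, hx2, Δ.symm c y']
    group
  have h2 : cs.simple k * Δ.δ x' y' = Δ.δ x' y' * cs.simple j := by
    rw [h1]
    have h3 : Δ.δ c y' * cs.simple j = v * a * cs.simple k * (v * a)⁻¹ * Δ.δ c y' := by
      rw [← h]; group
    rw [mul_assoc ((v * a)⁻¹), h3]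
    group
  refine parallel iso h2 (fun z hz => hf x hxR L hL hLu z ?_) hy'
  have h4 : x' ∈ Δ.Res L x := by
    change Δ.δ x x' ∈ WJ cs L
    rw [hx3]; exact ha
  have h5 := Δ.Pan_subset_Res hk x' hz
  rw [Δ.Res_eq_of_mem h4] at h5
  exact h5

/-- **The walls.** -/
theorem wall [F : OppRes.Cox cs] {f : C → C} (iso : ∀ a b, Δ.δ (f a) (f b) = Δ.δ a b) {c : C} {J₀ : Set I}
    (hJ₀ : A.Inv J₀) (hJ₀u : J₀ ≠ Set.univ) {i : I} (hi : i ∉ J₀)
    (hf : ∀ x ∈ Δ.Res J₀ c, ∀ L : Set I, A.Inv L → L ≠ Set.univ → ∀ y ∈ Δ.Res L x, f y = y)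
    (hPc : ∀ y ∈ Δ.Pan i c, f y = y)
    (cond : ∀ v ∈ WJ cs J₀, ∀ j ∈ J₀, Triv A J₀ (cs.simple i * (v * cs.simple j * v⁻¹) * cs.simple i)) :
    ∀ c' ∈ Δ.Pan i c, ∀ y ∈ Δ.Res J₀ c', f y = y := by
  intro c' hc'
  rcases hc' with rfl | hcc'
  · exact hf c' (by change Δ.δ c' c' ∈ WJ cs J₀; rw [Δ.δ_self]; exact one_mem _) J₀ hJ₀ hJ₀u
  have hfc' : f c' = c' := hPc c' (Or.inr hcc')
  have key : ∀ n : ℕ, ∀ y ∈ Δ.Res J₀ c', ℓ (Δ.δ c' y) = n → f y = y := by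
    intro n
    induction n using Nat.strong_induction_on with
    | _ n ih =>
      intro y hy hn
      by_cases h1 : Δ.δ c' y = 1
      · rw [← Δ.eq_of_δ_eq_one h1]; exact hfc'
      obtain ⟨j, hj⟩ := cs.exists_rightDescent_of_ne_one h1
      have hj' : ℓ (Δ.δ c' y * cs.simple j) < ℓ (Δ.δ c' y) := hj
      have hyW : Δ.δ c' y ∈ WJ cs J₀ := hy
      have hjJ : j ∈ J₀ := F.descent_mem J₀ _ hyW j hj'
      obtain ⟨y', h2, h3⟩ := Δ.exists_step c' y j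
      have hw' : Δ.δ c' y' ∈ WJ cs J₀ := by
        rw [h3]; exact mul_mem hyW (simple_mem_WJ cs hjJ)
      have hfy' : f y' = y' := ih _ (by rw [← hn, h3]; exact hj') y' hw' rfl
      have hyy' : Δ.δ y' y = cs.simple j := Δ.δ_symm_simple h2
      -- the distance from `c`
      have hsym : Δ.δ c' c = cs.simple i := Δ.δ_symm_simple hcc'
      have h4 : ℓ (Δ.δ y' c') < ℓ (Δ.δ y' c' * cs.simple i) := by
        by_contra h5
        have h6 := cs.length_mul_simple (Δ.δ y' c') i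
        apply hi
        refine F.descent_mem J₀ (Δ.δ y' c') ?_ i (by omega)
        rw [Δ.symm c' y']
        exact inv_mem hw'
      have h5 := Δ.step_lt y' c' c i hsym h4
      have h6 : Δ.δ c y' = cs.simple i * Δ.δ c' y' := by
        rw [Δ.symm y' c, h5, mul_inv_rev, cs.inv_simple, Δ.symm c' y', inv_inv]
      refine fix_of_triv (A := A) (J₀ := J₀) (j := j) iso hf ?_ hfy' y (Or.inr hyy')
      have h7 := cond _ hw' j hjJ
      rw [h6]
      have e : cs.simple i * Δ.δ c' y' * cs.simple j * (cs.simple i * Δ.δ c' y')⁻¹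
          = cs.simple i * (Δ.δ c' y' * cs.simple j * (Δ.δ c' y')⁻¹) * cs.simple i := by
        rw [mul_inv_rev, cs.inv_simple]
        group
      rw [e]
      exact h7
  exact fun y hy => key _ y hy rfl

end triv

/-! ### The group part -/

section group

variable {H : Type*} [Group H] {K : Subgroup H} [MulAction K C] (A : HAct Δ K) [F : OppRes.Cox cs] (S : Sys Δ K 2)

/-- the elements which fix the residues of proper invariant type and the panels at `c` -/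
structure Low (c : C) (x : H) : Prop where
  res : ∀ L : Set I, A.Inv L → L ≠ Set.univ → ∀ y ∈ Δ.Res L c, A.θ x y = y
  pan : ∀ i, ∀ y ∈ Δ.Pan i c, A.θ x y = y
  iso : ∀ a b, Δ.δ (A.θ x a) (A.θ x b) = Δ.δ a b

include A S

/-- `H` is faithful on the chambers -/
theorem eq_one_of_θ [K.Normal] [Nonempty I] [Nonempty C] [IsSimpleGroup K] (hth : Δ.Thick)
    (hC : ∀ h : H, (∀ k ∈ K, h * k = k * h) → h = 1) {x : H} (hall : ∀ y, A.θ x y = y) : x = 1 := by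
  apply hC
  intro k hk
  have h1 : (MulAut.conjNormal x ⟨k, hk⟩ : K) = ⟨k, hk⟩ := by
    rw [← mul_inv_eq_one]
    apply eq_one_of_smul S hth
    intro y
    rw [mul_smul]
    have h2 := θ_conj A S x ⟨k, hk⟩ ((⟨k, hk⟩ : K)⁻¹ • y)
    rw [smul_inv_smul, hall, hall] at h2
    exact h2.symm
  have h2 := congrArg Subtype.val h1
  rw [MulAut.conjNormal_apply] at h2
  exact mul_inv_eq_iff_eq_mul.1 h2

/-- low elements lie in `K` -/
theorem low_mem [K.Normal] [Nonempty I] [IsSimpleGroup K] (hth : Δ.Thick)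
    (hC : ∀ h : H, (∀ k ∈ K, h * k = k * h) → h = 1) {c : C} {x : H} (hx : Low A c x) :
    ∃ u ∈ S.U c, (u : H) = x := by
  have : Nonempty C := ⟨c⟩
  obtain ⟨i₀⟩ := (inferInstance : Nonempty I)
  have hxc : A.θ x c = c := hx.pan i₀ c (Δ.self_mem_Pan i₀ c)
  obtain ⟨d, hd⟩ := Δ.exists_δ c (w0 cs)
  have hd' : Δ.Opp c (A.θ x d) := by
    change Δ.δ c (A.θ x d) = w0 cs
    have h1 : Δ.δ (A.θ x c) (A.θ x d) = w0 cs := by rw [hx.iso, hd]
    rwa [hxc] at h1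
  obtain ⟨u, hu, hud⟩ := S.trans c (A.θ x d) d hd' hd
  have hθ : ∀ y, A.θ ((u : H) * x) y = u • A.θ x y := fun y => by rw [A.θ_mul, A.θ_K]
  have hi : ∀ a b, Δ.δ (A.θ ((u : H) * x) a) (A.θ ((u : H) * x) b) = Δ.δ a b := by
    intro a b
    rw [hθ, hθ, S.iso, hx.iso]
  have hgc : A.θ ((u : H) * x) c = c := by rw [hθ, hxc, S.fix c u hu]
  have hgd : A.θ ((u : H) * x) d = d := by rw [hθ, hud]
  have huP : ∀ i, ∀ y ∈ Δ.Pan i c, u • y = y := by
    intro i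
    have hl : ℓ (cs.simple i * Δ.δ c d) < ℓ (Δ.δ c d) := by
      have h1 := F.len_mul_w0 (cs.simple i)
      rw [cs.length_simple] at h1
      rw [hd]
      omega
    obtain ⟨z, hz1, hz2⟩ := exists_first Δ hl
    have hgz1 : Δ.δ c (A.θ ((u : H) * x) z) = cs.simple i := by
      conv_lhs => rw [← hgc]
      rw [hi, hz1]
    have hz : A.θ ((u : H) * x) z = z := by
      have hzp : z ∈ Δ.Pan i c := Or.inr hz1
      have hzp' : A.θ ((u : H) * x) z ∈ Δ.Pan i c := Or.inr hgz1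
      refine eq_of_gate (Δ := Δ) (x := d) (j := i) ?_ ?_ ?_
      · by_cases h : A.θ ((u : H) * x) z = z
        · exact Or.inl h
        · exact Or.inr (Δ.δ_eq_of_mem_Pan hzp hzp' (Ne.symm h))
      · conv_lhs => rw [← hgd]
        exact hi d z
      · have h1 : Δ.δ d z = (Δ.δ c d)⁻¹ * cs.simple i := by
          rw [Δ.symm z d, hz2, mul_inv_rev, cs.inv_simple]
        rw [h1, mul_assoc, cs.simple_mul_simple_self, mul_one, cs.length_inv]
        have h2 := cs.length_inv (cs.simple i * Δ.δ c d)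
        rw [mul_inv_rev, cs.inv_simple] at h2
        rw [h2]
        exact hl
    refine S.pan c z i hz1 u hu ?_
    rw [hθ, hx.pan i z (Or.inr hz1)] at hz
    exact hz
  have hall : ∀ y, A.θ ((u : H) * x) y = y := by
    intro y
    refine Rigid.rigid (Δ := Δ) (Δ' := Δ) hth (φ := fun y => A.θ ((u : H) * x) y) (ψ := fun y => y) (J := Set.univ)
      (c := c) (d := d) (fun a _ b _ => hi a b) (fun a _ b _ => rfl) (fun i _ y hy => ?_) hd hgd y ?_
    · change A.θ ((u : H) * x) y = y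
      rw [hθ, hx.pan i y hy, huP i y hy]
    · rw [Δ.Res_univ]; trivial
  have h1 := eq_one_of_θ A S hth hC hall
  refine ⟨u⁻¹, inv_mem hu, ?_⟩
  rw [Subgroup.coe_inv]
  exact inv_eq_of_mul_eq_one_right h1

variable {T : Subgroup H}

/-- the elements of `⋂ O₂(R)` are low -/
theorem low_of_o2 [K.Normal] [Finite H] [Nonempty C] (hth : Δ.Thick) (hT : IsPGroup 2 T) (hTi : ¬ 2 ∣ T.index)
    (hKT : K ⊔ T = ⊤) (htr : ¬ ∀ i j : I, ∃ t ∈ T, A.σ t i = j) {c : C} (hc : ∀ t ∈ T, A.θ t c = c) {x : H}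
    (hx : ∀ R : Subgroup H, T ≤ R → R ≠ ⊤ → x ∈ o2 R) : Low A c x := by
  push Not at htr
  obtain ⟨i₀, j₀, hij⟩ := htr
  have hxJ : ∀ J : Set I, A.Inv J → J ≠ Set.univ → ∀ y ∈ Δ.Res J c, A.θ x y = y := by
    intro J hJ hJu y hy
    exact fix_of_o2 A S hth hT hTi hJ hc (hx _ (le_Stb A S hJ hc) (Stb_ne_top A S hth hJ hJu c)) hy
  have hxP : ∀ i, ∀ y ∈ Δ.Pan i c, A.θ x y = y := by
    intro i y hy
    set O : Set I := {j | ∃ t ∈ T, A.σ t i = j} with hO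
    have hOi : A.Inv O := by
      apply inv_of_T A S hKT
      rintro t ht _ ⟨s, hs, rfl⟩
      exact ⟨t * s, mul_mem ht hs, A.σ_mul t s i⟩
    have hiO : i ∈ O := ⟨1, one_mem _, A.σ_one i⟩
    refine hxJ O hOi ?_ y (Δ.Pan_subset_Res hiO c hy)
    intro h1
    obtain ⟨s, hs, hs'⟩ : i₀ ∈ O := by rw [h1]; trivial
    obtain ⟨t, ht, ht'⟩ : j₀ ∈ O := by rw [h1]; trivial
    apply hij (t * s⁻¹) (mul_mem ht (inv_mem hs))
    rw [A.σ_mul, ← hs', A.σ_inv_σ, ht']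
  have hxc : A.θ x c = c := hxP i₀ c (Δ.self_mem_Pan i₀ c)
  have hφ : ∀ w, A.φ x w = w := by
    have h1 : ∀ i, A.φ x (cs.simple i) = cs.simple i := by
      intro i
      obtain ⟨y, -, -, hy, -⟩ := hth c i
      rw [← hy, ← A.δ_θ, hxc, hxP i y (Δ.mem_Pan_of_δ hy)]
    intro w
    obtain ⟨ω, rfl⟩ := cs.wordProd_surjective w
    induction ω with
    | nil => simp
    | cons i ω ih => rw [cs.wordProd_cons, map_mul, ih, h1]
  exact ⟨hxJ, hxP, fun a b => by rw [A.δ_θ, hφ]⟩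

end group

/-! ### The theorem -/

section main

open Cfsg.Agent.MinSimple.VModule (o2_isPGroup o2_le le_o2 le_normalizer_o2 o2_le_of_sylow mem_normalizer_of_map_le)

variable {H : Type*} [Group H] {K : Subgroup H} [MulAction K C] (A : HAct Δ K)

/-- the wall condition for the type `J` and the node `i` -/
def Good (J : Set I) (i : I) : Prop :=
  ∀ v ∈ WJ cs J, ∀ j ∈ J, Triv A J (cs.simple i * (v * cs.simple j * v⁻¹) * cs.simple i)

variable [F : OppRes.Cox cs] (S : Sys Δ K 2) {T : Subgroup H}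

include A S

/-- the type of an overgroup of `T` -/
theorem over_tp [K.Normal] [IsSimpleGroup K] [Nonempty I] [Nonempty C] (hKT : K ⊔ T = ⊤) (hth : Δ.Thick) {c : C}
    (hc : ∀ t ∈ T, A.θ t c = c) {R : Subgroup H} (hU : S.U c ≤ R.subgroupOf K) (hTR : T ≤ R) (hR : R ≠ ⊤) :
    A.Inv (tp Δ (R.subgroupOf K) c) ∧ tp Δ (R.subgroupOf K) c ≠ Set.univ ∧
      ∀ h ∈ R, Δ.δ c (A.θ h c) ∈ WJ cs (tp Δ (R.subgroupOf K) c) := by
  refine ⟨?_, ?_, ?_⟩
  · apply inv_of_T A S hKT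
    rintro t ht i ⟨g, hg, hgc⟩
    refine ⟨MulAut.conjNormal t g, ?_, ?_⟩
    · rw [Subgroup.mem_subgroupOf, MulAut.conjNormal_apply]
      exact mul_mem (mul_mem (hTR ht) hg) (inv_mem (hTR ht))
    · have h1 := θ_conj A S t g c
      rw [hc t ht] at h1
      have h2 : Δ.δ c (A.θ t (g • c)) = Δ.δ (A.θ t c) (A.θ t (g • c)) := by rw [hc t ht]
      rw [← h1, h2, A.δ_θ, hgc, A.φ_simple]
  · intro h1
    have h2 := eq_top_of_tp S hth hU h1
    apply hR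
    rw [eq_top_iff, ← hKT]
    exact sup_le (Subgroup.subgroupOf_eq_top.1 h2) hTR
  · intro h hh
    obtain ⟨k, t, ht, rfl⟩ := exists_kt A S hKT h
    rw [A.θ_mul, hc t ht, A.θ_K]
    refine delta_mem_tp S hth hU k ?_
    rw [Subgroup.mem_subgroupOf]
    have h1 := mul_mem hh (inv_mem (hTR ht))
    rwa [mul_inv_cancel_right] at h1

/-- the unipotent radical of the residue is in `O₂` of the stabiliser -/
theorem ur_le_o2 [K.Normal] [IsSimpleGroup K] [Nonempty I] [Nonempty C] {c : C} {J : Set I} (hJ : A.Inv J)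
    {R : Subgroup H} (hU : S.U c ≤ R.subgroupOf K) (hRJ : ∀ h ∈ R, Δ.δ c (A.θ h c) ∈ WJ cs J) :
    (S.UR (Δ.Res J c)).map K.subtype ≤ o2 R := by
  have hcJ : c ∈ Δ.Res J c := by
    change Δ.δ c c ∈ WJ cs J
    rw [Δ.δ_self]; exact one_mem _
  have hst : ∀ h ∈ R, ∀ y ∈ Δ.Res J c, A.θ h y ∈ Δ.Res J c := by
    intro h hh y hy
    refine OppRes.delta_mem_of_mem (hRJ h hh) ?_
    rw [A.δ_θ]
    exact hJ.φ_mem h hy
  have hcj : ∀ h ∈ R, ∀ w ∈ S.UR (Δ.Res J c), MulAut.conjNormal h w ∈ S.UR (Δ.Res J c) := by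
    intro h hh w hw y hy
    have h1 := conj_mem_U A S h (hw _ (hst h⁻¹ (inv_mem hh) y hy))
    rwa [A.θ_θ_inv] at h1
  refine le_o2 ?_ ((S.UR_isP ⟨c, hcJ⟩).map _) ?_
  · rintro _ ⟨w, hw, rfl⟩
    exact hU (hw c hcJ)
  · intro h hh
    rw [Subgroup.mem_normalizer_iff]
    intro n
    constructor
    · rintro ⟨w, hw, rfl⟩
      exact ⟨_, hcj h hh w hw, MulAut.conjNormal_apply h w⟩
    · rintro ⟨w, hw, hwn⟩
      refine ⟨_, hcj h⁻¹ (inv_mem hh) w hw, ?_⟩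
      change ((MulAut.conjNormal h⁻¹ w : K) : H) = n
      have hwn' : (w : H) = h * n * h⁻¹ := hwn
      rw [MulAut.conjNormal_apply, hwn']
      group

variable [K.Normal] [Finite H] [Nonempty I] [IsSimpleGroup K] (hth : Δ.Thick)
  (hC : ∀ h : H, (∀ k ∈ K, h * k = k * h) → h = 1) (hT : IsPGroup 2 T) (hTi : ¬ 2 ∣ T.index)
  (hKT : K ⊔ T = ⊤) (htr : ¬ ∀ i j : I, ∃ t ∈ T, A.σ t i = j) {c : C} (hc : ∀ t ∈ T, A.θ t c = c)
  (hUc : S.U c = T.subgroupOf K) {FF : Set (Subgroup H)}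
  (hinv : ∀ B ∈ FF, ∀ h : H, B.map (MulAut.conj h).toMonoidHom ∈ FF)

include hth hC hT hTi hKT htr hc hUc hinv

/-- an element which moves `c` in a good panel -/
theorem wall_conj {D₀ : Subgroup H} (hTD : T ≤ D₀) (hD : D₀ ≠ ⊤)
    (la : ∀ B ∈ FF, B ≤ o2 D₀ → ∀ R : Subgroup H, T ≤ R → R ≠ ⊤ → B ≤ o2 R) {i : I}
    (hi : i ∉ tp Δ (D₀.subgroupOf K) c) (hg : Good A (tp Δ (D₀.subgroupOf K) c) i) {k : K} (hk : k • c ∈ Δ.Pan i c)
    {B : Subgroup H} (hB : B ∈ FF) (hBD : B ≤ o2 D₀) :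
    B.map (MulAut.conj (k : H)⁻¹).toMonoidHom ≤ o2 D₀ := by
  have : Nonempty C := ⟨c⟩
  have hU : S.U c ≤ D₀.subgroupOf K := by
    rw [hUc]
    exact fun k hk => hTD hk
  obtain ⟨hJ, hJu, hDJ⟩ := over_tp A S hKT hth hc hU hTD hD
  set J := tp Δ (D₀.subgroupOf K) c with hJdef
  have hlow : ∀ b ∈ B, Low A c b := fun b hb =>
    low_of_o2 A S hth hT hTi hKT htr hc (fun R hTR hR => la B hB hBD R hTR hR hb)
  have hlowg : ∀ g ∈ D₀, ∀ b ∈ B, Low A c (g⁻¹ * b * g) := by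
    intro g hg b hb
    have h1 := hinv B hB g⁻¹
    refine low_of_o2 A S hth hT hTi hKT htr hc (fun R hTR hR => la _ h1 ?_ R hTR hR ?_)
    · rintro _ ⟨b', hb', rfl⟩
      have h2 := le_normalizer_o2 D₀ (inv_mem hg)
      exact (Subgroup.mem_normalizer_iff.1 h2 b').1 (hBD hb')
    · exact ⟨b, hb, by simp⟩
  rintro _ ⟨b, hb, rfl⟩
  obtain ⟨u, hu, hub⟩ := low_mem A S hth hC (hlow b hb)
  have hθu : ∀ y, A.θ b y = u • y := fun y => by rw [← hub, A.θ_K]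
  have hw : ∀ c' ∈ Δ.Pan i c, ∀ y ∈ Δ.Res J c', A.θ b y = y := by
    refine wall (A := A) (hlow b hb).iso hJ hJu hi ?_ ((hlow b hb).pan i) hg
    intro x hx L hL hLu y hy
    obtain ⟨g, hgD, rfl⟩ := exists_smul S hU hx
    have hgD' : (g : H) ∈ D₀ := hgD
    have h2 : A.θ ((g : H)⁻¹) y ∈ Δ.Res L c := by
      change Δ.δ c (A.θ ((g : H)⁻¹) y) ∈ WJ cs L
      have h3 : A.θ ((g : H)⁻¹) y = g⁻¹ • y := by
        rw [← Subgroup.coe_inv, A.θ_K]
      have hy' : Δ.δ (g • c) y ∈ WJ cs L := hy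
      rw [h3]
      rw [← S.iso g, smul_inv_smul]
      exact hy'
    have h1 := (hlowg g hgD' b hb).res L hL hLu _ h2
    have h3 : A.θ ((g : H)⁻¹ * b * g) (A.θ ((g : H)⁻¹) y) = A.θ ((g : H)⁻¹) (A.θ b y) := by
      rw [← A.θ_mul, ← A.θ_mul]
      congr 1
      group
    rw [h3] at h1
    exact A.θ_inj _ h1
  apply ur_le_o2 A S hJ hU hDJ
  refine ⟨k⁻¹ * u * k, ?_, ?_⟩
  · intro y hy
    have h1 : k • y ∈ Δ.Res J (k • c) := by
      change Δ.δ (k • c) (k • y) ∈ WJ cs J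
      rw [S.iso]
      exact hy
    have h2 : u • (k • y) = k • y := by
      rw [← hθu]
      exact hw _ hk _ h1
    have h3 : k * (k⁻¹ * u * k) * k⁻¹ ∈ S.U (k • y) := by
      have e : k * (k⁻¹ * u * k) * k⁻¹ = u := by group
      rw [e]
      exact S.mem_U_of_fix hu h2
    exact S.conj_mem_U_iff.1 h3
  · change ((k⁻¹ * u * k : K) : H) = (k : H)⁻¹ * b * (k : H)⁻¹⁻¹
    rw [inv_inv, ← hub]
    rfl

omit [F : OppRes.Cox cs] [K.Normal] [Nonempty I] [IsSimpleGroup K] in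
omit A S hth hC hT hTi hKT htr hc hUc in
/-- elements which permute the members in `O₂(D₀)` -/
theorem mem_normalizer_sSup {D₀ : Subgroup H} {g : H}
    (hg : ∀ B ∈ FF, B ≤ o2 D₀ → B.map (MulAut.conj g).toMonoidHom ≤ o2 D₀) :
    g ∈ Subgroup.normalizer ((sSup {B | B ∈ FF ∧ B ≤ o2 D₀} : Subgroup H) : Set H) := by
  apply mem_normalizer_of_map_le
  rw [Subgroup.map_le_iff_le_comap]
  refine sSup_le fun B hB => ?_
  rw [← Subgroup.map_le_iff_le_comap]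
  exact le_sSup (⟨hinv B hB.1 g, hg B hB.1 hB.2⟩ : _ ∈ {B | B ∈ FF ∧ B ≤ o2 D₀})

/-- **The WALL THEOREM, general form.** -/
theorem wall_norm {D₀ : Subgroup H} (hTD : T ≤ D₀) (hD : D₀ ≠ ⊤)
    (la : ∀ B ∈ FF, B ≤ o2 D₀ → ∀ R : Subgroup H, T ≤ R → R ≠ ⊤ → B ≤ o2 R) {D₁ : Subgroup H}
    (hD₁ : D₁ = Subgroup.normalizer ((sSup {B | B ∈ FF ∧ B ≤ o2 D₀} : Subgroup H) : Set H)) :
    (∀ B ∈ FF, B ≤ o2 D₀ → B = ⊥) ∨ (D₀ ≤ D₁ ∧ D₁ ≠ ⊤ ∧ (∀ B ∈ FF, B ≤ o2 D₀ ↔ B ≤ o2 D₁) ∧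
      ∀ i ∉ tp Δ (D₁.subgroupOf K) c, ¬ Good A (tp Δ (D₁.subgroupOf K) c) i) := by
  have : Nonempty C := ⟨c⟩
  set E : Set (Subgroup H) := {B | B ∈ FF ∧ B ≤ o2 D₀} with hE
  set D : Subgroup H := sSup E with hDdef
  have hBE : ∀ B ∈ FF, B ≤ o2 D₀ → B ≤ D := fun B hB hBD => le_sSup ⟨hB, hBD⟩
  have hDo : D ≤ o2 D₀ := sSup_le fun B hB => hB.2
  have hDR : ∀ R : Subgroup H, T ≤ R → R ≠ ⊤ → D ≤ o2 R := fun R hTR hR => sSup_le fun B hB => la B hB.1 hB.2 R hTR hR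
  -- elements which permute `E`
  have hperm : ∀ g : H, (∀ B ∈ FF, B ≤ o2 D₀ → B.map (MulAut.conj g).toMonoidHom ≤ o2 D₀) →
      g ∈ Subgroup.normalizer (D : Set H) := fun g hg => mem_normalizer_sSup (hinv := hinv) hg
  by_cases hD1 : D = ⊥
  · left
    intro B hB hBD
    rw [eq_bot_iff, ← hD1]
    exact hBE B hB hBD
  right
  have hD01 : D₀ ≤ D₁ := by
    intro g hg
    rw [hD₁]
    apply hperm
    rintro B hB hBD _ ⟨b, hb, rfl⟩
    exact (Subgroup.mem_normalizer_iff.1 (le_normalizer_o2 D₀ hg) b).1 (hBD hb)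
  have hTD1 : T ≤ D₁ := hTD.trans hD01
  have hD1u : D₁ ≠ ⊤ := by
    intro htop
    apply hD1
    rw [eq_bot_iff]
    intro x hx
    rw [Subgroup.mem_bot]
    have hxg : ∀ g : H, g⁻¹ * x * g ∈ D := by
      intro g
      have h1 : g⁻¹ ∈ Subgroup.normalizer (D : Set H) := by rw [← hD₁, htop]; trivial
      have h2 := (Subgroup.mem_normalizer_iff.1 h1 x).1 hx
      rwa [inv_inv] at h2
    have hfix : ∀ y ∈ D, A.θ y c = c := by
      intro y hy
      obtain ⟨i₀⟩ := (inferInstance : Nonempty I)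
      have h1 : Low A c y := low_of_o2 A S hth hT hTi hKT htr hc (fun R hTR hR => hDR R hTR hR hy)
      exact h1.pan i₀ c (Δ.self_mem_Pan i₀ c)
    refine eq_one_of_θ A S hth hC fun y => ?_
    obtain ⟨g, rfl⟩ := exists_smul_top S hth c y
    have h1 := hfix _ (hxg g)
    have h2 : A.θ (g : H) (A.θ ((g : H)⁻¹ * x * g) c) = A.θ x (g • c) := by
      rw [← A.θ_mul, ← A.θ_K, ← A.θ_mul]
      congr 1
      group
    rw [← h2, h1, A.θ_K]
  have hED : ∀ B ∈ FF, B ≤ o2 D₀ ↔ B ≤ o2 D₁ := by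
    intro B hB
    constructor
    · intro h
      refine (hBE B hB h).trans (le_o2 ?_ ((o2_isPGroup D₀).to_le hDo) hD₁.le)
      rw [hD₁]
      exact Subgroup.le_normalizer
    · intro h
      refine h.trans (le_o2 ?_ (o2_isPGroup D₁) (hD01.trans (le_normalizer_o2 D₁)))
      refine (o2_le_of_sylow hT fun h => hTi (h.trans (Subgroup.relIndex_dvd_index_of_le hTD1))).trans hTD
  refine ⟨hD01, hD1u, hED, fun i hi hg => hi ?_⟩
  have la' : ∀ B ∈ FF, B ≤ o2 D₁ → ∀ R : Subgroup H, T ≤ R → R ≠ ⊤ → B ≤ o2 R :=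
    fun B hB h => la B hB ((hED B hB).2 h)
  obtain ⟨y, -, -, hy, -⟩ := hth c i
  obtain ⟨k, rfl⟩ := exists_smul_top S hth c y
  refine ⟨k, ?_, hy⟩
  rw [Subgroup.mem_subgroupOf, ← inv_mem_iff, hD₁]
  apply hperm
  intro B hB hBD
  rw [hED _ (hinv B hB _)]
  exact wall_conj A S hth hC hT hTi hKT htr hc hUc hinv hTD1 hD1u la' hi hg (Or.inr hy) hB ((hED B hB).1 hBD)

theorem wall_survivor {D₀ : Subgroup H} (hTD : T ≤ D₀) (hD : D₀ ≠ ⊤)
    (la : ∀ B ∈ FF, B ≤ o2 D₀ → ∀ R : Subgroup H, T ≤ R → R ≠ ⊤ → B ≤ o2 R) :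
    (∀ B ∈ FF, B ≤ o2 D₀ → B = ⊥) ∨ ∃ D₁ : Subgroup H, D₀ ≤ D₁ ∧ D₁ ≠ ⊤ ∧ (∀ B ∈ FF, B ≤ o2 D₀ ↔ B ≤ o2 D₁) ∧
      ∀ i ∉ tp Δ (D₁.subgroupOf K) c, ¬ Good A (tp Δ (D₁.subgroupOf K) c) i :=
  (wall_norm A S hth hC hT hTi hKT htr hc hUc hinv hTD hD la rfl).imp_right fun h => ⟨_, h⟩

/-- **The WALL THEOREM.** -/
theorem wall_main (hgood : ∀ J : Set I, A.Inv J → J ≠ Set.univ → ∃ i ∉ J, Good A J i) {D₀ : Subgroup H} (hTD : T ≤ D₀)
    (hD : D₀ ≠ ⊤) (la : ∀ B ∈ FF, B ≤ o2 D₀ → ∀ R : Subgroup H, T ≤ R → R ≠ ⊤ → B ≤ o2 R) :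
    ∀ B ∈ FF, B ≤ o2 D₀ → B = ⊥ := by
  have : Nonempty C := ⟨c⟩
  rcases wall_survivor A S hth hC hT hTi hKT htr hc hUc hinv hTD hD la with h | ⟨D₁, h1, h2, -, h4⟩
  · exact h
  · exfalso
    have hTD1 : T ≤ D₁ := hTD.trans h1
    have hU : S.U c ≤ D₁.subgroupOf K := by
      rw [hUc]
      exact fun k hk => hTD1 hk
    obtain ⟨hJ, hJu, -⟩ := over_tp A S hKT hth hc hU hTD1 h2
    obtain ⟨i, hi, hg⟩ := hgood _ hJ hJu
    exact h4 i hi hg

end main

/-! ### Simply laced reflections -/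

section red

variable {H : Type*} [Group H] {K : Subgroup H} [MulAction K C] (A : HAct Δ K) [F : OppRes.Cox cs] (S : Sys Δ K 2)
  {T : Subgroup H}

include A S

/-- the orbit of a node -/
theorem exists_orbit [K.Normal] [Nonempty C] (hKT : K ⊔ T = ⊤) (htr : ¬ ∀ i j : I, ∃ t ∈ T, A.σ t i = j) (i : I) :
    ∃ L : Set I, A.Inv L ∧ L ≠ Set.univ ∧ i ∈ L := by
  push Not at htr
  obtain ⟨i₀, j₀, hij⟩ := htr
  refine ⟨{j | ∃ t ∈ T, A.σ t i = j}, ?_, ?_, ⟨1, one_mem _, A.σ_one i⟩⟩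
  · apply inv_of_T A S hKT
    rintro t ht _ ⟨s, hs, rfl⟩
    exact ⟨t * s, mul_mem ht hs, A.σ_mul t s i⟩
  · intro h1
    obtain ⟨s, hs, hs'⟩ : i₀ ∈ {j | ∃ t ∈ T, A.σ t i = j} := by rw [h1]; trivial
    obtain ⟨t, ht, ht'⟩ : j₀ ∈ {j | ∃ t ∈ T, A.σ t i = j} := by rw [h1]; trivial
    apply hij (t * s⁻¹) (mul_mem ht (inv_mem hs))
    rw [A.σ_mul, ← hs', A.σ_inv_σ, ht']

/-- the wall is trivial if the product of the reflections has order at most three -/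
theorem triv_of_red [K.Normal] [Nonempty C] (hKT : K ⊔ T = ⊤) (htr : ¬ ∀ i j : I, ∃ t ∈ T, A.σ t i = j) {J : Set I}
    (hJ : A.Inv J) (hJu : J ≠ Set.univ) {i : I} {v : W} (hv : v ∈ WJ cs J) {j : I} (hj : j ∈ J)
    (h : cs.simple i * (v * cs.simple j * v⁻¹) = v * cs.simple j * v⁻¹ * cs.simple i ∨
      cs.simple i * (v * cs.simple j * v⁻¹) * cs.simple i =
        v * cs.simple j * v⁻¹ * cs.simple i * (v * cs.simple j * v⁻¹)) :
    Triv A J (cs.simple i * (v * cs.simple j * v⁻¹) * cs.simple i) := by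
  rcases h with h | h
  · refine ⟨J, hJ, hJu, v, hv, 1, one_mem _, j, hj, ?_⟩
    rw [h, mul_assoc, cs.simple_mul_simple_self, mul_one, mul_one]
  · obtain ⟨L, hL, hLu, hi⟩ := exists_orbit A S hKT htr i
    refine ⟨L, hL, hLu, v * cs.simple j * v⁻¹, mul_mem (mul_mem hv (simple_mem_WJ cs hj)) (inv_mem hv), 1, one_mem _, i,
      hi, ?_⟩
    rw [h, mul_one, mul_inv_rev, mul_inv_rev, inv_inv, cs.inv_simple]
    simp only [mul_assoc]

theorem good_of_red [K.Normal] [Nonempty C] (hKT : K ⊔ T = ⊤) (htr : ¬ ∀ i j : I, ∃ t ∈ T, A.σ t i = j) {J : Set I}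
    (hJ : A.Inv J) (hJu : J ≠ Set.univ) {i : I}
    (h : ∀ v ∈ WJ cs J, ∀ j ∈ J, cs.simple i * (v * cs.simple j * v⁻¹) = v * cs.simple j * v⁻¹ * cs.simple i ∨
      cs.simple i * (v * cs.simple j * v⁻¹) * cs.simple i =
        v * cs.simple j * v⁻¹ * cs.simple i * (v * cs.simple j * v⁻¹)) : Good A J i :=
  fun v hv j hj => triv_of_red A S hKT htr hJ hJu hv hj (h v hv j hj)

/-- `T` is transitive on the nodes only if it is in a unique maximal subgroup -/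
theorem not_trans_of_nmax [K.Normal] [Finite H] [Nonempty I] [IsSimpleGroup K] (hth : Δ.Thick) {c : C}
    (hc : ∀ t ∈ T, A.θ t c = c) (hUc : S.U c = T.subgroupOf K) (hKT : K ⊔ T = ⊤)
    (hn : ¬ ∃ N : Subgroup H, N ≠ ⊤ ∧ ∀ R : Subgroup H, T ≤ R → R ≠ ⊤ → R ≤ N) :
    ¬ ∀ i j : I, ∃ t ∈ T, A.σ t i = j := by
  intro htr
  have : Nonempty C := ⟨c⟩
  have hE : A.Inv (∅ : Set I) := fun _ i hi => absurd hi (Set.notMem_empty i)
  refine hn ⟨HAct.Stb ∅ hE c, Stb_ne_top A S hth hE (Set.empty_ne_univ) c, ?_⟩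
  intro R hTR hR
  have hU : S.U c ≤ R.subgroupOf K := by
    rw [hUc]
    exact fun k hk => hTR hk
  obtain ⟨J, hJ, hJu, hRJ⟩ := over_T A S hKT hth hc hU hTR hR
  have hJe : J = ∅ := by
    by_contra hne
    obtain ⟨i, hi⟩ := Set.nonempty_iff_ne_empty.2 hne
    apply hJu
    rw [Set.eq_univ_iff_forall]
    intro j
    obtain ⟨t, -, rfl⟩ := htr i j
    exact hJ t i hi
  subst hJe
  exact hRJ

end red

end Cfsg.Agent.Omega.ML.Ex.Wall
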