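import Cfsg.Agent.Omega.ML.Ex.ZWalk
import Cfsg.Agent.Omega.ML.Ex.LA
import Cfsg.Agent.Omega.ML.LieTwF4
import Cfsg.Agent.KFacts.TwF4.Layers

/-!
# The row `²F₄(q)`, `q > 2`, of the exact situation with the W-part (helper333)

`twF4W : InX X M K T A → WPart K T p → Iso2F4 K → False`; `deadXW`, `deadXL`.

`X = K` (`eq_top`: all automorphisms of 2-power order are inner); all minimal parabolics `J k (k + 8)` are perfect
(`J_perf`), so by the W-part none of them fixes a nontrivial vector of `M` (`WPart.commutator_fix`); `A` is in the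
unipotent radicals of both minimal parabolics over `T`; `ZWalk.false_of` for an atom in `A`.
-/

set_option autoImplicit false
set_option linter.unusedSectionVars false

namespace Cfsg.Agent.Omega.ML.Ex.RowTwF4W

open Subgroup Cfsg Cfsg.Lie Cfsg.Agent.ZN
open Cfsg.Agent.SplitTwo Cfsg.Agent.SplitTwo.ZS Cfsg.Agent.TitsThree.RankTwoZ Cfsg.Agent.SplitTwo.RootSysZ
open Cfsg.Agent.KFacts.TwF4 Cfsg.Agent.KFacts.TwF4.Arc Cfsg.Agent.KFacts.TwF4.Inv Cfsg.Agent.KFacts.TwF4.SylU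
open Cfsg.Agent.KFacts.TwF4.Perf Cfsg.Agent.KFacts.TwF4.Layers
open Cfsg.Agent.Omega.ML.TwF4Opp Cfsg.Agent.Omega.ML.LieTwF4
open Cfsg.Agent.MinSimple.VModule (o2_isPGroup o2_le le_o2 le_normalizer_o2)
open Cfsg.Agent.ClassTwoFusion.Quad Cfsg.Agent.Omega.NOThree.NoOver
open scoped commutatorElement

universe u v w

/-- all chambers of an apartment are conjugate -/
theorem exists_conj {G : Type*} [Group G] {X : ℤ → Subgroup G} {m : ℤ} (Z : ZSys m X) (a b : ℤ) :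
    ∃ g : G, ∀ x ∈ J X a (a + m - 1), g * x * g⁻¹ ∈ J X b (b + m - 1) := by
  have odd : ∀ a b : ℤ, ¬ (2 : ℤ) ∣ a - b → ∃ g : G, ∀ x ∈ J X a (a + m - 1), g * x * g⁻¹ ∈ J X b (b + m - 1) := by
    intro a b h
    obtain ⟨i, hi⟩ : ∃ i : ℤ, 2 * i = 2 * m - 1 + a + b := ⟨(2 * m - 1 + a + b) / 2, by omega⟩
    obtain ⟨n, hn⟩ := Z.exists_refl i
    exact ⟨n, fun x hx => hn.mem_J hx (by omega) (by omega)⟩
  by_cases h : (2 : ℤ) ∣ a - b
  · obtain ⟨g, hg⟩ := odd a (a + 1) (by omega)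
    obtain ⟨g', hg'⟩ := odd (a + 1) b (by omega)
    refine ⟨g' * g, fun x hx => ?_⟩
    have e : g' * g * x * (g' * g)⁻¹ = g' * (g * x * g⁻¹) * g'⁻¹ := by group
    rw [e]
    exact hg' _ (hg x hx)
  · exact odd a b h

section full

variable {F : Type*} [Field F] {σ : F →+* F} {G : Type u} [Group G] (S : Full σ G)

/-- the involutions of `X k` are central in `X k` -/
theorem cin (k : ℤ) (y : G) (hy : y ∈ S.XZ k) (hyy : y * y = 1) (x : G) (hx : x ∈ S.XZ k) : x * y = y * x := by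
  rcases Int.even_or_odd' k with ⟨a, rfl | rfl⟩
  · obtain ⟨p, u, rfl⟩ := (S.mem_XZ_even a y).1 hy
    obtain ⟨q, v, rfl⟩ := (S.mem_XZ_even a x).1 hx
    rw [S.e_mul, S.add_self, S.add_self, zero_add] at hyy
    have h1 := (S.e_eq_one hyy).2
    have hp : p = 0 := by
      rcases mul_eq_zero.1 h1 with h | h
      · exact h
      · exact (map_eq_zero σ).1 h
    subst hp
    rw [S.e_mul, S.e_mul, map_zero, mul_zero, zero_mul, add_comm q, add_comm v]
  · obtain ⟨t, rfl⟩ := (S.mem_XZ_odd a y).1 hy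
    obtain ⟨s, rfl⟩ := (S.mem_XZ_odd a x).1 hx
    rw [S.o_add, S.o_add, add_comm]

variable [Finite F] [Finite G]

/-- `J 1 9` is perfect -/
theorem J19_perf (hF : ∃ c : Fˣ, c ≠ 1) : ⁅J S.XZ 1 9, J S.XZ 1 9⁆ = J S.XZ 1 9 := by
  apply le_antisymm (Subgroup.commutator_le.2 fun x hx y hy => mul_mem (mul_mem (mul_mem hx hy) (inv_mem hx)) (inv_mem hy))
  obtain ⟨c, hc⟩ := hF
  have hσc : Units.map (σ : F →* F) c ≠ 1 := σ_ne hc
  have hdiv : Units.map (σ : F →* F) c / c ≠ 1 := fun h => hc (s2 S (div_eq_one.1 h))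
  have hdiv' : c / Units.map (σ : F →* F) c ≠ 1 := fun h => hc (s2 S (div_eq_one.1 h).symm)
  have hh : S.h c c ∈ J S.XZ 1 9 := HO_le_J S (h_mem_HO S c)
  have aux : ∀ {k : ℤ}, 1 ≤ k → k ≤ 9 → (∀ x ∈ S.XZ k, S.h c c * x * (S.h c c)⁻¹ = x → x = 1) →
      S.XZ k ≤ ⁅J S.XZ 1 9, J S.XZ 1 9⁆ := fun {k} h1 h2 h3 =>
    le_comm_of_fix hh (X_le_J h1 h2) (h_X S _ _ k) h3
  have k1 : S.XZ 1 ≤ ⁅J S.XZ 1 9, J S.XZ 1 9⁆ := by
    refine aux (by norm_num) (by norm_num) (fixo S (a := 0) ?_ fun x hx => (mem_X1 S).1 hx)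
    show chE σ 0 c c * chE σ 1 c c ≠ 1
    rw [chE_zero, chE_one]; exact sq_ne S hc
  have k2 : S.XZ 2 ≤ ⁅J S.XZ 1 9, J S.XZ 1 9⁆ :=
    aux (by norm_num) (by norm_num) (fixe S (a := 1) (by rw [chE_one]; exact hc) fun x hx => (mem_X2 S).1 hx)
  have k3 : S.XZ 3 ≤ ⁅J S.XZ 1 9, J S.XZ 1 9⁆ := by
    refine aux (by norm_num) (by norm_num) (fixo S (a := 1) ?_ fun x hx => (mem_X3 S).1 hx)
    show chE σ 1 c c * chE σ 2 c c ≠ 1
    rw [chE_one, chE_two, mul_div_cancel]; exact hσc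
  have k4 : S.XZ 4 ≤ ⁅J S.XZ 1 9, J S.XZ 1 9⁆ :=
    aux (by norm_num) (by norm_num) (fixe S (a := 2) (by rw [chE_two]; exact hdiv) fun x hx => (mem_X4 S).1 hx)
  have k6 : S.XZ 6 ≤ ⁅J S.XZ 1 9, J S.XZ 1 9⁆ :=
    aux (by norm_num) (by norm_num) (fixe S (a := 3) (by rw [chE_three]; exact hdiv') fun x hx => (mem_X6 S).1 hx)
  have k5 : S.XZ 5 ≤ ⁅J S.XZ 1 9, J S.XZ 1 9⁆ := by
    intro x hx
    obtain ⟨t, rfl⟩ := (mem_X5 S).1 hx
    have h := S.e_e1 2 t 0 1 0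
    have e : S.o 2 t = (S.e 3 1 0 * S.e 2 t 0)⁻¹ * (S.e 2 t 0 * S.e 3 1 0) := by
      rw [show (2 : ZMod 8) + 1 = 3 by decide] at h
      rw [h, mul_one]; group
    rw [e]
    have m6 := k6 ((mem_X6 S).2 ⟨1, 0, rfl⟩)
    have m4 := k4 ((mem_X4 S).2 ⟨t, 0, rfl⟩)
    exact mul_mem (inv_mem (mul_mem m6 m4)) (mul_mem m4 m6)
  have k7 : S.XZ 7 ≤ ⁅J S.XZ 1 9, J S.XZ 1 9⁆ := by
    refine aux (by norm_num) (by norm_num) (fixo S (a := 3) ?_ fun x hx => (mem_X7 S).1 hx)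
    show chE σ 3 c c * chE σ 4 c c ≠ 1
    rw [chE_three, chE_four, div_mul_eq_mul_div, mul_inv_cancel, one_div]
    exact inv_ne_one.2 hσc
  have k8 : S.XZ 8 ≤ ⁅J S.XZ 1 9, J S.XZ 1 9⁆ :=
    aux (by norm_num) (by norm_num) (fixe S (a := 4) (by rw [chE_four]; exact inv_ne_one.2 hc) fun x hx => (mem_X8 S).1 hx)
  have k9 : S.XZ 9 ≤ ⁅J S.XZ 1 9, J S.XZ 1 9⁆ := by
    refine aux (by norm_num) (by norm_num) (fixo S (a := 4) ?_ fun x hx => (mem_X9 S).1 hx)
    show chE σ 4 c c * chE σ 5 c c ≠ 1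
    rw [chE_four, chE_five]; exact sq_ne S (inv_ne_one.2 hc)
  refine J_le fun k h1 h2 => ?_
  have hk : k = 1 ∨ k = 2 ∨ k = 3 ∨ k = 4 ∨ k = 5 ∨ k = 6 ∨ k = 7 ∨ k = 8 ∨ k = 9 := by omega
  rcases hk with rfl | rfl | rfl | rfl | rfl | rfl | rfl | rfl | rfl
  exacts [k1, k2, k3, k4, k5, k6, k7, k8, k9]

/-- **the minimal parabolics are perfect** -/
theorem J_perf (hF : ∃ c : Fˣ, c ≠ 1) (k : ℤ) : ⁅J S.XZ k (k + 8), J S.XZ k (k + 8)⁆ = J S.XZ k (k + 8) := by
  rcases Int.even_or_odd' k with ⟨a, rfl | rfl⟩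
  · have h := Layers.J_perfect S hF (a + 2)
    rw [show 2 * (a + 2) - 4 = 2 * a by ring, show 2 * (a + 2) + 4 = 2 * a + 8 by ring] at h
    exact h
  · have h := map_perfect (S.ck a) (J19_perf S hF)
    rw [S.map_J, show 1 + 2 * a = 2 * a + 1 by ring, show 9 + 2 * a = 2 * a + 1 + 8 by ring] at h
    exact h

theorem hyp (hF : ∃ c : Fˣ, c ≠ 1) (hR : S.R.p = 2) : ZWalk.Hyp 8 S.XZ where
  Z := S.zsys8
  h2 := two_X S hR
  perf := J_perf S hF
  cin := cin S

end full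

section row

variable {X : Type u} [Group X] [Finite X] {M : Type v} [Group M] [Finite M] [MulDistribMulAction X M]
  {W : Type w} [CommGroup W] [Finite W] [MulDistribMulAction X W] {K T A : Subgroup X} {p : W →* M}

/-- `X = K`: the elements of `T` are inner on `K` -/
theorem eq_top (h : InX X M K T A) (hS : Iso2F4 K) : K = ⊤ := by
  have hn := h.norm
  obtain ⟨F, _, _, σ, m, G, _, _, SS, hcard, hF, hR, ⟨e⟩⟩ := exists_full hS
  have hA : T ≤ K := by
    intro a ha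
    obtain ⟨n, hn'⟩ := h.two ⟨a, ha⟩
    have han : a ^ 2 ^ n = 1 := congrArg Subtype.val hn'
    obtain ⟨α, hα⟩ : ∃ α : MulAut K, α = MulAut.conjNormal a := ⟨_, rfl⟩
    have h1 : α ^ 2 ^ n = 1 := by
      rw [hα, ← map_pow, han, map_one]
    obtain ⟨β, hβ⟩ : ∃ β : MulAut G, β = MulAut.congr e.symm α := ⟨_, rfl⟩
    have h2 : β ^ 2 ^ n = 1 := by rw [hβ, ← map_pow, h1, map_one]
    obtain ⟨x, hx⟩ := Cfsg.Agent.KFacts.TwF4.OutTwo.inner SS hcard hF hR h2
    have h3 : ∀ s : K, (α s : K) = e x * s * (e x)⁻¹ := by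
      intro s
      have h4 : β (e.symm s) = x * e.symm s * x⁻¹ := by rw [hx, MulAut.conj_apply]
      have h5 : β (e.symm s) = e.symm (α s) := by
        rw [hβ]
        show e.symm (α (e.symm.symm (e.symm s))) = _
        rw [MulEquiv.symm_symm, MulEquiv.apply_symm_apply]
      rw [h5] at h4
      have h6 := congrArg e h4
      rwa [MulEquiv.apply_symm_apply, map_mul, map_mul, map_inv, MulEquiv.apply_symm_apply] at h6
    have h4 : ((e x : K) : X)⁻¹ * a ∈ centralizer (K : Set X) := by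
      rw [mem_centralizer_iff]
      intro s hs
      have h5 := congrArg Subtype.val (h3 ⟨s, hs⟩)
      rw [hα, MulAut.conjNormal_apply] at h5
      have h6 : a * s * a⁻¹ = (e x : K) * s * ((e x : K) : X)⁻¹ := h5
      have h7 : s = ((e x : K) : X)⁻¹ * (a * s * a⁻¹) * (e x : K) := by rw [h6]; group
      calc s * (((e x : K) : X)⁻¹ * a)
          = ((e x : K) : X)⁻¹ * (a * s * a⁻¹) * (e x : K) * (((e x : K) : X)⁻¹ * a) := by rw [← h7]
        _ = ((e x : K) : X)⁻¹ * a * s := by group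
    rw [h.cen, mem_bot] at h4
    rw [← inv_mul_eq_one.1 h4]
    exact (e x).2
  rw [← h.gen]
  exact (sup_eq_left.2 hA).symm

/-- the radicals -/
theorem le_rad {F : Type*} [Field F] [Finite F] {σ : F →+* F} {G : Type*} [Group G] [Finite G] [IsSimpleGroup G]
    (S : Full σ G) (hF : ∃ c : Fˣ, c ≠ 1) (hR : S.R.p = 2) (f : G ≃* X) {y : G}
    (low : ∀ R : Subgroup X, (J S.XZ 1 8).map f.toMonoidHom ≤ R → R ≠ ⊤ → f y ∈ o2 R) :
    y ∈ J S.XZ 2 8 ∧ y ∈ J S.XZ 1 7 := by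
  have Z := S.zsys8
  have hU1 : J S.XZ 1 8 ≤ normalizer (J S.XZ 2 8 : Set G) := by
    refine J_le fun k h1 h2 => ?_
    exact (X_le_J (by omega) (by omega)).trans (Z.le_normalizer (a := 2) (b := 8) (by norm_num))
  have hU2 : J S.XZ 1 8 ≤ normalizer (J S.XZ 1 7 : Set G) := by
    refine J_le fun k h1 h2 => ?_
    exact (X_le_J (by omega) (by omega)).trans (Z.le_normalizer (a := 1) (b := 7) (by norm_num))
  have key : ∀ N : Subgroup G, J S.XZ 1 8 ≤ N → N ≠ ⊤ →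
      y ∈ (o2 (N.map f.toMonoidHom)).comap f.toMonoidHom := fun N hN hN1 =>
    low (N.map f.toMonoidHom) (Subgroup.map_mono hN) (map_ne_top f hN1)
  have htwo : ∀ N : Subgroup G, IsPGroup 2 ↥((o2 (N.map f.toMonoidHom)).comap f.toMonoidHom) := fun N =>
    (o2_isPGroup _).comap_of_injective f.toMonoidHom f.injective
  exact ⟨two_le_one S hF hR (htwo _) (norm_comap f _)
    (key _ hU1 (norm_ne_top S (by norm_num) (by norm_num))), two_le_two S hF hR (htwo _) (norm_comap f _)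
    (key _ hU2 (norm_ne_top S (by norm_num) (by norm_num)))⟩

/-- **the row `²F₄(q)`, `q > 2`** -/
theorem twF4W (h : InX X M K T A) (hw : WPart K T p) (hK : Iso2F4 K) : False := by
  have htop := eq_top h hK
  have hsim := h.simple
  obtain ⟨F, _, _, σ, m, G, _, _, S, hcard, hF, hR, ⟨e'⟩⟩ := exists_full hK
  have hsG : IsSimpleGroup G := e'.isSimpleGroup
  have e : K ≃* X := (MulEquiv.subgroupCongr htop).trans topEquiv
  obtain ⟨f, hf⟩ := exists_iso S hF hR (e'.trans e) h.two h.syl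
  -- no minimal parabolic fixes a vector
  have hp : ∀ k, ∀ v : M, (∀ x ∈ J S.XZ k (k + 8), f x • v = v) → v = 1 := by
    intro k v hv
    obtain ⟨w, rfl⟩ := hw.surj v
    have h1 : ∀ x ∈ J S.XZ k (k + 8), f x • w = w := by
      intro x hx
      refine hw.commutator_fix (L := (J S.XZ k (k + 8)).map f.toMonoidHom) (by rw [htop]; exact le_top) ?_ (f x) ?_
      · rintro _ ⟨y, hy, rfl⟩
        exact hv y hy
      · rw [← Subgroup.map_commutator, J_perf S hF k]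
        exact mem_map_of_mem f.toMonoidHom hx
    obtain ⟨g, hg⟩ := exists_conj S.zsys8 1 k
    have h2 : ∀ t ∈ T, t • ((f g)⁻¹ • w) = (f g)⁻¹ • w := by
      intro t ht
      rw [← hf] at ht
      obtain ⟨y, hy, rfl⟩ := ht
      have h3 := h1 _ (J_mono le_rfl (by omega) (hg y (J_mono le_rfl (by norm_num) hy)))
      have e1 : f (g * y * g⁻¹) = f g * f y * (f g)⁻¹ := by rw [map_mul, map_mul, map_inv]
      rw [e1, mul_smul, mul_smul] at h3
      show f y • ((f g)⁻¹ • w) = (f g)⁻¹ • w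
      rw [eq_inv_smul_iff, h3]
    have h3 := hw.fixT _ h2
    have h4 := (hw.ker _).2 h3
    rw [hw.eqv] at h4
    have h5 := congrArg (fun z => f g • z) h4
    simp only [smul_inv_smul, smul_one] at h5
    exact h5
  let _ : MulDistribMulAction G M := MulDistribMulAction.compHom M f.toMonoidHom
  have hsm : ∀ (g : G) (v : M), g • v = f g • v := fun _ _ => rfl
  have hcv : ∀ B : Subgroup G, cv M (B : Set G) = cv M ((B.map f.toMonoidHom : Subgroup X) : Set X) := by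
    intro B
    ext v
    constructor
    · rintro hv _ ⟨b, hb, rfl⟩
      exact hv b hb
    · intro hv b hb
      exact hv (f b) (mem_map_of_mem f.toMonoidHom hb)
  have hM : Nontrivial M := by
    by_contra hcon
    rw [not_nontrivial_iff_subsingleton] at hcon
    apply h.A_ne_bot
    rw [eq_bot_iff]
    intro a ha
    exact mem_bot.2 (h.faith a fun v => Subsingleton.elim _ _)
  -- the atom
  have hAm : (A.comap f.toMonoidHom).map f.toMonoidHom = A :=
    Subgroup.map_comap_eq_self_of_surjective f.surjective A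
  have hA1 : (cv M ((A.comap f.toMonoidHom : Subgroup G) : Set G)).index ≤ Nat.card (A.comap f.toMonoidHom) := by
    rw [hcv, hAm, h.exact, ← hAm, card_map_of_injective f.injective, hAm]
  obtain ⟨B, ⟨hBA, hB0, hB1⟩, hBmin⟩ : ∃ B : Subgroup G, (B ≤ A.comap f.toMonoidHom ∧ B ≠ ⊥ ∧
      (cv M (B : Set G)).index ≤ Nat.card B) ∧ ∀ C : Subgroup G, C ≤ B → C ≠ ⊥ → C ≠ B →
        Nat.card C < (cv M (C : Set G)).index := by
    have hfin : Set.Finite {B : Subgroup G | B ≤ A.comap f.toMonoidHom ∧ B ≠ ⊥ ∧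
      (cv M (B : Set G)).index ≤ Nat.card B} := Set.toFinite _
    obtain ⟨B, hB⟩ := hfin.exists_minimal ⟨A.comap f.toMonoidHom, le_rfl, by
      intro h0
      apply h.A_ne_bot
      rw [← hAm, h0, Subgroup.map_bot], hA1⟩
    refine ⟨B, hB.prop, fun C hC hC0 hCB => ?_⟩
    by_contra hcon
    exact hCB (le_antisymm hC (hB.le_of_le ⟨hC.trans hB.prop.1, hC0, not_lt.1 hcon⟩ hC))
  have hBl : ∀ b ∈ B, b ∈ J S.XZ 2 8 ∧ b ∈ J S.XZ 1 7 := by
    intro b hb
    refine le_rad S hF hR f fun R h1 h2 => ?_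
    rw [hf] at h1
    exact h.low R h1 h2 (hBA hb)
  refine ZWalk.false_of (M := M) (hyp S hF hR) (fun x h1 h2 => inf_eq_one S hF hR h1 (by norm_num at h2; exact h2)) h.sq
    h.comm hM (fun k v hv => hp k v fun x hx => hv x hx) hB0 (fun b hb => ?_) (fun b hb => (hBl b hb).1)
    (fun b hb => J_mono le_rfl (by norm_num) (hBl b hb).2) hB1 hBmin
  have h1 := h.el (f b) (hBA hb)
  rw [← map_mul] at h1
  exact (map_eq_one_iff f f.injective).1 h1

end row

theorem deadXW : DeadXW.{u, v, w} fun S _ => Iso2F4 S := fun _ _ _ _ _ _ _ _ _ _ _ _ _ _ _ h hw hK => twF4W h hw hK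

theorem deadXL : DeadXL.{u, v, w} fun S _ => Iso2F4 S := fun _ _ _ _ _ _ _ _ _ _ _ _ _ _ _ _ h hw _ hK =>
  twF4W h hw hK

end Cfsg.Agent.Omega.ML.Ex.RowTwF4W
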