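import Cfsg.Agent.ClassTwoFusion.Quad

/-!
# LEMMA E: exact fours groups give a TI-subgroup which swallows all centralizers (OMEGA, K-list exact; helper269); K-free

`X` acts faithfully on `M` (exponent 2), no element of `X` is a transvection on `M`, `B ≤ X` has order at least 4 and
`|M : C_M(B)| = 4`.  `F := C_M(B)`, `EE F := {x | [F,x] = 1, [M,x] ≤ F}`.

* `EE F` : a subgroup, of exponent 2, normalised by the stabiliser of `F`;
* **`exists_tie`** : `B ≤ E := EE F`, `C_M(e) = F` for all `e ∈ E#`, `N_X(E) = N_X(F)`, **`C_X(e) ≤ N_X(E)` for all `e ∈ E#`**,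
  `E ∩ E^g ≠ 1 → g ∈ N_X(E)`;
* `Tie.normalizer_eq` : if `C_X(e)` is maximal in `X` (`e ∈ E#`) and `E` is not normal, then `N_X(E) = C_X(e)`;
* `Tie.eq_of_conj` : in that case `e` is the only conjugate of `e` in `E`.
-/

set_option autoImplicit false

namespace Cfsg.Agent.Omega.ML.Ex.TIE

open Subgroup Cfsg.Agent.ClassTwoFusion.Quad

variable {X : Type*} [Group X] {M : Type*} [Group M] [MulDistribMulAction X M]

/-- the group of all `x` which centralise `F` and `M / F` -/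
def EE (F : Subgroup M) : Subgroup X where
  carrier := {x | (∀ m ∈ F, x • m = m) ∧ ∀ m : M, (x • m) * m⁻¹ ∈ F}
  one_mem' := ⟨fun m _ => one_smul X m, fun m => by rw [one_smul, mul_inv_cancel]; exact F.one_mem⟩
  mul_mem' := by
    rintro x y ⟨hx, hx'⟩ ⟨hy, hy'⟩
    refine ⟨fun m hm => by rw [mul_smul, hy m hm, hx m hm], fun m => ?_⟩
    have h1 : (x * y) • m * m⁻¹ = (x • (y • m) * (y • m)⁻¹) * (y • m * m⁻¹) := by
      rw [mul_smul]; group
    rw [h1]
    exact F.mul_mem (hx' _) (hy' _)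
  inv_mem' := by
    rintro x ⟨hx, hx'⟩
    refine ⟨fun m hm => by rw [inv_smul_eq_iff, hx m hm], fun m => ?_⟩
    have h1 : x⁻¹ • m * m⁻¹ = ((x • (x⁻¹ • m)) * (x⁻¹ • m)⁻¹)⁻¹ := by
      rw [smul_inv_smul]; group
    rw [h1]
    exact F.inv_mem (hx' _)

theorem mem_EE {F : Subgroup M} {x : X} :
    x ∈ (EE F : Subgroup X) ↔ (∀ m ∈ F, x • m = m) ∧ ∀ m : M, (x • m) * m⁻¹ ∈ F := Iff.rfl

/-- exponent 2 -/
theorem EE_sq (sq : ∀ m : M, m * m = 1) (faith : ∀ x : X, (∀ m : M, x • m = m) → x = 1) {F : Subgroup M} {x : X}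
    (hx : x ∈ (EE F : Subgroup X)) : x * x = 1 := by
  refine faith _ fun m => ?_
  have h1 : x • m = (x • m * m⁻¹) * m := by group
  rw [mul_smul]
  calc x • (x • m) = x • ((x • m * m⁻¹) * m) := by rw [← h1]
    _ = (x • (x • m * m⁻¹)) * (x • m) := smul_mul' _ _ _
    _ = (x • m * m⁻¹) * ((x • m * m⁻¹) * m) := by rw [hx.1 _ (hx.2 m), ← h1]
    _ = ((x • m * m⁻¹) * (x • m * m⁻¹)) * m := (mul_assoc _ _ _).symm
    _ = m := by rw [sq, one_mul]

/-- the stabiliser of `F` normalises `EE F` -/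
theorem smul_mem_EE {F : Subgroup M} {g x : X} (hg : ∀ m, m ∈ F ↔ g • m ∈ F) (hx : x ∈ (EE F : Subgroup X)) :
    g * x * g⁻¹ ∈ (EE F : Subgroup X) := by
  have hg' : ∀ m ∈ F, g⁻¹ • m ∈ F := fun m hm => by rw [hg, smul_inv_smul]; exact hm
  refine ⟨fun m hm => ?_, fun m => ?_⟩
  · rw [mul_smul, mul_smul, hx.1 _ (hg' m hm), smul_inv_smul]
  · have h1 := (hg _).1 (hx.2 (g⁻¹ • m))
    rw [smul_mul', smul_inv', smul_inv_smul, ← mul_smul, ← mul_smul] at h1
    exact h1

/-- The output: `E` is elementary abelian of order at least 4, `C_M(e) = F` for all `e ∈ E#`, `C_X(e) ≤ N_X(E)`. -/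
structure Tie (E : Subgroup X) (F : Subgroup M) : Prop where
  el : ∀ e ∈ E, e * e = 1
  four : 4 ≤ Nat.card E
  fix : ∀ e ∈ E, e ≠ 1 → cv M {e} = F
  com : ∀ e ∈ E, ∀ m : M, (e • m) * m⁻¹ ∈ F
  norm : ∀ g : X, g ∈ normalizer (E : Set X) ↔ ∀ m, m ∈ F ↔ g • m ∈ F
  cent : ∀ e ∈ E, e ≠ 1 → centralizer {e} ≤ normalizer (E : Set X)
  ti : ∀ g e : X, e ∈ E → e ≠ 1 → g * e * g⁻¹ ∈ E → g ∈ normalizer (E : Set X)

/-- **LEMMA E** -/
theorem exists_tie [Finite X] [Finite M] (sq : ∀ m : M, m * m = 1)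
    (faith : ∀ x : X, (∀ m : M, x • m = m) → x = 1)
    (notv : ∀ x : X, x ≠ 1 → x * x = 1 → 4 * Nat.card (cv M {x}) ≤ Nat.card M)
    {B : Subgroup X} (el : ∀ b ∈ B, b * b = 1) (four : 4 ≤ Nat.card B)
    (idx : Nat.card M ≤ 4 * Nat.card (cv M (B : Set X))) :
    B ≤ EE (cv M (B : Set X)) ∧ Tie (EE (cv M (B : Set X)) : Subgroup X) (cv M (B : Set X)) := by
  set F := cv M (B : Set X) with hF
  -- an involution which centralises `F` has `C_M = F`
  have key : ∀ e : X, e ≠ 1 → e * e = 1 → (∀ m ∈ F, e • m = m) → cv M {e} = F := by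
    intro e he1 he2 he
    have h1 : F ≤ cv M {e} := fun m hm => mem_cv_singleton.2 (he m hm)
    have h2 := notv e he1 he2
    exact (Subgroup.eq_of_le_of_card_ge h1 (by omega)).symm
  have hcom : ∀ e : X, e * e = 1 → cv M {e} = F → ∀ m : M, (e • m) * m⁻¹ ∈ F := by
    intro e he2 he m
    rw [← he, mem_cv_singleton, smul_mul', ← mul_smul, he2, one_smul, smul_inv']
    have h1 : ∀ a b : M, a * b = b * a := fun a b => by
      have h2 := sq (a * b)
      calc a * b = a * b * ((b * a) * (b * a)) := by rw [sq (b * a), mul_one]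
        _ = a * (b * b) * a * (b * a) := by group
        _ = b * a := by rw [sq b, mul_one, sq a, one_mul]
    have h3 : m⁻¹ = m := inv_eq_of_mul_eq_one_left (sq m)
    have h4 : (e • m)⁻¹ = e • m := inv_eq_of_mul_eq_one_left (sq _)
    rw [h3, h4, h1]
  have hBF : ∀ b ∈ B, ∀ m ∈ F, b • m = m := fun b hb m hm => hm b hb
  have hB : B ≤ (EE F : Subgroup X) := by
    intro b hb
    rcases eq_or_ne b 1 with rfl | hb1
    · exact one_mem _
    · exact ⟨hBF b hb, hcom b (el b hb) (key b hb1 (el b hb) (hBF b hb))⟩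
  have hfix : ∀ e ∈ (EE F : Subgroup X), e ≠ 1 → cv M {e} = F := fun e he he1 =>
    key e he1 (EE_sq sq faith he) he.1
  -- an element which carries some `e ∈ E#` into `E` stabilises `F`
  have hst : ∀ g e : X, e ∈ (EE F : Subgroup X) → e ≠ 1 → g * e * g⁻¹ ∈ (EE F : Subgroup X) →
      ∀ m, m ∈ F ↔ g • m ∈ F := by
    intro g e he he1 hge m
    have h1 : g * e * g⁻¹ ≠ 1 := fun h => he1 (by
      have h2 : e = g⁻¹ * (g * e * g⁻¹) * g := by group
      rw [h2, h]; group)
    have h2 := hfix e he he1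
    have h3 := hfix _ hge h1
    constructor
    · intro hm
      rw [← h3, mem_cv_singleton, ← mul_smul, inv_mul_cancel_right, mul_smul]
      rw [← h2, mem_cv_singleton] at hm
      rw [hm]
    · intro hm
      rw [← h3, mem_cv_singleton, ← mul_smul, inv_mul_cancel_right, mul_smul, smul_left_cancel_iff] at hm
      rw [← h2, mem_cv_singleton]
      exact hm
  have hnor : ∀ g : X, (∀ m, m ∈ F ↔ g • m ∈ F) → g ∈ normalizer ((EE F : Subgroup X) : Set X) := by
    intro g hg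
    have hg' : ∀ m, m ∈ F ↔ g⁻¹ • m ∈ F := fun m => by rw [hg (g⁻¹ • m), smul_inv_smul]
    rw [mem_normalizer_iff]
    refine fun x => ⟨fun hx => smul_mem_EE hg hx, fun hx => ?_⟩
    have h1 := smul_mem_EE hg' hx
    have h2 : g⁻¹ * (g * x * g⁻¹) * g⁻¹⁻¹ = x := by group
    rwa [h2] at h1
  have hcard : 4 ≤ Nat.card (EE F : Subgroup X) := four.trans (card_le_of_le hB)
  obtain ⟨e₀, he₀, he₀1⟩ : ∃ e ∈ (EE F : Subgroup X), e ≠ 1 := by
    by_contra hcon
    push Not at hcon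
    have h1 : (EE F : Subgroup X) = ⊥ := (eq_bot_iff_forall _).2 hcon
    rw [h1, card_bot] at hcard
    omega
  refine ⟨hB, fun e he => EE_sq sq faith he, hcard, hfix, fun e he => he.2, fun g => ⟨fun hg => ?_, hnor g⟩, ?_, ?_⟩
  · exact hst g e₀ he₀ he₀1 ((mem_normalizer_iff.1 hg e₀).1 he₀)
  · intro e he he1 g hg
    refine hnor g (hst g e he he1 ?_)
    have h1 : g * e = e * g := (mem_centralizer_iff.1 hg e rfl).symm
    rw [h1, mul_inv_cancel_right]
    exact he
  · exact fun g e he he1 hge => hnor g (hst g e he he1 hge)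

section max

variable {E : Subgroup X} {F : Subgroup M}

/-- a maximal centraliser -/
theorem Tie.normalizer_eq (h : Tie E F) {e : X} (he : e ∈ E) (he1 : e ≠ 1)
    (hmax : ∀ R : Subgroup X, centralizer {e} ≤ R → R ≠ ⊤ → R = centralizer {e})
    (hE : normalizer (E : Set X) ≠ ⊤) : normalizer (E : Set X) = centralizer {e} :=
  hmax _ (h.cent e he he1) hE

/-- `e` is the only conjugate of `e` in `E` -/
theorem Tie.eq_of_conj (h : Tie E F) {e : X} (he : e ∈ E) (he1 : e ≠ 1)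
    (hN : normalizer (E : Set X) = centralizer {e}) {g : X} (hg : g * e * g⁻¹ ∈ E) : g * e * g⁻¹ = e := by
  have h1 := h.ti g e he he1 hg
  rw [hN] at h1
  rw [← (mem_centralizer_iff.1 h1 e rfl), mul_inv_cancel_right]

/-- all the other centralisers are contained in the maximal one -/
theorem Tie.centralizer_le (h : Tie E F) {e : X} (hN : normalizer (E : Set X) = centralizer {e}) {f : X} (hf : f ∈ E)
    (hf1 : f ≠ 1) : centralizer {f} ≤ centralizer {e} := by
  rw [← hN]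
  exact h.cent f hf hf1

/-- `E` is normal in `C_X(e)` if `C_X(e)` is maximal -/
theorem Tie.conj_mem (h : Tie E F) {e : X} (he : e ∈ E) (he1 : e ≠ 1) {g x : X} (hg : g ∈ centralizer {e})
    (hx : x ∈ E) : g * x * g⁻¹ ∈ E :=
  (mem_normalizer_iff.1 (h.cent e he he1 hg) x).1 hx

/-- the order of `E` -/
theorem Tie.exists_ne (h : Tie E F) [Finite X] (e : X) : ∃ f ∈ E, f ≠ 1 ∧ f ≠ e := by
  by_contra hcon
  push Not at hcon
  have h1 : (E : Set X) ⊆ {1, e} := fun x hx => by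
    rcases eq_or_ne x 1 with h2 | h2
    · exact Or.inl h2
    · exact Or.inr (hcon x hx h2)
  have h2 : Nat.card E ≤ 2 := by
    have h3 := Set.ncard_le_ncard h1 (Set.toFinite _)
    have h4 : ({1, e} : Set X).ncard ≤ 2 := Set.ncard_insert_le _ _ |>.trans (by rw [Set.ncard_singleton])
    exact le_trans (le_of_eq (Nat.card_coe_set_eq (E : Set X))) (h3.trans h4)
  have := h.four
  omega

end max

end Cfsg.Agent.Omega.ML.Ex.TIE
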