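import Cfsg.Agent.Omega.ML.Ex.WPart
import Cfsg.Agent.Omega.ML.Ex.TIE

/-!
# A K-free kill with the W-part (helper325)

`X` acts faithfully on `M` (exponent 2), `h : WPart K T p`.  For `z ∈ K` put `GG p z := p (C_W(z))`: the vectors of
`C_M(z)` all of whose lifts are fixed by `z`.

* `smul_lift`      : `z` fixes all the lifts of the elements of `GG p z`;
* `exists_not_mem` : LEMMA Z: if `z ≠ 1` is central in `T` then `GG p z ≠ C_M(z)`;
* `mem_comm`       : if `z = [a, b]`, `a, b ∈ K` then `C_M(a) ∩ C_M(b) ≤ GG p z`;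
* `sub_mem`        : if `g ∈ K` commutes with `z` then `[C_M(z), g] ≤ GG p z`;
* **`false_of`**   : no `z, a ∈ A`, `g, a ∈ K` with `g³ = 1`, `[g,z] = 1`, `[a, a^g] = z`, `|C_M(z)| ≤ 2 |C_M(A)|`;
* `false_of_index` : the same `z, a, g` : not all of `z, a, az` have `|M : C_M(-)| ≤ 2`;
* `quad_of`        : if `C_M(b) = C_M(A)` for an involution `b ∈ A`, `A` abelian, then `A` is quadratic.
-/

set_option autoImplicit false

namespace Cfsg.Agent.Omega.ML.Ex.KillZ

open Subgroup Cfsg.Agent.ClassTwoFusion.Quad Cfsg.Agent.Omega.ML.Ex.TIE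

section comm

variable {M : Type*} [Group M]

theorem inv_self (sq : ∀ m : M, m * m = 1) (m : M) : m⁻¹ = m := inv_eq_of_mul_eq_one_left (sq m)

theorem comm_of (sq : ∀ m : M, m * m = 1) (x y : M) : x * y = y * x := by
  calc x * y = (x * y)⁻¹ := (inv_self sq _).symm
    _ = y⁻¹ * x⁻¹ := mul_inv_rev _ _
    _ = y * x := by rw [inv_self sq, inv_self sq]

/-- a subgroup of index at most 2 -/
theorem mul_mem_of_card [Finite M] {F V : Subgroup M} (hFV : F ≤ V) (hc : Nat.card V ≤ 2 * Nat.card F) {x y : M}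
    (hx : x ∈ V) (hy : y ∈ V) (hx' : x ∉ F) (hy' : y ∉ F) : x * y ∈ F := by
  have h1 : F.relIndex V * Nat.card F = Nat.card V := by
    have := relIndex_mul_relIndex (⊥ : Subgroup M) F V bot_le hFV
    rw [relIndex_bot_left, relIndex_bot_left] at this
    rw [mul_comm]; exact this
  have h2 : F.relIndex V ≤ 2 := by
    rw [← h1] at hc
    exact Nat.le_of_mul_le_mul_right hc Nat.card_pos
  have h3 : F.relIndex V ≠ 0 := by
    intro h0
    rw [h0, zero_mul] at h1
    exact absurd h1.symm Nat.card_pos.ne'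
  have h4 : F.relIndex V ≠ 1 := fun h5 => hx' (relIndex_eq_one.1 h5 hx)
  have h5 : (F.subgroupOf V).index = 2 := by
    change F.relIndex V = 2
    omega
  have h6 := (mul_mem_iff_of_index_two h5 (a := ⟨x, hx⟩) (b := ⟨y, hy⟩)).2
    (by rw [mem_subgroupOf, mem_subgroupOf]; exact iff_of_false hx' hy')
  rw [mem_subgroupOf] at h6
  exact h6

end comm

variable {X : Type*} [Group X] {M : Type*} [Group M] [MulDistribMulAction X M] {W : Type*} [CommGroup W]
  [MulDistribMulAction X W] {K T : Subgroup X} {p : W →* M}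

/-- the image of `C_W(z)` -/
def GG (p : W →* M) (z : X) : Subgroup M := (cv W ({z} : Set X)).map p

theorem smul_lift (h : WPart K T p) {z : X} (hz : z ∈ K) {w : W} (hw : p w ∈ GG p z) : z • w = w := by
  obtain ⟨w', hw', he⟩ := hw
  rw [SetLike.mem_coe, mem_cv_singleton] at hw'
  have h1 := h.chi_eq (w := w) (w' := w') he.symm hz
  rw [hw', mul_inv_cancel] at h1
  exact mul_inv_eq_one.1 h1

omit [MulDistribMulAction X M] in
theorem mem_GG {z : X} {w : W} (hw : z • w = w) : p w ∈ GG p z :=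
  ⟨w, mem_cv_singleton.2 hw, rfl⟩

/-- **LEMMA Z.** -/
theorem exists_not_mem [Finite W] (h : WPart K T p) (hT : IsPGroup 2 T)
    (faith : ∀ x : X, (∀ m : M, x • m = m) → x = 1) {z : X} (hzK : z ∈ K) (hz1 : z ≠ 1)
    (hzT : ∀ t ∈ T, t * z = z * t) : ∃ v : M, z • v = v ∧ v ∉ GG p z := by
  by_contra hcon
  push Not at hcon
  -- the commutator subgroup `[W, z]`
  let I : Subgroup W :=
    { carrier := {u | ∃ w : W, (z • w) * w⁻¹ = u}
      one_mem' := ⟨1, by rw [smul_one, one_mul, inv_one]⟩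
      mul_mem' := by
        rintro _ _ ⟨w, rfl⟩ ⟨w', rfl⟩
        refine ⟨w * w', ?_⟩
        rw [smul_mul', mul_inv]
        exact mul_mul_mul_comm _ _ _ _
      inv_mem' := by
        rintro _ ⟨w, rfl⟩
        refine ⟨w⁻¹, ?_⟩
        rw [smul_inv', mul_inv] }
  have hI : ∀ t ∈ T, ∀ u ∈ I, t • u ∈ I := by
    rintro t ht _ ⟨w, rfl⟩
    refine ⟨t • w, ?_⟩
    rw [smul_mul', smul_inv', ← mul_smul, ← mul_smul, hzT t ht]
  have hne : I ≠ ⊥ := by
    intro h1
    apply hz1
    refine faith z fun m => ?_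
    obtain ⟨w, rfl⟩ := h.surj m
    have h2 : (z • w) * w⁻¹ ∈ I := ⟨w, rfl⟩
    rw [h1, mem_bot, mul_inv_eq_one] at h2
    rw [← h.eqv, h2]
  -- a fixed point
  obtain ⟨u, ⟨w, rfl⟩, hu1, hu⟩ : ∃ u ∈ I, u ≠ 1 ∧ ∀ t ∈ T, t • u = u := by
    have h2f : Fact (Nat.Prime 2) := ⟨Nat.prime_two⟩
    let _ : MulDistribMulAction T I :=
      { smul := fun t w => ⟨(t : X) • (w : W), hI t t.2 w w.2⟩
        one_smul := fun w => Subtype.ext (one_smul X (w : W))
        mul_smul := fun c d w => Subtype.ext (mul_smul (c : X) d (w : W))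
        smul_mul := fun c u w => Subtype.ext (smul_mul' (c : X) (u : W) w)
        smul_one := fun c => Subtype.ext (smul_one (c : X)) }
    have h1 : IsPGroup 2 I := fun w => ⟨1, by rw [pow_one, pow_two]; exact Subtype.ext (h.sq w)⟩
    have h5 : 2 ∣ Nat.card I := by
      obtain ⟨k, hk⟩ := IsPGroup.iff_card.1 h1
      rw [hk]
      refine dvd_pow_self 2 ?_
      rintro rfl
      rw [pow_zero, card_eq_one] at hk
      exact hne hk
    obtain ⟨b, hb, hb1⟩ :=
      hT.exists_fixed_point_of_prime_dvd_card_of_fixed_point I h5 (a := (1 : I)) (fun c => smul_one c)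
    exact ⟨b, b.2, fun h => hb1 (Subtype.ext h.symm), fun t ht => congrArg Subtype.val (hb ⟨t, ht⟩)⟩
  have h1 : p ((z • w) * w⁻¹) = 1 := (h.ker _).2 (h.fixT _ hu)
  rw [map_mul, map_inv, mul_inv_eq_one, h.eqv] at h1
  have h2 := smul_lift h hzK (hcon _ h1)
  exact hu1 (by rw [h2, mul_inv_cancel])

/-- **commutators** -/
theorem mem_comm (h : WPart K T p) {a b z : X} (ha : a ∈ K) (hb : b ∈ K) (hz : a * b * a⁻¹ * b⁻¹ = z) {v : M}
    (hav : a • v = v) (hbv : b • v = v) : v ∈ GG p z := by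
  obtain ⟨w, rfl⟩ := h.surj v
  set L : Subgroup X := closure {a, b} with hL
  have haL : a ∈ L := subset_closure (by simp)
  have hbL : b ∈ L := subset_closure (by simp)
  have hLK : L ≤ K := by
    rw [hL, closure_le]
    rintro x (rfl | hx)
    · exact ha
    · rw [Set.mem_singleton_iff.1 hx]; exact hb
  have hfix : ∀ k ∈ L, k • p w = p w := by
    have h1 : L ≤ MulAction.stabilizer X (p w) := by
      rw [hL, closure_le]
      rintro x (rfl | hx)
      · exact hav
      · rw [Set.mem_singleton_iff.1 hx]; exact hbv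
    exact fun k hk => h1 hk
  refine mem_GG (h.commutator_fix hLK hfix z ?_)
  rw [← hz]
  exact commutator_mem_commutator haL hbL

/-- `[C_M(z), g] ≤ GG` -/
theorem sub_mem (h : WPart K T p) {g z : X} (hg : g ∈ K) (hzK : z ∈ K) (hgz : g * z = z * g) {v : M}
    (hv : z • v = v) : (g • v) * v⁻¹ ∈ GG p z := by
  obtain ⟨w, rfl⟩ := h.surj v
  have h1 : p ((g • w) * w⁻¹) = (g • p w) * (p w)⁻¹ := by rw [map_mul, h.eqv, map_inv]
  rw [← h1]
  refine mem_GG ?_
  have h2 : (z • w) * w⁻¹ ∈ p.ker := h.mem_ker_of hv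
  have h3 : g • ((z • w) * w⁻¹) = (z • w) * w⁻¹ := h.smul_ker hg h2
  rw [smul_mul', smul_inv', ← mul_smul, hgz, mul_smul] at h3
  rw [smul_mul', smul_inv']
  have h4 : z • (g • w) = (z • w) * w⁻¹ * (g • w) := by rw [← h3, inv_mul_cancel_right]
  rw [h4, mul_comm (z • w * w⁻¹) (g • w), mul_assoc (g • w)]
  congr 1
  rw [mul_comm (z • w) w⁻¹, mul_assoc, mul_inv_cancel, mul_one]

/-- **The kill.** -/
theorem false_of [Finite M] [Finite W] (sq : ∀ m : M, m * m = 1) (faith : ∀ x : X, (∀ m : M, x • m = m) → x = 1)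
    (h : WPart K T p) (hT : IsPGroup 2 T) {A : Subgroup X} {z a g : X} (zA : z ∈ A) (zK : z ∈ K) (z1 : z ≠ 1)
    (zT : ∀ t ∈ T, t * z = z * t) (aA : a ∈ A) (aK : a ∈ K)
    (quad : ∀ m : M, (a • m) * m⁻¹ ∈ cv M (A : Set X)) (gK : g ∈ K) (gz : g * z = z * g) (g3 : g * g * g = 1)
    (hcom : a * (g * a * g⁻¹) * a⁻¹ * (g * a * g⁻¹)⁻¹ = z)
    (hc : Nat.card (cv M ({z} : Set X)) ≤ 2 * Nat.card (cv M (A : Set X))) : False := by
  set F := cv M (A : Set X) with hF
  set V := cv M ({z} : Set X) with hV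
  have hFV : F ≤ V := cv_anti (by simpa using zA)
  have hgV : ∀ v ∈ V, g • v ∈ V := by
    intro v hv
    rw [hV, mem_cv_singleton] at hv ⊢
    rw [← mul_smul, ← gz, mul_smul, hv]
  have hg3 : ∀ v : M, g • (g • (g • v)) = v := by
    intro v
    rw [← mul_smul, ← mul_smul, g3, one_smul]
  have hab : ∀ x y : M, x * y = y * x := comm_of sq
  -- `F ∩ g F ≤ G`
  have hP2 : ∀ v ∈ F, g⁻¹ • v ∈ F → v ∈ GG p z := by
    intro v hv hv'
    refine mem_comm h aK (K.mul_mem (K.mul_mem gK aK) (K.inv_mem gK)) hcom (hv a aA) ?_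
    rw [mul_smul, mul_smul, hv' a aA, smul_inv_smul]
  have hP2' : ∀ v ∈ F, g • v ∈ F → g • v ∈ GG p z := by
    intro v hv hv'
    exact hP2 _ hv' (by rw [inv_smul_smul]; exact hv)
  -- `g F ≠ F`
  obtain ⟨m, hm, hgm⟩ : ∃ m ∈ F, g • m ∉ F := by
    by_contra hcon
    push Not at hcon
    have hst : ∀ m, m ∈ F ↔ g • m ∈ F := by
      intro m
      refine ⟨fun hm => hcon m hm, fun hm => ?_⟩
      rw [← hg3 m]
      exact hcon _ (hcon _ hm)
    have h1 : a ∈ (EE F : Subgroup X) := ⟨fun m hm => hm a aA, quad⟩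
    have h2 : g * a * g⁻¹ ∈ (EE F : Subgroup X) := smul_mem_EE hst h1
    have h3 := EE_sq sq faith h1
    have h4 := EE_sq sq faith h2
    have h5 := EE_sq sq faith (mul_mem h1 h2)
    have h6 : a⁻¹ = a := inv_eq_of_mul_eq_one_left h3
    have h7 : (g * a * g⁻¹)⁻¹ = g * a * g⁻¹ := inv_eq_of_mul_eq_one_left h4
    apply z1
    rw [← hcom, h6, h7, mul_assoc (a * (g * a * g⁻¹)) a]
    exact h5
  have hmm : ∀ x y : M, x ∈ V → y ∈ V → x ∉ F → y ∉ F → x * y ∈ F := fun x y hx hy hx' hy' =>
    mul_mem_of_card hFV hc hx hy hx' hy'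
  have hG1 : ∀ v ∈ V, (g • v) * v⁻¹ ∈ GG p z := fun v hv => sub_mem h gK zK gz (mem_cv_singleton.1 hv)
  by_cases hFG : F ≤ GG p z
  · obtain ⟨v, hv, hvG⟩ := exists_not_mem h hT faith zK z1 zT
    have hvV : v ∈ V := mem_cv_singleton.2 hv
    have h1 : v * (g • m) ∈ F := hmm _ _ hvV (hgV m (hFV hm)) (fun h1 => hvG (hFG h1)) hgm
    have h2 : g • m ∈ GG p z := by
      have h3 := mul_mem (hG1 m (hFV hm)) (hFG hm)
      rwa [inv_mul_cancel_right] at h3
    apply hvG
    have h3 := mul_mem (hFG h1) (inv_mem h2)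
    rwa [mul_inv_cancel_right] at h3
  · obtain ⟨f, hf, hfG⟩ := SetLike.not_le_iff_exists.1 hFG
    have hfV := hFV hf
    have h1 : g • f ∉ F := by
      intro h2
      apply hfG
      have h3 := mul_mem (inv_mem (hG1 f hfV)) (hP2' f hf h2)
      rwa [mul_inv_rev, inv_inv, inv_mul_cancel_right] at h3
    have h2 : g • (g • f) ∉ F := by
      intro h3
      apply hfG
      have h4 := hP2' (g • (g • f)) h3 (by rw [hg3]; exact hf)
      rwa [hg3] at h4
    have hV1 := hgV f hfV
    have hV2 := hgV _ hV1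
    have h3 : (g • f) * (g • (g • f)) ∈ F := hmm _ _ hV1 hV2 h1 h2
    have h4 : f * ((g • f) * (g • (g • f))) ∈ F := F.mul_mem hf h3
    have h5 : g • (f * ((g • f) * (g • (g • f)))) = f * ((g • f) * (g • (g • f))) := by
      rw [smul_mul', smul_mul', hg3, ← mul_assoc, hab]
    have h6 : f * ((g • f) * (g • (g • f))) ∈ GG p z := by
      have := hP2' _ h4 (by rw [h5]; exact h4)
      rwa [h5] at this
    have h7 : (g • f) * (g • (g • f)) ∈ GG p z := by
      have h8 := hG1 _ hV1
      have h9 : (g • f) * (g • (g • f)) = (g • (g • f)) * (g • f)⁻¹ := by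
        rw [inv_self sq (g • f), hab]
      rw [h9]
      exact h8
    apply hfG
    have h8 := mul_mem h6 (inv_mem h7)
    rwa [mul_inv_cancel_right] at h8

/-- `z`, `a`, `a z` are not all transvections. -/
theorem false_of_index [Finite M] (sq : ∀ m : M, m * m = 1) (faith : ∀ x : X, (∀ m : M, x • m = m) → x = 1)
    {z a g : X} (z1 : z ≠ 1) (zz : z * z = 1) (aa : a * a = 1) (az : a * z = z * a) (gz : g * z = z * g)
    (hcom : a * (g * a * g⁻¹) * a⁻¹ * (g * a * g⁻¹)⁻¹ = z)
    (h1 : (cv M ({z} : Set X)).index ≤ 2) (h2 : (cv M ({a} : Set X)).index ≤ 2)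
    (h3 : (cv M ({a * z} : Set X)).index ≤ 2) : False := by
  have hab : ∀ x y : M, x * y = y * x := comm_of sq
  have hinv : ∀ x : M, x⁻¹ = x := inv_self sq
  -- commuting is impossible
  have hne : ∀ b : X, b = g * a * g⁻¹ → a * b = b * a → False := by
    intro b hb h4
    apply z1
    rw [← hcom, ← hb, h4, mul_inv_cancel_right, mul_inv_cancel]
  -- index two
  have hmul : ∀ x : X, (cv M ({x} : Set X)).index ≤ 2 → ∀ m m' : M, x • m ≠ m → x • m' ≠ m' →
      x • (m * m') = m * m' := by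
    intro x hx m m' hm hm'
    have h4 : (cv M ({x} : Set X)).index ≠ 0 := index_ne_zero_of_finite
    have h5 : (cv M ({x} : Set X)).index ≠ 1 := by
      intro h6
      rw [index_eq_one] at h6
      exact hm (mem_cv_singleton.1 (h6 ▸ mem_top m))
    have h6 : (cv M ({x} : Set X)).index = 2 := by omega
    have h7 := (mul_mem_iff_of_index_two h6 (a := m) (b := m')).2
      (by rw [mem_cv_singleton, mem_cv_singleton]; exact iff_of_false hm hm')
    exact mem_cv_singleton.1 h7
  -- the centre of a transvection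
  have hcen : ∀ x : X, (cv M ({x} : Set X)).index ≤ 2 → ∀ m m' : M, x • m ≠ m → x • m' ≠ m' →
      (x • m) * m⁻¹ = (x • m') * m'⁻¹ := by
    intro x hx m m' hm hm'
    have h4 := hmul x hx m m' hm hm'
    rw [smul_mul'] at h4
    rw [hinv, hinv]
    calc (x • m) * m = ((x • m) * (x • m')) * (x • m') * m := by
          rw [mul_assoc (x • m), sq, mul_one]
      _ = (m * m') * (x • m') * m := by rw [h4]
      _ = m * (m' * (x • m')) * m := by rw [mul_assoc m]
      _ = (m' * (x • m')) * m * m := by rw [hab m]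
      _ = (x • m') * m' * (m * m) := by rw [hab m', mul_assoc]
      _ = (x • m') * m' := by rw [sq, mul_one]
  by_cases hcase : ∀ m : M, z • m = m → a • m = m
  · -- the same axis
    have hax : ∀ m : M, a • m = m ↔ z • m = m := by
      have h4 : cv M ({z} : Set X) ≤ cv M ({a} : Set X) := fun m hm =>
        mem_cv_singleton.2 (hcase m (mem_cv_singleton.1 hm))
      have h5 : cv M ({z} : Set X) = cv M ({a} : Set X) := by
        have h6 : (cv M ({a} : Set X)).index ≠ 1 := by
          intro h7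
          rw [index_eq_one] at h7
          apply z1
          have h8 : a = 1 := faith a fun m => mem_cv_singleton.1 (h7 ▸ mem_top m)
          rw [← hcom, h8]
          group
        refine Subgroup.eq_of_le_of_card_ge h4 ?_
        have h8 := (cv M ({z} : Set X)).card_mul_index
        have h9 := (cv M ({a} : Set X)).card_mul_index
        have h10 : (cv M ({a} : Set X)).index ≠ 0 := index_ne_zero_of_finite
        have h11 : (cv M ({a} : Set X)).index = 2 := by omega
        rw [h11] at h9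
        have h12 : Nat.card (cv M ({z} : Set X)) * (cv M ({z} : Set X)).index ≤
            Nat.card (cv M ({z} : Set X)) * 2 := Nat.mul_le_mul_left _ h1
        omega
      intro m
      rw [← mem_cv_singleton, ← mem_cv_singleton, h5]
    set V := cv M ({z} : Set X) with hV
    have hst : ∀ m, m ∈ V ↔ g • m ∈ V := by
      intro m
      rw [hV, mem_cv_singleton, mem_cv_singleton, ← mul_smul, ← gz, mul_smul, smul_left_cancel_iff]
    have h4 : a ∈ (EE V : Subgroup X) := by
      refine ⟨fun m hm => (hax m).2 (mem_cv_singleton.1 hm), fun m => ?_⟩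
      rw [hV, mem_cv_singleton, ← hax, smul_mul', smul_inv', ← mul_smul, aa, one_smul, hinv, hinv, hab]
    have h5 := smul_mem_EE hst h4
    have h6 := EE_sq sq faith h4
    have h7 := EE_sq sq faith h5
    have h8 := EE_sq sq faith (mul_mem h4 h5)
    refine hne _ rfl ?_
    have h9 : a⁻¹ = a := inv_eq_of_mul_eq_one_left h6
    have h10 : (g * a * g⁻¹)⁻¹ = g * a * g⁻¹ := inv_eq_of_mul_eq_one_left h7
    have h11 : (a * (g * a * g⁻¹))⁻¹ = a * (g * a * g⁻¹) := inv_eq_of_mul_eq_one_left h8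
    rw [← h11, mul_inv_rev, h9, h10]
  · -- the same centre
    push Not at hcase
    obtain ⟨m₁, hm₁, hm₁'⟩ := hcase
    -- an element moved by `z`
    obtain ⟨m₂, hm₂⟩ : ∃ m : M, z • m ≠ m := by
      by_contra hcon
      push Not at hcon
      exact z1 (faith z hcon)
    -- some `m` with `a z m = m`, `z m ≠ m`
    obtain ⟨m, hm, hm'⟩ : ∃ m : M, (a * z) • m = m ∧ z • m ≠ m := by
      by_cases h4 : (a * z) • m₂ = m₂
      · exact ⟨m₂, h4, hm₂⟩
      · refine ⟨m₁ * m₂, hmul _ h3 m₁ m₂ ?_ h4, ?_⟩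
        · rw [mul_smul, hm₁]
          exact hm₁'
        · intro h5
          rw [smul_mul', hm₁] at h5
          exact hm₂ (mul_left_cancel h5)
    have ham : a • m ≠ m := by
      intro h4
      apply hm'
      rw [az, mul_smul, h4] at hm
      exact hm
    have ham2 : a • m = z • m := by
      have h4 : a • ((a * z) • m) = a • m := by rw [hm]
      rw [← mul_smul, ← mul_assoc, aa, one_mul] at h4
      exact h4.symm
    set c := (z • m) * m⁻¹ with hc
    have hzc : ∀ y : M, z • y = y ∨ z • y = c * y := by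
      intro y
      by_cases h4 : z • y = y
      · exact Or.inl h4
      · right
        rw [hc, hcen z h1 m y hm' h4, inv_mul_cancel_right]
    have hac : ∀ y : M, a • y = y ∨ a • y = c * y := by
      intro y
      by_cases h4 : a • y = y
      · exact Or.inl h4
      · right
        rw [hc, ← ham2, hcen a h2 m y ham h4, inv_mul_cancel_right]
    have hgc : g • c = c := by
      have h4 : g • c = (z • (g • m)) * (g • m)⁻¹ := by
        rw [hc, smul_mul', smul_inv', ← mul_smul, ← mul_smul, gz]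
      have h5 : z • (g • m) ≠ g • m := by
        rw [← mul_smul, ← gz, mul_smul]
        exact fun h6 => hm' (smul_left_cancel _ h6)
      rw [h4, hc]
      exact (hcen z h1 m (g • m) hm' h5).symm
    have hbc : ∀ y : M, (g * a * g⁻¹) • y = y ∨ (g * a * g⁻¹) • y = c * y := by
      intro y
      rcases hac (g⁻¹ • y) with h4 | h4
      · left
        rw [mul_smul, mul_smul, h4, smul_inv_smul]
      · right
        rw [mul_smul, mul_smul, h4, smul_mul', hgc, smul_inv_smul]
    have hgc' : g⁻¹ • c = c := by rw [inv_smul_eq_iff, hgc]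
    have hca : a • c = c := by
      have h4 : a • ((a • m) * m⁻¹) = (a • m) * m⁻¹ := by
        rw [smul_mul', smul_inv', ← mul_smul, aa, one_smul, hinv, hinv, hab]
      rw [ham2, ← hc] at h4
      exact h4
    have hcb : (g * a * g⁻¹) • c = c := by rw [mul_smul, mul_smul, hgc', hca, hgc]
    refine hne _ rfl ?_
    have h4 : ∀ y : M, (a * (g * a * g⁻¹)) • y = ((g * a * g⁻¹) * a) • y := by
      intro y
      rw [mul_smul, mul_smul (g * a * g⁻¹) a]
      rcases hac y with h5 | h5 <;> rcases hbc y with h6 | h6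
      · rw [h5, h6, h5]
      · rw [h5, h6, smul_mul', hca, h5]
      · rw [h5, h6, smul_mul', hcb, h6, h5]
      · rw [h5, h6, smul_mul', hca, h5, smul_mul', hcb, h6]
    have h5 := faith ((g * a * g⁻¹ * a)⁻¹ * (a * (g * a * g⁻¹))) fun y => by
      rw [mul_smul, h4, inv_smul_smul]
    exact (inv_mul_eq_one.1 h5).symm

/-- `A` is quadratic if some involution of `A` has the same fixed points as `A`. -/
theorem quad_of (sq : ∀ m : M, m * m = 1) {A : Subgroup X} (hA : ∀ x ∈ A, ∀ y ∈ A, x * y = y * x) {b : X} (hb : b ∈ A)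
    (bb : b * b = 1) (hcv : ∀ m : M, b • m = m → m ∈ cv M (A : Set X)) {a : X} (ha : a ∈ A) (m : M) :
    (a • m) * m⁻¹ ∈ cv M (A : Set X) := by
  apply hcv
  have hab : ∀ x y : M, x * y = y * x := comm_of sq
  have hinv : ∀ x : M, x⁻¹ = x := inv_self sq
  have h1 : b • ((b • m) * m⁻¹) = (b • m) * m⁻¹ := by
    rw [smul_mul', smul_inv', ← mul_smul, bb, one_smul, hinv, hinv, hab]
  have h2 : a • ((b • m) * m⁻¹) = (b • m) * m⁻¹ := hcv _ h1 a ha
  rw [smul_mul', smul_inv', ← mul_smul, hA a ha b hb, mul_smul, hinv, hinv] at h2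
  rw [smul_mul', smul_inv', hinv, hinv]
  -- `h2 : b • a • m * a • m = b • m * m`
  calc b • (a • m) * (b • m) = (b • (a • m) * (a • m)) * (a • m) * (b • m) := by
        rw [mul_assoc (b • (a • m)), sq, mul_one]
    _ = (b • m) * m * (a • m) * (b • m) := by rw [h2]
    _ = (b • m) * (m * (a • m)) * (b • m) := by rw [mul_assoc (b • m)]
    _ = (m * (a • m)) * (b • m) * (b • m) := by rw [hab (b • m) (m * (a • m))]
    _ = (a • m) * m * ((b • m) * (b • m)) := by rw [hab m, mul_assoc]
    _ = (a • m) * m := by rw [sq, mul_one]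

end Cfsg.Agent.Omega.ML.Ex.KillZ
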