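import Cfsg.Agent.Omega.ML.Ex.Def
import Cfsg.Agent.Omega.ML.Ex.KillZ
import Cfsg.Agent.Omega.ML.RowU33

/-!
# The row `U₃(3) = G₂(2)'` of the exact K-list, with the W-part (helper325)

`InX X M K T A`, `WPart K T p`, `K ≅ U₃(3)` is impossible (`dead_W`).  Neither `low`, `nmax`, `sub` nor an atom is used.

Proof: let `z ∈ T ∩ K` be an involution central in `T`, `B := ⟨A, z⟩`.  Outer involutions `x` commuting with `z` invert an
element of order 7, so `|M : C_M(x)| ≥ 8` (`RowU33.eight_le`); elementary abelian subgroups of `K` over `z` have order at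
most 4 (`RowU33.inner_le`).  So `z ∈ A`, `|A| ≤ 8`, `|A ∩ K| ≥ 4`.  An involution `a ∈ C_K(z)`, `a ≠ z`, satisfies
`[a, a^g] = z` for an element `g ∈ C_K(z)` of order 3 (`comm_ga`).  Now `KillZ.false_of`.
-/

set_option autoImplicit false

namespace Cfsg.Agent.Omega.ML.Ex.RowU33W

section kfact

open Matrix Subgroup Cfsg
open Cfsg.Agent.Classification.RTwo.UThreeThree (K9 card_k9 card_k9' IsGood psuEquiv center_SU)
open Cfsg.Agent.OddHalf.Small.U33
open Cfsg.Agent.OddHalf.D4.Small.KU33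
open Cfsg.Agent.OddHalf.D6.RThree.U33
open Cfsg.Agent.Omega.ML.RowU33

/-- all involutions of `U₃(3)` are conjugate -/
theorem exists_conj {S : SU33} (hTT : S * S = 1) (hT1 : S ≠ 1) : ∃ g : SU33, g⁻¹ * S * g = t0 := by
  obtain ⟨v, hv, hTv⟩ := exists_fixed hTT hT1
  obtain ⟨g, hg⟩ := exists_su hv
  have hgi : mt g⁻¹ * mt g = 1 := by rw [← mt_mul, inv_mul_cancel, mt_one]
  refine ⟨g, ?_⟩
  apply eq_t0
  · calc g⁻¹ * S * g * (g⁻¹ * S * g) = g⁻¹ * (S * S) * g := by group
      _ = 1 := by rw [hTT]; group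
  · intro h
    apply hT1
    calc S = g * (g⁻¹ * S * g) * g⁻¹ := by group
      _ = 1 := by rw [h]; group
  · rw [mt_mul, mt_mul, ← Matrix.mulVec_mulVec, ← Matrix.mulVec_mulVec, hg, hTv, ← hg,
      Matrix.mulVec_mulVec, hgi, Matrix.one_mulVec]

/-- an outer involution commuting with `t0` inverts an element of order 7 -/
theorem out_inverts {β : MulAut SU33} (hβI : β ∉ (MulAut.conj : SU33 →* MulAut SU33).range) (h2 : β * β = 1)
    (h6 : β t0 = t0) : ∃ w : SU33, w ≠ 1 ∧ w ^ 7 = 1 ∧ β w = w⁻¹ := by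
  obtain ⟨g, hg, h7 | h7⟩ := fix_cases h6
  · exact absurd ⟨g, h7.symm⟩ hβI
  have h8' : ∀ x, β x = (g * gi) * φ x * (g * gi)⁻¹ := by
    intro x
    rw [h7, MulAut.mul_apply, MulAut.conj_apply, f_apply]
    group
  have h9 : (g * gi) * φ (g * gi) = 1 := by
    apply conj_inj
    rw [map_one, ← h2]
    refine MulEquiv.ext fun x => ?_
    have e1 : φ ((g * gi) * φ x * (g * gi)⁻¹) = φ (g * gi) * x * (φ (g * gi))⁻¹ := by
      rw [map_mul, map_mul _ (g * gi), map_inv, φφ]
    rw [MulAut.mul_apply, h8' (β x), h8' x, e1, MulAut.conj_apply]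
    group
  obtain ⟨w, hw1, hw7, hw⟩ := exists_seven (comm_mul hg gi_t0) h9
  refine ⟨w, hw1, hw7, ?_⟩
  rw [h8', eq_inv_iff_mul_eq_one]
  have e : (g * gi) * φ w = w⁻¹ * (g * gi) := by
    rw [eq_inv_mul_iff_mul_eq]; exact hw
  rw [e]
  group

theorem ga_aux' : ∀ s : Fin 8, s ≠ 0 → s ≠ 1 →
    (q8m s * (g0M * q8m s * (g0M * g0M))) * (q8m s * (g0M * q8m s * (g0M * g0M))) = dg := by decide +kernel

theorem q8m_zero : q8m 0 = 1 := rfl
theorem q8m_one : q8m 1 = dg := rfl

/-- `[r, r^ga] = t0` for `r ∈ Q₈` of order 4 -/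
theorem comm_q8 {r : SU33} (hr : r ∈ Q8) (hrr : r * r = t0) :
    r * (ga * r * ga⁻¹) * r⁻¹ * (ga * r * ga⁻¹)⁻¹ = t0 := by
  have hrt := Q8_comm hr
  obtain ⟨s, hs⟩ := q8_cases hr
  have hs0 : s ≠ 0 := by
    rintro rfl
    have h1 : r = 1 := mt_ext (by rw [hs, mt_one, q8m_zero])
    rw [h1, mul_one] at hrr
    exact t0_ne hrr.symm
  have hs1 : s ≠ 1 := by
    rintro rfl
    have h1 : r = t0 := mt_ext (by rw [hs, mt_t0, q8m_one])
    rw [h1, t0_t0] at hrr
    exact t0_ne hrr.symm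
  set r' := ga * r * ga⁻¹ with hr'
  have hr't : r' * t0 = t0 * r' := comm_mul (comm_mul ga_t0 hrt) (comm_inv ga_t0)
  have hrr' : r' * r' = t0 := by
    calc r' * r' = ga * (r * r) * ga⁻¹ := by rw [hr']; group
      _ = t0 := by rw [hrr, ga_t0, mul_inv_cancel_right]
  have hi : r⁻¹ = r * t0 := by
    rw [inv_eq_iff_mul_eq_one, ← mul_assoc, hrr, t0_t0]
  have hi' : r'⁻¹ = r' * t0 := by
    rw [inv_eq_iff_mul_eq_one, ← mul_assoc, hrr', t0_t0]
  have h1 : r * r' * r⁻¹ * r'⁻¹ = (r * r') * (r * r') := by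
    rw [hi, hi']
    calc r * r' * (r * t0) * (r' * t0) = r * r' * (r * (t0 * r') * t0) := by simp only [mul_assoc]
      _ = r * r' * (r * r') * (t0 * t0) := by rw [← hr't]; simp only [mul_assoc]
      _ = (r * r') * (r * r') := by rw [t0_t0, mul_one]
  rw [h1]
  apply mt_ext
  rw [hr', ga_inv]
  simp only [mt_mul]
  rw [mt_ga, hs, mt_t0]
  exact ga_aux' s hs0 hs1

/-- **`[x, x^ga] = t0`** for involutions `x ≠ t0` of `C(t0)` -/
theorem comm_ga {x : SU33} (hx : x * t0 = t0 * x) (hxx : x * x = 1) (h1 : x ≠ 1) (h2 : x ≠ t0) :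
    x * (ga * x * ga⁻¹) * x⁻¹ * (ga * x * ga⁻¹)⁻¹ = t0 := by
  have hD : D x = 1 ∨ D x = -1 := by
    have h3 : D x * D x = 1 := by rw [← D_mul hx, hxx, D_one]
    exact mul_self_eq_one_iff.1 h3
  have h3 : InQ x := inQ_of_two hx (isP_of_pow (k := 1) (by rw [pow_one, pow_two, hxx])) hD
  rcases inQ_cases h3 with h4 | ⟨r, hr, h4⟩
  · have h5 := isQ.sq x h4 h1 h2
    rw [hxx] at h5
    exact absurd h5.symm t0_ne
  · have hrt := Q8_comm hr
    have hcr : c * r = r * c := c_comm hrt
    have hcr' : c⁻¹ * r = r * c⁻¹ := ((show Commute c r from hcr).inv_left).eq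
    have hrr : r * r = t0 := by
      have h5 : c * c * (x * x) = r * r := by
        rw [h4]
        calc c * c * (c⁻¹ * r * (c⁻¹ * r)) = c * (r * c⁻¹) * r := by group
          _ = r * r := by rw [← hcr']; group
      rw [← h5, hxx, mul_one, c_c]
    have hcg : c⁻¹ * ga = ga * c⁻¹ := ((show Commute c ga from c_comm ga_t0).inv_left).eq
    have hx' : ga * x * ga⁻¹ = c⁻¹ * (ga * r * ga⁻¹) := by
      rw [h4]
      calc ga * (c⁻¹ * r) * ga⁻¹ = (ga * c⁻¹) * r * ga⁻¹ := by group
        _ = c⁻¹ * (ga * r * ga⁻¹) := by rw [← hcg]; group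
    have hr't : (ga * r * ga⁻¹) * t0 = t0 * (ga * r * ga⁻¹) := comm_mul (comm_mul ga_t0 hrt) (comm_inv ga_t0)
    rw [hx', h4]
    have hcr2 : Commute c⁻¹ (ga * r * ga⁻¹) := (show Commute c (ga * r * ga⁻¹) from c_comm hr't).inv_left
    have hcr1 : Commute c⁻¹ r := hcr'
    calc c⁻¹ * r * (c⁻¹ * (ga * r * ga⁻¹)) * (c⁻¹ * r)⁻¹ * (c⁻¹ * (ga * r * ga⁻¹))⁻¹
        = c⁻¹ * (r * c⁻¹) * ((ga * r * ga⁻¹) * r⁻¹) * c * ((ga * r * ga⁻¹)⁻¹ * c) := by group
      _ = c⁻¹ * (c⁻¹ * r) * ((ga * r * ga⁻¹) * r⁻¹) * c * (c * (ga * r * ga⁻¹)⁻¹) := by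
          rw [hcr', ← (show Commute c (ga * r * ga⁻¹)⁻¹ from
            (show Commute c (ga * r * ga⁻¹) from c_comm hr't).inv_right).eq]
      _ = c⁻¹ * c⁻¹ * (r * (ga * r * ga⁻¹) * r⁻¹) * (c * c) * (ga * r * ga⁻¹)⁻¹ := by group
      _ = c⁻¹ * c⁻¹ * (c * c) * (r * (ga * r * ga⁻¹) * r⁻¹) * (ga * r * ga⁻¹)⁻¹ := by
          have h6 : Commute (c * c) (r * (ga * r * ga⁻¹) * r⁻¹) := by
            have h7 : Commute c r := hcr
            have h8 : Commute c (ga * r * ga⁻¹) := c_comm hr't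
            have h9 : Commute c (r * (ga * r * ga⁻¹) * r⁻¹) := (h7.mul_right h8).mul_right h7.inv_right
            exact h9.mul_left h9
          rw [mul_assoc (c⁻¹ * c⁻¹), ← h6.eq]
          simp only [mul_assoc]
      _ = r * (ga * r * ga⁻¹) * r⁻¹ * (ga * r * ga⁻¹)⁻¹ := by group
      _ = t0 := comm_q8 hr hrr

end kfact

section row

open Subgroup Cfsg Cfsg.Agent.ClassTwoFusion.Quad
open Cfsg.Agent.OddHalf.Small.U33 (SU33 t0)
open Cfsg.Agent.OddHalf.D6.RThree.U33 (ga ga_t0 ga_cube conj_inj t0_t0 t0_ne index_inn)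

universe u v w

/-- an involution of `T ∩ K` central in `T` -/
theorem exists_z {X : Type*} [Group X] [Finite X] {K T : Subgroup X} (hK : K.Normal) (two : IsPGroup 2 T)
    (syl : ¬ 2 ∣ T.index) {u : X} (hu : u ∈ K) (uu : u * u = 1) (u1 : u ≠ 1) :
    ∃ z ∈ K, z ∈ T ∧ z * z = 1 ∧ z ≠ 1 ∧ ∀ t ∈ T, t * z = z * t := by
  have h2f : Fact (Nat.Prime 2) := ⟨Nat.prime_two⟩
  -- a conjugate of `u` in `T`
  have h1 : ∃ y ∈ T ⊓ K, y ≠ 1 := by
    let P : Sylow 2 X := two.toSylow syl
    have hu2 : IsPGroup 2 (zpowers u) := by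
      refine IsPGroup.of_card (n := 1) ?_
      rw [Nat.card_zpowers, pow_one]
      exact orderOf_eq_prime (by rw [pow_two, uu]) u1
    obtain ⟨Q, hQ⟩ := hu2.exists_le_sylow
    obtain ⟨g, hg⟩ := MulAction.exists_smul_eq X Q P
    have h2 : g * u * g⁻¹ ∈ (P : Subgroup X) := by
      rw [← hg, Sylow.coe_subgroup_smul]
      refine ⟨u, hQ (mem_zpowers u), ?_⟩
      exact MulAut.conj_apply g u
    refine ⟨g * u * g⁻¹, ⟨h2, hK.conj_mem u hu g⟩, fun h3 => u1 ?_⟩
    calc u = g⁻¹ * (g * u * g⁻¹) * g := by group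
      _ = 1 := by rw [h3]; group
  obtain ⟨y, hy, hy1⟩ := h1
  -- fixed points of `T` on `T ∩ K`
  have h2 : ∃ c ∈ T ⊓ K, c ≠ 1 ∧ ∀ t ∈ T, t * c = c * t := by
    let _ : MulAction T (T ⊓ K : Subgroup X) :=
      { smul := fun t x => ⟨(t : X) * x * (t : X)⁻¹,
          ⟨T.mul_mem (T.mul_mem t.2 x.2.1) (T.inv_mem t.2), hK.conj_mem _ x.2.2 _⟩⟩
        one_smul := fun x => Subtype.ext (by
          show ((1 : T) : X) * x * ((1 : T) : X)⁻¹ = x
          rw [OneMemClass.coe_one, one_mul, inv_one, mul_one])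
        mul_smul := fun s t x => Subtype.ext (by
          show ((s * t : T) : X) * x * ((s * t : T) : X)⁻¹ = (s : X) * ((t : X) * x * (t : X)⁻¹) * (s : X)⁻¹
          rw [Subgroup.coe_mul]; group) }
    have h3 : 2 ∣ Nat.card (T ⊓ K : Subgroup X) := by
      obtain ⟨k, hk⟩ := IsPGroup.iff_card.1 (two.to_le (inf_le_left : T ⊓ K ≤ T))
      rw [hk]
      refine dvd_pow_self 2 ?_
      rintro rfl
      rw [pow_zero, card_eq_one] at hk
      rw [hk] at hy
      exact hy1 (mem_bot.1 hy)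
    obtain ⟨b, hb, hb1⟩ := two.exists_fixed_point_of_prime_dvd_card_of_fixed_point (T ⊓ K : Subgroup X) h3
      (a := (1 : (T ⊓ K : Subgroup X))) (fun t => Subtype.ext (by
        show (t : X) * 1 * (t : X)⁻¹ = 1
        rw [mul_one, mul_inv_cancel]))
    refine ⟨b, b.2, fun h => hb1 (Subtype.ext h.symm), fun t ht => ?_⟩
    have h4 : t * (b : X) * t⁻¹ = b := congrArg Subtype.val (hb ⟨t, ht⟩)
    exact mul_inv_eq_iff_eq_mul.1 h4
  obtain ⟨c, hc, hc1, hcT⟩ := h2
  -- a power of `c`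
  obtain ⟨n, hn⟩ := two ⟨c, hc.1⟩
  have hn' : c ^ 2 ^ n = 1 := congrArg Subtype.val hn
  have h3 : ∃ k, c ^ 2 ^ k = 1 := ⟨n, hn'⟩
  classical
  obtain ⟨k, hk⟩ : ∃ k, Nat.find h3 = k + 1 := by
    refine Nat.exists_eq_succ_of_ne_zero fun h0 => ?_
    have := Nat.find_spec h3
    rw [h0, pow_zero, pow_one] at this
    exact hc1 this
  have h4 : c ^ 2 ^ (k + 1) = 1 := hk ▸ Nat.find_spec h3
  have h5 : c ^ 2 ^ k ≠ 1 := Nat.find_min h3 (by omega)
  refine ⟨c ^ 2 ^ k, K.pow_mem hc.2 _, T.pow_mem hc.1 _, ?_, h5, fun t ht => ?_⟩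
  · rw [← pow_add, ← two_mul, ← pow_succ', h4]
  · exact ((show Commute t c from hcT t ht).pow_right _).eq

variable {X : Type u} [Group X] [Finite X] {M : Type v} [Group M] [Finite M] [MulDistribMulAction X M]
  {K T A : Subgroup X}

/-- the automorphism of `SU₃(3)` induced by `x` -/
noncomputable def al (K : Subgroup X) [K.Normal] (e : K ≃* SU33) : X →* MulAut SU33 :=
  (MulAut.congr e).toMonoidHom.comp MulAut.conjNormal

omit [Finite X] in
theorem al_apply [K.Normal] (e : K ≃* SU33) (x : X) (s : K) :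
    al K e x (e s) = e ⟨x * s * x⁻¹, (inferInstance : K.Normal).conj_mem s s.2 x⟩ := by
  have h1 : al K e x (e s) = e (MulAut.conjNormal x (e.symm (e s))) := rfl
  rw [h1, MulEquiv.symm_apply_apply]
  congr 1

omit [Finite X] in
theorem al_coe [K.Normal] (e : K ≃* SU33) (k : K) : al K e (k : X) = MulAut.conj (e k) := by
  refine MulEquiv.ext fun y => ?_
  obtain ⟨s, rfl⟩ := e.surjective y
  rw [al_apply, MulAut.conj_apply, ← map_inv, ← map_mul, ← map_mul]
  rfl

omit [Finite X] in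
theorem al_inj [K.Normal] (e : K ≃* SU33) (cen : centralizer (K : Set X) = ⊥) : Function.Injective (al K e) := by
  rw [injective_iff_map_eq_one]
  intro x hx
  have h1 : x ∈ centralizer (K : Set X) := by
    refine mem_centralizer_iff.2 fun k hk => ?_
    have h2 := al_apply e x ⟨k, hk⟩
    rw [hx, MulAut.one_apply] at h2
    have h3 := congrArg Subtype.val (e.injective h2)
    have h4 : k = x * k * x⁻¹ := h3
    exact (mul_inv_eq_iff_eq_mul.1 h4.symm).symm
  rw [cen] at h1
  exact mem_bot.1 h1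

omit [Finite X] in
/-- the inner automorphisms -/
theorem mem_K [K.Normal] (e : K ≃* SU33) (cen : centralizer (K : Set X) = ⊥) (x : X) :
    x ∈ K ↔ al K e x ∈ (MulAut.conj : SU33 →* MulAut SU33).range := by
  constructor
  · intro hx
    exact ⟨e ⟨x, hx⟩, (al_coe e ⟨x, hx⟩).symm⟩
  · rintro ⟨s, hs⟩
    obtain ⟨k, rfl⟩ := e.surjective s
    rw [← al_coe] at hs
    rw [← al_inj e cen hs]
    exact k.2

/-- **The row `U₃(3)` with the W-part.** -/
theorem dead_SU {W : Type w} [CommGroup W] [Finite W] [MulDistribMulAction X W] {p : W →* M} (h : InX X M K T A)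
    (hw : WPart K T p) (e : K ≃* SU33) : False := by
  have hKn := h.norm
  have cen := h.cen
  -- `z`
  obtain ⟨z, zK, zT, zz, z1, zc⟩ : ∃ z ∈ K, z ∈ T ∧ z * z = 1 ∧ z ≠ 1 ∧ ∀ t ∈ T, t * z = z * t := by
    refine exists_z hKn h.two h.syl (u := ((e.symm t0 : K) : X)) (e.symm t0).2 ?_ ?_
    · rw [← Subgroup.coe_mul, ← map_mul, t0_t0, map_one, OneMemClass.coe_one]
    · intro h1
      have h2 : e.symm t0 = 1 := Subtype.ext h1
      rw [MulEquiv.symm_apply_eq, map_one] at h2
      exact t0_ne h2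
  -- conjugate `e z` into `t0`
  have hconj : ∀ x : K, x * x = 1 → x ≠ 1 → ∃ s : SU33, s⁻¹ * e x * s = t0 := fun x hx hx1 =>
    exists_conj (by rw [← map_mul, hx, map_one]) (fun h1 => hx1 (e.injective (by rw [h1, map_one])))
  obtain ⟨s₀, hs₀⟩ := hconj ⟨z, zK⟩ (Subtype.ext zz) (fun h1 => z1 (congrArg Subtype.val h1))
  obtain ⟨e', he'⟩ : ∃ e' : K ≃* SU33, e' ⟨z, zK⟩ = t0 :=
    ⟨e.trans (MulAut.conj s₀⁻¹), by
      rw [MulEquiv.trans_apply, MulAut.conj_apply, inv_inv]; exact hs₀⟩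
  clear hs₀ s₀ hconj
  have hconj : ∀ x ∈ K, x * x = 1 → x ≠ 1 → ∃ y : X, y * z * y⁻¹ = x := by
    intro x hx hxx hx1
    obtain ⟨s, hs⟩ := exists_conj (S := e' ⟨x, hx⟩) (by
      rw [← map_mul, show (⟨x, hx⟩ : K) * ⟨x, hx⟩ = 1 from Subtype.ext hxx, map_one])
      (fun h1 => hx1 (congrArg Subtype.val (e'.injective (h1.trans (map_one e').symm))))
    obtain ⟨y, rfl⟩ := e'.surjective s
    rw [← he', ← map_inv, ← map_mul, ← map_mul] at hs
    have h1 : (y : X)⁻¹ * x * y = z := congrArg Subtype.val (e'.injective hs)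
    exact ⟨y, by rw [← h1]; group⟩
  -- commuting with `z`
  have hcomm : ∀ x : X, x * z = z * x → al K e' x t0 = t0 := by
    intro x hx
    have h1 := al_apply e' x ⟨z, zK⟩
    rw [he'] at h1
    rw [h1]
    have h2 : (⟨x * z * x⁻¹, hKn.conj_mem z zK x⟩ : K) = ⟨z, zK⟩ := Subtype.ext (by
      show x * z * x⁻¹ = z
      rw [hx, mul_inv_cancel_right])
    exact (congrArg e' h2).trans he'
  -- outer involutions
  have hout : ∀ x : X, x ∉ K → x * x = 1 → x * z = z * x → 8 ≤ (cv M ({x} : Set X)).index := by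
    intro x hxK hxx hxz
    obtain ⟨w₀, hw1, hw7, hw⟩ := out_inverts (β := al K e' x) (fun h1 => hxK ((mem_K e' cen x).2 h1))
      (by rw [← map_mul, hxx, map_one]) (hcomm x hxz)
    obtain ⟨k, rfl⟩ := e'.surjective w₀
    rw [al_apply, ← map_inv] at hw
    have h1 : x * (k : X) * x⁻¹ = (k : X)⁻¹ := congrArg Subtype.val (e'.injective hw)
    refine RowU33.eight_le h.sq hxx (w := (k : X)) ?_ h1 ?_
    · rw [← map_pow] at hw7
      have h2 : k ^ 7 = 1 := e'.injective (by rw [hw7, map_one])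
      have h3 := congrArg Subtype.val h2
      rwa [Subgroup.coe_pow] at h3
    · by_contra hcon
      push Not at hcon
      have h2 := h.faith _ hcon
      apply hw1
      rw [show k = 1 from Subtype.ext h2, map_one]
  -- the group `B`
  have hzA : ∀ a ∈ A, a * z = z * a := fun a ha => zc a (h.AT ha)
  let B : Subgroup X :=
    { carrier := {x | x ∈ A ∨ x * z ∈ A}
      one_mem' := Or.inl A.one_mem
      mul_mem' := by
        rintro x y (hx | hx) (hy | hy)
        · exact Or.inl (A.mul_mem hx hy)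
        · right
          rw [mul_assoc]
          exact A.mul_mem hx hy
        · right
          rw [mul_assoc, hzA y hy, ← mul_assoc]
          exact A.mul_mem hx hy
        · left
          have h1 : y * z = z * y := by
            have h2 := hzA _ hy
            rw [mul_assoc, zz, mul_one] at h2
            have h3 : z * y = z * (y * z * z) := by rw [mul_assoc, zz, mul_one]
            calc y * z = z * (z * (y * z)) := by rw [← mul_assoc, zz, one_mul]
              _ = z * y := by rw [← h2]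
          have h2 : x * y = (x * z) * (y * z) := by
            rw [h1, mul_assoc, ← mul_assoc z z, zz, one_mul]
          rw [h2]
          exact A.mul_mem hx hy
      inv_mem' := by
        rintro x (hx | hx)
        · exact Or.inl (A.inv_mem hx)
        · right
          have h1 := A.inv_mem hx
          have h2 := hzA _ h1
          have h3 : z⁻¹ = z := inv_eq_of_mul_eq_one_left zz
          have h4 : x⁻¹ * z = z * ((x * z)⁻¹) * z := by rw [mul_inv_rev, h3, ← mul_assoc, zz, one_mul]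
          rw [h4, ← h2, mul_assoc, zz, mul_one]
          exact h1 }
  have hAB : A ≤ B := fun x hx => Or.inl hx
  have hzB : z ∈ B := Or.inr (by rw [zz]; exact A.one_mem)
  have hBz : ∀ b ∈ B, b * z = z * b := by
    rintro b (hb | hb)
    · exact hzA b hb
    · have h2 := hzA _ hb
      rw [mul_assoc, zz, mul_one] at h2
      calc b * z = z * (z * (b * z)) := by rw [← mul_assoc, zz, one_mul]
        _ = z * b := by rw [← h2]
  have hBB : ∀ b ∈ B, b * b = 1 := by
    rintro b (hb | hb)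
    · exact h.el b hb
    · have h2 := h.el _ hb
      have h3 := hBz b (Or.inr hb)
      calc b * b = b * (z * z) * b := by rw [zz, mul_one]
        _ = (b * z) * (z * b) := by simp only [mul_assoc]
        _ = 1 := by rw [← h3, h2]
  -- `|B ∩ K| ≤ 4`
  have hB4 : Nat.card (B ⊓ K : Subgroup X) ≤ 4 := by
    have h1 : Nat.card ((B.comap K.subtype).map e'.toMonoidHom : Subgroup SU33) ≤ 4 := by
      refine RowU33.inner_le ⟨⟨z, zK⟩, hzB, he'⟩ ?_
      rintro _ ⟨b, hb, rfl⟩
      rw [← map_mul, show b * b = 1 from Subtype.ext (hBB _ hb), map_one]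
    rw [card_map_of_injective e'.injective] at h1
    have h2 : (B.comap K.subtype).map K.subtype = B ⊓ K := by
      rw [map_comap_eq, K.range_subtype, inf_comm]
    rw [← h2, card_map_of_injective K.subtype_injective]
    exact h1
  have hB2 : Nat.card B ≤ 2 * Nat.card (B ⊓ K : Subgroup X) := by
    have h5 : K.relIndex B ≤ 2 := by
      have h7 : K = (MulAut.conj : SU33 →* MulAut SU33).range.comap (al K e') := by
        ext x
        exact mem_K e' cen x
      have h8 : K.index ≤ (MulAut.conj : SU33 →* MulAut SU33).range.index := by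
        have h9 : ((MulAut.conj : SU33 →* MulAut SU33).range.comap (al K e')).index ≤
            (MulAut.conj : SU33 →* MulAut SU33).range.index := by
          rw [index_comap]
          conv_rhs => rw [← relIndex_top_right]
          exact relIndex_le_of_le_right le_top (by rw [relIndex_top_right]; exact index_ne_zero_of_finite)
        rwa [← h7] at h9
      rw [index_inn] at h8
      have h6 : K.relIndex B ≤ K.relIndex ⊤ :=
        relIndex_le_of_le_right le_top (by rw [relIndex_top_right]; exact index_ne_zero_of_finite)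
      rw [relIndex_top_right] at h6
      exact h6.trans h8
    have h4 : Nat.card ↥(B ⊓ K) * K.relIndex B = Nat.card B := by
      have h5 := relIndex_mul_relIndex (⊥ : Subgroup X) (B ⊓ K) B bot_le inf_le_left
      rw [relIndex_bot_left, relIndex_bot_left, inf_relIndex_left] at h5
      exact h5
    rw [← h4, mul_comm]
    exact Nat.mul_le_mul_right _ h5
  -- index of the fixed points
  have hcvle : ∀ x ∈ A, cv M (A : Set X) ≤ cv M ({x} : Set X) := fun x hx => cv_anti (by simpa using hx)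
  have hcveq : ∀ x ∈ A, Nat.card A ≤ (cv M ({x} : Set X)).index → cv M ({x} : Set X) = cv M (A : Set X) := by
    intro x hx hle
    refine (Subgroup.eq_of_le_of_card_ge (hcvle x hx) ?_).symm
    have h2 := card_mul_index (cv M ({x} : Set X))
    have h3 := card_mul_index (cv M (A : Set X))
    rw [h.exact] at h3
    have h4 : Nat.card (cv M ({x} : Set X)) * Nat.card A ≤ Nat.card (cv M (A : Set X)) * Nat.card A := by
      rw [h3, ← h2]
      exact Nat.mul_le_mul_left _ hle
    exact Nat.le_of_mul_le_mul_right h4 Nat.card_pos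
  have hfour := h.four
  have hA8 : Nat.card A ≤ 8 := (card_le_of_le hAB).trans (hB2.trans (by omega))
  -- `z ∈ A`, and some element of `A` has the fixed points of `A` unless `A ≤ K`
  have hkey : A = B ∧ ((∃ b ∈ A, cv M ({b} : Set X) = cv M (A : Set X)) ∨ Nat.card A = 4) ∧
      4 ≤ Nat.card (A ⊓ K : Subgroup X) := by
    by_cases hAK : A ≤ K
    · have h1 : B ≤ K := by
        rintro b (hb | hb)
        · exact hAK hb
        · have h2 := K.mul_mem (hAK hb) zK
          rwa [mul_assoc, zz, mul_one] at h2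
      rw [inf_eq_left.2 h1] at hB4
      have h2 : A = B := Subgroup.eq_of_le_of_card_ge hAB (hB4.trans hfour)
      refine ⟨h2, Or.inr (le_antisymm (h2 ▸ hB4) hfour), ?_⟩
      rw [inf_eq_left.2 hAK]
      exact hfour
    · obtain ⟨x, hx, hxK⟩ := SetLike.not_le_iff_exists.1 hAK
      have h1 := hout x hxK (h.el x hx) (hzA x hx)
      have h2 : (cv M ({x} : Set X)).index ≤ Nat.card A := h.index_le (Set.singleton_subset_iff.2 hx)
      have h3 : A = B := Subgroup.eq_of_le_of_card_ge hAB ((hB2.trans (by omega)).trans (h1.trans h2))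
      refine ⟨h3, Or.inl ⟨x, hx, hcveq x hx (hA8.trans h1)⟩, ?_⟩
      have h4 : Nat.card A ≤ 2 * Nat.card (A ⊓ K : Subgroup X) := by
        have h5 := hB2
        rw [← h3] at h5
        exact h5
      omega
  obtain ⟨hAB', hcase, hAK4⟩ := hkey
  have zA : z ∈ A := by rw [hAB']; exact hzB
  -- `a`
  obtain ⟨a, aA, aK, a1, az⟩ : ∃ a ∈ A, a ∈ K ∧ a ≠ 1 ∧ a ≠ z := by
    by_contra hcon
    push Not at hcon
    have h1 : ((A ⊓ K : Subgroup X) : Set X) ⊆ {1, z} := by
      intro x hx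
      rcases eq_or_ne x 1 with h2 | h2
      · exact Or.inl h2
      · exact Or.inr (hcon x hx.1 hx.2 h2)
    have h3 := Set.ncard_le_ncard h1 (Set.toFinite _)
    have h4 : ({1, z} : Set X).ncard ≤ 2 := Set.ncard_insert_le _ _ |>.trans (by rw [Set.ncard_singleton])
    have h5 : Nat.card (A ⊓ K : Subgroup X) = ((A ⊓ K : Subgroup X) : Set X).ncard :=
      (Nat.card_coe_set_eq _)
    omega
  have haz := hzA a aA
  have haa := h.el a aA
  -- `g`
  set g : X := ((e'.symm ga : K) : X) with hg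
  have gK : g ∈ K := (e'.symm ga).2
  have gz : g * z = z * g := by
    have h1 : e'.symm ga * ⟨z, zK⟩ = ⟨z, zK⟩ * e'.symm ga := by
      apply e'.injective
      rw [map_mul, map_mul, he', MulEquiv.apply_symm_apply, ga_t0]
    exact congrArg Subtype.val h1
  have g3 : g * g * g = 1 := by
    have h1 : e'.symm ga * e'.symm ga * e'.symm ga = 1 := by
      rw [← map_mul, ← map_mul, ga_cube, map_one]
    exact congrArg Subtype.val h1
  have hcom : a * (g * a * g⁻¹) * a⁻¹ * (g * a * g⁻¹)⁻¹ = z := by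
    have h1 := comm_ga (x := e' ⟨a, aK⟩)
      (by
        rw [← he', ← map_mul, ← map_mul]
        exact congrArg e' (Subtype.ext haz))
      (by rw [← map_mul, show (⟨a, aK⟩ : K) * ⟨a, aK⟩ = 1 from Subtype.ext haa, map_one])
      (fun h2 => a1 (congrArg Subtype.val (e'.injective (h2.trans (map_one e').symm))))
      (fun h2 => az (congrArg Subtype.val (e'.injective (h2.trans he'.symm))))
    have h2 : e' (⟨a, aK⟩ * (e'.symm ga * ⟨a, aK⟩ * (e'.symm ga)⁻¹) * ⟨a, aK⟩⁻¹ *
        (e'.symm ga * ⟨a, aK⟩ * (e'.symm ga)⁻¹)⁻¹) = e' ⟨z, zK⟩ := by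
      simp only [map_mul, map_inv, MulEquiv.apply_symm_apply]
      rw [he']
      exact h1
    exact congrArg Subtype.val (e'.injective h2)
  -- no transvections
  have hz4 : 4 ≤ (cv M ({z} : Set X)).index := by
    have hidx : ∀ x ∈ K, x * x = 1 → x ≠ 1 → (cv M ({x} : Set X)).index = (cv M ({z} : Set X)).index := by
      intro x hx hxx hx1
      obtain ⟨y, rfl⟩ := hconj x hx hxx hx1
      exact InvFrob.index_cv_conj y z
    have h1 : ¬ (cv M ({z} : Set X)).index ≤ 2 := by
      intro hle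
      refine KillZ.false_of_index h.sq h.faith z1 zz haa haz gz hcom hle ?_ ?_
      · rw [hidx a aK haa a1]; exact hle
      · have h2 : a * z * (a * z) = 1 := h.el _ (A.mul_mem aA zA)
        have h3 : a * z ≠ 1 := by
          intro h4
          apply az
          calc a = a * z * z := by rw [mul_assoc, zz, mul_one]
            _ = z := by rw [h4, one_mul]
        rw [hidx (a * z) (K.mul_mem aK zK) h2 h3]
        exact hle
    obtain ⟨n, hn⟩ := (IsPGroup.iff_card.1 h.M_two)
    have h7 : (cv M ({z} : Set X)).index ∣ 2 ^ n := by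
      rw [← hn]
      exact index_dvd_card _
    obtain ⟨k, -, hk⟩ := (Nat.dvd_prime_pow Nat.prime_two).1 h7
    rw [hk] at h1 ⊢
    match k, h1 with
    | 0, h5 => simp at h5
    | 1, h5 => simp at h5
    | k + 2, _ => rw [pow_add]; have := Nat.one_le_two_pow (n := k); omega
  -- quadratic
  obtain ⟨b, bA, hb⟩ : ∃ b ∈ A, cv M ({b} : Set X) = cv M (A : Set X) := by
    rcases hcase with h1 | h1
    · exact h1
    · exact ⟨z, zA, hcveq z zA (by rw [h1]; exact hz4)⟩
  refine KillZ.false_of h.sq h.faith hw h.two zA zK z1 zc aA aK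
    (KillZ.quad_of h.sq h.A_comm bA (h.el b bA) (fun m hm => hb ▸ mem_cv_singleton.2 hm) aA) gK gz g3 hcom ?_
  have h2 := card_mul_index (cv M ({z} : Set X))
  have h3 := card_mul_index (cv M (A : Set X))
  rw [h.exact, ← h2] at h3
  have h4 : Nat.card (cv M ({z} : Set X)) * 4 ≤ Nat.card (cv M ({z} : Set X)) * (cv M ({z} : Set X)).index :=
    Nat.mul_le_mul_left _ hz4
  have h5 : Nat.card (cv M (A : Set X)) * Nat.card A ≤ Nat.card (cv M (A : Set X)) * 8 := Nat.mul_le_mul_left _ hA8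
  omega

open Cfsg.Agent.Classification.RTwo.UThreeThree (K9 card_k9 psuEquiv) in
/-- **The row `U₃(3)` with the W-part** -/
theorem dead_W {W : Type w} [CommGroup W] [Finite W] [MulDistribMulAction X W] {p : W →* M} (h : InX X M K T A)
    (hw : WPart K T p) (hK : ∃ (F : Type) (_ : Field F) (_ : Fintype F), Fintype.card F = 9 ∧
    Nonempty (K ≃* PSU 3 F 3)) : False := by
  obtain ⟨F, _, _, hF, ⟨e⟩⟩ := hK
  have hcard : Fintype.card F = Fintype.card K9 := by rw [hF, card_k9]
  let g : F ≃+* K9 := FiniteField.ringEquivOfCardEq hcard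
  exact dead_SU h hw (e.trans ((psuEquiv hF).trans (LieClassical.FieldTransfer.suCongr 3 3 g)))

end row

end Cfsg.Agent.Omega.ML.Ex.RowU33W
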