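import Cfsg.Agent.Omega.ML.Ex.LA
import Cfsg.Agent.Omega.ML.Ex.RowU33W
import Cfsg.Agent.Omega.ML.Ex.RowASix

/-!
# The pieces behind `PsR` which are finished (helper854)
-/

set_option autoImplicit false

namespace Cfsg.Agent.Omega.ML.Ex

open Cfsg

universe u v w

/-- **The row `U₃(3)` with the W-part** (helper325). -/
theorem u33W : DeadXW.{u, v, w} fun S _ => Rows.IsUThreeThree S :=
  fun _ _ _ _ _ _ _ _ _ _ _ _ _ _ _ h hW hK => RowU33W.dead_W h hW hK

/-- **The row `A₆` with the W-part** (helper848). -/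
theorem a6W : DeadXW.{u, v, w} fun S _ => Nonempty (S ≃* alternatingGroup (Fin 6)) :=
  fun _ _ _ _ _ _ _ _ _ _ _ _ _ _ _ h hW hK => RowASix.alt6_W h hW hK

end Cfsg.Agent.Omega.ML.Ex
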