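import Cfsg.Agent.Omega.ML.Ex.InAN

/-!
# The K-list for EXACT subgroups: the bridges between the literals (helper585)

`DeadN 𝒮` (helper995) is the weakest form of a row:

* `InN.inA` : the module `N` of `InN` is as in `InA`;
* **`DeadX.deadN`** (DefN.lean), **`DeadA.deadN`**, **`Row.deadN`** (InAN.lean) : every form of a row gives `DeadN`;
* `DeadN.mono`, `DeadN.or`;
* `InX.inN` : `InX` and `Atm M A` give `InN` (and `InA`) for the same module.
-/

set_option autoImplicit false

namespace Cfsg.Agent.Omega.ML.Ex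

open Subgroup Cfsg Cfsg.Agent.ZN Cfsg.Agent.ClassTwoFusion.Quad Cfsg.Agent.Omega.ML.MinFrame

universe u v

section

variable {H : Type u} [Group H] {N : Type v} [Group N] [MulDistribMulAction H N] {K T A : Subgroup H}

/-- the module `N` of `InN` with its exact atom -/
theorem InN.inA (h : InN H N K T A) : InA H N K T A where
  sq := h.sq
  faith := h.faith
  norm := h.norm
  simple := h.simple
  cen := h.cen
  gen := h.gen
  two := h.two
  syl := h.syl
  AT := h.AT
  el := h.el
  four := h.four
  exact := h.exact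
  atom := h.atom
  low := h.low
  nmax := h.nmax

/-- an atom of an irreducible module -/
theorem InX.inN [Finite H] [Finite N] (h : InX H N K T A) (hat : Atm N A) : InN H N K T A := InN.of_inX h hat

end

/-- smaller classes -/
theorem DeadN.mono {𝒮 𝒮' : ∀ (S : Type u) [Group S], Prop} (h : DeadN.{u, v} 𝒮)
    (h' : ∀ (S : Type u) [Group S], 𝒮' S → 𝒮 S) : DeadN.{u, v} 𝒮' :=
  fun H _ _ N _ _ _ K T A hI hS => h H N K T A hI (h' _ hS)

theorem DeadN.or {𝒮 𝒮' : ∀ (S : Type u) [Group S], Prop} (h : DeadN.{u, v} 𝒮) (h' : DeadN.{u, v} 𝒮') :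
    DeadN.{u, v} fun S _ => 𝒮 S ∨ 𝒮' S :=
  fun H _ _ N _ _ _ K T A hI hS =>
    hS.elim (fun h1 => h H N K T A hI h1) fun h1 => h' H N K T A hI h1

end Cfsg.Agent.Omega.ML.Ex
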