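import Cfsg.Agent.Omega.ML.Ex.Known
import Cfsg.Agent.Omega.ML.Ex.Bridge

/-!
# The K-list for EXACT ATOMS (EXL), over `InN`: the list of all rows (helper484)

* `InN.not_comm`, `InN.not_primeCyclic` (`DeadN.mono`, `DeadN.or` : Bridge.lean);
* **`RowsX.exitN`** : from the rows `RowsX` and the row `A₆` for atoms: in the situation `InN` a known `K` is of Lie type
  in characteristic 2 or `U₃(3) = G₂(2)'`;
* `RowsX.exitA` : the same for `InX` and an atom `A`;
* `RowsN` : the list with fields `DeadN 𝒮`, if some row is known for atoms only; **`RowsN.exit`**, `RowsN.exitX`;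
  `RowsX.rowsN`.
-/

set_option autoImplicit false

namespace Cfsg.Agent.Omega.ML.Ex

open Subgroup Cfsg Cfsg.Agent.Omega.ML.Known Cfsg.Agent.Omega.ML.Rows

universe u v

/-- `K` is not abelian -/
theorem InN.not_comm {H : Type u} [Group H] {M : Type v} [Group M] [MulDistribMulAction H M] {K T A : Subgroup H}
    (h : InN H M K T A) : ¬ ∀ a b : K, a * b = b * a := by
  intro hc
  have h1 : K ≤ centralizer (K : Set H) := by
    intro x hx
    rw [mem_centralizer_iff]
    intro y hy
    exact congrArg Subtype.val (hc ⟨y, hy⟩ ⟨x, hx⟩)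
  rw [h.cen] at h1
  have hs := h.simple
  obtain ⟨x, hx⟩ := exists_ne (1 : K)
  exact hx (Subtype.ext (mem_bot.1 (h1 x.2)))

/-- `K` is not of prime order -/
theorem InN.not_primeCyclic {H : Type u} [Group H] {M : Type v} [Group M] [MulDistribMulAction H M]
    {K T A : Subgroup H} (h : InN H M K T A) : ¬ IsPrimeCyclic K := by
  intro hc
  have h1 : Nat.Prime (Nat.card K) := hc
  have : Fact (Nat.card K).Prime := ⟨h1⟩
  have hcyc : IsCyclic K := isCyclic_of_prime_card (α := K) rfl
  exact h.not_comm fun x y => (IsCyclic.commGroup (α := K)).mul_comm x y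

/-- **The rows of the list (EXL), atoms.** -/
structure RowsN : Prop where
  a6 : DeadN.{u, v} fun S _ => Nonempty (S ≃* alternatingGroup (Fin 6))
  alt : DeadN.{u, v} fun S _ => ∃ n : ℕ, 7 ≤ n ∧ n ≠ 8 ∧ Nonempty (S ≃* alternatingGroup (Fin n))
  odd : DeadN.{u, v} fun S _ => OddLie S ∧ ¬ IsLieTypeChar 2 S ∧ ¬ IsUThreeThree S ∧ ¬ IsAlt6 S
  tits : DeadN.{u, v} @Lie.IsoTits
  m11 : DeadN.{u, v} @Spor.IsoM11
  m12 : DeadN.{u, v} @Spor.IsoM12
  m22 : DeadN.{u, v} @Spor.IsoM22
  m23 : DeadN.{u, v} @Spor.IsoM23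
  m24 : DeadN.{u, v} @Spor.IsoM24
  j1 : DeadN.{u, v} @Spor.IsoJ1
  j2 : DeadN.{u, v} @Spor.IsoJ2
  j3 : DeadN.{u, v} @Spor.IsoJ3
  j4 : DeadN.{u, v} @Spor.IsoJ4
  co1 : DeadN.{u, v} @Spor.IsoCo1
  co2 : DeadN.{u, v} @Spor.IsoCo2
  co3 : DeadN.{u, v} @Spor.IsoCo3
  mcl : DeadN.{u, v} @Spor.IsoMcL
  hs : DeadN.{u, v} @Spor.IsoHS
  suz : DeadN.{u, v} @Spor.IsoSuz
  he : DeadN.{u, v} @Spor.IsoHe
  ru : DeadN.{u, v} @Spor.IsoRu
  on : DeadN.{u, v} @Spor.IsoON
  ly : DeadN.{u, v} @Spor.IsoLy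
  fi22 : DeadN.{u, v} @Spor.IsoFi22
  fi23 : DeadN.{u, v} @Spor.IsoFi23
  fi24 : DeadN.{u, v} @Spor.IsoFi24'
  hn : DeadN.{u, v} @Spor.IsoHN
  th : DeadN.{u, v} @Spor.IsoTh
  b : DeadN.{u, v} @Spor.IsoB
  m : DeadN.{u, v} @Spor.IsoM

/-- rows over `InX` are rows over `InN` -/
theorem RowsX.rowsN (R : RowsX.{u, v}) (a6 : DeadN.{u, v} fun S _ => Nonempty (S ≃* alternatingGroup (Fin 6))) :
    RowsN.{u, v} where
  a6 := a6
  alt := R.alt.deadN
  odd := R.odd.deadN
  tits := R.tits.deadN
  m11 := R.m11.deadN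
  m12 := R.m12.deadN
  m22 := R.m22.deadN
  m23 := R.m23.deadN
  m24 := R.m24.deadN
  j1 := R.j1.deadN
  j2 := R.j2.deadN
  j3 := R.j3.deadN
  j4 := R.j4.deadN
  co1 := R.co1.deadN
  co2 := R.co2.deadN
  co3 := R.co3.deadN
  mcl := R.mcl.deadN
  hs := R.hs.deadN
  suz := R.suz.deadN
  he := R.he.deadN
  ru := R.ru.deadN
  on := R.on.deadN
  ly := R.ly.deadN
  fi22 := R.fi22.deadN
  fi23 := R.fi23.deadN
  fi24 := R.fi24.deadN
  hn := R.hn.deadN
  th := R.th.deadN
  b := R.b.deadN
  m := R.m.deadN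

/-- **All rows: in the situation `InN` a known simple group `K` is of Lie type in characteristic 2 or `U₃(3)`.** -/
theorem RowsN.exit (R : RowsN.{u, v}) {H : Type u} [Group H] [Finite H] {M : Type v} [Group M] [Finite M]
    [MulDistribMulAction H M] {K T A : Subgroup H} (hI : InN H M K T A) (hS : IsKnownSimple' K) :
    IsLieTypeChar 2 K ∨ IsUThreeThree K := by
  by_contra hcon
  rw [not_or] at hcon
  obtain ⟨hc2, hc3⟩ := hcon
  by_cases hc6 : Nonempty (K ≃* alternatingGroup (Fin 6))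
  · exact R.a6 H M K T A hI hc6
  rcases cases hS with h | h | h | h | h | h | h
  · exact hI.not_primeCyclic h
  · exact hc2 h
  · exact R.odd H M K T A hI ⟨h.1, h.2, hc3, hc6⟩
  · exact hc6 h
  · exact R.alt H M K T A hI h
  · exact R.tits H M K T A hI h
  · unfold IsSporadicGroup at h
    rcases h with h | h | h | h | h | h | h | h | h | h | h | h | h | h | h | h | h | h | h | h | h | h | h | h | h | h
    · exact R.m11 H M K T A hI h
    · exact R.m12 H M K T A hI h
    · exact R.m22 H M K T A hI h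
    · exact R.m23 H M K T A hI h
    · exact R.m24 H M K T A hI h
    · exact R.j1 H M K T A hI h
    · exact R.j2 H M K T A hI h
    · exact R.j3 H M K T A hI h
    · exact R.j4 H M K T A hI h
    · exact R.co1 H M K T A hI h
    · exact R.co2 H M K T A hI h
    · exact R.co3 H M K T A hI h
    · exact R.mcl H M K T A hI h
    · exact R.hs H M K T A hI h
    · exact R.suz H M K T A hI h
    · exact R.he H M K T A hI h
    · exact R.ru H M K T A hI h
    · exact R.on H M K T A hI h
    · exact R.ly H M K T A hI h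
    · exact R.fi22 H M K T A hI h
    · exact R.fi23 H M K T A hI h
    · exact R.fi24 H M K T A hI h
    · exact R.hn H M K T A hI h
    · exact R.th H M K T A hI h
    · exact R.b H M K T A hI h
    · exact R.m H M K T A hI h

/-- the same for an atom on an irreducible module -/
theorem RowsN.exitX (R : RowsN.{u, v}) {H : Type u} [Group H] [Finite H] {M : Type v} [Group M] [Finite M]
    [MulDistribMulAction H M] {K T A : Subgroup H} (hI : InX H M K T A) (hA : Atm M A) (hS : IsKnownSimple' K) :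
    IsLieTypeChar 2 K ∨ IsUThreeThree K :=
  R.exit (InN.of_inX hI hA) hS

/-- **All rows for atoms: in the situation `InN` a known simple group `K` is of Lie type in characteristic 2 or
`U₃(3)`.** -/
theorem RowsX.exitN (R : RowsX.{u, v}) (a6 : DeadN.{u, v} fun S _ => Nonempty (S ≃* alternatingGroup (Fin 6)))
    {H : Type u} [Group H] [Finite H] {M : Type v} [Group M] [Finite M]
    [MulDistribMulAction H M] {K T A : Subgroup H} (hI : InN H M K T A) (hS : IsKnownSimple' K) :
    IsLieTypeChar 2 K ∨ IsUThreeThree K := by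
  by_contra hcon
  rw [not_or] at hcon
  exact R.known.deadN H M K T A hI ⟨hS, hcon.1, hcon.2, fun h => a6 H M K T A hI h⟩

/-- the same for an atom on an irreducible module -/
theorem RowsX.exitA (R : RowsX.{u, v}) (a6 : DeadN.{u, v} fun S _ => Nonempty (S ≃* alternatingGroup (Fin 6)))
    {H : Type u} [Group H] [Finite H] {M : Type v} [Group M] [Finite M]
    [MulDistribMulAction H M] {K T A : Subgroup H} (hI : InX H M K T A) (hA : Atm M A) (hS : IsKnownSimple' K) :
    IsLieTypeChar 2 K ∨ IsUThreeThree K :=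
  R.exitN a6 (InN.of_inX hI hA) hS

end Cfsg.Agent.Omega.ML.Ex
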