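import Cfsg.Agent.Omega.ML.Ex.Def

/-!
# The K-list for EXACT subgroups: the two modules of (EXL) (helper441)

THEOREM RED gives an exact ATOM `A` of a faithful module `N` (not irreducible, every proper submodule is centralised by
`K`), and the irreducible module `M = N / C_N(K)`, for which `A` is exact and sub-exact but not necessarily an atom.  A
row of the K-list may use either of the two:

* `InX H M K T A` (Def.lean) : `M` irreducible, `A` exact and sub-exact;
* **`InA H N K T A`** : `N` faithful, `A` an exact ATOM (nothing about submodules);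
* `DeadA 𝒮` : the row over `InA`;  **`Row 𝒮`** : the row over both;  `DeadX.row`, `DeadA.row`, `Row.mono`, `Row.or`;
* `InX.toA` : `InX` and `Atm M A` give `InA` for the same module;
* `InA.{asx, comm, A_ne_bot, A_two, A_comm, M_two, le_index, index_le, hyp, cv_four, index_four, four_le_index, ne_top,
  index_le_four, atm}`.
-/

set_option autoImplicit false

namespace Cfsg.Agent.Omega.ML.Ex

open Subgroup Cfsg Cfsg.Agent.ZN Cfsg.Agent.Omega.NOThree.NoOver Cfsg.Agent.Omega.ML.CD
open Cfsg.Agent.ClassTwoFusion.Quad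

universe u v

/-- The situation of (EXL) with an exact atom on a faithful module (not assumed to be irreducible). -/
structure InA (H : Type u) [Group H] (M : Type v) [Group M] [MulDistribMulAction H M] (K T A : Subgroup H) :
    Prop where
  sq : ∀ m : M, m * m = 1
  faith : ∀ h : H, (∀ m : M, h • m = m) → h = 1
  norm : K.Normal
  simple : IsSimpleGroup K
  cen : centralizer (K : Set H) = ⊥
  gen : K ⊔ T = ⊤
  two : IsPGroup 2 T
  syl : ¬ 2 ∣ T.index
  AT : A ≤ T
  el : ∀ a ∈ A, a * a = 1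
  four : 4 ≤ Nat.card A
  exact : (cv M (A : Set H)).index = Nat.card A
  atom : ∀ C : Subgroup H, C ≤ A → C ≠ ⊥ → C ≠ A → Nat.card C < (cv M (C : Set H)).index
  low : ∀ R : Subgroup H, T ≤ R → R ≠ ⊤ → A ≤ o2 R
  nmax : ¬ ∃ N : Subgroup H, N ≠ ⊤ ∧ ∀ R : Subgroup H, T ≤ R → R ≠ ⊤ → R ≤ N

/-- The row of the class `𝒮` over `InA`. -/
def DeadA (𝒮 : ∀ (S : Type u) [Group S], Prop) : Prop :=
  ∀ (H : Type u) [Group H] [Finite H] (M : Type v) [Group M] [Finite M] [MulDistribMulAction H M]
    (K T A : Subgroup H), InA H M K T A → 𝒮 K → False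

/-- **The row of the class `𝒮` with both modules.** -/
def Row (𝒮 : ∀ (S : Type u) [Group S], Prop) : Prop :=
  ∀ (H : Type u) [Group H] [Finite H] (M : Type v) [Group M] [Finite M] [MulDistribMulAction H M]
    (N : Type v) [Group N] [Finite N] [MulDistribMulAction H N] (K T A : Subgroup H),
    InX H M K T A → InA H N K T A → 𝒮 K → False

theorem DeadX.row {𝒮 : ∀ (S : Type u) [Group S], Prop} (h : DeadX.{u, v} 𝒮) : Row.{u, v} 𝒮 :=
  fun H _ _ M _ _ _ _ _ _ _ K T A hI _ hS => h H M K T A hI hS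

theorem DeadA.row {𝒮 : ∀ (S : Type u) [Group S], Prop} (h : DeadA.{u, v} 𝒮) : Row.{u, v} 𝒮 :=
  fun H _ _ _ _ _ _ N _ _ _ K T A _ hI hS => h H N K T A hI hS

/-- smaller classes -/
theorem Row.mono {𝒮 𝒮' : ∀ (S : Type u) [Group S], Prop} (h : Row.{u, v} 𝒮)
    (h' : ∀ (S : Type u) [Group S], 𝒮' S → 𝒮 S) : Row.{u, v} 𝒮' :=
  fun H _ _ M _ _ _ N _ _ _ K T A hI hA hS => h H M N K T A hI hA (h' _ hS)

theorem Row.or {𝒮 𝒮' : ∀ (S : Type u) [Group S], Prop} (h : Row.{u, v} 𝒮) (h' : Row.{u, v} 𝒮') :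
    Row.{u, v} fun S _ => 𝒮 S ∨ 𝒮' S :=
  fun H _ _ M _ _ _ N _ _ _ K T A hI hA hS =>
    hS.elim (fun h1 => h H M N K T A hI hA h1) fun h1 => h' H M N K T A hI hA h1

section module

variable {H : Type u} [Group H] {M : Type v} [Group M] [MulDistribMulAction H M] {K T A : Subgroup H}

/-- `InX` and an atom of the irreducible module -/
theorem InX.toA (h : InX H M K T A) (hat : Atm M A) : InA H M K T A where
  sq := h.sq
  faith := h.faith
  norm := h.norm
  simple := h.simple
  cen := h.cen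
  gen := h.gen
  two := h.two
  syl := h.syl
  AT := h.AT
  el := h.el
  four := h.four
  exact := h.exact
  atom := hat
  low := h.low
  nmax := h.nmax

/-- the same `K`, `T`, `A` and another module -/
theorem InX.toA' {N : Type v} [Group N] [MulDistribMulAction H N] (h : InX H M K T A) (sq : ∀ m : N, m * m = 1)
    (faith : ∀ h : H, (∀ m : N, h • m = m) → h = 1) (exact : (cv N (A : Set H)).index = Nat.card A)
    (hat : Atm N A) : InA H N K T A where
  sq := sq
  faith := faith
  norm := h.norm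
  simple := h.simple
  cen := h.cen
  gen := h.gen
  two := h.two
  syl := h.syl
  AT := h.AT
  el := h.el
  four := h.four
  exact := exact
  atom := hat
  low := h.low
  nmax := h.nmax

namespace InA

/-- The group-theoretic part. -/
theorem asx (h : InA H M K T A) : ASx K T A where
  norm := h.norm
  simple := h.simple
  cen := h.cen
  gen := h.gen
  two := h.two
  syl := h.syl
  AT := h.AT
  el := h.el
  low := h.low
  nmax := h.nmax

theorem atm (h : InA H M K T A) : Atm M A := h.atom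

theorem comm (h : InA H M K T A) (x y : M) : x * y = y * x := by
  have h1 : ∀ z : M, z⁻¹ = z := fun z => inv_eq_of_mul_eq_one_right (h.sq z)
  calc x * y = (x * y)⁻¹ := (h1 _).symm
    _ = y⁻¹ * x⁻¹ := mul_inv_rev _ _
    _ = y * x := by rw [h1, h1]

theorem A_ne_bot (h : InA H M K T A) : A ≠ ⊥ := by
  intro h1
  have h2 := h.four
  rw [h1, card_bot] at h2
  omega

theorem A_two (h : InA H M K T A) : IsPGroup 2 A := h.two.to_le h.AT

theorem A_comm (h : InA H M K T A) : ∀ a ∈ A, ∀ b ∈ A, a * b = b * a := by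
  intro a ha b hb
  have h1 : ∀ z ∈ A, z⁻¹ = z := fun z hz => inv_eq_of_mul_eq_one_right (h.el z hz)
  calc a * b = (a * b)⁻¹ := (h1 _ (A.mul_mem ha hb)).symm
    _ = b⁻¹ * a⁻¹ := mul_inv_rev _ _
    _ = b * a := by rw [h1 _ ha, h1 _ hb]

theorem M_two (h : InA H M K T A) [Finite M] : IsPGroup 2 M := by
  intro m
  exact ⟨1, by rw [pow_one, pow_two, h.sq]⟩

/-- sub-exactness -/
theorem le_index (h : InA H M K T A) [Finite M] {C : Subgroup H} (hC : C ≤ A) :
    Nat.card C ≤ (cv M (C : Set H)).index := by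
  by_cases h1 : C = ⊥
  · rw [h1, card_bot]
    exact Nat.one_le_iff_ne_zero.2 index_ne_zero_of_finite
  · by_cases h2 : C = A
    · rw [h2, h.exact]
    · exact (h.atom C hC h1 h2).le

/-- `|M : C_M(C)| ≤ |A|` for `C ≤ A` -/
theorem index_le (h : InA H M K T A) [Finite M] {C : Set H} (hC : C ⊆ A) : (cv M C).index ≤ Nat.card A := by
  rw [← h.exact]
  have h1 : cv M (A : Set H) ≤ cv M C := cv_anti hC
  exact Nat.le_of_dvd (Nat.pos_of_ne_zero index_ne_zero_of_finite) (index_dvd_of_le h1)

/-- **`|A| = 4`**: `|M : C_M(a)| ≤ 4` for all `a ∈ A`. -/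
theorem index_le_four (h : InA H M K T A) [Finite M] (h4 : Nat.card A = 4) {a : H} (ha : a ∈ A) :
    (cv M ({a} : Set H)).index ≤ 4 := by
  rw [← h4]
  exact h.index_le (Set.singleton_subset_iff.2 ha)

/-- **Hyperplanes**: `C_M(D) = C_M(A)` if `|A| ≤ 2 |D|`, `D ≠ 1`. -/
theorem hyp (h : InA H M K T A) [Finite H] [Finite M] {D : Subgroup H} (hD : D ≤ A) (h1 : D ≠ ⊥)
    (h2 : Nat.card A ≤ 2 * Nat.card D) : cv M (D : Set H) = cv M (A : Set H) := by
  by_cases hDA : D = A
  · rw [hDA]
  have hle : cv M (A : Set H) ≤ cv M (D : Set H) := cv_anti (SetLike.coe_subset_coe.2 hD)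
  refine le_antisymm ?_ hle
  rw [← relIndex_eq_one]
  have h3 := h.atom D hD h1 hDA
  have h4 : (cv M (A : Set H)).relIndex (cv M (D : Set H)) * (cv M (D : Set H)).index =
      (cv M (A : Set H)).index := relIndex_mul_index hle
  rw [h.exact] at h4
  have h5 : (cv M (A : Set H)).relIndex (cv M (D : Set H)) ≠ 0 := relIndex_ne _ _
  by_contra h6
  have h7 : 2 ≤ (cv M (A : Set H)).relIndex (cv M (D : Set H)) := by omega
  have h8 : 2 * (cv M (D : Set H)).index ≤ Nat.card A := by
    rw [← h4]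
    exact Nat.mul_le_mul_right _ h7
  omega

/-- **`|A| = 4`**: `C_M(a) = C_M(A)` for all `a ∈ A#`. -/
theorem cv_four (h : InA H M K T A) [Finite H] [Finite M] (h4 : Nat.card A = 4) {a : H} (ha : a ∈ A) (ha1 : a ≠ 1) :
    cv M ({a} : Set H) = cv M (A : Set H) := by
  have h1 : zpowers a ≤ A := by rwa [zpowers_le]
  have h2 : zpowers a ≠ ⊥ := by rwa [Ne, zpowers_eq_bot]
  have h3 : Nat.card (zpowers a) = 2 := by
    rw [Nat.card_zpowers]
    exact orderOf_eq_prime (by rw [pow_two, h.el a ha]) ha1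
  have h5 := h.hyp h1 h2 (by rw [h3, h4])
  rw [← h5]
  refine le_antisymm ?_ (cv_anti (by simp))
  intro v hv x hx
  have h6 : zpowers a ≤ MulAction.stabilizer H v := by
    rw [zpowers_le]
    exact MulAction.mem_stabilizer_iff.2 (hv a rfl)
  exact MulAction.mem_stabilizer_iff.1 (h6 hx)

/-- **`|A| = 4`**: `|M : C_M(a)| = 4` for all `a ∈ A#`. -/
theorem index_four (h : InA H M K T A) [Finite H] [Finite M] (h4 : Nat.card A = 4) {a : H} (ha : a ∈ A)
    (ha1 : a ≠ 1) : (cv M ({a} : Set H)).index = 4 := by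
  rw [h.cv_four h4 ha ha1, h.exact, h4]

/-- no transvections in `A`: `|M : C_M(a)| ≥ 4` for `a ∈ A#`. -/
theorem four_le_index (h : InA H M K T A) [Finite H] [Finite M] {a : H} (ha : a ∈ A) (ha1 : a ≠ 1) :
    4 ≤ (cv M ({a} : Set H)).index := by
  have h1 : zpowers a ≤ A := by rwa [zpowers_le]
  have h2 : zpowers a ≠ ⊥ := by rwa [Ne, zpowers_eq_bot]
  have h3 : Nat.card (zpowers a) = 2 := by
    rw [Nat.card_zpowers]
    exact orderOf_eq_prime (by rw [pow_two, h.el a ha]) ha1
  have hne : zpowers a ≠ A := by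
    intro h5
    have := h.four
    rw [← h5, h3] at this
    omega
  have h5 := h.atom _ h1 h2 hne
  rw [h3] at h5
  have h6 : cv M ((zpowers a : Subgroup H) : Set H) = cv M ({a} : Set H) := by
    refine le_antisymm (cv_anti (by simp)) ?_
    intro v hv x hx
    have h6 : zpowers a ≤ MulAction.stabilizer H v := by
      rw [zpowers_le]
      exact MulAction.mem_stabilizer_iff.2 (hv a rfl)
    exact MulAction.mem_stabilizer_iff.1 (h6 hx)
  rw [h6] at h5
  obtain ⟨n, hn⟩ := (IsPGroup.iff_card.1 h.M_two)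
  have h7 : (cv M ({a} : Set H)).index ∣ 2 ^ n := by
    rw [← hn]
    exact index_dvd_card _
  obtain ⟨k, -, hk⟩ := (Nat.dvd_prime_pow Nat.prime_two).1 h7
  rw [hk] at h5 ⊢
  match k, h5 with
  | 0, h5 => simp at h5
  | 1, h5 => simp at h5
  | k + 2, _ => rw [pow_add]; have := Nat.one_le_two_pow (n := k); omega

theorem ne_top (h : InA H M K T A) : T ≠ ⊤ := h.asx.ne_top

/-- **an irreducible `InA` is an `InX`** -/
theorem toX [Finite M] (h : InA H M K T A)
    (irr : ∀ W : Subgroup M, (∀ h : H, ∀ w ∈ W, h • w ∈ W) → W = ⊥ ∨ W = ⊤) : InX H M K T A where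
  sq := h.sq
  faith := h.faith
  irr := irr
  norm := h.norm
  simple := h.simple
  cen := h.cen
  gen := h.gen
  two := h.two
  syl := h.syl
  AT := h.AT
  el := h.el
  four := h.four
  exact := h.exact
  sub := fun _ hC => h.le_index hC
  low := h.low
  nmax := h.nmax

end InA

end module

end Cfsg.Agent.Omega.ML.Ex
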