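import Cfsg.Agent.Omega.ML.Ex.Inv
import Cfsg.Agent.Omega.ML.RowGTwoThree

/-!
# The K-list for EXACT subgroups: the row `G₂(3)` (helper815)

Every involution of `G₂(3)` inverts an element of order 13, so `dim [M, x] ≥ 6 > 4 = RK`; `|Out| ≤ 2`.
-/

set_option autoImplicit false

namespace Cfsg.Agent.Omega.ML.Ex.RowGTwoX

open Subgroup Cfsg Cfsg.Lie
open Cfsg.Agent.Omega.ML Cfsg.Agent.Omega.ML.Rows Cfsg.Agent.Omega.ML.InvChain Cfsg.Agent.Omega.TwoF

universe u v

/-- `|Out(G₂(3))| ≤ 2` -/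
theorem out {S : Type*} [Group S] {F : Type} [Field F] [Fintype F] (hF : Fintype.card F = 3)
    (e : S ≃* ↥(chevG2.group F)) : (MulAut.conj : S →* MulAut S).range.index < 4 := by
  have h3 : Fintype.card (ZMod 3) = Fintype.card F := by rw [hF]; rfl
  let φ : ZMod 3 ≃+* F := FiniteField.ringEquivOfCardEq h3
  let f : S ≃* ↥(chevG2.group (ZMod 3)) := e.trans (ChevalleyStructure.FieldIso.groupEquiv chevG2 φ).symm
  rw [RowGTwoThree.out_congr f]
  have h1 := OddHalf.D6.QThree.G23Out.out OddHalf.D6.QThree.G23Out.words2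
  exact lt_of_le_of_lt (Nat.le_of_dvd two_pos h1) (by norm_num)

/-- every involution inverts an element of order 13 -/
theorem invAt {S : Type*} [Group S] {F : Type} [Field F] [Fintype F] (hF : Fintype.card F = 3)
    (e : S ≃* ↥(chevG2.group F)) (x : S) (hx : x * x = 1) (hx1 : x ≠ 1) : InvAt x 6 := by
  have h2 : orderOf x = 2 := orderOf_eq_prime (by rw [pow_two]; exact hx) hx1
  obtain ⟨g, hg⟩ := InvGTwoThree.exists_thirteen' F hF e x h2
  have hxi : x⁻¹ = x := inv_eq_of_mul_eq_one_right hx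
  refine ⟨x * (g * x * g⁻¹), 12, Chain.base _ 12 (by rw [hg]; norm_num) (by rw [hg]; norm_num) ?_, ?_, by norm_num⟩
  · rw [hg]
    intro n hn hn'
    by_contra hlt
    have := InvFrob.ord_13 n hn
    interval_cases n <;> omega
  · rw [mul_inv_rev, mul_inv_rev, mul_inv_rev, inv_inv, hxi]
    calc x * (x * (g * x * g⁻¹)) * x = (x * x) * (g * x * g⁻¹) * x := by group
      _ = _ := by rw [hx]; group

/-- **The row `G₂(3)` for exact subgroups.** -/
theorem deadX : DeadX.{u, v} @RowGTwoThree.IsGTwoThree.{u} := by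
  refine Inv.dead_strong fun S _ _ hS => ⟨4, ?_⟩
  obtain ⟨F, _, _, hF, ⟨e⟩⟩ := hS
  have h3 : CharP F 3 := by
    obtain ⟨p, hpF⟩ := CharP.exists F
    obtain ⟨n, hp, hn⟩ := FiniteField.card F p
    rw [hF] at hn
    have h4 : p ∣ 3 := hn ▸ dvd_pow_self p n.pos.ne'
    rwa [← (Nat.prime_dvd_prime_iff_eq hp Nat.prime_three).1 h4]
  refine ⟨?_, out hF e, fun x hx hx1 => (invAt hF e x hx hx1).mono (by norm_num)⟩
  have hr := (RowGTwo.rk (F := F) (p := 3) Nat.prime_three (by norm_num)).2 fun σ => by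
    apply Out.ringAut_eq_one
    rw [Nat.card_eq_fintype_card, hF]
    norm_num
  exact hr.equiv e

end Cfsg.Agent.Omega.ML.Ex.RowGTwoX
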