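import Cfsg.Agent.Omega.ML.Ex.LocX
import Cfsg.Agent.Omega.ML.RowL33

/-!
# Exact and low configurations: the row `L₃(3)` (helper322)

`A ∩ S ≤ ⟨z^g⟩` (`RowL33.loc`), so `|A| ≤ 4` and `z^g ∈ A`; `z` inverts an element of order 3 of a Frobenius group of
order 39, so `dim [M, z] ≥ 4`.
-/

set_option autoImplicit false
set_option Elab.async false

namespace Cfsg.Agent.Omega.ML.Ex.RowL33X

open Matrix Subgroup Cfsg
open Cfsg.Agent.Omega.ML.RowLoc Cfsg.Agent.Omega.ML.RowL33 Cfsg.Agent.Omega.ML.InvChain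
open Cfsg.Agent.OddHalf.D4.Small Cfsg.Agent.OddHalf.D4.Small.KL33

universe u v

/-- an element of order 3 inverted by `z` -/
def aM : Matrix (Fin 3) (Fin 3) (ZMod 3) := !![1, 0, 1; 1, 1, 2; 0, 0, 1]
/-- an element of order 13 normalised by it -/
def bM : Matrix (Fin 3) (Fin 3) (ZMod 3) := !![0, 0, 2; 1, 0, 0; 0, 2, 2]

theorem a_good : Good aM := by decide +kernel
theorem b_good : Good bM := by decide +kernel

def ga : SL33 := a_good.sl
def gb : SL33 := b_good.sl

theorem ga_pow : ga ^ 3 = 1 := by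
  apply mx_ext
  have h : aM * aM * aM = 1 := by decide +kernel
  rw [pow_succ, pow_succ, pow_one]
  exact h

theorem gb_pow : gb ^ 13 = 1 := by
  apply mx_ext
  have h : bM * bM * bM * bM * bM * bM * bM * bM * bM * bM * bM * bM * bM = 1 := by decide +kernel
  rw [pow_succ, pow_succ, pow_succ, pow_succ, pow_succ, pow_succ, pow_succ, pow_succ, pow_succ, pow_succ, pow_succ,
    pow_succ, pow_one]
  exact h

theorem ga_ne : ga ≠ 1 := by
  intro h
  have h1 : aM = 1 := congrArg mx h
  exact absurd h1 (by decide +kernel)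

theorem gb_ne : gb ≠ 1 := by
  intro h
  have h1 : bM = 1 := congrArg mx h
  exact absurd h1 (by decide +kernel)

theorem ab : ga * gb = gb ^ 3 * ga := by
  apply mx_ext
  have h : aM * bM = bM * bM * bM * aM := by decide +kernel
  rw [pow_succ, pow_succ, pow_one]
  exact h

theorem za : z * ga * z * ga = 1 := by
  apply mx_ext
  have h : zM * aM * zM * aM = 1 := by decide +kernel
  exact h

theorem invAt_z : InvAt z 4 := by
  have hoa : orderOf ga = 3 := orderOf_eq_prime ga_pow ga_ne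
  have hob : orderOf gb = 13 := by
    have : Fact (Nat.Prime 13) := ⟨by norm_num⟩
    exact orderOf_eq_prime gb_pow gb_ne
  have hab : ga * gb * ga⁻¹ = gb ^ 3 := by rw [ab, mul_inv_cancel_right]
  have hza : z * ga * z⁻¹ = ga⁻¹ := by
    have h2 : z⁻¹ = z := inv_eq_of_mul_eq_one_left coreS.z2
    rw [h2, eq_inv_iff_mul_eq_one]
    exact za
  refine ⟨ga, 8, Chain.step gb ga 12 8 3 (Chain.base gb 12 ?_ ?_ ?_) ?_ ?_ hab ?_ ?_, hza, by norm_num⟩
  · rw [hob]; norm_num
  · rw [hob]; norm_num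
  · rw [hob]
    intro j hj1 hj2
    interval_cases j <;> norm_num
  · rw [hoa]; norm_num
  · rw [hoa]; norm_num
  · intro h1
    have h2 : gb = gb ^ 3 := by rw [← hab, h1, mul_inv_cancel_right]
    have h3 : gb ^ 2 = 1 := by
      have h4 : gb * gb ^ 2 = gb * 1 := by rw [mul_one, ← pow_succ']; exact h2.symm
      exact mul_left_cancel h4
    have h4 := orderOf_dvd_of_pow_eq_one h3
    rw [hob] at h4
    norm_num at h4
  · rw [hoa]; norm_num

/-- **The row `L₃(3)`** -/
theorem deadEx : DeadX.{u, v} (fun S _ => IsL33 S) := by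
  refine deadX_of_loc fun Y _ _ hY => ?_
  obtain ⟨F, _, _, hF, ⟨e⟩⟩ := hY
  obtain ⟨g⟩ := exists_equiv hF e
  refine ⟨g.symm z, S.map g.symm.toMonoidHom, 4, 2, loc.of_equiv g.symm, ?_, by norm_num, by norm_num, by norm_num,
    invAt_z.map g.symm.toMonoidHom g.symm.injective⟩
  obtain ⟨z, Q, ho⟩ := Cfsg.Agent.OddHalf.D6.RThree.L33Facts.exists_one hF e
  exact ho.out

end Cfsg.Agent.Omega.ML.Ex.RowL33X
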