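import Cfsg.Agent.Omega.ML.RowPspFour
import Cfsg.Agent.Omega.ML.Ex.Def

/-!
# The K-list EXACT + LOW: the row `PSp₄(q)`, `q > 3` odd (helper297)

`Omega/ML/RowPspFour.lean` over `ASx` (no `gen`): `|A| ≤ 2`.

* `conj_inj`, `conj_of_syl`, `card_le_of_syl` : the tools of `RowsSyl` from `norm cen two syl el low` only;
* `card_le` : `|A| ≤ 2`;  `deadX` : the row.
-/

set_option autoImplicit false

namespace Cfsg.Agent.Omega.ML.Ex.RowPspFour

open Subgroup Cfsg Cfsg.Agent.ZN Cfsg.Agent.Omega.TwoF Cfsg.Agent.Omega.ML.Rows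
open Cfsg.Agent.OddHalf Cfsg.Agent.OddHalf.D8.Sheet
open Cfsg.Agent.Omega.ML.PspFourK Cfsg.Agent.Omega.ML.PspFourL Cfsg.Agent.Omega.ML.PspFourAut
open Cfsg.Agent.Omega.ML.RowPspFour (cent_P syl Cls)
open Cfsg.Agent.MinSimple.VModule (o2_isPGroup o2_le le_o2 le_normalizer_o2)

universe u v w

variable {X : Type u} [Group X] {S T A : Subgroup X}

theorem conj_inj (hn : S.Normal) (hc : centralizer (S : Set X) = ⊥) :
    Function.Injective (@MulAut.conjNormal X _ S hn) := by
  rw [injective_iff_map_eq_one]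
  intro x hx
  have h1 : x ∈ centralizer (S : Set X) := by
    refine mem_centralizer_iff.2 fun s hs => ?_
    have h2 : ((MulAut.conjNormal x : MulAut S) ⟨s, hs⟩ : X) = s := by rw [hx]; rfl
    rw [MulAut.conjNormal_apply] at h2
    calc s * x = (x * s * x⁻¹) * x := by rw [h2]
      _ = x * s := by group
  rw [hc] at h1
  exact mem_bot.1 h1

theorem cent_ne_top (hc : centralizer (S : Set X) = ⊥) {z : X} (hz1 : z ≠ 1) :
    centralizer ({z} : Set X) ≠ ⊤ := by
  intro h1
  have h2 : z ∈ centralizer (S : Set X) := mem_centralizer_iff.2 fun y _ =>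
    mem_centralizer_singleton_iff.1 (h1 ▸ mem_top y)
  rw [hc] at h2
  exact hz1 (mem_bot.1 h2)

/-- **A conjugate of `A` lies in `O₂(C_X(z))`.** -/
theorem conj_of_syl [Finite X] (h : Ex.ASx S T A) {z : S} (hz1 : z ≠ 1)
    (hz : ∃ S₀ : Sylow 2 S, z ∈ S₀ ∧ (∀ x ∈ S₀, x * z = z * x) ∧ ∀ y ∈ S₀, (∀ x ∈ S₀, x * y = y * x) → y = 1 ∨ y = z) :
    ∃ g : X, ∀ a ∈ A, g⁻¹ * a * g ∈ o2 (centralizer ({(z : X)} : Set X)) := by
  obtain ⟨g, hg⟩ := ShE.exists_conj h.norm h.two h.syl hz
  have hgz : (g : X) * z * (g : X)⁻¹ ≠ 1 := by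
    intro h1
    apply hz1
    apply Subtype.ext
    calc (z : X) = (g : X)⁻¹ * ((g : X) * z * (g : X)⁻¹) * g := by group
      _ = 1 := by rw [h1]; group
  have h1 := h.low _ hg (cent_ne_top h.cen hgz)
  refine ⟨g, fun a ha => ?_⟩
  apply conj_o2_mem (R := centralizer ({(z : X)} : Set X))
    (R' := centralizer ({(g : X) * z * (g : X)⁻¹} : Set X)) (g : X)
  · intro x
    rw [mem_centralizer_singleton_iff, mem_centralizer_singleton_iff]
    constructor
    · intro h2
      calc g * x * (g : X)⁻¹ * (g * z * (g : X)⁻¹) = g * (x * z) * (g : X)⁻¹ := by group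
        _ = g * (z * x) * (g : X)⁻¹ := by rw [h2]
        _ = _ := by group
    · intro h2
      calc x * z = (g : X)⁻¹ * (g * x * (g : X)⁻¹ * (g * z * (g : X)⁻¹)) * g := by group
        _ = (g : X)⁻¹ * (g * z * (g : X)⁻¹ * (g * x * (g : X)⁻¹)) * g := by rw [h2]
        _ = _ := by group
  · rw [mem_comap]
    show (g : X) * ((g : X)⁻¹ * a * g) * (g : X)⁻¹ ∈ _
    have h2 : (g : X) * ((g : X)⁻¹ * a * g) * (g : X)⁻¹ = a := by group
    rw [h2]
    exact h1 ha

/-- **Elementary abelian subgroups of `O₂(C_X(z))`.** -/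
theorem card_le_of_syl [Finite X] (h : Ex.ASx S T A) {z : S} (hz1 : z ≠ 1)
    (hz : ∃ S₀ : Sylow 2 S, z ∈ S₀ ∧ (∀ x ∈ S₀, x * z = z * x) ∧ ∀ y ∈ S₀, (∀ x ∈ S₀, x * y = y * x) → y = 1 ∨ y = z)
    {n : ℕ} (hn : ∀ B ≤ o2 (centralizer ({(z : X)} : Set X)), (∀ b ∈ B, b * b = 1) → Nat.card B ≤ n) :
    Nat.card A ≤ n := by
  obtain ⟨g, hg⟩ := conj_of_syl h hz1 hz
  have h1 : A.map (MulAut.conj g⁻¹).toMonoidHom ≤ o2 (centralizer ({(z : X)} : Set X)) := by
    rintro _ ⟨a, ha, rfl⟩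
    have h2 := hg a ha
    rw [MulEquiv.toMonoidHom_eq_coe, MonoidHom.coe_coe, MulAut.conj_apply, inv_inv]
    exact h2
  have h2 := hn _ h1 (by
    rintro _ ⟨a, ha, rfl⟩
    rw [← map_mul, h.el a ha, map_one])
  rwa [card_map_of_injective (MulAut.conj g⁻¹).injective] at h2

/-- **The sheet of `PSp₄(q)`** -/
theorem o2_le_zpowersX [Finite X] (hn : S.Normal) (hc : centralizer (S : Set X) = ⊥) {F : Type} [Field F] [Fintype F] (hodd : Odd (Fintype.card F))
    (h3 : 3 < Fintype.card F) (ε : S ≃* PSp 2 F) :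
    o2 (centralizer ({(ε.symm (z₀ F) : X)} : Set X)) ≤ zpowers (ε.symm (z₀ F) : X) := by
  have h2 : (2 : F) ≠ 0 := Cfsg.Agent.OddHalf.NI.Blocks.two_ne_zero_of_odd hodd
  have h4 : 4 ≤ Nat.card F := by rw [Nat.card_eq_fintype_card]; omega
  intro d hd
  have hfix := cent_P hn (z := ε.symm (z₀ F)) (P := (D F).comap ε.toMonoidHom)
    (by
      intro x hx
      apply ε.injective
      rw [map_mul, map_mul, ε.apply_symm_apply]
      exact D_cen _ hx)
    (by
      have h5 : (D F).comap ε.toMonoidHom = (D F).map ε.symm.toMonoidHom :=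
        comap_equiv_eq_map_symm' ε (D F)
      rw [h5, ← map_commutator, D_perf h4])
    ⟨1, by
      show ⁅centralizer ({ε.symm (z₀ F)} : Set S), centralizer ({ε.symm (z₀ F)} : Set S)⁆ ≤ _
      rw [← map_le_iff_le_comap, map_commutator]
      have h5 : (centralizer ({ε.symm (z₀ F)} : Set S)).map ε.toMonoidHom ≤ centralizer ({z₀ F} : Set (PSp 2 F)) := by
        rintro _ ⟨x, hx, rfl⟩
        have h6 := congrArg ε (mem_centralizer_singleton_iff.1 hx)
        rw [map_mul, map_mul, ε.apply_symm_apply] at h6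
        exact mem_centralizer_singleton_iff.2 h6
      exact (commutator_mono h5 h5).trans (D_der h2)⟩
    (by
      intro N hN hN2 hNn x hx y hy
      have hp : Fact (Nat.Prime 2) := ⟨Nat.prime_two⟩
      have h5 : IsPGroup 2 (N.map ε.toMonoidHom) := hN2.map _
      have h6 : Group.IsSolvable (N.map ε.toMonoidHom) := by
        have hfin : Finite (PSp 2 F) := Finite.of_equiv S ε.toEquiv
        have := h5.isNilpotent
        infer_instance
      apply ε.injective
      rw [map_mul, map_mul]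
      refine central h2 h4 (N := N.map ε.toMonoidHom) ?_ h6 ?_ _ hx _ ⟨y, hy, rfl⟩
      · rw [map_le_iff_le_comap]
        exact hN
      · rintro a ha _ ⟨b, hb, rfl⟩
        refine ⟨ε.symm a * b * (ε.symm a)⁻¹, hNn _ ?_ b hb, ?_⟩
        · show ε (ε.symm a) ∈ D F
          rwa [ε.apply_symm_apply]
        · show ε (ε.symm a * b * (ε.symm a)⁻¹) = a * ε b * a⁻¹
          rw [map_mul, map_mul, map_inv, ε.apply_symm_apply]) d hd
  have hα : (MulAut.congr ε) (MulAut.conjNormal d) = 1 ∨ (MulAut.congr ε) (MulAut.conjNormal d) = MulAut.conj (z₀ F) := by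
    apply aut h2 h4
    intro x hx
    show ε ((MulAut.conjNormal d) (ε.symm x)) = x
    have h5 : (MulAut.conjNormal d : MulAut S) (ε.symm x) = ε.symm x := by
      apply Subtype.ext
      rw [MulAut.conjNormal_apply]
      apply hfix
      show ε (ε.symm x) ∈ D F
      rwa [ε.apply_symm_apply]
    rw [h5, ε.apply_symm_apply]
  rcases hα with hα | hα
  · have h5 : d = 1 := by
      apply conj_inj hn hc
      rw [map_one]
      exact (MulAut.congr ε).injective (hα.trans (map_one _).symm)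
    rw [h5]
    exact one_mem _
  · have h5 : d = (ε.symm (z₀ F) : X) := by
      apply conj_inj hn hc
      apply (MulAut.congr ε).injective
      rw [hα]
      ext x
      show z₀ F * x * (z₀ F)⁻¹ = ε ((MulAut.conjNormal (ε.symm (z₀ F) : X)) (ε.symm x))
      have h6 : (MulAut.conjNormal (ε.symm (z₀ F) : X) : MulAut S) (ε.symm x) =
          ε.symm (z₀ F) * ε.symm x * (ε.symm (z₀ F))⁻¹ := by
        apply Subtype.ext
        rw [MulAut.conjNormal_apply]
        rfl
      rw [h6, map_mul, map_mul, map_inv, ε.apply_symm_apply, ε.apply_symm_apply]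
    rw [h5]
    exact mem_zpowers _

/-- **`|A| ≤ 2`.** -/
theorem card_le [Finite X] (h : Ex.ASx S T A) (hS : Cls S) : Nat.card A ≤ 2 := by
  obtain ⟨F, _, _, hodd, h3, ⟨ε⟩⟩ := hS
  have hfin : Finite (PSp 2 F) := Finite.of_equiv S ε.toEquiv
  have h2 : (2 : F) ≠ 0 := Cfsg.Agent.OddHalf.NI.Blocks.two_ne_zero_of_odd hodd
  refine card_le_of_syl h (z := ε.symm (z₀ F)) ?_ (syl ε.symm (exists_syl hodd)) fun B hB _ => ?_
  · intro h1
    exact z₀_ne_one h2 (by rw [← ε.apply_symm_apply (z₀ F), h1, map_one])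
  · refine (card_le_of_le (hB.trans (o2_le_zpowersX h.norm h.cen hodd h3 ε))).trans ?_
    have h1 : (ε.symm (z₀ F) : X) ^ 2 = 1 := by
      have h4 : ε.symm (z₀ F) * ε.symm (z₀ F) = 1 := by rw [← map_mul, z₀_mul, map_one]
      rw [pow_two]
      exact congrArg Subtype.val h4
    rw [Nat.card_zpowers]
    exact Nat.le_of_dvd (by norm_num) (orderOf_dvd_of_pow_eq_one h1)

/-- **The row `PSp₄(q)`, `q > 3` odd, exact.** -/
theorem deadX : Ex.DeadX.{u, v} @Cls.{u} := by
  intro H _ _ M _ _ _ K T A h hS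
  have h1 := card_le h.asx hS
  have h2 := h.four
  omega

end Cfsg.Agent.Omega.ML.Ex.RowPspFour
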