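import Cfsg.Agent.Omega.ML.Ex.Def
import Cfsg.Agent.Omega.ML.RowsSyl
import Cfsg.Agent.Omega.ML.RowsOdd

/-!
# Exact and low configurations: group-theoretic tools over `ASx` (helper333; ports of RowsRk, RowsCent, RowsSyl, RowsOdd, ShE)

`ASx S T A` is `Rows.AS S T A` with `gen : S ⊔ T = ⊤` instead of `S ⊔ A = ⊤`.
-/

set_option autoImplicit false

namespace Cfsg.Agent.Omega.ML.Ex

open Subgroup Cfsg Cfsg.Agent.ZN Cfsg.Agent.Omega.TwoF Cfsg.Agent.Omega.ML.Rows
open Cfsg.Agent.MinSimple.VModule (o2_isPGroup o2_le le_o2 le_normalizer_o2)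

universe u v w

/-- The group-theoretic row of the class `𝒮`, bound `n`. -/
def DeadGx (n : ℕ) (𝒮 : ∀ (S : Type u) [Group S], Prop) : Prop :=
  ∀ (X : Type u) [Group X] [Finite X] (S T A : Subgroup X), ASx S T A → 𝒮 S → Nat.card A ≤ n

/-- transport of 'all automorphisms are inner' -/
theorem inner_of_equiv {S : Type*} [Group S] {Y : Type*} [Group Y] (e : S ≃* Y)
    (hi : ∀ α : MulAut Y, ∃ k : Y, α = MulAut.conj k) (α : MulAut S) : ∃ v : S, α = MulAut.conj v := by
  obtain ⟨g, hg⟩ := hi ((e.symm.trans α).trans e)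
  refine ⟨e.symm g, ?_⟩
  ext s
  have h1 := congrArg (fun β : MulAut Y => e.symm (β (e s))) hg
  simpa using h1

/-- bound 4 -/
theorem DeadGx.four {n : ℕ} {𝒮 : ∀ (S : Type u) [Group S], Prop} (h : DeadGx.{u} n 𝒮) (hn : n ≤ 4) :
    DeadGX.{u} 𝒮 := fun X _ _ S T A hA hS => (h X S T A hA hS).trans hn

/-- **A bound `< 4` kills the row.** -/
theorem DeadGx.deadX {n : ℕ} {𝒮 : ∀ (S : Type u) [Group S], Prop} (h : DeadGx.{u} n 𝒮) (hn : n < 4) :
    DeadX.{u, v} 𝒮 := by
  intro H _ _ M _ _ _ K T A hI hS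
  have h1 := h H K T A hI.asx hS
  have h2 := hI.four
  omega

theorem DeadGx.mono {n m : ℕ} {𝒮 : ∀ (S : Type u) [Group S], Prop} (h : DeadGx.{u} n 𝒮) (hnm : n ≤ m) :
    DeadGx.{u} m 𝒮 := fun X _ _ S T A hA hS => (h X S T A hA hS).trans hnm

variable {X : Type u} [Group X] {S T A : Subgroup X}

/-- One overgroup. -/
theorem ASx.card_le_of (h : ASx S T A) {n : ℕ} {R : Subgroup X} (hT : T ≤ R) (hR : R ≠ ⊤)
    (hc : ∀ B ≤ o2 R, (∀ b ∈ B, b * b = 1) → Nat.card B ≤ n) : Nat.card A ≤ n :=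
  hc A (h.low R hT hR) h.el

/-- Two overgroups. -/
theorem ASx.card_le_of₂ (h : ASx S T A) {n : ℕ} {R R' : Subgroup X} (hT : T ≤ R) (hR : R ≠ ⊤) (hT' : T ≤ R')
    (hR' : R' ≠ ⊤) (hc : ∀ B ≤ o2 R ⊓ o2 R', (∀ b ∈ B, b * b = 1) → Nat.card B ≤ n) : Nat.card A ≤ n :=
  hc A (le_inf (h.low R hT hR) (h.low R' hT' hR')) h.el

/-- An overgroup with `|O₂(R)| ≤ n`. -/
theorem ASx.card_le_of_o2 [Finite X] (h : ASx S T A) {n : ℕ} {R : Subgroup X} (hT : T ≤ R) (hR : R ≠ ⊤)
    (hc : Nat.card (o2 R) ≤ n) : Nat.card A ≤ n :=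
  (card_le_of_le (h.low R hT hR)).trans hc

/-- `X` acts faithfully on `S`. -/
theorem ASx.conj_inj (h : ASx S T A) :
    Function.Injective (@MulAut.conjNormal X _ S h.norm) := by
  have hn := h.norm
  rw [injective_iff_map_eq_one]
  intro x hx
  have h1 : x ∈ centralizer (S : Set X) := by
    refine mem_centralizer_iff.2 fun s hs => ?_
    have h2 : ((MulAut.conjNormal x : MulAut S) ⟨s, hs⟩ : X) = s := by rw [hx]; rfl
    rw [MulAut.conjNormal_apply] at h2
    calc s * x = (x * s * x⁻¹) * x := by rw [h2]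
      _ = x * s := by group
  rw [h.cen] at h1
  exact mem_bot.1 h1

/-- **The rank bound.** -/
theorem ASx.card_le_of_rk (h : ASx S T A) {a : ℕ} (hr : RK S a) : Nat.card A ≤ 2 ^ a := by
  have hn := h.norm
  refine hr.card_le_of_injective ((MulAut.conjNormal : X →* MulAut S).comp A.subtype) ?_ fun x =>
    Subtype.ext (by
      rw [pow_two]
      exact h.el x x.2)
  exact h.conj_inj.comp A.subtype_injective

theorem ASx.card_le_four_of_rk (h : ASx S T A) (hr : RK S 2) : Nat.card A ≤ 4 :=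
  h.card_le_of_rk hr

theorem ASx.le_two (h : ASx S T A) : A ≤ T := h.AT

/-- `T` is a maximal 2-subgroup. -/
theorem ASx.le_of_two [Finite X] (h : ASx S T A) {Q : Subgroup X} (hQ : IsPGroup 2 Q) (hT : T ≤ Q) : Q ≤ T := by
  have hp : Fact (Nat.Prime 2) := ⟨Nat.prime_two⟩
  have h3 : ¬ 2 ∣ T.relIndex Q := fun h4 => h.syl (h4.trans (relIndex_dvd_index_of_le hT))
  obtain ⟨n, hn⟩ := (IsPGroup.iff_card.1 hQ)
  have h4 : T.relIndex Q ∣ 2 ^ n := hn ▸ (T.subgroupOf Q).index_dvd_card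
  obtain ⟨k, -, hk⟩ := (Nat.dvd_prime_pow Nat.prime_two).1 h4
  have h5 : k = 0 := by
    by_contra hk0
    exact h3 (hk ▸ dvd_pow_self 2 hk0)
  rw [h5, pow_zero] at hk
  exact relIndex_eq_one.1 hk

/-- `O₂(R) ≤ T` for overgroups of `T`. -/
theorem ASx.o2_le_two [Finite X] (h : ASx S T A) {R : Subgroup X} (hT : T ≤ R) : o2 R ≤ T := by
  have h2 : T ≤ normalizer (o2 R : Set X) := hT.trans (le_normalizer_o2 R)
  exact le_sup_left.trans (h.le_of_two ((o2_isPGroup R).to_sup_of_normal_left' h.two h2) le_sup_right)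

/-- **`A` is not a Sylow 2-subgroup.** -/
theorem ASx.ne_two [Finite X] (h : ASx S T A) (hA : A ≠ ⊥) : A ≠ T := by
  intro hAT
  have hp : Fact (Nat.Prime 2) := ⟨Nat.prime_two⟩
  have hn := h.norm
  have hsim := h.simple
  apply h.nmax
  refine ⟨normalizer (T : Set X), ?_, fun R hTR hR => ?_⟩
  · intro h1
    have h2 : T.Normal := normalizer_eq_top_iff.1 h1
    -- `T ∩ S` is normal in `S`
    have h3 : (T.subgroupOf S).Normal := inferInstance
    rcases hsim.eq_bot_or_eq_top_of_normal _ h3 with h4 | h4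
    · -- `T ∩ S = 1`: `[T, S] = 1`
      have h5 : T ≤ centralizer (S : Set X) := by
        rw [← commutator_eq_bot_iff_le_centralizer, eq_bot_iff]
        refine (commutator_le_inf T S).trans ?_
        rw [subgroupOf_eq_bot, disjoint_iff] at h4
        exact h4.le
      rw [h.cen] at h5
      exact hA (eq_bot_iff.2 (h.le_two.trans h5))
    · -- `S` is a simple 2-group
      have h5 : S ≤ T := subgroupOf_eq_top.1 h4
      have h6 : IsPGroup 2 S := h.two.to_le h5
      have h7 : center S ≠ ⊥ := by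
        have := h6.center_nontrivial
        exact (nontrivial_iff_ne_bot _).1 this
      have h8 : center S = ⊤ := (hsim.eq_bot_or_eq_top_of_normal _ inferInstance).resolve_left h7
      have h9 : S ≤ centralizer (S : Set X) := by
        intro s hs
        refine mem_centralizer_iff.2 fun y hy => ?_
        have h10 : (⟨s, hs⟩ : S) ∈ center S := h8 ▸ mem_top _
        exact congrArg Subtype.val (mem_center_iff.1 h10 ⟨y, hy⟩)
      rw [h.cen] at h9
      obtain ⟨x, hx⟩ := exists_ne (1 : S)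
      exact hx (Subtype.ext (mem_bot.1 (h9 x.2)))
  · have h1 : o2 R = T := le_antisymm (h.o2_le_two hTR) (hAT ▸ h.low R hTR hR)
    have h2 := le_normalizer_o2 R
    rwa [h1] at h2

/-- **`2 |A| ≤ |T|`.** -/
theorem ASx.two_mul_card_le [Finite X] (h : ASx S T A) (hA : A ≠ ⊥) : 2 * Nat.card A ≤ Nat.card T := by
  have h1 : Nat.card A * A.relIndex T = Nat.card T := by
    rw [← Nat.card_congr (subgroupOfEquivOfLe h.le_two).toEquiv]
    exact (A.subgroupOf T).card_mul_index
  have h2 : A.relIndex T ≠ 1 := fun h3 => h.ne_two hA (le_antisymm h.le_two (relIndex_eq_one.1 h3))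
  have h3 : A.relIndex T ≠ 0 := FiniteIndex.index_ne_zero
  rw [← h1, mul_comm]
  exact Nat.mul_le_mul_left _ (by omega)

/-- **Inner automorphisms of 2-power order.** -/
theorem ASx.top_of_inner (h : ASx S T A)
    (hi : ∀ α : MulAut S, (∃ k : ℕ, α ^ 2 ^ k = 1) → ∃ v : S, α = MulAut.conj v) : S = ⊤ := by
  have hn := h.norm
  rw [← h.gen]
  refine (sup_eq_left.2 fun a ha => ?_).symm
  obtain ⟨k, hk⟩ := h.two ⟨a, ha⟩
  obtain ⟨v, hv⟩ := hi (MulAut.conjNormal a) ⟨k, by
    rw [← map_pow, show a ^ 2 ^ k = 1 from congrArg Subtype.val hk, map_one]⟩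
  have h1 : a = v := by
    apply h.conj_inj
    rw [hv]
    ext s
    rw [MulAut.conjNormal_apply, MulAut.conj_apply]
    simp
  rw [h1]
  exact v.2

/-- **All automorphisms inner.** -/
theorem ASx.top_of_inn (h : ASx S T A) (hi : ∀ α : MulAut S, ∃ v : S, α = MulAut.conj v) : S = ⊤ :=
  h.top_of_inner fun α _ => hi α

/-- The centraliser of a nontrivial element is proper. -/
theorem ASx.cent_ne_top (h : ASx S T A) {z : X} (hz1 : z ≠ 1) : centralizer ({z} : Set X) ≠ ⊤ := by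
  intro h1
  have h2 : z ∈ centralizer (S : Set X) := mem_centralizer_iff.2 fun y _ =>
    mem_centralizer_singleton_iff.1 (h1 ▸ mem_top y)
  rw [h.cen] at h2
  exact hz1 (mem_bot.1 h2)

/-- **An involution of `S` centralised by `T`.** -/
theorem ASx.exists_inv [Finite X] (h : ASx S T A) (h2 : 2 ∣ Nat.card S) :
    ∃ z ∈ S, z * z = 1 ∧ z ≠ 1 ∧ T ≤ centralizer ({z} : Set X) := by
  have hp : Fact (Nat.Prime 2) := ⟨Nat.prime_two⟩
  have hn := h.norm
  have h3 : S.subgroupOf T ≠ ⊥ := by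
    intro h4
    rw [subgroupOf_eq_bot, disjoint_iff] at h4
    let T' : Sylow 2 X := h.two.toSylow h.syl
    have h5 : ¬ 2 ∣ (T' : Subgroup X).relIndex S := Cfsg.Agent.Lib.SylowNormalInf.not_dvd_relIndex T' S
    have h6 : (T' : Subgroup X).relIndex S = Nat.card S := by
      show T.relIndex S = _
      rw [← inf_relIndex_right, inf_comm, h4, relIndex_bot_left]
    exact h5 (h6 ▸ h2)
  obtain ⟨z, hz, hzc, hzo⟩ := Cfsg.Agent.Involutions.NormalFour.exists_mem_center_of_normal h.two (S.subgroupOf T) h3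
  have h4 : z * z = 1 := by rw [← pow_two, ← hzo, pow_orderOf_eq_one]
  have h5 : z ≠ 1 := by
    rintro rfl
    rw [orderOf_one] at hzo
    omega
  refine ⟨z, hz, congrArg Subtype.val h4, fun h6 => h5 (Subtype.ext h6), fun t ht => ?_⟩
  exact mem_centralizer_singleton_iff.2 (congrArg Subtype.val (mem_center_iff.1 hzc ⟨t, ht⟩))

/-- `|X : S| ≤ |Aut(S) : Inn(S)|`. -/
theorem ASx.index_le [Finite X] (h : ASx S T A) : S.index ≤ (MulAut.conj : S →* MulAut S).range.index := by
  have hn := h.norm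
  have h1 : S = ((MulAut.conj : S →* MulAut S).range).comap (MulAut.conjNormal : X →* MulAut S) := by
    ext x
    rw [mem_comap]
    constructor
    · intro hx
      refine ⟨⟨x, hx⟩, ?_⟩
      ext s
      rw [MulAut.conjNormal_apply, MulAut.conj_apply]
      simp
    · rintro ⟨v, hv⟩
      have h1 : x = v := by
        apply h.conj_inj
        rw [← hv]
        ext s
        rw [MulAut.conjNormal_apply, MulAut.conj_apply]
        simp
      rw [h1]
      exact v.2
  have hfin : Finite (MulAut S) := Finite.of_injective (fun φ => (φ : S → S)) DFunLike.coe_injective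
  have h2 : S.index = ((MulAut.conj : S →* MulAut S).range).relIndex (MulAut.conjNormal : X →* MulAut S).range := by
    rw [← index_comap, ← h1]
  have hI : ((MulAut.conj : S →* MulAut S).range).Normal := by
    refine ⟨?_⟩
    rintro _ ⟨x, rfl⟩ φ
    refine ⟨φ x, ?_⟩
    ext y
    simp [MulAut.conj_apply]
  rw [h2]
  exact Nat.le_of_dvd (Nat.pos_of_ne_zero FiniteIndex.index_ne_zero) (relIndex_dvd_index_of_normal _ _)

theorem ASx.card_le_mul_index [Finite X] (h : ASx S T A) (Q : Subgroup X) :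
    Nat.card Q ≤ Nat.card (Q.subgroupOf S) * S.index := by
  have hn := h.norm
  have h1 : Nat.card (S.subgroupOf Q) * (S.subgroupOf Q).index = Nat.card Q := (S.subgroupOf Q).card_mul_index
  have h2 : (S.subgroupOf Q).index ≤ S.index :=
    Nat.le_of_dvd (Nat.pos_of_ne_zero FiniteIndex.index_ne_zero) (relIndex_dvd_index_of_normal _ _)
  have h3 : Nat.card (S.subgroupOf Q) = Nat.card (Q.subgroupOf S) := by
    have h4 : Nat.card (S.subgroupOf Q) = Nat.card (Q ⊓ S : Subgroup X) := by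
      rw [← card_map_of_injective Q.subtype_injective, subgroupOf_map_subtype, inf_comm]
    have h5 : Nat.card (Q.subgroupOf S) = Nat.card (Q ⊓ S : Subgroup X) := by
      rw [← card_map_of_injective S.subtype_injective, subgroupOf_map_subtype]
    rw [h4, h5]
  rw [← h1, h3]
  exact Nat.mul_le_mul_left _ h2

/-- **Centralisers of involutions of `S`.** -/
theorem ASx.card_le_of_inv [Finite X] (h : ASx S T A) (h2 : 2 ∣ Nat.card S) {n k : ℕ}
    (hO : ∀ z : S, z * z = 1 → z ≠ 1 → ∀ Q : Subgroup S, Q ≤ centralizer ({z} : Set S) → IsPGroup 2 Q →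
      centralizer ({z} : Set S) ≤ normalizer (Q : Set S) → Nat.card Q ≤ n)
    (hk : (MulAut.conj : S →* MulAut S).range.index ≤ k) : Nat.card A ≤ n * k := by
  obtain ⟨z, hz, hzz, hz1, hT⟩ := h.exists_inv h2
  have hR := h.cent_ne_top hz1
  set R := centralizer ({z} : Set X) with hRd
  have h3 : Nat.card ((o2 R).subgroupOf S) ≤ n := by
    refine hO ⟨z, hz⟩ (Subtype.ext hzz) (fun h4 => hz1 (congrArg Subtype.val h4)) _ ?_ ?_ ?_
    · intro x hx
      exact mem_centralizer_singleton_iff.2 (Subtype.ext (mem_centralizer_singleton_iff.1 (o2_le R hx)))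
    · exact (o2_isPGroup R).comap_subtype
    · intro c hc
      have h4 : (c : X) ∈ R := mem_centralizer_singleton_iff.2
        (congrArg Subtype.val (mem_centralizer_singleton_iff.1 hc))
      have h5 := mem_normalizer_iff.1 (le_normalizer_o2 R h4)
      rw [mem_normalizer_iff]
      intro y
      exact h5 (y : X)
  refine (card_le_of_le (h.low R hT hR)).trans ((h.card_le_mul_index _).trans ?_)
  exact Nat.mul_le_mul h3 (h.index_le.trans hk)

/-- **A conjugate of `A` lies in `O₂(C_X(z))`.** -/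
theorem ASx.conj_of_syl [Finite X] (h : ASx S T A) {z : S} (hz1 : z ≠ 1)
    (hz : ∃ S₀ : Sylow 2 S, z ∈ S₀ ∧ (∀ x ∈ S₀, x * z = z * x) ∧ ∀ y ∈ S₀, (∀ x ∈ S₀, x * y = y * x) → y = 1 ∨ y = z) :
    ∃ g : S, ∀ a ∈ A, (g : X)⁻¹ * a * g ∈ o2 (centralizer ({(z : X)} : Set X)) := by
  obtain ⟨g, hg⟩ := ShE.exists_conj h.norm h.two h.syl hz
  have hgz : (g : X) * z * (g : X)⁻¹ ≠ 1 := by
    intro h1
    apply hz1
    apply Subtype.ext
    calc (z : X) = (g : X)⁻¹ * ((g : X) * z * (g : X)⁻¹) * g := by group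
      _ = 1 := by rw [h1]; group
  have h1 := h.low _ hg (h.cent_ne_top hgz)
  refine ⟨g, fun a ha => ?_⟩
  apply conj_o2_mem (R := centralizer ({(z : X)} : Set X))
    (R' := centralizer ({(g : X) * z * (g : X)⁻¹} : Set X)) (g : X)
  · intro x
    rw [mem_centralizer_singleton_iff, mem_centralizer_singleton_iff]
    constructor
    · intro h2
      calc g * x * (g : X)⁻¹ * (g * z * (g : X)⁻¹) = g * (x * z) * (g : X)⁻¹ := by group
        _ = g * (z * x) * (g : X)⁻¹ := by rw [h2]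
        _ = _ := by group
    · intro h2
      calc x * z = (g : X)⁻¹ * (g * x * (g : X)⁻¹ * (g * z * (g : X)⁻¹)) * g := by group
        _ = (g : X)⁻¹ * (g * z * (g : X)⁻¹ * (g * x * (g : X)⁻¹)) * g := by rw [h2]
        _ = _ := by group
  · rw [mem_comap]
    show (g : X) * ((g : X)⁻¹ * a * g) * (g : X)⁻¹ ∈ _
    have h2 : (g : X) * ((g : X)⁻¹ * a * g) * (g : X)⁻¹ = a := by group
    rw [h2]
    exact h1 ha

/-- **Elementary abelian subgroups of `O₂(C_X(z))`.** -/
theorem ASx.card_le_of_syl [Finite X] (h : ASx S T A) {z : S} (hz1 : z ≠ 1)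
    (hz : ∃ S₀ : Sylow 2 S, z ∈ S₀ ∧ (∀ x ∈ S₀, x * z = z * x) ∧ ∀ y ∈ S₀, (∀ x ∈ S₀, x * y = y * x) → y = 1 ∨ y = z)
    {n : ℕ} (hn : ∀ B ≤ o2 (centralizer ({(z : X)} : Set X)), (∀ b ∈ B, b * b = 1) → Nat.card B ≤ n) :
    Nat.card A ≤ n := by
  obtain ⟨g, hg⟩ := h.conj_of_syl hz1 hz
  have h1 : A.map (MulAut.conj (g : X)⁻¹).toMonoidHom ≤ o2 (centralizer ({(z : X)} : Set X)) := by
    rintro _ ⟨a, ha, rfl⟩
    have h2 := hg a ha
    rw [MulEquiv.toMonoidHom_eq_coe, MonoidHom.coe_coe, MulAut.conj_apply, inv_inv]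
    exact h2
  have h2 := hn _ h1 (by
    rintro _ ⟨a, ha, rfl⟩
    rw [← map_mul, h.el a ha, map_one])
  rwa [card_map_of_injective (MulAut.conj (g : X)⁻¹).injective] at h2

/-- **A subgroup of odd index of `S = X`.** -/
theorem ASx.card_le_of_odd_index [Finite X] (h : ASx S T A) (hS : S = ⊤) {R : Subgroup S} (hR : ¬ 2 ∣ R.index)
    (hR1 : R ≠ ⊤) {n : ℕ} (hn : ∀ Q : Subgroup S, Q ≤ R → IsPGroup 2 Q → R ≤ normalizer (Q : Set S) → Nat.card Q ≤ n) :
    Nat.card A ≤ n := by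
  have hall : ∀ x : X, x ∈ S := fun x => hS ▸ mem_top x
  have h1 : ¬ 2 ∣ (R.map S.subtype).index := by
    have h0 : S.index = 1 := by rw [hS, index_top]
    rwa [index_map_subtype, h0, mul_one]
  obtain ⟨g, hg⟩ := exists_conj_le h.two h1
  -- the conjugate
  set R' : Subgroup X := (R.map S.subtype).comap (MulAut.conj g⁻¹).toMonoidHom with hR'
  have hmem : ∀ x : X, x ∈ R' ↔ (⟨g⁻¹ * x * g, hall _⟩ : S) ∈ R := by
    intro x
    rw [hR', mem_comap]
    constructor
    · rintro ⟨r, hr, hrx⟩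
      have h2 : (⟨g⁻¹ * x * g, hall _⟩ : S) = r := by
        apply Subtype.ext
        change (r : X) = g⁻¹ * x * g⁻¹⁻¹ at hrx
        rw [hrx, inv_inv]
      rwa [h2]
    · intro hr
      refine ⟨_, hr, ?_⟩
      show g⁻¹ * x * g = g⁻¹ * x * g⁻¹⁻¹
      rw [inv_inv]
  have hT : T ≤ R' := by
    intro t ht
    rw [hmem]
    obtain ⟨r, hr, hrx⟩ := hg t ht
    have h2 : (⟨g⁻¹ * t * g, hall _⟩ : S) = r := Subtype.ext hrx.symm
    rwa [h2]
  have hne : R' ≠ ⊤ := by
    intro h2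
    apply hR1
    rw [eq_top_iff]
    intro x _
    have h3 : g * x * g⁻¹ ∈ R' := h2 ▸ mem_top _
    rw [hmem] at h3
    have h4 : (⟨g⁻¹ * (g * x * g⁻¹) * g, hall _⟩ : S) = x := Subtype.ext (by group)
    rwa [h4] at h3
  have h2 := h.low R' hT hne
  -- the subgroup `Q`
  let f : S →* X := (MulAut.conj g).toMonoidHom.comp S.subtype
  have hf : Function.Injective f := (MulAut.conj g).injective.comp S.subtype_injective
  have hfa : ∀ x : S, f x = g * x * g⁻¹ := fun x => rfl
  have h3 : Nat.card ((o2 R').comap f) ≤ n := by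
    apply hn
    · intro x hx
      have h4 : f x ∈ R' := o2_le R' hx
      rw [hmem] at h4
      have h5 : (⟨g⁻¹ * f x * g, hall _⟩ : S) = x := Subtype.ext (by rw [hfa]; group)
      rwa [h5] at h4
    · exact (o2_isPGroup R').comap_of_injective _ hf
    · intro r hr
      have h4 : f r ∈ R' := by
        rw [hmem]
        have h5 : (⟨g⁻¹ * f r * g, hall _⟩ : S) = r := Subtype.ext (by rw [hfa]; group)
        rwa [h5]
      have h5 := mem_normalizer_iff.1 (le_normalizer_o2 R' h4)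
      rw [mem_normalizer_iff]
      intro y
      rw [mem_comap, mem_comap, map_mul, map_mul, map_inv]
      exact h5 (f y)
  have h4 : ((o2 R').comap f).map f = o2 R' := by
    refine map_comap_eq_self fun x _ => ?_
    exact ⟨⟨g⁻¹ * x * g, hall _⟩, by rw [hfa]; group⟩
  have h5 : Nat.card (o2 R') = Nat.card ((o2 R').comap f) := by
    rw [← card_map_of_injective hf, h4]
  exact (card_le_of_le h2).trans (h5 ▸ h3)

/-- **A simple subgroup of odd index.** -/
theorem ASx.card_le_of_odd_index_simple [Finite X] (h : ASx S T A) (hS : S = ⊤) {R : Subgroup S} (hR : ¬ 2 ∣ R.index)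
    (hR1 : R ≠ ⊤) (hs : IsSimpleGroup R) (h2 : ¬ IsPGroup 2 R) : Nat.card A ≤ 1 := by
  refine h.card_le_of_odd_index hS hR hR1 fun Q hQR hQ hN => ?_
  have h3 : (Q.subgroupOf R).Normal := by
    refine ⟨fun q hq g => ?_⟩
    exact (mem_normalizer_iff.1 (hN g.2) q).1 hq
  rcases hs.eq_bot_or_eq_top_of_normal _ h3 with h4 | h4
  · have h5 : Q = ⊥ := by
      rw [eq_bot_iff]
      intro q hq
      have h6 : (⟨q, hQR hq⟩ : R) ∈ Q.subgroupOf R := hq
      rw [h4, mem_bot] at h6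
      exact mem_bot.2 (congrArg Subtype.val h6)
    rw [h5, card_bot]
  · exact absurd (hQ.to_le (subgroupOf_eq_top.1 h4)) h2

section sheet

open Cfsg.Agent.OddHalf.D8.Sheet Cfsg.Agent.OddHalf.D8.JTwo.Sheet

/-- **`A ≤ R^g`.** -/
theorem ASx.le_conj [Finite X] (h : ASx S T A) {z : S} {P R : Subgroup S} (hz : SheetX z P R) :
    ∃ g : S, ∀ a ∈ A, (g : X)⁻¹ * a * g ∈ R.map S.subtype := by
  obtain ⟨g, hg⟩ := h.conj_of_syl hz.z1 hz.syl
  exact ⟨g, fun a ha => ShE.o2_le_R h.norm h.cen hz (hg a ha)⟩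

/-- `A ≤ S`. -/
theorem ASx.le_of_sheet [Finite X] (h : ASx S T A) {z : S} {P R : Subgroup S} (hz : SheetX z P R) : A ≤ S := by
  obtain ⟨g, hg⟩ := h.le_conj hz
  have hS := h.norm
  intro a ha
  obtain ⟨r, -, hr⟩ := hg a ha
  have h1 : a = (g : X) * r * (g : X)⁻¹ := by
    change (r : X) = (g : X)⁻¹ * a * g at hr
    rw [hr]; group
  rw [h1]
  exact hS.conj_mem _ r.2 g

/-- `|A| ≤ n` if the elementary abelian subgroups of `R` have order at most `n`. -/
theorem ASx.card_le_of_sheet [Finite X] (h : ASx S T A) {z : S} {P R : Subgroup S} (hz : SheetX z P R) {n : ℕ}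
    (hR : ∀ B ≤ R, (∀ b ∈ B, b * b = 1) → Nat.card B ≤ n) : Nat.card A ≤ n := by
  obtain ⟨g, hg⟩ := h.le_conj hz
  have h1 : A.map (MulAut.conj (g : X)⁻¹).toMonoidHom ≤ R.map S.subtype := by
    rintro _ ⟨a, ha, rfl⟩
    have h2 := hg a ha
    rw [MulEquiv.toMonoidHom_eq_coe, MonoidHom.coe_coe, MulAut.conj_apply, inv_inv]
    exact h2
  obtain ⟨B, hB, hBA⟩ : ∃ B ≤ R, B.map S.subtype = A.map (MulAut.conj (g : X)⁻¹).toMonoidHom := by
    refine ⟨(A.map (MulAut.conj (g : X)⁻¹).toMonoidHom).comap S.subtype, ?_, ?_⟩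
    · intro x hx
      obtain ⟨r, hr, hrx⟩ := h1 hx
      rwa [← S.subtype_injective hrx]
    · refine map_comap_eq_self ?_
      rw [range_subtype]
      exact h1.trans (map_subtype_le _)
  have h3 : Nat.card B = Nat.card A := by
    rw [← card_map_of_injective S.subtype_injective, hBA, card_map_of_injective (MulAut.conj (g : X)⁻¹).injective]
  rw [← h3]
  refine hR B hB fun b hb => ?_
  have h4 : (b : X) ∈ A.map (MulAut.conj (g : X)⁻¹).toMonoidHom := by
    rw [← hBA]; exact ⟨b, hb, rfl⟩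
  obtain ⟨a, ha, hab⟩ := h4
  apply Subtype.ext
  rw [Subgroup.coe_mul, Subgroup.coe_one, ← hab, ← map_mul, h.el a ha, map_one]

/-- **The row of a class of groups with a sheet of type (E), `R` of rank at most `log n`.** -/
theorem deadGx_of_sheet {n : ℕ} {𝒮 : ∀ (S : Type u) [Group S], Prop}
    (hs : ∀ (S : Type u) [Group S], Finite S → 𝒮 S → ∃ (z : S) (P R : Subgroup S), SheetX z P R ∧
      ∀ B ≤ R, (∀ b ∈ B, b * b = 1) → Nat.card B ≤ n) : DeadGx.{u} n 𝒮 := by
  intro X _ _ S T A h hS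
  obtain ⟨z, P, R, hz, hR⟩ := hs S inferInstance hS
  exact h.card_le_of_sheet hz hR

end sheet

end Cfsg.Agent.Omega.ML.Ex
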