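import Cfsg.Agent.Omega.ML.Ex.LocX
import Cfsg.Agent.Omega.ML.Ex.RkX
import Cfsg.Agent.Omega.ML.RowPspSix

/-!
# Exact and low configurations: the row `PSp₆(3)` (helper232)

* `exists_conj` : `A ∩ S ≤ {1, z^g}` (`RowPspSix.Facts`), so `|A| ≤ 4` and `z^g ∈ A`;
* `invAt_z` : `z` inverts an element of order 3 of a Frobenius group of order 39 (in `SL₃(3)`), so `dim [M, z] ≥ 4`;
* **`dead : DeadX IsPspSix`**.
-/

set_option autoImplicit false

namespace Cfsg.Agent.Omega.ML.Ex.RowPspSixX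

open Matrix Subgroup Cfsg Cfsg.Agent.ZN
open Cfsg.Agent.Omega.ML.InvChain Cfsg.Agent.Omega.ML.RowPspSix
open Cfsg.Agent.MinSimple.VModule (o2_isPGroup o2_le le_o2 le_normalizer_o2)

universe u v

/-! ### The involution -/

/-- **`A ∩ S ≤ {1, z^g}`.** -/
theorem exists_conj {X : Type*} [Group X] [Finite X] {S T A : Subgroup X} (h : ASx S T A) {z : S} (hz : Facts z) :
    ∃ g : S, ∀ a ∈ A, a ∈ S → a = 1 ∨ a = ((g * z * g⁻¹ : S) : X) := by
  classical
  obtain ⟨g, hg⟩ := exists_conj_of_aut h.norm h.two hz.odd hz.aut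
  refine ⟨g, ?_⟩
  set w : S := g * z * g⁻¹ with hw
  have hw1 : (w : X) ≠ 1 := by
    intro h2
    have h3 : w = 1 := Subtype.ext h2
    apply hz.ne
    calc z = g⁻¹ * w * g := by rw [hw]; group
      _ = 1 := by rw [h3]; group
  have hle := h.low _ hg (h.cent_ne_top hw1)
  intro a ha haS
  let N : Subgroup S := (o2 (centralizer ({(w : X)} : Set X))).comap (S.subtype.comp (MulAut.conj g).toMonoidHom)
  have hmem : ∀ x : S, x ∈ N ↔ ((g * x * g⁻¹ : S) : X) ∈ o2 (centralizer ({(w : X)} : Set X)) := fun x => Iff.rfl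
  have hN1 : N ≤ centralizer ({z} : Set S) := by
    intro x hx
    rw [hmem] at hx
    have h1 := mem_centralizer_singleton_iff.1 (o2_le _ hx)
    rw [mem_centralizer_singleton_iff]
    have h2 : (g * x * g⁻¹) * w = w * (g * x * g⁻¹) := Subtype.ext h1
    calc x * z = g⁻¹ * ((g * x * g⁻¹) * w) * g := by rw [hw]; group
      _ = g⁻¹ * (w * (g * x * g⁻¹)) * g := by rw [h2]
      _ = z * x := by rw [hw]; group
  have hN2 : IsPGroup 2 N :=
    (o2_isPGroup _).comap_of_injective _ (S.subtype_injective.comp (MulAut.conj g).injective)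
  have hN3 : centralizer ({z} : Set S) ≤ normalizer (N : Set S) := by
    have hk : ∀ x ∈ centralizer ({z} : Set S), ∀ y ∈ N, x * y * x⁻¹ ∈ N := by
      intro x hx y hy
      rw [hmem] at hy ⊢
      have h1 : ((g * x * g⁻¹ : S) : X) ∈ centralizer ({(w : X)} : Set X) := by
        rw [mem_centralizer_singleton_iff] at hx ⊢
        refine congrArg (Subtype.val (p := (· ∈ S))) (?_ : (g * x * g⁻¹) * w = w * (g * x * g⁻¹))
        calc (g * x * g⁻¹) * w = g * (x * z) * g⁻¹ := by rw [hw]; group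
          _ = g * (z * x) * g⁻¹ := by rw [hx]
          _ = _ := by rw [hw]; group
      have h2 := (mem_normalizer_iff.1 (le_normalizer_o2 _ h1) _).1 hy
      have h3 : ((g * (x * y * x⁻¹) * g⁻¹ : S) : X) = ((g * x * g⁻¹ : S) : X) * ((g * y * g⁻¹ : S) : X) *
          ((g * x * g⁻¹ : S) : X)⁻¹ := by
        rw [← Subgroup.coe_inv, ← Subgroup.coe_mul, ← Subgroup.coe_mul]
        congr 1
        group
      rwa [h3]
    intro x hx
    rw [mem_normalizer_iff]
    intro y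
    refine ⟨fun hy => hk x hx y hy, fun hy => ?_⟩
    have h3 := hk x⁻¹ (inv_mem hx) _ hy
    have h4 : x⁻¹ * (x * y * x⁻¹) * x⁻¹⁻¹ = y := by group
    rwa [h4] at h3
  have h1 : (g⁻¹ * ⟨a, haS⟩ * g) ∈ N := by
    rw [hmem]
    have h2 : ((g * (g⁻¹ * ⟨a, haS⟩ * g) * g⁻¹ : S) : X) = a := by
      have h3 : (g * (g⁻¹ * ⟨a, haS⟩ * g) * g⁻¹ : S) = ⟨a, haS⟩ := by group
      rw [h3]
    rw [h2]
    exact hle ha
  have h5 : (⟨a, haS⟩ : S) = g * (g⁻¹ * ⟨a, haS⟩ * g) * g⁻¹ := by group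
  have h6 : (g⁻¹ * ⟨a, haS⟩ * g) * (g⁻¹ * ⟨a, haS⟩ * g) = 1 := by
    have h7 : (⟨a, haS⟩ : S) * ⟨a, haS⟩ = 1 := Subtype.ext (h.el a ha)
    calc (g⁻¹ * ⟨a, haS⟩ * g) * (g⁻¹ * ⟨a, haS⟩ * g) = g⁻¹ * (⟨a, haS⟩ * ⟨a, haS⟩) * g := by group
      _ = 1 := by rw [h7]; group
  rcases hz.o2 N hN2 hN1 hN3 _ h1 h6 with h2 | h2
  · left
    rw [h2, mul_one, mul_inv_cancel] at h5
    exact congrArg Subtype.val h5
  · right
    rw [h2] at h5
    exact congrArg Subtype.val h5

/-- **The row with `Facts`**: `|Out(S)| ≤ 2`, `InvAt z 3`. -/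
theorem false_of_facts {H : Type*} [Group H] [Finite H] {M : Type*} [Group M] [Finite M] [MulDistribMulAction H M]
    {K T A : Subgroup H} (h : InX H M K T A) {z : K} (hz : Facts z)
    (hout : (MulAut.conj : K →* MulAut K).range.index ≤ 2) (hinv : InvAt z 3) : False := by
  obtain ⟨g, hg⟩ := exists_conj h.asx hz
  have h1 := h.four
  have h2 : K.index ≤ 2 := h.asx.index_le.trans hout
  have h3 : Nat.card (K.subgroupOf A) ≤ 2 := card_subgroupOf_le_two hg
  have h4 := h.asx.card_le_inf_mul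
  have h5 : Nat.card A ≤ 4 := h4.trans (Nat.mul_le_mul h3 h2)
  have h6 : ((g * z * g⁻¹ : K) : H) ∈ A := by
    by_contra hc
    have h7 : K.subgroupOf A = ⊥ := by
      rw [eq_bot_iff]
      intro b hb
      rcases hg b b.2 (mem_subgroupOf.1 hb) with e | e
      · exact mem_bot.2 (Subtype.ext e)
      · exact absurd (e ▸ b.2) hc
    rw [h7, card_bot, one_mul] at h4
    omega
  exact h.false_of_invAt h6 (n := 3) (by omega) ((hinv.conj g).map K.subtype K.subtype_injective)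

/-! ### The inverted element -/

section Model

open Cfsg.Agent.ClassicalGeometry.SympAutExists
open Cfsg.Agent.OddHalf.NI.FrameSp (neg neg_coe center_cases)
open Cfsg.Agent.Lib.FieldThree (F3)

/-- `A ⊕ B` with `B = A^{-T}` -/
def lev (A B : Matrix (Fin 3) (Fin 3) F3) (h : A * Bᵀ = 1) : symplecticGroup (Fin 3) F3 :=
  ⟨fromBlocks A 0 0 B, by
    have h' : B * Aᵀ = 1 := by
      have h1 := congrArg Matrix.transpose h
      rwa [transpose_mul, transpose_transpose, transpose_one] at h1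
    rw [SymplecticGroup.mem_iff]
    unfold J
    rw [fromBlocks_transpose, fromBlocks_multiply, fromBlocks_multiply]
    simp [h, h']⟩

theorem lev_coe (A B : Matrix (Fin 3) (Fin 3) F3) (h : A * Bᵀ = 1) :
    (lev A B h : Matrix (Fin 3 ⊕ Fin 3) (Fin 3 ⊕ Fin 3) F3) = fromBlocks A 0 0 B := rfl

/-- an element of order 3 inverted by `D` -/
def aM : Matrix (Fin 3) (Fin 3) F3 := !![1, 0, 0; -1, 1, 1; 1, 0, 1]
def aN : Matrix (Fin 3) (Fin 3) F3 := !![1, -1, -1; 0, 1, 0; 0, -1, 1]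
/-- an element of order 13 normalised by it -/
def bM : Matrix (Fin 3) (Fin 3) F3 := !![-1, -1, 0; 0, 0, 1; -1, 0, 0]
def bN : Matrix (Fin 3) (Fin 3) F3 := !![0, -1, 0; 0, 0, 1; -1, 1, 0]
def dM : Matrix (Fin 3) (Fin 3) F3 := !![-1, 0, 0; 0, -1, 0; 0, 0, 1]

def ga : symplecticGroup (Fin 3) F3 := lev aM aN (by decide +kernel)
def gb : symplecticGroup (Fin 3) F3 := lev bM bN (by decide +kernel)

theorem ga_coe : (ga : Matrix (Fin 3 ⊕ Fin 3) (Fin 3 ⊕ Fin 3) F3) = fromBlocks aM 0 0 aN := rfl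
theorem gb_coe : (gb : Matrix (Fin 3 ⊕ Fin 3) (Fin 3 ⊕ Fin 3) F3) = fromBlocks bM 0 0 bN := rfl

theorem Y_blocks : (Y : Matrix (Fin 3 ⊕ Fin 3) (Fin 3 ⊕ Fin 3) F3) = fromBlocks dM 0 0 dM := by
  rw [Y_coe]
  decide +kernel

theorem pw {A B : Matrix (Fin 3) (Fin 3) F3} (n : ℕ) : (fromBlocks A 0 0 B) ^ n = fromBlocks (A ^ n) 0 0 (B ^ n) := by
  induction n with
  | zero => rw [pow_zero, pow_zero, pow_zero, fromBlocks_one]
  | succ n ih => rw [pow_succ, ih, fromBlocks_multiply, pow_succ, pow_succ]; simp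

theorem ga_pow : ga ^ 3 = 1 := by
  apply Subtype.ext
  rw [SubmonoidClass.coe_pow, ga_coe, pw]
  have h1 : aM ^ 3 = 1 := by
    rw [pow_succ, pow_succ, pow_one]; decide +kernel
  have h2 : aN ^ 3 = 1 := by
    rw [pow_succ, pow_succ, pow_one]; decide +kernel
  rw [h1, h2, fromBlocks_one]
  rfl

theorem gb_pow : gb ^ 13 = 1 := by
  apply Subtype.ext
  rw [SubmonoidClass.coe_pow, gb_coe, pw]
  have h1 : bM ^ 13 = 1 := by
    rw [show 13 = 3 * 4 + 1 by norm_num, pow_add, pow_mul, pow_one]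
    have h3 : bM ^ 3 = !![-1, -1, 0; 0, 0, 1; -1, 0, 0] * !![-1, -1, 0; 0, 0, 1; -1, 0, 0] * !![-1, -1, 0; 0, 0, 1; -1, 0, 0] := by
      rw [pow_succ, pow_succ, pow_one]; rfl
    rw [h3, pow_succ, pow_succ, pow_succ, pow_one]; decide +kernel
  have h2 : bN ^ 13 = 1 := by
    rw [show 13 = 3 * 4 + 1 by norm_num, pow_add, pow_mul, pow_one]
    have h3 : bN ^ 3 = !![0, -1, 0; 0, 0, 1; -1, 1, 0] * !![0, -1, 0; 0, 0, 1; -1, 1, 0] * !![0, -1, 0; 0, 0, 1; -1, 1, 0] := by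
      rw [pow_succ, pow_succ, pow_one]; rfl
    rw [h3, pow_succ, pow_succ, pow_succ, pow_one]; decide +kernel
  rw [h1, h2, fromBlocks_one]
  rfl

theorem ga_ne : pr ga ≠ 1 := by
  intro h
  have h1 : ga ∈ center (symplecticGroup (Fin 3) F3) := (QuotientGroup.eq_one_iff ga).1 h
  have h4 : ∀ X : Matrix (Fin 3 ⊕ Fin 3) (Fin 3 ⊕ Fin 3) F3, X = fromBlocks aM 0 0 aN →
      X (Sum.inl 1) (Sum.inl 0) = -1 := by
    rintro X rfl
    decide +kernel
  have h5 := h4 _ ga_coe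
  rcases center_cases (by norm_num) h1 with h2 | h2
  · rw [h2] at h5
    revert h5
    decide +kernel
  · rw [h2, neg_coe] at h5
    revert h5
    decide +kernel

theorem gb_ne : pr gb ≠ 1 := by
  intro h
  have h1 : gb ∈ center (symplecticGroup (Fin 3) F3) := (QuotientGroup.eq_one_iff gb).1 h
  have h4 : ∀ X : Matrix (Fin 3 ⊕ Fin 3) (Fin 3 ⊕ Fin 3) F3, X = fromBlocks bM 0 0 bN →
      X (Sum.inl 0) (Sum.inl 1) = -1 := by
    rintro X rfl
    decide +kernel
  have h5 := h4 _ gb_coe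
  rcases center_cases (by norm_num) h1 with h2 | h2
  · rw [h2] at h5
    revert h5
    decide +kernel
  · rw [h2, neg_coe] at h5
    revert h5
    decide +kernel

theorem ab : ga * gb = gb ^ 3 * ga := by
  apply Subtype.ext
  rw [Submonoid.coe_mul, Submonoid.coe_mul, SubmonoidClass.coe_pow, ga_coe, gb_coe, pw, fromBlocks_multiply,
    fromBlocks_multiply]
  have h1 : aM * bM = bM ^ 3 * aM := by
    rw [pow_succ, pow_succ, pow_one]; decide +kernel
  have h2 : aN * bN = bN ^ 3 * aN := by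
    rw [pow_succ, pow_succ, pow_one]; decide +kernel
  rw [h1, h2]
  simp

theorem za : Y * ga * Y * ga = 1 := by
  apply Subtype.ext
  rw [Submonoid.coe_mul, Submonoid.coe_mul, Submonoid.coe_mul, ga_coe, Y_blocks]
  simp only [fromBlocks_multiply, Matrix.mul_zero, Matrix.zero_mul, add_zero, zero_add]
  have h1 : dM * aM * dM * aM = 1 := by decide +kernel
  have h2 : dM * aN * dM * aN = 1 := by decide +kernel
  rw [h1, h2, fromBlocks_one]
  rfl

theorem YY : Y * Y = 1 := by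
  apply Subtype.ext
  rw [Submonoid.coe_mul, Y_blocks, fromBlocks_multiply]
  have h1 : dM * dM = 1 := by decide +kernel
  rw [h1]
  simp

theorem invAt_z : InvAt z 4 := by
  have hoa : orderOf (pr ga) = 3 := orderOf_eq_prime (by rw [← pr_pow, ga_pow]; rfl) ga_ne
  have hob : orderOf (pr gb) = 13 := by
    have : Fact (Nat.Prime 13) := ⟨by norm_num⟩
    exact orderOf_eq_prime (by rw [← pr_pow, gb_pow]; rfl) gb_ne
  have hab : pr ga * pr gb * (pr ga)⁻¹ = pr gb ^ 3 := by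
    rw [mul_inv_eq_iff_eq_mul, ← pr_mul, ab, pr_mul, pr_pow]
  have hza : z * pr ga * z⁻¹ = (pr ga)⁻¹ := by
    have h2 : z⁻¹ = z := inv_eq_of_mul_eq_one_left (by
      change pr (Y * Y) = 1
      rw [YY]; rfl)
    rw [h2, eq_inv_iff_mul_eq_one]
    change pr (Y * ga * Y * ga) = 1
    rw [za]; rfl
  refine ⟨pr ga, 8, Chain.step (pr gb) (pr ga) 12 8 3 (Chain.base (pr gb) 12 ?_ ?_ ?_) ?_ ?_ hab ?_ ?_, hza,
    by norm_num⟩
  · rw [hob]; norm_num
  · rw [hob]; norm_num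
  · rw [hob]
    intro j hj1 hj2
    interval_cases j <;> norm_num
  · rw [hoa]; norm_num
  · rw [hoa]; norm_num
  · intro h1
    have h2 : pr gb = pr gb ^ 3 := by rw [← hab, h1, mul_inv_cancel_right]
    have h3 : pr gb ^ 2 = 1 := by
      have h4 : pr gb * pr gb ^ 2 = pr gb * 1 := by rw [mul_one, ← pow_succ']; exact h2.symm
      exact mul_left_cancel h4
    have h4 := orderOf_dvd_of_pow_eq_one h3
    rw [hob] at h4
    norm_num at h4
  · rw [hoa]; norm_num

end Model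

/-- **The row `PSp₆(3)`** -/
theorem dead : DeadX.{u, v} (fun S _ => IsPspSix S) := by
  rintro H _ _ M _ _ _ K T A h ⟨F, _, _, hF, ⟨f⟩⟩
  let e : PSp 3 Cfsg.Agent.Lib.FieldThree.F3 ≃* K :=
    (f.trans (LieClassical.FieldTransfer.pspCongr 3 (Cfsg.Agent.Lib.FieldThree.equivOfCard hF))).symm
  exact false_of_facts h (facts.map e) (index_out e)
    ((invAt_z.map e.toMonoidHom e.injective).mono (by norm_num))

end Cfsg.Agent.Omega.ML.Ex.RowPspSixX
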