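import Cfsg.Agent.Omega.ML.Ex.RkX
import Cfsg.Agent.Omega.ML.RowRee

/-!
# Exact and low configurations: the rows `²G₂(q)` over `ASx` (helper661)

* `exists_conj` : automorphisms of 2-power order of a simple group with elementary abelian Sylow 2-subgroups of order 8
  are inner;
* `card_le_of_eight` : `|A| ≤ n` if `|O₂(C_S(t))| ≤ n` for an involution `t` of such a group `S`;
* **`deadGx : DeadGx 2 IsoRee`**, `dead : DeadX IsoRee`.
-/

set_option autoImplicit false

namespace Cfsg.Agent.Omega.ML.Ex.RowReeX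

open Subgroup Cfsg Cfsg.Agent.StdL2.G23Aut Cfsg.Agent.OddHalf.EightTorus
open Cfsg.Agent.Omega.ML.RowRee (card_o2_le_two comm_of_el)
open Cfsg.Agent.MinSimple.VModule (o2_isPGroup o2_le le_o2 le_normalizer_o2)
open Cfsg.Agent.ZN (o2)

universe u v

/-- **Automorphisms of 2-power order of a simple group with elementary abelian Sylow 2-subgroups of order 8 are
inner.** -/
theorem exists_conj {K : Type u} [Group K] [Finite K] [IsSimpleGroup K] (hna : ∃ a b : K, a * b ≠ b * a)
    (hsyl : ∀ S : Sylow 2 K, Nat.card S = 8 ∧ ∀ x ∈ (S : Subgroup K), x * x = 1)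
    (σ : MulAut K) (hpσ : IsPGroup 2 (zpowers σ)) : ∃ v : K, σ = MulAut.conj v := by
  classical
  have h2 : Fact (Nat.Prime 2) := ⟨Nat.prime_two⟩
  have hc : center K = ⊥ := by
    rcases (inferInstance : (center K).Normal).eq_bot_or_eq_top with h | h
    · exact h
    · exfalso
      obtain ⟨a, b, hab⟩ := hna
      have h1 : b ∈ center K := by rw [h]; trivial
      exact hab (mem_center_iff.1 h1 a)
  have hinj := Cfsg.Agent.UGT.EndBase.conj_inj hc
  set R : Subgroup (MulAut K) := (MulAut.conj : K →* MulAut K).range with hR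
  have hRn : R.Normal := by
    refine ⟨?_⟩
    rintro _ ⟨x, rfl⟩ φ
    exact ⟨φ x, Cfsg.Agent.UGT.EndBase.conj_app φ x⟩
  have e : K ≃* R := MonoidHom.ofInjective hinj
  have hRs : IsSimpleGroup R := e.symm.isSimpleGroup
  obtain ⟨P, hP⟩ := hpσ.exists_le_sylow
  let V : Subgroup (MulAut K) := (P : Subgroup (MulAut K)) ⊓ R
  have hVR : V ≤ R := inf_le_right
  have hVodd : ¬ 2 ∣ V.relIndex R := by
    have h1 := Cfsg.Agent.Lib.SylowNormalInf.not_dvd_relIndex P R
    rwa [← inf_relIndex_right] at h1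
  -- the Sylow subgroup of `K`
  have hSp : IsPGroup 2 (V.comap (MulAut.conj : K →* MulAut K)) :=
    (P.isPGroup'.to_le inf_le_left).comap_of_injective _ hinj
  have hidx : ¬ 2 ∣ (V.comap (MulAut.conj : K →* MulAut K)).index := by
    rw [index_comap]
    exact hVodd
  let S : Sylow 2 K := hSp.toSylow hidx
  have hS : (S : Subgroup K) = V.comap (MulAut.conj : K →* MulAut K) := rfl
  have hmap : (S : Subgroup K).map (MulAut.conj : K →* MulAut K) = V := by
    rw [hS, map_comap_eq, inf_eq_right]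
    exact hVR
  obtain ⟨h8, hsq⟩ := hsyl S
  have hoct : Oct V := by
    refine ⟨?_, ?_⟩
    · rw [← hmap, card_map_of_injective hinj]
      exact h8
    · intro v hv
      rw [← hmap] at hv
      obtain ⟨s, hs, rfl⟩ := hv
      rw [← map_mul, hsq s hs, map_one]
  have hLoc : Auto.Loc R V (1 : MulAut K) := by
    refine ⟨hRs, ?_, hVR, hVodd, hoct, fun _ _ => by rw [mul_one, one_mul], fun g _ => ?_⟩
    · obtain ⟨a, b, hab⟩ := hna
      refine ⟨_, ⟨a, rfl⟩, _, ⟨b, rfl⟩, fun h => hab (hinj ?_)⟩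
      rw [map_mul, map_mul, h]
    · rw [normalizer_eq_top_iff.2 hRn]
      exact mem_top g
  obtain ⟨-, -, -, -, hcomm⟩ := hLoc.main
  have hσN : zpowers σ ≤ normalizer (V : Set (MulAut K)) := by
    have hle : ∀ p ∈ (P : Subgroup (MulAut K)), ∀ v ∈ V, p * v * p⁻¹ ∈ V := by
      intro p hp v hv
      exact ⟨(P : Subgroup (MulAut K)).mul_mem ((P : Subgroup (MulAut K)).mul_mem hp hv.1)
        ((P : Subgroup (MulAut K)).inv_mem hp), hRn.conj_mem v hv.2 p⟩
    intro p hp
    rw [mem_normalizer_iff]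
    intro v
    constructor
    · exact hle p (hP hp) v
    · intro hv
      have h1 := hle p⁻¹ ((P : Subgroup (MulAut K)).inv_mem (hP hp)) _ hv
      have h3 : p⁻¹ * (p * v * p⁻¹) * p⁻¹⁻¹ = v := by group
      rwa [h3] at h1
  have hσV := hcomm (zpowers σ) hpσ (fun _ _ => by rw [mul_one, one_mul]) hσN σ (mem_zpowers σ)
  have hfix : ∀ s ∈ (S : Subgroup K), σ s = s := by
    intro s hs
    apply hinj
    rw [Cfsg.Agent.UGT.EndBase.conj_app]
    have h1 := hσV (MulAut.conj s) (by rw [← hmap]; exact ⟨s, hs, rfl⟩)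
    rw [h1, mul_inv_cancel_right]
  have hScomm : ∀ x ∈ (S : Subgroup K), ∀ y ∈ (S : Subgroup K), x * y = y * x := by
    intro x hx y hy
    have h1 := hsq x hx
    have h3 := hsq y hy
    have h4 := hsq _ ((S : Subgroup K).mul_mem hx hy)
    calc x * y = (x * y)⁻¹ := (inv_eq_of_mul_eq_one_right h4).symm
      _ = y * x := by rw [mul_inv_rev, inv_eq_of_mul_eq_one_right h1, inv_eq_of_mul_eq_one_right h3]
  have hS1 : (S : Subgroup K) ≠ ⊥ := by
    intro h
    have h1 : Nat.card (S : Subgroup K) = 8 := h8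
    rw [h, card_bot] at h1
    omega
  obtain ⟨v, -, hv⟩ := AbelAut.eq_conj hna S hScomm hS1 σ hpσ hfix
  refine ⟨v, ?_⟩
  ext x
  rw [hv x, MulAut.conj_apply]

/-- `S = X`. -/
theorem top_of_eight {X : Type u} [Group X] [Finite X] {S T A : Subgroup X} (h : ASx S T A)
    (hna : ∃ a b : S, a * b ≠ b * a)
    (hsyl : ∀ P : Sylow 2 S, Nat.card P = 8 ∧ ∀ x ∈ (P : Subgroup S), x * x = 1) : S = ⊤ := by
  have hsim := h.simple
  refine h.top_of_inner fun α ⟨k, hk⟩ => exists_conj hna hsyl α ?_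
  intro g
  obtain ⟨i, hi⟩ := mem_zpowers_iff.1 g.2
  refine ⟨k, Subtype.ext ?_⟩
  rw [SubgroupClass.coe_pow, ← hi, ← zpow_natCast, ← zpow_mul, mul_comm, zpow_mul, zpow_natCast, hk, one_zpow]
  rfl

/-- **Elementary abelian Sylow 2-subgroups of order 8.** -/
theorem card_le_of_eight {X : Type u} [Group X] [Finite X] {S T A : Subgroup X} (h : ASx S T A) {n : ℕ}
    (hna : ∃ a b : S, a * b ≠ b * a)
    (hsyl : ∀ P : Sylow 2 S, Nat.card P = 8 ∧ ∀ x ∈ (P : Subgroup S), x * x = 1)
    (t : S) (ht1 : t ≠ 1) (ht2 : t * t = 1) (ho : Nat.card (o2 (centralizer ({t} : Set S))) ≤ n) :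
    Nat.card A ≤ n := by
  classical
  have hsim := h.simple
  have h2 : Fact (Nat.Prime 2) := ⟨Nat.prime_two⟩
  have htop : S = ⊤ := top_of_eight h hna hsyl
  have hTS : T ≤ S := htop ▸ le_top
  -- `T` as a Sylow subgroup of `S`
  have hT' : IsPGroup 2 (T.subgroupOf S) := h.two.comap_subtype
  have hTi : ¬ 2 ∣ (T.subgroupOf S).index := by
    intro h3
    apply h.syl
    have h4 : (T.subgroupOf S).index = T.index := by
      change T.relIndex S = T.index
      rw [htop, relIndex_top_right]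
    rwa [← h4]
  let P : Sylow 2 S := hT'.toSylow hTi
  have hP : (P : Subgroup S) = T.subgroupOf S := rfl
  -- `t` in a Sylow subgroup
  have htp : IsPGroup 2 (zpowers t) := IsPGroup.of_card (n := 1) (by
    rw [Nat.card_zpowers, pow_one]
    exact orderOf_eq_prime (by rw [pow_two, ht2]) ht1)
  obtain ⟨Q, hQ⟩ := htp.exists_le_sylow
  obtain ⟨g, hg⟩ := MulAction.exists_smul_eq S Q P
  set s : S := g * t * g⁻¹ with hs
  have hsP : s ∈ T.subgroupOf S := by
    rw [← hP, ← hg]
    exact ⟨t, hQ (mem_zpowers t), rfl⟩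
  have hs1 : s ≠ 1 := by
    intro h3
    apply ht1
    calc t = g⁻¹ * s * g := by rw [hs]; group
      _ = 1 := by rw [h3]; group
  -- `T` is abelian
  have hTel : ∀ x ∈ T, x * x = 1 := by
    intro x hx
    have h3 := (hsyl P).2 ⟨x, hTS hx⟩ hx
    exact congrArg Subtype.val h3
  have hsT : (s : X) ∈ T := hsP
  have hTR : T ≤ centralizer ({(s : X)} : Set X) := by
    intro x hx
    rw [mem_centralizer_singleton_iff]
    exact comm_of_el hTel hx hsT
  have hR : centralizer ({(s : X)} : Set X) ≠ ⊤ := h.cent_ne_top fun h3 => hs1 (Subtype.ext h3)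
  have hA := h.low _ hTR hR
  refine (card_le_of_le hA).trans ?_
  -- transport to `C_S(t)`
  set O := o2 (centralizer ({(s : X)} : Set X)) with hO
  have hOS : O ≤ S := htop ▸ le_top
  have hc1 : Nat.card O = Nat.card ((O.subgroupOf S).map (MulAut.conj g⁻¹).toMonoidHom) := by
    rw [card_map_of_injective (MulAut.conj g⁻¹).injective, Nat.card_congr (subgroupOfEquivOfLe hOS).toEquiv]
  rw [hc1]
  refine (card_le_of_le ?_).trans ho
  have hgt : g⁻¹ * s * g = t := by rw [hs]; group
  have hmem : ∀ x : S, x ∈ centralizer ({t} : Set S) → (g * x * g⁻¹ : S) ∈ centralizer ({s} : Set S) := by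
    intro x hx
    rw [mem_centralizer_singleton_iff] at hx ⊢
    rw [hs]
    calc g * x * g⁻¹ * (g * t * g⁻¹) = g * (x * t) * g⁻¹ := by group
      _ = g * (t * x) * g⁻¹ := by rw [hx]
      _ = _ := by group
  refine le_o2 ?_ ?_ ?_
  · rintro _ ⟨x, hx, rfl⟩
    have hx1 : ((x : S) : X) ∈ centralizer ({(s : X)} : Set X) := o2_le _ hx
    rw [mem_centralizer_singleton_iff] at hx1 ⊢
    have hx2 : x * s = s * x := Subtype.ext hx1
    change g⁻¹ * x * (g⁻¹)⁻¹ * t = t * (g⁻¹ * x * (g⁻¹)⁻¹)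
    rw [← hgt]
    calc g⁻¹ * x * (g⁻¹)⁻¹ * (g⁻¹ * s * g) = g⁻¹ * (x * s) * g := by group
      _ = g⁻¹ * (s * x) * g := by rw [hx2]
      _ = _ := by group
  · exact ((o2_isPGroup _).comap_of_injective S.subtype S.subtype_injective).map _
  · intro x hx
    refine Cfsg.Agent.MinSimple.VModule.mem_normalizer_of_map_le ?_
    rintro _ ⟨_, ⟨w, hw, rfl⟩, rfl⟩
    have h1 : ((g * x * g⁻¹ : S) : X) ∈ centralizer ({(s : X)} : Set X) := by
      have h2 := hmem x hx
      rw [mem_centralizer_singleton_iff] at h2 ⊢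
      exact congrArg Subtype.val h2
    have h3 : ((g * x * g⁻¹ * w * (g * x * g⁻¹)⁻¹ : S) : X) ∈ O :=
      (mem_normalizer_iff.1 (le_normalizer_o2 _ h1) (w : X)).1 hw
    refine ⟨g * x * g⁻¹ * w * (g * x * g⁻¹)⁻¹, h3, ?_⟩
    change g⁻¹ * (g * x * g⁻¹ * w * (g * x * g⁻¹)⁻¹) * (g⁻¹)⁻¹ = x * (g⁻¹ * w * (g⁻¹)⁻¹) * x⁻¹
    group

/-- transport of the hypotheses of `card_le_of_eight` -/
theorem card_le_of_equiv {X : Type u} [Group X] [Finite X] {S T A : Subgroup X} (h : ASx S T A) {K : Type*} [Group K]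
    (e : S ≃* K) (hna : ∃ a b : K, a * b ≠ b * a)
    (hsyl : ∀ P : Sylow 2 K, Nat.card P = 8 ∧ ∀ x ∈ (P : Subgroup K), x * x = 1)
    {t : K} (ht1 : t ≠ 1) (ht2 : t * t = 1) {Z L : Type*} [Group Z] [Group L] [IsSimpleGroup L]
    (hZ : Nat.card Z = 2) (hL : ¬ IsPGroup 2 L) (c : ↥(centralizer ({t} : Set K)) ≃* Z × L) :
    Nat.card A ≤ 2 := by
  have hfK : Finite K := Finite.of_equiv _ e.toEquiv
  refine card_le_of_eight h ?_ ?_ (e.symm t) ?_ ?_ ?_
  · obtain ⟨a, b, hab⟩ := hna
    exact ⟨e.symm a, e.symm b, fun h1 => hab (e.symm.injective (by rw [map_mul, map_mul, h1]))⟩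
  · intro P
    have hP : IsPGroup 2 ((P : Subgroup S).map e.toMonoidHom) := P.isPGroup'.map _
    have hPi : ¬ 2 ∣ ((P : Subgroup S).map e.toMonoidHom).index := by
      have h1 : ((P : Subgroup S).map e.toMonoidHom).index = (P : Subgroup S).index :=
        index_map_equiv (P : Subgroup S) e
      rw [h1]
      have : Fact (Nat.Prime 2) := ⟨Nat.prime_two⟩
      exact P.not_dvd_index
    obtain ⟨h1, h2⟩ := hsyl (hP.toSylow hPi)
    constructor
    · have h3 : Nat.card ((P : Subgroup S).map e.toMonoidHom) = 8 := h1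
      rwa [card_map_of_injective e.injective] at h3
    · intro x hx
      have h3 := h2 (e x) (mem_map_of_mem e.toMonoidHom hx)
      exact e.injective (by rw [map_mul, h3, map_one])
  · intro h1
    apply ht1
    rw [← e.apply_symm_apply t, h1, map_one]
  · rw [← map_mul, ht2, map_one]
  · let c' : ↥(centralizer ({e.symm t} : Set S)) ≃* ↥(centralizer ({t} : Set K)) :=
      { toFun := fun x => ⟨e x, by
          have h1 := mem_centralizer_singleton_iff.1 x.2
          rw [mem_centralizer_singleton_iff]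
          have h2 := congrArg e h1
          rwa [map_mul, map_mul, e.apply_symm_apply] at h2⟩
        invFun := fun x => ⟨e.symm x, by
          have h1 := mem_centralizer_singleton_iff.1 x.2
          rw [mem_centralizer_singleton_iff]
          have h2 := congrArg e.symm h1
          rwa [map_mul, map_mul] at h2⟩
        left_inv := fun x => Subtype.ext (e.symm_apply_apply _)
        right_inv := fun x => Subtype.ext (e.apply_symm_apply _)
        map_mul' := fun x y => Subtype.ext (map_mul e _ _) }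
    exact card_o2_le_two hZ hL (c'.trans c)

/-- **The row `²G₂(q)`, group-theoretic.** -/
theorem deadGx : DeadGx.{u} 2 fun S _ => Cfsg.Lie.IsoRee S := by
  rintro X _ _ S T A h ⟨F, _, _, m, hm, hF, ⟨e⟩⟩
  obtain ⟨hs, hc⟩ := Cfsg.Agent.S1073.result hm hF
  obtain ⟨a, haH, ha1, ha2⟩ := Cfsg.Agent.S1157.exists_involution hF
  obtain ⟨⟨c⟩, hS⟩ := Cfsg.Agent.S1152.result hF a haH ha1 ha2
  have hF4 : 4 ≤ Nat.card F := by
    rw [Nat.card_eq_fintype_card, hF]
    have := Lie.PairRee.card_ge hm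
    omega
  obtain ⟨hL, -, hp⟩ := Lie.PairRee.psl_facts hF4
  refine card_le_of_equiv h e ?_ hS ha1 ha2 (by simp [Nat.card_eq_fintype_card]) hp c
  by_contra hcon
  push Not at hcon
  exact hc ⟨⟨hcon⟩⟩

/-- **The row `²G₂(q)`.** -/
theorem dead : DeadX.{u, v} fun S _ => Cfsg.Lie.IsoRee S := deadGx.deadX (by norm_num)

end Cfsg.Agent.Omega.ML.Ex.RowReeX
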