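import Cfsg.Agent.Omega.ML.Ex.Def
import Cfsg.Agent.Omega.ML.Ex.TIE
import Cfsg.Agent.Omega.ML.InvRow

/-!
# The K-list for EXACT subgroups (EXL), T5: inverted elements (helper661)

`H` acts on the group `M` of exponent 2, `A ≤ H` elementary abelian with `|M : C_M(A)| ≤ |A|` (`hex`; exact or strict).

* `index_le` : `|M : C_M(x)| ≤ |A|` for `x ∈ A`;
* **`lt_or_eq`** (D) : `|M : C_M(x)| < |A|` or `EQ(x)`: `C_M(x) = C_M(A)`;
* **`exists_normal`** : `EQ(x)` ⟹ `C_H(x)` has a normal elementary abelian 2-subgroup `E ≥ A`;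
* `inv_le` (I) : `x ∈ A` inverts `w` of odd order ⟹ `|M : C_M(w)| ≤ |A|²`;
* `inv_card` : `x ∈ A`, `InvAt x n` ⟹ `2 ^ n ≤ |A|`;  **`inv_eq`** : if moreover `|A| ≤ 2 ^ n` : `|A| = 2 ^ n` and `EQ(x)`;
* `InX.{card_le, index_le, exists_mem, inv_lt, inv_eq, exists_sub}` : the same for the literal situation, with `K` simple;
* **`dead`**, `dead_strong` : rows.
-/

set_option autoImplicit false

namespace Cfsg.Agent.Omega.ML.Ex.Inv

open Subgroup Cfsg Cfsg.Agent.ZN Cfsg.Agent.Omega.NOThree.NoOver Cfsg.Agent.Omega.ML.CD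
open Cfsg.Agent.Omega.ML.InvChain Cfsg.Agent.Omega.TwoF
open Cfsg.Agent.ClassTwoFusion.Quad

universe u v w

section weak

variable {H : Type u} [Group H] {M : Type v} [Group M] [MulDistribMulAction H M] {A : Subgroup H}

/-- `|M : C_M(x)| ≤ |A|` -/
theorem index_le [Finite M] (hex : (cv M (A : Set H)).index ≤ Nat.card A) {x : H} (hx : x ∈ A) :
    (cv M ({x} : Set H)).index ≤ Nat.card A :=
  (Nat.le_of_dvd (Nat.pos_of_ne_zero index_ne_zero_of_finite)
    (index_dvd_of_le (cv_anti (Set.singleton_subset_iff.2 hx)))).trans hex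

/-- **(D) The dichotomy** -/
theorem lt_or_eq [Finite M] (hex : (cv M (A : Set H)).index ≤ Nat.card A) {x : H} (hx : x ∈ A) :
    (cv M ({x} : Set H)).index < Nat.card A ∨ cv M ({x} : Set H) = cv M (A : Set H) := by
  have hle : cv M (A : Set H) ≤ cv M ({x} : Set H) := cv_anti (Set.singleton_subset_iff.2 hx)
  rcases lt_or_ge (cv M ({x} : Set H)).index (Nat.card A) with h1 | h1
  · exact Or.inl h1
  · right
    refine le_antisymm ?_ hle
    rw [← relIndex_eq_one]
    have h2 : (cv M (A : Set H)).relIndex (cv M ({x} : Set H)) * (cv M ({x} : Set H)).index =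
      (cv M (A : Set H)).index := relIndex_mul_index hle
    have h3 : 0 < (cv M ({x} : Set H)).index := Nat.pos_of_ne_zero index_ne_zero_of_finite
    have h4 : 0 < (cv M (A : Set H)).relIndex (cv M ({x} : Set H)) := by
      refine Nat.pos_of_ne_zero fun h5 => ?_
      rw [h5, zero_mul] at h2
      exact index_ne_zero_of_finite h2.symm
    by_contra h5
    have h6 : 2 ≤ (cv M (A : Set H)).relIndex (cv M ({x} : Set H)) := by omega
    have h7 : 2 * (cv M ({x} : Set H)).index ≤ (cv M (A : Set H)).index := by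
      rw [← h2]
      exact Nat.mul_le_mul_right _ h6
    omega

theorem eq_of_le [Finite M] (hex : (cv M (A : Set H)).index ≤ Nat.card A) {x : H} (hx : x ∈ A)
    (h : Nat.card A ≤ (cv M ({x} : Set H)).index) : cv M ({x} : Set H) = cv M (A : Set H) :=
  (lt_or_eq hex hx).resolve_left (by omega)

/-- `EQ(x)` : `A` is quadratic. -/
theorem com_of_eq (sq : ∀ m : M, m * m = 1) {x : H} (hx2 : x * x = 1) (hxc : ∀ a ∈ A, a * x = x * a)
    (heq : cv M ({x} : Set H) = cv M (A : Set H)) {a : H} (ha : a ∈ A) (m : M) :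
    (a • m) * m⁻¹ ∈ cv M (A : Set H) := by
  have hc := InvFrob.comm_of_sq sq
  have hi : ∀ y : M, y⁻¹ = y := fun y => inv_eq_of_mul_eq_one_right (sq y)
  have h1 : (x • m) * m ∈ cv M ({x} : Set H) := by
    rw [mem_cv_singleton, smul_mul', ← mul_smul, hx2, one_smul, hc]
  rw [heq] at h1
  have h2 : a • ((x • m) * m) = (x • m) * m := h1 a ha
  rw [hi, ← heq, mem_cv_singleton, smul_mul', ← mul_smul, ← hxc a ha, mul_smul]
  rw [smul_mul'] at h2
  have h3 : a • x • m = (x • m) * m * (a • m) := by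
    rw [← h2, mul_assoc, sq, mul_one]
  rw [h3]
  calc (x • m) * m * (a • m) * (x • m) = (x • m) * (m * (a • m)) * (x • m) := by rw [mul_assoc (x • m) m]
    _ = (x • m) * (x • m) * (m * (a • m)) := by rw [mul_assoc, hc (m * (a • m)), ← mul_assoc]
    _ = (a • m) * m := by rw [sq, one_mul, hc]

/-- `EQ(x)` : `A ≤ EE(C_M(A))`. -/
theorem le_EE (sq : ∀ m : M, m * m = 1) {x : H} (hx2 : x * x = 1) (hxc : ∀ a ∈ A, a * x = x * a)
    (heq : cv M ({x} : Set H) = cv M (A : Set H)) : A ≤ (TIE.EE (cv M (A : Set H)) : Subgroup H) :=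
  fun _ ha => ⟨fun _ hm => hm _ ha, fun m => com_of_eq sq hx2 hxc heq ha m⟩

/-- **`EQ(x)` ⟹ `C_H(x)` has a normal elementary abelian 2-subgroup which contains `A`.** -/
theorem exists_normal (sq : ∀ m : M, m * m = 1) (faith : ∀ h : H, (∀ m : M, h • m = m) → h = 1)
    (el : ∀ a ∈ A, a * a = 1) {x : H} (hx : x ∈ A) (heq : cv M ({x} : Set H) = cv M (A : Set H)) :
    ∃ E : Subgroup H, A ≤ E ∧ (∀ e ∈ E, e * e = 1) ∧ cv M (E : Set H) = cv M (A : Set H) ∧
      (∀ e ∈ E, ∀ m : M, (e • m) * m⁻¹ ∈ cv M (A : Set H)) ∧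
      ∀ g : H, g * x = x * g → ∀ e ∈ E, g * e * g⁻¹ ∈ E := by
  have hA : ∀ a ∈ A, a * x = x * a := by
    intro a ha
    have h1 : ∀ z ∈ A, z⁻¹ = z := fun z hz => inv_eq_of_mul_eq_one_right (el z hz)
    calc a * x = (a * x)⁻¹ := (h1 _ (A.mul_mem ha hx)).symm
      _ = x⁻¹ * a⁻¹ := mul_inv_rev _ _
      _ = x * a := by rw [h1 _ ha, h1 _ hx]
  have hle := le_EE sq (el x hx) hA heq
  refine ⟨TIE.EE (cv M (A : Set H)), hle, fun e he => TIE.EE_sq sq faith he, ?_, fun e he => he.2, ?_⟩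
  · refine le_antisymm (cv_anti (SetLike.coe_subset_coe.2 hle)) ?_
    intro m hm e he
    exact he.1 m hm
  · intro g hg e he
    refine TIE.smul_mem_EE (fun m => ?_) he
    rw [← heq, mem_cv_singleton, mem_cv_singleton, ← mul_smul, ← hg, mul_smul, smul_left_cancel_iff]

/-- **(I)** `x ∈ A` inverts `w` of odd order ⟹ `|M : C_M(w)| ≤ |A|²` -/
theorem inv_le [Finite M] (hex : (cv M (A : Set H)).index ≤ Nat.card A) (el : ∀ a ∈ A, a * a = 1) {x w : H}
    (hx : x ∈ A) {n : ℕ} (hw : x * w * x⁻¹ = w⁻¹) (ho : Odd n) (hn : w ^ n = 1) :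
    (cv M ({w} : Set H)).index ≤ Nat.card A ^ 2 :=
  (InvFrob.inv_index (M := M) (el x hx) hw ho hn).trans (Nat.pow_le_pow_left (index_le hex hx) 2)

/-- `InvAt x n` ⟹ `2 ^ n ≤ |A|` -/
theorem inv_card [Finite M] (sq : ∀ m : M, m * m = 1) (faith : ∀ h : H, (∀ m : M, h • m = m) → h = 1)
    (hex : (cv M (A : Set H)).index ≤ Nat.card A) (el : ∀ a ∈ A, a * a = 1) {x : H} (hx : x ∈ A) {n : ℕ}
    (h : InvAt x n) : 2 ^ n ≤ Nat.card A :=
  (InvRow.inv_big sq faith (el x hx) h).trans (index_le hex hx)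

/-- **`InvAt x n`, `|A| ≤ 2 ^ n`** : `|A| = 2 ^ n` and `EQ(x)` -/
theorem inv_eq [Finite M] (sq : ∀ m : M, m * m = 1) (faith : ∀ h : H, (∀ m : M, h • m = m) → h = 1)
    (hex : (cv M (A : Set H)).index ≤ Nat.card A) (el : ∀ a ∈ A, a * a = 1) {x : H} (hx : x ∈ A) {n : ℕ}
    (hn : Nat.card A ≤ 2 ^ n) (h : InvAt x n) :
    Nat.card A = 2 ^ n ∧ cv M ({x} : Set H) = cv M (A : Set H) := by
  have h1 := InvRow.inv_big sq faith (el x hx) h
  exact ⟨le_antisymm hn (inv_card sq faith hex el hx h), eq_of_le hex hx (hn.trans h1)⟩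

end weak

section lit

variable {H : Type u} [Group H] {M : Type v} [Group M] [MulDistribMulAction H M] {K T A : Subgroup H}

/-- `H` acts faithfully on `K`. -/
theorem conjNormal_injective [K.Normal] (hc : centralizer (K : Set H) = ⊥) :
    Function.Injective (MulAut.conjNormal : H →* MulAut K) := by
  rw [injective_iff_map_eq_one]
  intro g hg
  rw [← mem_bot, ← hc, mem_centralizer_iff]
  intro k hk
  have h1 := congrArg (fun φ : MulAut K => ((φ ⟨k, hk⟩ : K) : H)) hg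
  simp only [MulAut.conjNormal_apply, MulAut.one_apply] at h1
  exact (mul_inv_eq_iff_eq_mul.1 h1).symm

/-- `|H : K| ≤ |Out(K)|` -/
theorem asx_index_le [Finite H] (h : ASx K T A) : K.index ≤ (MulAut.conj : K →* MulAut K).range.index := by
  have hN := h.norm
  have : Finite (MulAut K) :=
    Finite.of_injective (fun φ => (φ : K → K)) DFunLike.coe_injective
  set R := (MulAut.conj : K →* MulAut K).range with hR
  have h1 : R.comap (MulAut.conjNormal : H →* MulAut K) ≤ K := by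
    intro g hg
    obtain ⟨k, hk⟩ := hg
    have h3 : (MulAut.conjNormal (k : H) : MulAut K) = MulAut.conj k := by
      ext x
      rw [MulAut.conjNormal_apply, MulAut.conj_apply]
      rfl
    have h2 := conjNormal_injective h.cen (h3.trans hk)
    rw [← h2]
    exact k.2
  calc K.index ≤ (R.comap (MulAut.conjNormal : H →* MulAut K)).index :=
        Nat.le_of_dvd (Nat.pos_of_ne_zero index_ne_zero_of_finite) (index_dvd_of_le h1)
    _ = R.relIndex (MulAut.conjNormal : H →* MulAut K).range := by rw [index_comap]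
    _ ≤ R.relIndex ⊤ := relIndex_le_of_le_right le_top (by rw [relIndex_top_right]; exact index_ne_zero_of_finite)
    _ = R.index := relIndex_top_right R

/-- **`|A| ≤ 2 ^ n`** if `RK K n` -/
theorem asx_card_le (h : ASx K T A) {n : ℕ} (hrk : RK K n) : Nat.card A ≤ 2 ^ n := by
  have hN := h.norm
  refine hrk.card_le_of_injective ((MulAut.conjNormal : H →* MulAut K).comp A.subtype)
    ((conjNormal_injective h.cen).comp A.subtype_injective) (fun x => ?_)
  rw [pow_two]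
  exact Subtype.ext (h.el x x.2)

/-- `|A| ≤ |Out(K)| |A ∩ K|` -/
theorem asx_card_inf [Finite H] (h : ASx K T A) :
    Nat.card A ≤ (MulAut.conj : K →* MulAut K).range.index * Nat.card ↥(K ⊓ A) := by
  have hN := h.norm
  have h1 : K.relIndex A * Nat.card ↥(K ⊓ A) = Nat.card A := by
    have h2 := relIndex_mul_relIndex (⊥ : Subgroup H) (K ⊓ A) A bot_le inf_le_right
    rw [relIndex_bot_left, relIndex_bot_left, inf_relIndex_right, mul_comm] at h2
    exact h2
  have h3 : K.relIndex A ≤ K.relIndex ⊤ :=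
    relIndex_le_of_le_right le_top (by rw [relIndex_top_right]; exact index_ne_zero_of_finite)
  rw [relIndex_top_right] at h3
  rw [← h1]
  exact Nat.mul_le_mul_right _ (h3.trans (asx_index_le h))

/-- **`A ∩ K ≠ 1`** if `|Out K| < |A|` -/
theorem asx_exists_mem [Finite H] (h : ASx K T A)
    (hout : (MulAut.conj : K →* MulAut K).range.index < Nat.card A) : ∃ x ∈ A, x ∈ K ∧ x ≠ 1 := by
  by_contra hc
  push Not at hc
  have h1 : K ⊓ A = ⊥ := by
    rw [eq_bot_iff]
    rintro x ⟨hx1, hx2⟩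
    exact hc x hx2 hx1
  have h2 := asx_card_inf h
  rw [h1, card_bot, mul_one] at h2
  omega

/-- `x ∈ A ∩ K`, `InvAt x n` in `K` : `2 ^ n ≤ |A|` -/
theorem inX_inv_card [Finite M] (h : InX H M K T A) {n : ℕ} {x : K} (hxA : (x : H) ∈ A) (hx : InvAt x n) :
    2 ^ n ≤ Nat.card A :=
  inv_card h.sq h.faith h.exact.le h.el hxA (hx.map K.subtype K.subtype_injective)

/-- **`x ∈ A ∩ K`, `InvAt x n` in `K`, `|A| ≤ 2 ^ n`** : `|A| = 2 ^ n` and `EQ(x)` -/
theorem inX_inv_eq [Finite M] (h : InX H M K T A) {n : ℕ} (hn : Nat.card A ≤ 2 ^ n) {x : K} (hxA : (x : H) ∈ A)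
    (hx : InvAt x n) : Nat.card A = 2 ^ n ∧ cv M ({(x : H)} : Set H) = cv M (A : Set H) :=
  inv_eq h.sq h.faith h.exact.le h.el hxA hn (hx.map K.subtype K.subtype_injective)

/-- **`EQ(x)`, `x ∈ K`** : `C_K(x)` has a normal elementary abelian subgroup `E ∋ x` which contains `A ∩ K`, and
`|A| ≤ |Out K| |E|`. -/
theorem inX_exists_sub [Finite H] (h : InX H M K T A) {x : K} (hxA : (x : H) ∈ A)
    (heq : cv M ({(x : H)} : Set H) = cv M (A : Set H)) :
    ∃ E : Subgroup K, x ∈ E ∧ A.subgroupOf K ≤ E ∧ (∀ e ∈ E, e * e = 1) ∧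
      (∀ g : K, g * x = x * g → ∀ e ∈ E, g * e * g⁻¹ ∈ E) ∧
      Nat.card A ≤ (MulAut.conj : K →* MulAut K).range.index * Nat.card E := by
  obtain ⟨E, h1, h2, -, -, h3⟩ := exists_normal h.sq h.faith h.el hxA heq
  have h4 : A.subgroupOf K ≤ E.subgroupOf K := fun y hy => h1 hy
  refine ⟨E.subgroupOf K, h1 hxA, h4, fun e he => Subtype.ext (h2 e he), fun g hg e he => ?_, ?_⟩
  · exact h3 g (congrArg Subtype.val hg) e he
  · refine (asx_card_inf h.asx).trans (Nat.mul_le_mul_left _ ?_)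
    have h5 : Nat.card ↥(K ⊓ A) = Nat.card (A.subgroupOf K) := by
      have h6 : (A.subgroupOf K).map K.subtype = K ⊓ A := by
        rw [subgroupOf_map_subtype, inf_comm]
      rw [← h6]
      exact (Nat.card_congr ((A.subgroupOf K).equivMapOfInjective K.subtype K.subtype_injective).toEquiv).symm
    rw [h5]
    exact card_le_of_le h4

/-- **The row** : `RK S n`, `|Out S| < 4`, for all involutions `x` : `InvAt x n` and `|Out S| |E| < 2 ^ n` for all elementary
abelian `E ∋ x` which are normal in `C_S(x)`. -/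
theorem dead {𝒮 : ∀ (S : Type u) [Group S], Prop} (h𝒮 : ∀ (S : Type u) [Group S] [Finite S], 𝒮 S → ∃ n, RK S n ∧
    (MulAut.conj : S →* MulAut S).range.index < 4 ∧ ∀ x : S, x * x = 1 → x ≠ 1 → InvAt x n ∧
      ∀ E : Subgroup S, x ∈ E → (∀ e ∈ E, e * e = 1) → (∀ g : S, g * x = x * g → ∀ e ∈ E, g * e * g⁻¹ ∈ E) →
        (MulAut.conj : S →* MulAut S).range.index * Nat.card E < 2 ^ n) : DeadX.{u, v} 𝒮 := by
  intro H _ _ M _ _ _ K T A h hS
  obtain ⟨n, hrk, hout, hinv⟩ := h𝒮 _ hS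
  obtain ⟨x, hxA, hxK, hx1⟩ := asx_exists_mem h.asx (hout.trans_le h.four)
  obtain ⟨h1, h2⟩ := hinv ⟨x, hxK⟩ (Subtype.ext (h.el x hxA)) fun h3 => hx1 (congrArg Subtype.val h3)
  obtain ⟨h3, h4⟩ := inX_inv_eq h (asx_card_le h.asx hrk) (x := ⟨x, hxK⟩) hxA h1
  obtain ⟨E, h5, -, h6, h7, h8⟩ := inX_exists_sub h (x := ⟨x, hxK⟩) hxA h4
  have h9 := h2 E h5 h6 h7
  omega

/-- The row if `RK S n` and `InvAt x (n + 1)` for all involutions. -/
theorem dead_strong {𝒮 : ∀ (S : Type u) [Group S], Prop} (h𝒮 : ∀ (S : Type u) [Group S] [Finite S], 𝒮 S → ∃ n,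
    RK S n ∧ (MulAut.conj : S →* MulAut S).range.index < 4 ∧ ∀ x : S, x * x = 1 → x ≠ 1 → InvAt x (n + 1)) :
    DeadX.{u, v} 𝒮 := by
  intro H _ _ M _ _ _ K T A h hS
  obtain ⟨n, hrk, hout, hinv⟩ := h𝒮 _ hS
  obtain ⟨x, hxA, hxK, hx1⟩ := asx_exists_mem h.asx (hout.trans_le h.four)
  have h1 := hinv ⟨x, hxK⟩ (Subtype.ext (h.el x hxA)) fun h3 => hx1 (congrArg Subtype.val h3)
  have h2 := inX_inv_card h (x := ⟨x, hxK⟩) hxA h1
  have h3 := asx_card_le h.asx hrk
  have h4 : 2 ^ n < 2 ^ (n + 1) := Nat.pow_lt_pow_right (by norm_num) (Nat.lt_succ_self n)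
  omega

end lit

end Cfsg.Agent.Omega.ML.Ex.Inv
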