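import Cfsg.Agent.Omega.ML.Ex.Even
import Cfsg.Agent.Omega.ML.Ex.Inv
import Cfsg.Agent.Omega.ML.UFour.Perm
import Cfsg.Agent.Omega.ML.UFour.Out
import Cfsg.Agent.Omega.ML.PsuLB
import Cfsg.Agent.Omega.KFacts

/-!
# The exact K-list: the row `U₄(3)` (helper842; recipe of helper844)

* `two_pow_le` : `PSU₄(3)` simple, acting faithfully on the 2-group `V`: `|V| ≥ 2^18` (Heisenberg group `3^(1+4)`);
* `deadX` : `DeadX @IsUFourThree` (without the field `atom` if `|A| ≥ 8`).
-/

set_option autoImplicit false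

namespace Cfsg.Agent.Omega.ML.Ex.RowUFourX

open Subgroup Cfsg Cfsg.Agent.Omega.KFacts Cfsg.Agent.Omega.ML.Gen3 Cfsg.Agent.Omega.ML.UFour
open Cfsg.Agent.ClassTwoFusion.Quad Cfsg.Agent.Omega.TwoF
open Cfsg.Agent.Omega.TwoF.LBPsu Cfsg.Agent.Omega.TwoF.RowPsu
open Cfsg.Agent.ClassicalGeometry.UnitAutBasic (pr)

universe u v

/-- `|V| ≥ 2^18`. -/
theorem two_pow_le {F : Type*} [Field F] [Fintype F] (hF : Fintype.card F = 9) {V : Type*} [CommGroup V] [Finite V]
    (h2 : IsPGroup 2 V) (φ : PSU 4 F 3 →* MulAut V) (hφ : Function.Injective φ) : 2 ^ 18 ≤ Nat.card V := by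
  have hF' : Fintype.card F = 3 ^ 2 := by rw [hF]; norm_num
  have h20 : (2 : F) ≠ 0 := Out.two_ne hF
  have hch : CharP F 3 := by
    obtain ⟨p, hp⟩ := CharP.exists F
    obtain ⟨k, hpp, hk⟩ := FiniteField.card F p
    have h3 : p ∣ 3 ^ 2 := by rw [← hF', hk]; exact dvd_pow_self p k.pos.ne'
    have h4 := (Nat.prime_dvd_prime_iff_eq hpp Nat.prime_three).1 (hpp.dvd_of_dvd_pow h3)
    subst h4
    exact hp
  obtain ⟨α, hα⟩ := exists_alpha hF'
  obtain ⟨τ, hτ0, hτ⟩ := exists_tau hF'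
  have H := frame hF' hα (fun i : Fin 2 => i) Function.injective_id
  have h := Cfsg.Agent.Omega.TwoF.SignLift.heis_map (pr 4 F 3) (heis hF' h20 H Nat.prime_three hτ (two_tau hF' hτ))
  have hz : φ (pr 4 F 3 (Z hF' H (two_tau hF' hτ))) ≠ 1 := by
    intro h1
    exact Z_ne hF' (by norm_num) (by norm_num) H _ (mul_ne_zero h20 hτ0) (uu_ne α) (hφ (h1.trans (map_one φ).symm))
  have h5 := h.two_pow_le_mulAut φ h2 (by norm_num) hz
  have h6 : orderOf (2 : ZMod 3) = 2 := by
    have : Fact (Nat.Prime 2) := ⟨Nat.prime_two⟩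
    exact orderOf_eq_prime (by decide) (by decide)
  rw [h6] at h5
  exact h5

theorem lb {H : Type u} [Group H] [Finite H] {M : Type v} [Group M] [Finite M] [MulDistribMulAction H M]
    {K T A : Subgroup H} (h : InX H M K T A) {F : Type*} [Field F] [Fintype F] (hF : Fintype.card F = 9)
    (e : K ≃* PSU 4 F 3) : 2 ^ 18 ≤ Nat.card M := by
  let _ : CommGroup M := { ‹Group M› with mul_comm := h.comm }
  refine two_pow_le hF h.M_two
    (((MulDistribMulAction.toMulAut H M).comp K.subtype).comp e.symm.toMonoidHom) ?_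
  intro a b hab
  apply e.symm.injective
  have h1 : ((MulDistribMulAction.toMulAut H M) (e.symm a)) = ((MulDistribMulAction.toMulAut H M) (e.symm b)) := hab
  have h2 : ((e.symm a : K) : H)⁻¹ * (e.symm b : K) = 1 := by
    refine h.faith _ fun m => ?_
    rw [mul_smul]
    have h3 : ((e.symm a : K) : H) • m = ((e.symm b : K) : H) • m := DFunLike.congr_fun h1 m
    rw [← h3, inv_smul_smul]
  exact Subtype.ext (inv_mul_eq_one.1 h2)

/-- `A ∩ K ≠ 1` if `|B : B ∩ Inn K| ≤ 2^c` for elementary abelian `B ≤ Aut K` and `|A| > 2^c`. -/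
theorem exists_mem_of_outLe {X : Type u} [Group X] {K T A : Subgroup X} (h : ASx K T A) {c : ℕ} (ho : OutLe K c)
    (hA : 2 ^ c < Nat.card A) : ∃ x ∈ A, x ∈ K ∧ x ≠ 1 := by
  by_contra hc
  push Not at hc
  have hN := h.norm
  set f : X →* MulAut K := MulAut.conjNormal with hf
  have hinj : Function.Injective f := Inv.conjNormal_injective h.cen
  have h1 := ho (A.map f) (by
    rintro _ ⟨a, ha, rfl⟩
    rw [← map_pow, pow_two, h.el a ha, map_one])
  have h2 : (A.map f ⊓ (MulAut.conj : K →* MulAut K).range) = ⊥ := by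
    rw [eq_bot_iff]
    rintro _ ⟨⟨a, ha, rfl⟩, ⟨k, hk⟩⟩
    have h3 : (f (k : X) : MulAut K) = MulAut.conj k := by
      ext x
      rw [hf, MulAut.conjNormal_apply, MulAut.conj_apply]
      rfl
    have h4 := hinj (h3.trans hk)
    have h5 : a ∈ K := by rw [← h4]; exact k.2
    rw [hc a ha h5, map_one]
    exact one_mem _
  rw [h2, card_bot, mul_one, ← Nat.card_congr (A.equivMapOfInjective f hinj).toEquiv] at h1
  omega

/-- **The row `U₄(3)`.** -/
theorem deadX : DeadX.{u, v} @IsUFourThree := by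
  rintro H _ _ M _ _ _ K T A h ⟨F, _, _, hF, ⟨e⟩⟩
  have h18 := lb h hF e
  obtain ⟨ε⟩ := Perm.psu_iso hF
  have hg : GenBy K 3 := GenBy.equiv (e.trans ε) Perm.genBy
  have hrk : RK K 5 := (Out.rk hF).equiv e
  have hout : OutLe K 2 := OutLe.equiv e (Out.outLe hF)
  by_cases hA : Nat.card A = 4
  · have h1 := h.card_le_of_four hA hg
    have h2 := h18.trans h1
    norm_num at h2
  · -- `|A| ≥ 8` : an involution in `A ∩ K`
    have h8 : 8 ≤ Nat.card A := by
      have hp : Fact (Nat.Prime 2) := ⟨Nat.prime_two⟩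
      obtain ⟨n, hn⟩ := IsPGroup.iff_card.1 h.A_two
      have h4 := h.four
      rw [hn] at hA h4 ⊢
      have h3 : 3 ≤ n := by
        by_contra h3
        have : n = 0 ∨ n = 1 ∨ n = 2 := by omega
        rcases this with rfl | rfl | rfl
        · norm_num at h4
        · norm_num at h4
        · exact hA (by norm_num)
      calc 8 = 2 ^ 3 := by norm_num
        _ ≤ 2 ^ n := Nat.pow_le_pow_right (by norm_num) h3
    obtain ⟨x, hxA, hxK, hx1⟩ := exists_mem_of_outLe h.asx hout (by omega)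
    have h1 := (Gen.card_le_genBy h hg hxA hxK hx1).2
    have h2 := Inv.asx_card_le h.asx hrk
    have h3 := h18.trans (h1.trans (Nat.pow_le_pow_left h2 3))
    norm_num at h3

end Cfsg.Agent.Omega.ML.Ex.RowUFourX
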