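import Cfsg.Agent.Omega.ML.Ex.Known
import Cfsg.Agent.Omega.ML.Ex.InA
import Cfsg.Agent.Omega.ML.Ex.RowL33X
import Cfsg.Agent.Omega.ML.Ex.RowUFourX
import Cfsg.Agent.Omega.ML.Ex.RowPspFour
import Cfsg.Agent.Omega.ML.Ex.RowPspSixX
import Cfsg.Agent.Omega.ML.Ex.RowPspEight
import Cfsg.Agent.Omega.ML.Ex.RowGTwoX
import Cfsg.Agent.Omega.ML.Ex.RowReeX
import Cfsg.Agent.Omega.ML.ExLow.XPsl
import Cfsg.Agent.Omega.ML.ExLow.XPsu
import Cfsg.Agent.Omega.ML.ExLow.XPsp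
import Cfsg.Agent.Omega.ML.ExLow.XOm
import Cfsg.Agent.Omega.ML.ExLow.XExc
import Cfsg.Agent.Omega.ML.ExLow.Dead
import Cfsg.Agent.Omega.ML.RowPspFin
import Cfsg.Agent.S0254

/-!
# The K-list for EXACT subgroups (EXL): Lie type in odd characteristic, assembly (helper393)

* `IsLTwo` : `PSL₂(q)`, `q > 3` odd, `q ≠ 9`;
* **`cases`** : a group of Lie type in odd characteristic which is not of Lie type in characteristic 2, not `U₃(3)` and
  not `A₆` is `IsLTwo`, `L₃(3)`, `U₄(3)`, `PSp₄(q)`, `PSp₆(3)`, `PSp₈(3)`, `G₂(3)`, a Ree group, or `NX`;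
* **`odd_of`**, `oddX_of` : the field `odd` from the row `IsLTwo` (over `Row` resp. `DeadX`).
-/

set_option autoImplicit false

namespace Cfsg.Agent.Omega.ML.Ex.OddLieX

open Subgroup Cfsg Cfsg.Agent.Omega.KFacts Cfsg.Agent.Omega.ML.Rows Cfsg.Agent.Omega.ML.Known
  Cfsg.Agent.Omega.ML.ExLow Cfsg.Agent.Omega.ML.ExLow.NumX

universe u v

/-- `PSL₂(q)`, `q > 3` odd, `q ≠ 9` -/
def IsLTwo (S : Type u) [Group S] : Prop :=
  ∃ (F : Type) (_ : Field F) (_ : Fintype F), Odd (Fintype.card F) ∧ 3 < Fintype.card F ∧ Fintype.card F ≠ 9 ∧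
    Nonempty (S ≃* Matrix.ProjectiveSpecialLinearGroup (Fin 2) F)

/-- the groups which are not numerical (with `PSL₂(q)`) -/
def Small (S : Type u) [Group S] : Prop :=
  RowL33.IsL33 S ∨ IsUFourThree S ∨ RowPspFour.Cls S ∨ RowPspSix.IsPspSix S ∨ RowPspEight.Cls S ∨
    RowGTwoThree.IsGTwoThree S ∨ Lie.IsoRee S

/-- **The list.** -/
theorem cases {S : Type u} [Group S] (h : OddLie S) (h2 : ¬ IsLieTypeChar 2 S) (h33 : ¬ IsUThreeThree S)
    (h6 : ¬ Nonempty (S ≃* alternatingGroup (Fin 6))) : IsLTwo S ∨ Small S ∨ NX.{u, v} S := by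
  obtain ⟨p, hp, hp2, h⟩ := h
  rcases h with h | h | h | h | h | h | h | h | h | h | h
  · rcases XPsl.psl.{u, v} ⟨p, hp, hp2, h⟩ with h | h | h
    · left
      obtain ⟨F, i, j, h3, h4, ⟨e⟩⟩ := h
      refine ⟨F, i, j, h3, h4, fun h9 => h6 ?_, ⟨e⟩⟩
      obtain ⟨f⟩ := S0254.result h9
      exact ⟨e.trans f⟩
    · exact Or.inr (Or.inl (Or.inl h))
    · exact Or.inr (Or.inr h)
  · rcases XPsp.psp.{u, v} ⟨p, hp, hp2, h⟩ with ⟨F, i, j, h3, ⟨e⟩⟩ | h | h | h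
    · by_cases h4 : 3 < Fintype.card F
      · exact Or.inr (Or.inl (Or.inr (Or.inr (Or.inl ⟨F, i, j, h3, h4, ⟨e⟩⟩))))
      · exfalso
        have h5 : 1 < Fintype.card F := Fintype.one_lt_card
        obtain ⟨k, hk⟩ := h3
        exact h2 (RowPsp.lie_of_three (by omega) e)
    · exact Or.inr (Or.inl (Or.inr (Or.inr (Or.inr (Or.inl h)))))
    · exact Or.inr (Or.inl (Or.inr (Or.inr (Or.inr (Or.inr (Or.inl h))))))
    · exact Or.inr (Or.inr h)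
  · by_cases h43 : IsUFourThree S
    · exact Or.inr (Or.inl (Or.inr (Or.inl h43)))
    · refine Or.inr (Or.inr (XPsu.psu _ ⟨p, hp, hp2, h⟩ ?_ h43))
      rintro ⟨F, iF, jF, hF, ⟨e⟩⟩
      exact h33 ⟨F, iF, jF, by rw [hF]; norm_num, ⟨e⟩⟩
  · exact Or.inr (Or.inr (XOm.omOdd _ ⟨p, hp, hp2, h⟩))
  · exact Or.inr (Or.inr (XOm.omPlus _ ⟨p, hp, hp2, h⟩))
  · exact Or.inr (Or.inr (XOm.omMinus _ ⟨p, hp, hp2, h⟩))
  · rcases XExc.exceptional.{u, v} ⟨p, hp, hp2, h⟩ with h | h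
    · exact Or.inr (Or.inl (Or.inr (Or.inr (Or.inr (Or.inr (Or.inr (Or.inl h)))))))
    · exact Or.inr (Or.inr h)
  · exact Or.inr (Or.inr (XExc.twisted ⟨p, hp, hp2, h⟩))
  · exact absurd h.1 hp2
  · exact absurd h.1 hp2
  · exact Or.inr (Or.inl (Or.inr (Or.inr (Or.inr (Or.inr (Or.inr (Or.inr h.2)))))))

/-- the rows which are not numerical, without `PSL₂(q)` -/
theorem small : DeadX.{u, v} @Small.{u} :=
  RowL33X.deadEx.or <| RowUFourX.deadX.or <| RowPspFour.deadX.or <| RowPspSixX.dead.or <| RowPspEight.deadX.or <|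
    RowGTwoX.deadX.or RowReeX.dead

/-- **The groups of Lie type in odd characteristic** over `InX`, from the row `PSL₂(q)`. -/
theorem oddX_of (hl : DeadX.{u, v} @IsLTwo.{u}) :
    DeadX.{u, v} fun S _ => OddLie S ∧ ¬ IsLieTypeChar 2 S ∧ ¬ IsUThreeThree S ∧
      ¬ Nonempty (S ≃* alternatingGroup (Fin 6)) :=
  (hl.or (small.or ExLow.Dead.deadX)).mono fun _ _ h => cases h.1 h.2.1 h.2.2.1 h.2.2.2

/-- **The groups of Lie type in odd characteristic** over `Row`, from the row `PSL₂(q)`. -/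
theorem odd_of (hl : Row.{u, v} @IsLTwo.{u}) :
    Row.{u, v} fun S _ => OddLie S ∧ ¬ IsLieTypeChar 2 S ∧ ¬ IsUThreeThree S ∧
      ¬ Nonempty (S ≃* alternatingGroup (Fin 6)) :=
  (hl.or (small.row.or ExLow.Dead.deadX.row)).mono fun _ _ h => cases h.1 h.2.1 h.2.2.1 h.2.2.2

end Cfsg.Agent.Omega.ML.Ex.OddLieX
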