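import Cfsg.Agent.Omega.ML.Ex.Def
import Cfsg.Agent.Omega.ML.MinIrr

/-!
# The K-list for EXACT ATOMS (EXL): the module `N` (helper995)

THEOREM RED gives an exact ATOM `A` on a module `N` which is not necessarily irreducible: every proper
`H`-submodule of `N` is centralised by `K`, `N` is generated by the orbit of a `T`-fixed vector, and `A` is exact and
sub-exact, but not necessarily an atom, on the irreducible quotient `N / C_N(K)`.

* `InN H N K T A` : this situation;  `DeadN 𝒮` : the row;
* **`InN.inX`** : `InX H (N / C_N(K)) K T A`;  **`DeadX.deadN`** : `DeadX 𝒮 → DeadN 𝒮`;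
* `InN.hyp`, `InN.cv_four`, `InN.index_four`, `InN.four_le_index` : for the atom `A` on `N`;
* `InN.of_inX` : an atom on an irreducible module.
-/

set_option autoImplicit false

namespace Cfsg.Agent.Omega.ML.Ex

open Subgroup Cfsg Cfsg.Agent.ZN Cfsg.Agent.Omega.NOThree.NoOver Cfsg.Agent.Omega.ML.CD
open Cfsg.Agent.ClassTwoFusion.Quad Cfsg.Agent.Omega.ML.MinFrame
open Cfsg.Agent.MinSimple.VModule (o2_isPGroup o2_le le_o2 le_normalizer_o2)

universe u v w

/-- The situation of (EXL) with an atom. -/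
structure InN (H : Type u) [Group H] (N : Type v) [Group N] [MulDistribMulAction H N] (K T A : Subgroup H) :
    Prop where
  sq : ∀ m : N, m * m = 1
  faith : ∀ h : H, (∀ m : N, h • m = m) → h = 1
  /-- every proper submodule is centralised by `K` -/
  irrK : ∀ W : Subgroup N, (∀ h : H, ∀ w ∈ W, h • w ∈ W) → W = ⊤ ∨ ∀ k ∈ K, ∀ w ∈ W, k • w = w
  /-- `N = ⟨z^H⟩`, `z` fixed by `T` -/
  point : ∃ z : N, (∀ t ∈ T, t • z = z) ∧ orb (⊤ : Subgroup H) z = ⊤
  norm : K.Normal
  simple : IsSimpleGroup K
  cen : centralizer (K : Set H) = ⊥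
  gen : K ⊔ T = ⊤
  two : IsPGroup 2 T
  syl : ¬ 2 ∣ T.index
  AT : A ≤ T
  el : ∀ a ∈ A, a * a = 1
  four : 4 ≤ Nat.card A
  exact : (cv N (A : Set H)).index = Nat.card A
  atom : ∀ C : Subgroup H, C ≤ A → C ≠ ⊥ → C ≠ A → Nat.card C < (cv N (C : Set H)).index
  /-- sub-exactness on `N / C_N(K)`: `|D| ≤ |N : V|` if `[V,D] ≤ C_N(K)` -/
  subK : ∀ D : Subgroup H, D ≤ A → ∀ V : Subgroup N,
    (∀ v ∈ V, ∀ d ∈ D, ∀ k ∈ K, k • (d • v * v) = d • v * v) → Nat.card D ≤ V.index
  low : ∀ R : Subgroup H, T ≤ R → R ≠ ⊤ → A ≤ o2 R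
  nmax : ¬ ∃ L : Subgroup H, L ≠ ⊤ ∧ ∀ R : Subgroup H, T ≤ R → R ≠ ⊤ → R ≤ L

/-- The row of the class `𝒮` of simple groups. -/
def DeadN (𝒮 : ∀ (S : Type u) [Group S], Prop) : Prop :=
  ∀ (H : Type u) [Group H] [Finite H] (N : Type v) [Group N] [Finite N] [MulDistribMulAction H N]
    (K T A : Subgroup H), InN H N K T A → 𝒮 K → False

section comm

variable {M : Type v} [Group M]

theorem comm_of_sq' (sq : ∀ m : M, m * m = 1) (x y : M) : x * y = y * x := by
  have h1 : ∀ z : M, z⁻¹ = z := fun z => inv_eq_of_mul_eq_one_right (sq z)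
  calc x * y = (x * y)⁻¹ := (h1 _).symm
    _ = y⁻¹ * x⁻¹ := mul_inv_rev _ _
    _ = y * x := by rw [h1, h1]

end comm

variable {H : Type u} [Group H] {N : Type v} [Group N] [MulDistribMulAction H N] {K T A : Subgroup H}

namespace InN

/-- The group-theoretic part. -/
theorem asx (h : InN H N K T A) : ASx K T A where
  norm := h.norm
  simple := h.simple
  cen := h.cen
  gen := h.gen
  two := h.two
  syl := h.syl
  AT := h.AT
  el := h.el
  low := h.low
  nmax := h.nmax

theorem comm (h : InN H N K T A) (x y : N) : x * y = y * x := comm_of_sq' h.sq x y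

theorem A_ne_bot (h : InN H N K T A) : A ≠ ⊥ := by
  intro h1
  have h2 := h.four
  rw [h1, card_bot] at h2
  omega

theorem A_two (h : InN H N K T A) : IsPGroup 2 A := h.two.to_le h.AT

theorem A_comm (h : InN H N K T A) : ∀ a ∈ A, ∀ b ∈ A, a * b = b * a := by
  intro a ha b hb
  have h1 : ∀ z ∈ A, z⁻¹ = z := fun z hz => inv_eq_of_mul_eq_one_right (h.el z hz)
  calc a * b = (a * b)⁻¹ := (h1 _ (A.mul_mem ha hb)).symm
    _ = b⁻¹ * a⁻¹ := mul_inv_rev _ _
    _ = b * a := by rw [h1 _ ha, h1 _ hb]

theorem M_two (h : InN H N K T A) [Finite N] : IsPGroup 2 N := by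
  intro m
  exact ⟨1, by rw [pow_one, pow_two, h.sq]⟩

theorem ne_top (h : InN H N K T A) : T ≠ ⊤ := h.asx.ne_top

/-- `K` is perfect -/
theorem hom_eq_one (h : InN H N K T A) {P : Type w} [CommGroup P] (f : K →* P)
    (k : K) : f k = 1 := by
  have hs := h.simple
  rcases (MonoidHom.normal_ker f).eq_bot_or_eq_top with h1 | h1
  · -- `K` would be elementary abelian, so normal of exponent 2; then `K ≤ C_H(K)`
    have h2 : ∀ x y : K, x * y = y * x := fun x y =>
      (MonoidHom.ker_eq_bot_iff f).1 h1 (by rw [map_mul, map_mul, mul_comm])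
    have h3 : K ≤ centralizer (K : Set H) := by
      intro x hx
      rw [mem_centralizer_iff]
      exact fun y hy => congrArg Subtype.val (h2 ⟨y, hy⟩ ⟨x, hx⟩)
    rw [h.cen, le_bot_iff] at h3
    obtain ⟨x, hx⟩ := exists_ne (1 : K)
    exact absurd (Subtype.ext (mem_bot.1 (h3 ▸ x.2))) hx
  · have h2 : k ∈ f.ker := h1 ▸ mem_top k
    exact h2

/-- sub-exactness on `N` -/
theorem le_index (h : InN H N K T A) {C : Subgroup H} (hC : C ≤ A) :
    Nat.card C ≤ (cv N (C : Set H)).index := by
  refine h.subK C hC _ fun v hv d hd k _ => ?_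
  rw [hv d hd, h.sq, smul_one]

/-- `|M : C_M(C)| ≤ |A|` for `C ≤ A` -/
theorem index_le (h : InN H N K T A) [Finite N] {C : Set H} (hC : C ⊆ A) : (cv N C).index ≤ Nat.card A := by
  rw [← h.exact]
  have h1 : cv N (A : Set H) ≤ cv N C := cv_anti hC
  exact Nat.le_of_dvd (Nat.pos_of_ne_zero index_ne_zero_of_finite) (index_dvd_of_le h1)

theorem index_le_four (h : InN H N K T A) [Finite N] (h4 : Nat.card A = 4) {a : H} (ha : a ∈ A) :
    (cv N ({a} : Set H)).index ≤ 4 := by
  rw [← h4]
  exact h.index_le (Set.singleton_subset_iff.2 ha)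

/-- **Hyperplanes**: `C_M(D) = C_M(A)` if `|A| ≤ 2 |D|`, `D ≠ 1`. -/
theorem hyp (h : InN H N K T A) [Finite H] [Finite N] {D : Subgroup H} (hD : D ≤ A) (h1 : D ≠ ⊥)
    (h2 : Nat.card A ≤ 2 * Nat.card D) : cv N (D : Set H) = cv N (A : Set H) := by
  by_cases hDA : D = A
  · rw [hDA]
  have hle : cv N (A : Set H) ≤ cv N (D : Set H) := cv_anti (SetLike.coe_subset_coe.2 hD)
  refine le_antisymm ?_ hle
  rw [← relIndex_eq_one]
  have h3 := h.atom D hD h1 hDA
  have h4 : (cv N (A : Set H)).relIndex (cv N (D : Set H)) * (cv N (D : Set H)).index =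
      (cv N (A : Set H)).index := relIndex_mul_index hle
  rw [h.exact] at h4
  have h5 : (cv N (A : Set H)).relIndex (cv N (D : Set H)) ≠ 0 := relIndex_ne _ _
  by_contra h6
  have h7 : 2 ≤ (cv N (A : Set H)).relIndex (cv N (D : Set H)) := by omega
  have h8 : 2 * (cv N (D : Set H)).index ≤ Nat.card A := by
    rw [← h4]
    exact Nat.mul_le_mul_right _ h7
  omega

theorem cv_zpowers (a : H) : cv N ((zpowers a : Subgroup H) : Set H) = cv N ({a} : Set H) := by
  refine le_antisymm (cv_anti (by simp)) ?_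
  intro v hv x hx
  have h6 : zpowers a ≤ MulAction.stabilizer H v := by
    rw [zpowers_le]
    exact MulAction.mem_stabilizer_iff.2 (hv a rfl)
  exact MulAction.mem_stabilizer_iff.1 (h6 hx)

/-- **`|A| = 4`**: `C_M(a) = C_M(A)` for all `a ∈ A#`. -/
theorem cv_four (h : InN H N K T A) [Finite H] [Finite N] (h4 : Nat.card A = 4) {a : H} (ha : a ∈ A) (ha1 : a ≠ 1) :
    cv N ({a} : Set H) = cv N (A : Set H) := by
  have h1 : zpowers a ≤ A := by rwa [zpowers_le]
  have h2 : zpowers a ≠ ⊥ := by rwa [Ne, zpowers_eq_bot]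
  have h3 : Nat.card (zpowers a) = 2 := by
    rw [Nat.card_zpowers]
    exact orderOf_eq_prime (by rw [pow_two, h.el a ha]) ha1
  rw [← cv_zpowers, h.hyp h1 h2 (by rw [h3, h4])]

/-- **`|A| = 4`**: `|M : C_M(a)| = 4` for all `a ∈ A#`. -/
theorem index_four (h : InN H N K T A) [Finite H] [Finite N] (h4 : Nat.card A = 4) {a : H} (ha : a ∈ A)
    (ha1 : a ≠ 1) : (cv N ({a} : Set H)).index = 4 := by
  rw [h.cv_four h4 ha ha1, h.exact, h4]

/-- No transvections in `A`: `|M : C_M(a)| ≥ 4` for `a ∈ A#`. -/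
theorem four_le_index (h : InN H N K T A) [Finite H] [Finite N] {a : H} (ha : a ∈ A) (ha1 : a ≠ 1) :
    4 ≤ (cv N ({a} : Set H)).index := by
  have h1 : zpowers a ≤ A := by rwa [zpowers_le]
  have h2 : zpowers a ≠ ⊥ := by rwa [Ne, zpowers_eq_bot]
  have h3 : Nat.card (zpowers a) = 2 := by
    rw [Nat.card_zpowers]
    exact orderOf_eq_prime (by rw [pow_two, h.el a ha]) ha1
  have hne : zpowers a ≠ A := by
    intro h5
    have := h.four
    rw [← h5, h3] at this
    omega
  have h5 := h.atom _ h1 h2 hne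
  rw [h3, cv_zpowers] at h5
  obtain ⟨n, hn⟩ := (IsPGroup.iff_card.1 h.M_two)
  have h7 : (cv N ({a} : Set H)).index ∣ 2 ^ n := by
    rw [← hn]
    exact index_dvd_card _
  obtain ⟨k, -, hk⟩ := (Nat.dvd_prime_pow Nat.prime_two).1 h7
  rw [hk] at h5 ⊢
  match k, h5 with
  | 0, h5 => simp at h5
  | 1, h5 => simp at h5
  | k + 2, _ => rw [pow_add]; have := Nat.one_le_two_pow (n := k); omega

/-! ### The irreducible quotient -/

variable (N K) in
/-- `C_N(K)` -/
abbrev ck : Subgroup N := cv N (K : Set H)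

theorem ck_normal (h : InN H N K T A) : (ck N K).Normal :=
  ⟨fun x hx g => by rw [h.comm g x, mul_inv_cancel_right]; exact hx⟩

theorem smul_mem_ck (h : InN H N K T A) (g : H) (m : N) (hm : m ∈ ck N K) : g • m ∈ ck N K := by
  intro k hk
  have h1 : g⁻¹ * k * g ∈ K := by
    have := h.norm.conj_mem k hk g⁻¹
    rwa [inv_inv] at this
  have h2 := hm _ h1
  rw [mul_smul, mul_smul, inv_smul_eq_iff] at h2
  exact h2

/-- `K` does not centralise `N` -/
theorem ck_ne_top (h : InN H N K T A) : ck N K ≠ ⊤ := by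
  intro h1
  have hs := h.simple
  obtain ⟨x, hx⟩ := exists_ne (1 : K)
  apply hx
  refine Subtype.ext (h.faith x fun m => ?_)
  have h2 : m ∈ ck N K := h1 ▸ mem_top m
  exact h2 x x.2

/-- a vector fixed by `K` modulo `C_N(K)` is fixed by `K` -/
theorem mem_ck_of (h : InN H N K T A) {m : N} (hm : ∀ k ∈ K, k • m * m ∈ ck N K) : m ∈ ck N K := by
  let _ : CommGroup N := { (inferInstance : Group N) with mul_comm := h.comm }
  let f : K →* N :=
    { toFun := fun k => (k : H) • m * m
      map_one' := by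
        change (1 : H) • m * m = 1
        rw [one_smul, h.sq]
      map_mul' := fun k l => by
        change ((k : H) * (l : H)) • m * m = ((k : H) • m * m) * ((l : H) • m * m)
        have h1 : (k : H) • ((l : H) • m * m) = (l : H) • m * m := hm l l.2 k k.2
        rw [smul_mul'] at h1
        rw [mul_smul]
        have h2 : (k : H) • (l : H) • m = ((l : H) • m * m) * ((k : H) • m) := by
          rw [← h1, mul_assoc, h.sq, mul_one]
        rw [h2, mul_assoc, h.comm] }
  intro k hk
  have h1 := h.hom_eq_one f ⟨k, hk⟩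
  have h2 : k • m * m = 1 := h1
  have h3 := congrArg (· * m) h2
  simpa [mul_assoc, h.sq] using h3

/-- `H` is faithful on `N / C_N(K)` -/
theorem faith_quot (h : InN H N K T A) {g : H} (hg : ∀ m : N, g • m * m ∈ ck N K) : g = 1 := by
  have hs := h.simple
  let F : Subgroup H :=
    { carrier := {x | ∀ m : N, x • m * m ∈ ck N K}
      one_mem' := fun m => by
        rw [one_smul, h.sq]
        exact one_mem _
      mul_mem' := fun {x y} hx hy m => by
        have e : (x * y) • m * m = (x • y • m * (y • m)) * (y • m * m) := by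
          rw [mul_smul, mul_assoc, ← mul_assoc (y • m) (y • m), h.sq, one_mul]
        rw [e]
        exact mul_mem (hx _) (hy m)
      inv_mem' := fun {x} hx m => by
        have h1 := hx (x⁻¹ • m)
        rw [smul_inv_smul, h.comm] at h1
        exact h1 }
  have hF : ∀ {x : H}, x ∈ F ↔ ∀ m : N, x • m * m ∈ ck N K := Iff.rfl
  have hFn : F.Normal := ⟨fun x hx y m => by
    have h1 := h.smul_mem_ck y _ (hx (y⁻¹ • m))
    rw [smul_mul', smul_inv_smul, ← mul_smul, ← mul_smul] at h1
    exact h1⟩
  have hFK : F ⊓ K = ⊥ := by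
    have h1 : (F.subgroupOf K).Normal := hFn.subgroupOf K
    rcases h1.eq_bot_or_eq_top with h2 | h2
    · rw [subgroupOf_eq_bot, disjoint_iff] at h2
      exact h2
    · exfalso
      rw [subgroupOf_eq_top] at h2
      exact h.ck_ne_top (eq_top_iff.2 fun m _ => h.mem_ck_of fun k hk => h2 hk m)
  have hFc : F ≤ centralizer (K : Set H) := by
    intro x hx
    rw [mem_centralizer_iff]
    intro k hk
    have h1 : x * k * x⁻¹ * k⁻¹ ∈ F ⊓ K := by
      refine ⟨?_, K.mul_mem (h.norm.conj_mem k hk x) (K.inv_mem hk)⟩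
      have h2 := F.mul_mem hx (hFn.conj_mem _ (F.inv_mem hx) k)
      have e : x * (k * x⁻¹ * k⁻¹) = x * k * x⁻¹ * k⁻¹ := by group
      rwa [e] at h2
    rw [hFK, mem_bot, mul_inv_eq_one, mul_inv_eq_iff_eq_mul] at h1
    exact h1.symm
  have h1 : g ∈ centralizer (K : Set H) := hFc (hF.2 hg)
  rw [h.cen] at h1
  exact mem_bot.1 h1

/-- **The irreducible quotient `N / C_N(K)`.** -/
theorem inX (h : InN H N K T A) [Finite N] :
    haveI := h.ck_normal
    letI := modAct (H := H) (ck N K) h.smul_mem_ck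
    InX H (N ⧸ ck N K) K T A := by
  have hnor := h.ck_normal
  let _ := modAct (H := H) (ck N K) h.smul_mem_ck
  have hinv : ∀ x : N, x⁻¹ = x := fun x => inv_eq_of_mul_eq_one_right (h.sq x)
  have hsm : ∀ (g : H) (x : N), g • (QuotientGroup.mk x : N ⧸ ck N K) = QuotientGroup.mk (g • x) := fun _ _ => rfl
  have hmk : ∀ x y : N, (QuotientGroup.mk x : N ⧸ ck N K) = QuotientGroup.mk y ↔ x * y ∈ ck N K := by
    intro x y
    rw [QuotientGroup.eq, hinv]
  have hidx : ∀ S : Set H, (cv (N ⧸ ck N K) S).index = ((cv (N ⧸ ck N K) S).comap (QuotientGroup.mk' (ck N K))).index :=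
    fun S => (index_comap_of_surjective _ (QuotientGroup.mk'_surjective _)).symm
  have hsub : ∀ C : Subgroup H, C ≤ A → Nat.card C ≤ (cv (N ⧸ ck N K) (C : Set H)).index := by
    intro C hC
    rw [hidx]
    refine h.subK C hC _ fun v hv d hd k hk => ?_
    have h1 : d • (QuotientGroup.mk v : N ⧸ ck N K) = QuotientGroup.mk v := hv d hd
    rw [hsm, hmk] at h1
    exact h1 k hk
  exact
    { sq := fun x => by
        obtain ⟨y, rfl⟩ := QuotientGroup.mk_surjective x
        rw [← QuotientGroup.mk_mul, h.sq]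
        rfl
      faith := fun g hg => h.faith_quot fun m => by
        have h1 := hg (QuotientGroup.mk m)
        rwa [hsm, hmk] at h1
      irr := fun W hW => by
        have h1 : ∀ g : H, ∀ w ∈ W.comap (QuotientGroup.mk' (ck N K)), g • w ∈ W.comap (QuotientGroup.mk' (ck N K)) :=
          fun g w hw => hW g _ hw
        rcases h.irrK _ h1 with h2 | h2
        · right
          rw [eq_top_iff]
          intro x _
          obtain ⟨y, rfl⟩ := QuotientGroup.mk_surjective x
          have h3 : y ∈ W.comap (QuotientGroup.mk' (ck N K)) := h2 ▸ mem_top y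
          exact h3
        · left
          rw [eq_bot_iff]
          intro x hx
          obtain ⟨y, rfl⟩ := QuotientGroup.mk_surjective x
          rw [mem_bot, QuotientGroup.eq_one_iff]
          exact fun k hk => h2 k hk y hx
      norm := h.norm
      simple := h.simple
      cen := h.cen
      gen := h.gen
      two := h.two
      syl := h.syl
      AT := h.AT
      el := h.el
      four := h.four
      exact := by
        refine le_antisymm ?_ (hsub A le_rfl)
        rw [hidx, ← h.exact]
        refine Nat.le_of_dvd (Nat.pos_of_ne_zero index_ne_zero_of_finite) (index_dvd_of_le ?_)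
        intro v hv a ha
        change a • (QuotientGroup.mk v : N ⧸ ck N K) = QuotientGroup.mk v
        rw [hsm, hv a ha]
      sub := hsub
      low := h.low
      nmax := h.nmax }

end InN

/-- **Rows for `InX` are rows for `InN`.** -/
theorem DeadX.deadN {𝒮 : ∀ (S : Type u) [Group S], Prop} (hd : DeadX.{u, v} 𝒮) : DeadN.{u, v} 𝒮 := by
  intro H _ _ N _ _ _ K T A h hS
  have hnor := h.ck_normal
  let _ := modAct (H := H) (InN.ck N K) h.smul_mem_ck
  exact hd H (N ⧸ InN.ck N K) K T A h.inX hS

/-- An atom on an irreducible module. -/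
theorem InN.of_inX [Finite H] [Finite N] (h : InX H N K T A) (hat : Atm N A) : InN H N K T A := by
  have hs := h.simple
  -- `C_N(K) = 1`
  have hck : ∀ w : N, (∀ k ∈ K, k • w = w) → w = 1 := by
    have hinv : ∀ g : H, ∀ w ∈ cv N (K : Set H), g • w ∈ cv N (K : Set H) := by
      intro g m hm k hk
      have h1 : g⁻¹ * k * g ∈ K := by
        have := h.norm.conj_mem k hk g⁻¹
        rwa [inv_inv] at this
      have h2 := hm _ h1
      rw [mul_smul, mul_smul, inv_smul_eq_iff] at h2
      exact h2
    intro w hw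
    rcases h.irr _ hinv with h1 | h1
    · have h2 : w ∈ cv N (K : Set H) := hw
      rw [h1] at h2
      exact mem_bot.1 h2
    · exfalso
      obtain ⟨x, hx⟩ := exists_ne (1 : K)
      apply hx
      refine Subtype.ext (h.faith x fun m => ?_)
      have h2 : m ∈ cv N (K : Set H) := h1 ▸ mem_top m
      exact h2 x x.2
  have hnt : (⊤ : Subgroup N) ≠ ⊥ := by
    intro h1
    obtain ⟨x, hx⟩ := exists_ne (1 : K)
    apply hx
    refine Subtype.ext (h.faith x fun m => ?_)
    have h2 : ∀ y : N, y = 1 := fun y => mem_bot.1 (h1 ▸ mem_top y)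
    rw [h2 m, smul_one]
  exact
    { sq := h.sq
      faith := h.faith
      irrK := fun W hW => by
        rcases h.irr W hW with h1 | h1
        · right
          intro k _ w hw
          rw [h1, mem_bot] at hw
          rw [hw, smul_one]
        · exact Or.inl h1
      point := by
        obtain ⟨z, -, hz1, hz⟩ := exists_fixed h.sq h.two hnt (fun _ _ _ _ => mem_top _)
        refine ⟨z, hz, (h.irr _ fun g w hw => smul_mem_orb (mem_top g) hw).resolve_left fun h1 => hz1 ?_⟩
        exact mem_bot.1 (h1 ▸ mem_orb_self (⊤ : Subgroup H) z)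
      norm := h.norm
      simple := h.simple
      cen := h.cen
      gen := h.gen
      two := h.two
      syl := h.syl
      AT := h.AT
      el := h.el
      four := h.four
      exact := h.exact
      atom := hat
      subK := fun D hD V hV => by
        refine (h.sub D hD).trans ?_
        have h1 : V ≤ cv N (D : Set H) := by
          intro v hv d hd
          have h2 := hck _ (hV v hv d hd)
          have h3 := congrArg (· * v) h2
          simpa [mul_assoc, h.sq] using h3
        exact Nat.le_of_dvd (Nat.pos_of_ne_zero index_ne_zero_of_finite) (index_dvd_of_le h1)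
      low := h.low
      nmax := h.nmax }

end Cfsg.Agent.Omega.ML.Ex
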