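import Cfsg.Agent.Omega.ML.Ex.RowASix
import Cfsg.Agent.Omega.ML.Ex.DefN

/-!
# The K-list for EXACT ATOMS (EXL): the row `A₆` over `InN` (helper848)

* **`deadN`** : `DeadN (· ≃* A₆)`.
-/

set_option autoImplicit false

namespace Cfsg.Agent.Omega.ML.Ex.RowASixN

open Subgroup Equiv Cfsg Cfsg.Agent.ZN Cfsg.Agent.StdAlt.Six Cfsg.Agent.Omega.ML.AltSix Cfsg.Agent.Omega.ML.Ex
open Cfsg.Agent.ClassTwoFusion.Quad Cfsg.Agent.Omega.ML.MinFrame Cfsg.Agent.Omega.ML.Ex.RowASix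

universe u v

/-- elements inducing nontrivial permutations are nontrivial -/
theorem ne_one {X : Type u} [Group X] {S : Subgroup X} [S.Normal] {e : S ≃* A6} {g : X} {σ : Perm (Fin 6)} {x : A6}
    (hσ : Cj S e g σ) (h : σ * (x : Perm (Fin 6)) * σ⁻¹ ≠ (x : Perm (Fin 6))) : g ≠ 1 := by
  rintro rfl
  apply h
  rw [← hσ x, map_one, MulAut.one_apply]

theorem perm_ne : s45 * d0 * s45⁻¹ ≠ d0 ∧ s45 * z0 * c0 * (s45 * z0)⁻¹ ≠ c0 := by
  decide +kernel

/-- **The row `A₆` for atoms.** -/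
theorem deadN : DeadN.{u, v} fun S _ => Nonempty (S ≃* alternatingGroup (Fin 6)) := by
  rintro H _ _ N _ _ _ K T A h ⟨e₀⟩
  have hn := h.norm
  obtain ⟨e, a, b, hs⟩ := struct h.asx e₀ (by have := h.four; omega)
  have ha : a ≠ 1 := ne_one (x := D0) hs.ca perm_ne.1
  have hb : b ≠ 1 := ne_one (x := C0) hs.cb perm_ne.2
  have htop := stw_top h.asx hs (h.cv_four hs.four hs.aA ha) (h.cv_four hs.four hs.bA hb)
  obtain ⟨z, hz, horb⟩ := h.point
  have hzA : z ∈ cv N (A : Set H) := fun x hx => hz x (h.AT hx)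
  have h1 : orb (⊤ : Subgroup H) z ≤ cv N (A : Set H) := orb_le fun g _ => by
    have h5 : g ∈ Stw H (cv N (A : Set H)) := by rw [htop]; trivial
    exact (h5 z).2 hzA
  have h2 := h.exact
  rw [horb, top_le_iff] at h1
  rw [h1, index_top, hs.four] at h2
  omega

end Cfsg.Agent.Omega.ML.Ex.RowASixN
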