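import Cfsg.Agent.Omega.ML.ExTriv
import Cfsg.Agent.Omega.Lie.HeisCover
import Cfsg.Agent.Omega.Lie.PairOrd
import Cfsg.Agent.OddHalf.D8.SheetMap
import Cfsg.Agent.KFacts.Co1.CaseM

/-!
# The sheet of type (E) of `Co1` with `TrivC` (helper592)

* `lb_of_card_gt` : `|GL_k(2)| < |L|` for `k < m` ⟹ `LB L m`;
* `exists_sheet` : helper899's sheet of type (E) of `Co1` on a group `S ≅ Co1`: `|R| = 2⁹`, `C(z)/R` is simple of order at least
  `174182400`, so `TrivC C(z) P 4`.
-/

set_option autoImplicit false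

namespace Cfsg.Agent.Omega.ML.Ex.SheetCo1

open Subgroup Cfsg Cfsg.Agent.KFacts
open Cfsg.Agent.Omega.Lie.Heis (LB Irr)
open Cfsg.Agent.Omega.Lie.PairOrd
open Cfsg.Agent.Omega.ML.ExRec
open Cfsg.Agent.OddHalf.D8.Sheet Cfsg.Agent.OddHalf.D8.JTwo.Sheet
open Cfsg.Agent.CoOneType.SignFacts (sup wt)
open Cfsg.Agent.CoOneType.ClosingFacts (mk)
open Cfsg.Agent.SporadicA.Co0Mono
open Cfsg.Agent.KFacts.Co1.InCo1

universe u v w

/-- A lower bound by the order of the group. -/
theorem lb_of_card_gt {K : Type u} [Group K] [Finite K] [IsSimpleGroup K] {m : ℕ}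
    (h : ∀ k < m, glc k < Nat.card K) : LB.{u, v, w} K m := by
  apply LB.of_irr
  intro L _ _ π hπ _ _ _ V _ _ h2 φ hφ hirr
  -- `V` is elementary abelian
  have hV : Nontrivial V := by
    by_contra hn
    rw [not_nontrivial_iff_subsingleton] at hn
    obtain ⟨x, hx⟩ := exists_ne (1 : K)
    obtain ⟨g, rfl⟩ := hπ x
    apply hx
    have h3 : g = 1 := hφ (by
      rw [map_one]
      ext v
      exact Subsingleton.elim _ _)
    rw [h3, map_one]
  let U : Subgroup V :=
    { carrier := {x | x ^ 2 = 1}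
      one_mem' := one_pow 2
      mul_mem' := fun {a b} ha hb => by
        show (a * b) ^ 2 = 1
        rw [mul_pow, show a ^ 2 = 1 from ha, show b ^ 2 = 1 from hb, one_mul]
      inv_mem' := fun {a} ha => by
        show a⁻¹ ^ 2 = 1
        rw [inv_pow, show a ^ 2 = 1 from ha, inv_one] }
  have hU : U = ⊤ := by
    refine (hirr U fun g x hx => ?_).resolve_left fun h3 => ?_
    · show (φ g x) ^ 2 = 1
      rw [← map_pow, show x ^ 2 = 1 from hx, map_one]
    · have : Fact (Nat.Prime 2) := ⟨Nat.prime_two⟩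
      obtain ⟨n, hn⟩ := IsPGroup.iff_card.1 h2
      have h4 : 2 ∣ Nat.card V := by
        rw [hn]
        refine dvd_pow_self 2 ?_
        rintro rfl
        rw [pow_zero] at hn
        have := Finite.one_lt_card (α := V)
        omega
      obtain ⟨x, hx⟩ := exists_prime_orderOf_dvd_card' 2 h4
      have h5 : x ∈ U := by
        show x ^ 2 = 1
        rw [← hx]
        exact pow_orderOf_eq_one x
      rw [h3, mem_bot] at h5
      rw [h5, orderOf_one] at hx
      omega
  have hel : ∀ x : V, x ^ 2 = 1 := fun x => by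
    have h3 : x ∈ U := by rw [hU]; exact mem_top x
    exact h3
  by_contra hlt
  push Not at hlt
  obtain ⟨k, hk, hk'⟩ := exists_card hel hlt.le
  have hkm : k < m := by
    rw [hk'] at hlt
    exact (Nat.pow_lt_pow_iff_right (by norm_num)).1 hlt
  have h5 := h k hkm
  rw [← card_mulAut hel hk'] at h5
  have h6 := (Subgroup.card_dvd_of_surjective π hπ).trans
    ((Nat.card_congr (MonoidHom.ofInjective hφ).toEquiv).dvd.trans (Subgroup.card_subgroup_dvd_card φ.range))
  have h7 : 0 < Nat.card (MulAut V) := Nat.card_pos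
  exact absurd (Nat.le_of_dvd h7 h6) (not_le.2 h5)

/-- the quotient of the centraliser of a 2-central involution -/
theorem exists_quot {o : golayCode} (ho : wt o = 8) : ∃ (L : Type) (_ : Group L) (_ : Finite L) (_ : IsSimpleGroup L)
    (π : centralizer ({mk (signCo0 o)} : Set Spor.Co1) →* L), Function.Surjective π ∧
      (∀ c, π c = 1 ↔ (c : Spor.Co1) ∈ RCo1 o) ∧ LB.{0, u, v} L 5 := by
  have hfin : Finite Spor.Co1 := by
    have : Finite Co0 := Cfsg.Agent.CoOneType.FrameFix.finite_co0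
    exact Quotient.finite _
  obtain ⟨C, hC⟩ : ∃ C, C = centralizer ({mk (signCo0 o)} : Set Spor.Co1) := ⟨_, rfl⟩
  have hRC : RCo1 o ≤ C := by
    intro r hr
    rw [hC]
    exact mem_centralizer_singleton_iff.2 ((large ho).comm_z r hr)
  have hCm : ∀ c ∈ C, c ∈ centralizer ({mk (signCo0 o)} : Set Spor.Co1) := fun c hc => hC ▸ hc
  have hRn : ((RCo1 o).subgroupOf C).Normal := ⟨fun r hr c =>
    (large ho).conj_mem c (mem_centralizer_singleton_iff.1 (hCm c c.2)) r hr⟩
  have hcard : 89181388800 ≤ Nat.card C := by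
    rw [hC]
    exact Cfsg.Agent.CoOneType.CentOctad.card_centralizer ho
  have hR : Nat.card ((RCo1 o).subgroupOf C) = 512 := by
    rw [Nat.card_congr (subgroupOfEquivOfLe hRC).toEquiv, Co1.YBig.card_R ho]
  have hL : 174182400 ≤ Nat.card (C ⧸ (RCo1 o).subgroupOf C) := by
    have h1 := card_mul_index ((RCo1 o).subgroupOf C)
    rw [hR] at h1
    have h2 : 174182400 ≤ ((RCo1 o).subgroupOf C).index := by omega
    exact h2
  have hnt : Nontrivial (C ⧸ (RCo1 o).subgroupOf C) := by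
    apply Finite.one_lt_card_iff_nontrivial.1
    omega
  have hs : IsSimpleGroup (C ⧸ (RCo1 o).subgroupOf C) := by
    refine ⟨fun N hN => ?_⟩
    obtain ⟨Mx, hMx⟩ : ∃ Mx : Subgroup C, Mx = N.comap (QuotientGroup.mk' ((RCo1 o).subgroupOf C)) := ⟨_, rfl⟩
    have hMn : Mx.Normal := by rw [hMx]; exact hN.comap _
    have h1 := Co1.CaseM.normal ho (Mx.map C.subtype) (by rw [← hC]; exact map_subtype_le _) ?_ ?_
    · rcases h1 with h1 | h1
      · left
        rw [eq_bot_iff]
        intro x hx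
        obtain ⟨c, rfl⟩ := QuotientGroup.mk'_surjective _ x
        have h2 : (c : Spor.Co1) ∈ Mx.map C.subtype := ⟨c, by rw [hMx]; exact hx, rfl⟩
        rw [h1] at h2
        rw [mem_bot]
        exact (QuotientGroup.eq_one_iff c).2 h2
      · right
        rw [eq_top_iff]
        intro x _
        obtain ⟨c, rfl⟩ := QuotientGroup.mk'_surjective _ x
        have h2 : (c : Spor.Co1) ∈ Mx.map C.subtype := by
          rw [h1, ← hC]
          exact c.2
        obtain ⟨d, hd, hdc⟩ := h2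
        rw [hMx] at hd
        have h3 : d = c := Subtype.ext hdc
        rw [← h3]
        exact hd
    · intro r hr
      refine ⟨⟨r, hRC hr⟩, ?_, rfl⟩
      rw [hMx]
      have h2 : (⟨r, hRC hr⟩ : C) ∈ (RCo1 o).subgroupOf C := mem_subgroupOf.2 hr
      have h3 : QuotientGroup.mk' ((RCo1 o).subgroupOf C) ⟨r, hRC hr⟩ = 1 := (QuotientGroup.eq_one_iff _).2 h2
      exact mem_comap.2 (h3 ▸ one_mem N)
    · rintro p hp _ ⟨n, hn, rfl⟩
      rw [← hC] at hp
      exact ⟨⟨p, hp⟩ * n * ⟨p, hp⟩⁻¹, hMn.conj_mem n hn _, rfl⟩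
  subst hC
  refine ⟨_, _, inferInstance, hs, QuotientGroup.mk' _, QuotientGroup.mk'_surjective _, fun c => ?_, ?_⟩
  · exact QuotientGroup.eq_one_iff c
  · refine lb_of_card_gt fun k hk => lt_of_lt_of_le ?_ hL
    have h1 : ∀ k < 5, glc k < 174182400 := by decide +kernel
    exact h1 k hk

/-- **the sheet** -/
theorem exists_sheet (S : Type u) [Group S] [Finite S] (h : Spor.IsoCo1 S) :
    ∃ (z : S) (P R : Subgroup S) (n : ℕ), SheetE z P R ∧ Nat.card R = 2 ^ (2 * n + 1) ∧
      TrivC.{u, v, u} (centralizer ({z} : Set S)) P n ∧ 2 ≤ n := by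
  obtain ⟨e⟩ := h
  obtain ⟨o, ho⟩ := Cfsg.Agent.CoOneType.ClosingCo1.exists_octad
  obtain ⟨L, _, _, _, π, hs, hk, hlb⟩ := exists_quot.{u, v} ho
  have hE := Cfsg.Agent.OddHalf.D8.SheetMap.sheetE_map e.symm (Co1.CaseM.sheetE ho)
  have hX := of_sheetE hE
  obtain ⟨f, hf⟩ : ∃ f : centralizer ({mk (signCo0 o)} : Set Spor.Co1) ≃*
      (centralizer ({mk (signCo0 o)} : Set Spor.Co1)).map e.symm.toMonoidHom, ∀ c, (f c : S) = e.symm c :=
    ⟨(centralizer ({mk (signCo0 o)} : Set Spor.Co1)).equivMapOfInjective _ e.symm.injective, fun c => rfl⟩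
  have hPC : (centralizer ({mk (signCo0 o)} : Set Spor.Co1)).map e.symm.toMonoidHom ≤
      centralizer ({e.symm (mk (signCo0 o))} : Set S) := by
    rintro _ ⟨c, hc, rfl⟩
    rw [mem_centralizer_singleton_iff]
    have h1 := mem_centralizer_singleton_iff.1 hc
    show e.symm c * e.symm (mk (signCo0 o)) = e.symm (mk (signCo0 o)) * e.symm c
    rw [← map_mul, h1, map_mul]
  have hk' : ∀ c, (π.comp f.symm.toMonoidHom) c = 1 ↔ (c : S) ∈ (RCo1 o).map e.symm.toMonoidHom := by
    intro c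
    obtain ⟨c, rfl⟩ := f.surjective c
    show π (f.symm (f c)) = 1 ↔ _
    rw [f.symm_apply_apply, hk, hf]
    constructor
    · intro h1
      exact ⟨c, h1, rfl⟩
    · rintro ⟨q, hq, h1⟩
      rwa [← e.symm.injective h1]
  refine ⟨_, _, _, 4, hE, ?_, ?_, by norm_num⟩
  · have h1 : Nat.card ((RCo1 o).map e.symm.toMonoidHom) = Nat.card (RCo1 o) :=
      (Nat.card_congr ((RCo1 o).equivMapOfInjective _ e.symm.injective).toEquiv).symm
    refine h1.trans ?_
    rw [Co1.YBig.card_R ho]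
    norm_num
  · refine ExTriv.trivC_of_lb hPC hX.R2 hX.Rn hX.perf (π.comp f.symm.toMonoidHom) (hs.comp f.symm.surjective)
      (fun x hx => (hk' x).2 hx) ?_ ?_ hlb
    · intro x hx y
      have h1 := (hk' x).1 hx
      have h2 := hX.Rn _ y.2 _ (Subgroup.inv_mem _ h1)
      have h3 := Subgroup.mul_mem _ h1 h2
      have h4 : (x : S) * ((y : S) * (x : S)⁻¹ * (y : S)⁻¹) = x * y * (x : S)⁻¹ * (y : S)⁻¹ := by group
      rwa [h4] at h3
    · have h1 : (π.comp f.symm.toMonoidHom).ker = ((RCo1 o).map e.symm.toMonoidHom).subgroupOf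
          ((centralizer ({mk (signCo0 o)} : Set Spor.Co1)).map e.symm.toMonoidHom) := by
        ext c
        rw [MonoidHom.mem_ker, hk', mem_subgroupOf]
      rw [h1, relIndex_self]
      exact odd_one

end Cfsg.Agent.Omega.ML.Ex.SheetCo1
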