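import Cfsg.Agent.Omega.ML.ExEx.SheetRow
import Cfsg.Agent.Omega.ML.Ex.SheetCo1

/-!
# K-list "exact + low": the row `Co1` by THEOREM EX (helper592)
-/

set_option autoImplicit false

namespace Cfsg.Agent.Omega.ML.Ex.RowCo1

open Subgroup Cfsg

universe u v

/-- **The row `Co1`.** -/
theorem deadX : DeadX.{u, v} @Spor.IsoCo1 := by
  refine ExEx.SheetRow.deadX_of_sheet fun S _ _ h => ?_
  obtain ⟨z, P, R, n, h1, h2, h3, h4⟩ := SheetCo1.exists_sheet S h
  exact ⟨z, P, R, n, h1, h4, h2, h3⟩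

end Cfsg.Agent.Omega.ML.Ex.RowCo1
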