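import Cfsg.Agent.Omega.ML.Ex.SheetOf
import Cfsg.Agent.KFacts.CoTwo.QuotInst
import Cfsg.Agent.LieClassical.SympCount

/-!
# Exact K-list, `Co2`: the sheet `2¹⁺⁸.Sp6(2)` and `LB Sp6(2) 5` (helper376)
-/

set_option autoImplicit false

namespace Cfsg.Agent.Omega.ML.Ex.SheetCo2

open Subgroup Cfsg
open Cfsg.Agent.OddHalf.D8.Sheet Cfsg.Agent.OddHalf.D8.JTwo.Sheet
open Cfsg.Agent.Omega.Lie.Heis (LB Irr)
open Cfsg.Agent.KFacts.CoTwo Cfsg.Agent.Omega.ML.ExRec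
open Cfsg.Agent.KFacts.CoTwo.RSub Cfsg.Agent.Co2Type.TData Cfsg.Agent.Co2Type.FactsD

universe u v w

theorem card_sp : Nat.card Quot.Sp62 = 1451520 := by
  rw [LieClassical.SympCount.card_symplecticGroup, ZMod.card]
  simp [Finset.prod_range_succ]

theorem lb_sp : LB.{0, v, w} Quot.Sp62 5 := by
  have : Finite Quot.Sp62 := Nat.finite_of_card_ne_zero (by rw [card_sp]; norm_num)
  refine SheetOf.lb_of_card (c := 27) (by rw [card_sp]; norm_num) ?_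
  decide +kernel

theorem exists_sheet {S : Type u} [Group S] (h : Spor.IsoCo2 S) :
    ∃ (z : S) (P R : Subgroup S) (L : Type) (_ : Group L) (_ : IsSimpleGroup L) (π : P →* L),
      SheetE z P R ∧ P = centralizer ({z} : Set S) ∧ Nat.card R = 2 ^ (2 * 4 + 1) ∧ Function.Surjective π ∧
      (∀ c, π c = 1 ↔ (c : S) ∈ R) ∧ LB.{0, u, v} L (4 + 1) := by
  obtain ⟨e⟩ := h
  have := Cfsg.Agent.Schreier.CoTwoStab.finite
  have D := Cfsg.Agent.KFacts.CoTwo.QuotInst.dataT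
  obtain ⟨π, hs, hk⟩ := D.quot
  obtain ⟨z, P, R, π', h1, h2, h3, h4, h5⟩ := SheetOf.exists_sheet D.sheet hs hk e
  exact ⟨z, P, R, _, inferInstance, D.simple, π', h1, h2, h3.trans Cfsg.Agent.KFacts.CoTwo.RLarge.card_R, h4, h5, lb_sp⟩

/-- the input of the row -/
theorem sheet (S : Type u) [Group S] [Finite S] (h : Spor.IsoCo2 S) :
    ∃ (z : S) (P R : Subgroup S) (n : ℕ), SheetE z P R ∧ 2 ≤ n ∧ Nat.card R = 2 ^ (2 * n + 1) ∧
      TrivC.{u, v, u} (centralizer ({z} : Set S)) P n := by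
  obtain ⟨z, P, R, L, _, _, π, h1, h2, h3, h4, h5, h6⟩ := exists_sheet.{u, v} h
  exact ⟨z, P, R, 4, h1, by norm_num, h3, SheetOf.trivC (of_sheetE h1) h2 π h4 h5 h6⟩

end Cfsg.Agent.Omega.ML.Ex.SheetCo2
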