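import Cfsg.Agent.Omega.ML.ExEx.SheetRow
import Cfsg.Agent.Omega.ML.Ex.SheetCo2

/-!
# The K-list for EXACT subgroups: the row `Co2`, by THEOREM EX (helper376)
-/

set_option autoImplicit false

namespace Cfsg.Agent.Omega.ML.Ex.RowCo2X

open Subgroup Cfsg

universe u v

/-- **The row `Co2`.** -/
theorem deadX : DeadX.{u, v} @Spor.IsoCo2 :=
  ExEx.SheetRow.deadX_of_sheet fun S _ _ h => SheetCo2.sheet S h

end Cfsg.Agent.Omega.ML.Ex.RowCo2X
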