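import Cfsg.Agent.Omega.ML.Ex.RkX
import Cfsg.Agent.Omega.ML.RowCo3

/-!
# Exact and low configurations: the group-theoretic row Co3 over `ASx` (helper333)
-/

set_option autoImplicit false

namespace Cfsg.Agent.Omega.ML.Ex.RowCo3X

open Subgroup Cfsg Cfsg.Agent.OddHalf.D8.Sheet Cfsg.Agent.Omega.ML.Rows
open Cfsg.Agent.ZN
open Cfsg.Agent.MinSimple.VModule (o2_isPGroup o2_le le_o2 le_normalizer_o2)

universe u v

/-- `S = X`, `z` 2-central, `O₂(C_S(z)) ≤ ⟨z⟩`. -/
theorem card_le_of_center {X : Type*} [Group X] [Finite X] {S T A : Subgroup X} (h : ASx S T A) (hS : S = ⊤) {z : S}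
    (hz1 : z ≠ 1) (hzz : z * z = 1)
    (hz : ∃ S₀ : Sylow 2 S, z ∈ S₀ ∧ (∀ x ∈ S₀, x * z = z * x) ∧ ∀ y ∈ S₀, (∀ x ∈ S₀, x * y = y * x) → y = 1 ∨ y = z)
    (hq : ∀ x ∈ o2 (centralizer ({z} : Set S)), x = 1 ∨ x = z) : Nat.card A ≤ 2 := by
  refine h.card_le_of_syl hz1 hz fun B hB _ => ?_
  have hN : (o2 (centralizer ({(z : X)} : Set X))).comap S.subtype ≤ o2 (centralizer ({z} : Set S)) := by
    refine le_o2 ?_ ((o2_isPGroup _).comap_of_injective _ S.subtype_injective) ?_
    · intro x hx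
      exact mem_centralizer_singleton_iff.2 (Subtype.ext (mem_centralizer_singleton_iff.1 (o2_le _ hx)))
    · intro x hx
      have h1 : (x : X) ∈ centralizer ({(z : X)} : Set X) :=
        mem_centralizer_singleton_iff.2 (congrArg Subtype.val (mem_centralizer_singleton_iff.1 hx))
      have h2 := mem_normalizer_iff.1 (le_normalizer_o2 _ h1)
      rw [mem_normalizer_iff]
      intro y
      exact h2 (y : X)
  have hle : B ≤ zpowers (z : X) := by
    intro b hb
    have hbS : b ∈ S := hS ▸ mem_top b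
    rcases hq ⟨b, hbS⟩ (hN (hB hb)) with h1 | h1
    · rw [show b = 1 from congrArg Subtype.val h1]
      exact one_mem _
    · rw [show b = (z : X) from congrArg Subtype.val h1]
      exact mem_zpowers _
  refine (card_le_of_le hle).trans ?_
  rw [Nat.card_zpowers]
  exact Nat.le_of_dvd (by norm_num) (orderOf_dvd_of_pow_eq_one (by rw [pow_two]; exact congrArg Subtype.val hzz))

/-- **The row `Co3`.** -/
theorem co3 : DeadGx.{u} 2 (fun S _ => Spor.IsoCo3 S) := by
  intro X _ _ S T A h hS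
  obtain ⟨z, hz⟩ := Cfsg.Agent.KFacts.Co3.Sheet.exists_facts hS
  have htop : S = ⊤ := h.top_of_inn fun α => hz.inner α
  refine card_le_of_center h htop hz.basic.z1 hz.basic.zz hz.basic.syl fun x hx => ?_
  exact hz.center x (o2_le _ hx) (RowCo3.o2_central hz.quasi x hx)

/-- **The row is dead.** -/
theorem co3_dead : DeadX.{u, v} (fun S _ => Spor.IsoCo3 S) := co3.deadX (by norm_num)

end Cfsg.Agent.Omega.ML.Ex.RowCo3X
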