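import Cfsg.Agent.Omega.ML.Ex.EeX
import Cfsg.Agent.Omega.ML.Ex.RkX
import Cfsg.Agent.Omega.ML.RowHS

/-!
# Exact and low configurations: the row `HS` (helper322)

`|A| ≤ 16` and `x = z^c`, `dim [M, x] ≥ 4` for `x ∈ (A ∩ S)#` (`RowHS.key` of helper926), so `|A| = 16`,
`C_M(x) = C_M(A)`, and `E := C_H(F) ∩ C_H(M / F) ≥ A`, `F := C_M(A)`, is elementary abelian and normalised by `C_H(x)`;
but the only subgroups of `O₂(C_S(z)) = 4 ∘ 2^{1+4}` which are normal in `C_S(z)` are `O₂(C_S(z))` and the subgroups of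
the cyclic group of order 4.
-/

set_option autoImplicit false

namespace Cfsg.Agent.Omega.ML.Ex.RowHSX

open Subgroup Cfsg Cfsg.Agent.ZN Cfsg.Agent.Omega.ML.RowHS Cfsg.Agent.Omega.ML.InvChain
open Cfsg.Agent.HN Cfsg.Agent.HN.HS100 Cfsg.Agent.HN.H0Basic Cfsg.Agent.KFacts.HS.Cent
open Cfsg.Agent.KFacts.HS (exists_mod index_inn)
open Cfsg.Agent.MinSimple.VModule (o2_isPGroup o2_le le_o2 le_normalizer_o2)

universe u v

section group

variable {X : Type u} [Group X] {S T A : Subgroup X}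

/-- `|A| ≤ 16`, the elements of `(A ∩ S)#` are conjugate to `z` -/
theorem key [Finite X] (h : ASx S T A) (D : KFacts.HS.Mod S) :
    Nat.card A ≤ 2 ^ 4 ∧ ∀ x : S, (x : X) ∈ A → x ≠ 1 → ∃ c : S, x = c * D.z * c⁻¹ := by
  have hS := h.norm
  obtain ⟨g, hg⟩ := h.conj_of_syl D.z1 D.syl
  set Dz := o2 (centralizer ({(D.z : X)} : Set X)) with hDz
  have hD2 : IsPGroup 2 Dz := o2_isPGroup _
  have hDzz : ∀ d ∈ Dz, d * (D.z : X) = D.z * d := fun d hd => mem_centralizer_singleton_iff.1 (o2_le _ hd)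
  -- `P` normalises `Dz`
  have hPn : ∀ x ∈ D.P, ∀ d ∈ Dz, (x : X) * d * (x : X)⁻¹ ∈ Dz := by
    intro x hx d hd
    have h1 : (x : X) ∈ centralizer ({(D.z : X)} : Set X) :=
      mem_centralizer_singleton_iff.2 (congrArg Subtype.val (D.Pcomm hx))
    exact (mem_normalizer_iff.1 (le_normalizer_o2 _ h1) d).1 hd
  have hB : Dz.comap S.subtype ≤ D.R := by
    apply D.core
    · intro x hx
      rw [mem_centralizer_singleton_iff]
      exact Subtype.ext (hDzz _ hx)
    · exact hD2.comap_of_injective S.subtype S.subtype_injective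
    · intro x hx c hc
      exact hPn x hx _ hc
  have hact : ∀ d ∈ Dz, (MulAut.conjNormal d : MulAut S) ∈ Wt.map D.au := by
    intro d hd
    obtain ⟨h0, hh0⟩ := D.au_surj (MulAut.conjNormal d : MulAut S)
    have hαx : ∀ x : S, (((MulAut.conjNormal d : MulAut S) x : S) : X) = d * x * d⁻¹ := fun x => MulAut.conjNormal_apply d x
    have hz : D.au h0 D.z = D.z := by
      rw [hh0]
      exact Subtype.ext (by rw [hαx, hDzz d hd, mul_inv_cancel_right])
    refine ⟨h0, D.mem_Wt_of (D.au_z hz) (fun x hx => ?_), hh0⟩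
    apply hB
    rw [hh0]
    show ((x⁻¹ * (MulAut.conjNormal d : MulAut S) x : S) : X) ∈ Dz
    rw [Subgroup.coe_mul, Subgroup.coe_inv, hαx]
    have h1 : (x : X)⁻¹ * (d * x * d⁻¹) = ((x : X)⁻¹ * d * x) * d⁻¹ := by group
    rw [h1]
    refine Dz.mul_mem ?_ (Dz.inv_mem hd)
    have h2 := hPn x⁻¹ (D.P.inv_mem hx) d hd
    rwa [Subgroup.coe_inv, inv_inv] at h2
  have hcomm : ∀ a ∈ A, ∀ c ∈ A, a * c = c * a := by
    intro a ha c hc
    have h1 := h.el _ (A.mul_mem ha hc)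
    have h2 : a = a⁻¹ := eq_inv_of_mul_eq_one_left (h.el a ha)
    have h3 : c = c⁻¹ := eq_inv_of_mul_eq_one_left (h.el c hc)
    have h4 : a * c = (a * c)⁻¹ := eq_inv_of_mul_eq_one_left h1
    rw [mul_inv_rev, ← h2, ← h3] at h4
    exact h4
  constructor
  · let f : A →* MulAut S := (MulAut.conjNormal : X →* MulAut S).comp ((MulAut.conj (g : X)⁻¹).toMonoidHom.comp A.subtype)
    have hfx : ∀ a : A, f a = (MulAut.conjNormal ((g : X)⁻¹ * a * g) : MulAut S) := by
      intro a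
      show (MulAut.conjNormal ((g : X)⁻¹ * (a : X) * ((g : X)⁻¹)⁻¹) : MulAut S) = _
      rw [inv_inv]
    have hinj : Function.Injective f :=
      h.conj_inj.comp ((MulAut.conj (g : X)⁻¹).injective.comp A.subtype_injective)
    have h1 : Nat.card A = Nat.card f.range := Nat.card_congr (MonoidHom.ofInjective hinj).toEquiv
    rw [h1]
    refine card_le_sixteen D f.range ?_ ?_
    · rintro _ ⟨a, rfl⟩
      rw [hfx]
      exact hact _ (hg a a.2)
    · rintro _ ⟨a, rfl⟩ _ ⟨c, rfl⟩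
      rw [← map_mul, ← map_mul]
      exact congrArg f (Subtype.ext (hcomm a a.2 c c.2))
  · intro x hxA hx1
    have h1 : g⁻¹ * x * g ∈ D.R := hB (hg x hxA)
    obtain ⟨c, hc⟩ := conj_of_R D h1 (by
      have h2 : x * x = 1 := Subtype.ext (h.el _ hxA)
      calc g⁻¹ * x * g * (g⁻¹ * x * g) = g⁻¹ * (x * x) * g := by group
        _ = 1 := by rw [h2]; group) (by
      intro h2
      apply hx1
      have h3 : x = g * (g⁻¹ * x * g) * g⁻¹ := by group
      rw [h3, h2]; group)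
    refine ⟨g * c, ?_⟩
    have h3 : x = g * (g⁻¹ * x * g) * g⁻¹ := by group
    rw [h3, hc]; group

/-- no elementary abelian subgroup `E` of `C_X(z)`, `|E ∩ S| ≥ 4`, is normalised by `C_S(z)` -/
theorem no_el (D : KFacts.HS.Mod S) {E : Subgroup X} (hc : ∀ e ∈ E, e * (D.z : X) = D.z * e)
    (he : ∀ e ∈ E, e * e = 1) (hn : ∀ g : S, g * D.z = D.z * g → ∀ e ∈ E, (g : X) * e * (g : X)⁻¹ ∈ E)
    (x : S) (hx : (x : X) ∈ E) (hx1 : x ≠ 1) (hxz : x ≠ D.z) : False := by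
  set B : Subgroup S := E.comap S.subtype with hB
  have hBe : ∀ b ∈ B, b * b = 1 := fun b hb => Subtype.ext (he b hb)
  have hBR : B ≤ D.R := by
    apply D.core
    · intro x hx
      rw [mem_centralizer_singleton_iff]
      exact Subtype.ext (hc _ hx)
    · exact fun b => ⟨1, Subtype.ext (by rw [pow_one, pow_two]; exact hBe b b.2)⟩
    · exact fun x hx c hc => hn x (D.Pcomm hx) _ hc
  have huB : D.u ∉ B := fun h => D.z1 (D.uu.symm.trans (hBe _ h))
  rcases D.subs B hBR (fun x hx c hc => hn x (D.Pcomm hx) _ hc) with h1 | h1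
  · rcases h1 x hx with h2 | h2 | h2 | h2
    · exact hx1 h2
    · exact hxz h2
    · exact huB (h2 ▸ hx)
    · exact huB (by
        have h3 : D.u⁻¹ ∈ B := h2 ▸ hx
        simpa using B.inv_mem h3)
  · exact huB (h1 ▸ D.uR)

end group

/-- **The row `HS`** -/
theorem deadEx : DeadX.{u, v} (fun S _ => Spor.IsoHS S) := by
  intro H _ _ M _ _ _ K' T A h hS
  have hN := h.norm
  obtain ⟨D⟩ := exists_mod hS
  obtain ⟨h1, h2⟩ := key h.asx D
  have h3 : K'.index ≤ 2 := by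
    refine (h.asx.index_le).trans ?_
    rw [index_inn hS]
  have h4 := h.asx.card_le_inf_mul
  have h5 := h.four
  -- an element of `(A ∩ K)#`
  have h6 : 1 < Nat.card (K'.subgroupOf A) := by
    by_contra hc
    have h7 : Nat.card (K'.subgroupOf A) ≤ 1 := not_lt.1 hc
    have h8 := Nat.mul_le_mul h7 h3
    omega
  obtain ⟨⟨⟨x, hxA⟩, hxK⟩, hx1⟩ : ∃ x : K'.subgroupOf A, x ≠ 1 := by
    have := Finite.one_lt_card_iff_nontrivial.1 h6
    exact exists_ne _
  have hxK' : x ∈ K' := hxK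
  have hx1' : (⟨x, hxK'⟩ : K') ≠ 1 := by
    intro hc
    have hc' : x = 1 := congrArg (fun y : K' => (y : H)) hc
    exact hx1 (Subtype.ext (Subtype.ext hc'))
  obtain ⟨c, hc⟩ := h2 ⟨x, hxK'⟩ hxA hx1'
  have hxc : x = (c : H) * D.z * (c : H)⁻¹ := congrArg Subtype.val hc
  have hinv : InvAt x 4 := by
    rw [hxc]
    exact ((invAt_z D).map K'.subtype K'.subtype_injective).conj _
  obtain ⟨h16, hcv⟩ := h.cv_eq_of_invAt hxA h1 hinv
  -- a second element of `(A ∩ K)#`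
  obtain ⟨y, hyA, hyK, hy1, hyx⟩ : ∃ y ∈ A, y ∈ K' ∧ y ≠ 1 ∧ y ≠ x := by
    by_contra hcon
    push Not at hcon
    have h7 := card_subgroupOf_le_two (S := K') (A := A) (y := x) fun b hb hbK => by
      by_cases hb1 : b = 1
      · exact Or.inl hb1
      · exact Or.inr (hcon b hb hbK hb1)
    have h8 := Nat.mul_le_mul h7 h3
    omega
  refine h.false_of_no hxA hcv fun E hAE hEc hEe hEn => ?_
  -- conjugate to `z`
  refine no_el D (E := E.comap (MulAut.conj (c : H)).toMonoidHom) (x := c⁻¹ * ⟨y, hyK⟩ * c) ?_ ?_ ?_ ?_ ?_ ?_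
  · intro e he
    have he' : (c : H) * e * (c : H)⁻¹ ∈ E := he
    have h7 := mem_centralizer_singleton_iff.1 (hEc he')
    rw [hxc] at h7
    calc e * (D.z : H) = (c : H)⁻¹ * ((c : H) * e * (c : H)⁻¹ * ((c : H) * D.z * (c : H)⁻¹)) * c := by group
      _ = (c : H)⁻¹ * ((c : H) * D.z * (c : H)⁻¹ * ((c : H) * e * (c : H)⁻¹)) * c := by rw [h7]
      _ = D.z * e := by group
  · intro e he
    have h7 : (c : H) * e * (c : H)⁻¹ * ((c : H) * e * (c : H)⁻¹) = 1 := hEe _ he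
    calc e * e = (c : H)⁻¹ * ((c : H) * e * (c : H)⁻¹ * ((c : H) * e * (c : H)⁻¹)) * c := by group
      _ = 1 := by rw [h7]; group
  · intro g hg e he
    have hg' : (g : H) * D.z = D.z * g := congrArg Subtype.val hg
    have he' : (c : H) * e * (c : H)⁻¹ ∈ E := he
    have h7 := hEn ((c : H) * g * (c : H)⁻¹) (by
      rw [hxc]
      calc (c : H) * g * (c : H)⁻¹ * ((c : H) * D.z * (c : H)⁻¹) = (c : H) * (g * D.z) * (c : H)⁻¹ := by group
        _ = (c : H) * (D.z * g) * (c : H)⁻¹ := by rw [hg']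
        _ = _ := by group) _ he'
    change (c : H) * ((g : H) * e * (g : H)⁻¹) * (c : H)⁻¹ ∈ E
    have h8 : (c : H) * ((g : H) * e * (g : H)⁻¹) * (c : H)⁻¹ =
        (c : H) * g * (c : H)⁻¹ * ((c : H) * e * (c : H)⁻¹) * ((c : H) * g * (c : H)⁻¹)⁻¹ := by group
    rwa [h8]
  · change (c : H) * ((c : H)⁻¹ * y * c) * (c : H)⁻¹ ∈ E
    have h7 : (c : H) * ((c : H)⁻¹ * y * c) * (c : H)⁻¹ = y := by group
    rw [h7]
    exact hAE hyA
  · intro h7
    apply hy1
    have h8 : (⟨y, hyK⟩ : K') = 1 := by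
      calc (⟨y, hyK⟩ : K') = c * (c⁻¹ * ⟨y, hyK⟩ * c) * c⁻¹ := by group
        _ = 1 := by rw [h7]; group
    exact congrArg Subtype.val h8
  · intro h7
    apply hyx
    have h8 : (⟨y, hyK⟩ : K') = c * D.z * c⁻¹ := by
      calc (⟨y, hyK⟩ : K') = c * (c⁻¹ * ⟨y, hyK⟩ * c) * c⁻¹ := by group
        _ = _ := by rw [h7]
    rw [hxc]
    exact congrArg Subtype.val h8

end Cfsg.Agent.Omega.ML.Ex.RowHSX
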