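import Cfsg.Agent.Omega.ML.Ex.Def
import Cfsg.Agent.Omega.ML.Ex.TIE

/-!
# The K-list for exact subgroups: the dichotomy at `x ∈ A#` and extraspecial centralisers (helper181)

`InX H M K T A` (`Def.lean`, `A` exact and sub-exact, NOT necessarily an atom), `F := C_M(A)`,
`EE F = {h | [F,h] = 1, [M,h] ≤ F}` (`TIE.lean`), any `|A| ≥ 4`.

* **`lt_or_eq`** (DICHOTOMY) : `x ∈ A` : `|M : C_M(x)| < |A|` or `EQ(x)`: `C_M(x) = F`;
* `quad` : `EQ(x)` for ONE `x ∈ A` ⟹ `A` is quadratic on `M`;   `le_EE` : then `A ≤ EE F`;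
* **`conj_mem_EE`** : `EQ(x)` ⟹ `C_H(x) ≤ N_H(EE F)`;   `exists_normal` : an elementary abelian `E ≥ A`, `C_H(x) ≤ N_H(E)`;
* `false_of_card` : `EQ(x)` is impossible if every elementary abelian `E ∋ x` normalised by `C_H(x)` has `|E| < |A|`;
* **`false_of_irr`** : `EQ(x)` is impossible if `A ≤ R`, `R` nonabelian, `P ≤ C_H(x)` and the `P`-invariant subgroups
  `B ≠ R` of `R` have `|B| < |A|` (extraspecial case: `|B| ≤ 2`);
* `tv`, **`tv_eq`** : transvections; two commuting ones with different axes, whose product is a transvection, have the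
  same centre;
* **`false_of_rank_two`** : `InX` is impossible if some conjugate of `A` is in `R`, `z ∈ Z(R)` an involution, `R`
  nonabelian of 2-rank 2, `R/⟨z⟩` irreducible for `P ≤ C_H(z)`, all involutions of `R` conjugate to `z` (`J2`, `J3`).
-/

set_option autoImplicit false

namespace Cfsg.Agent.Omega.ML.Ex.Extra

open Subgroup Cfsg.Agent.Omega.ML.Ex Cfsg.Agent.Omega.ML.Ex.TIE Cfsg.Agent.ClassTwoFusion.Quad
open Cfsg.Agent.Omega.NOThree.NoOver Cfsg.Agent.Omega.ML.CD

universe u v

variable {H : Type u} [Group H] {M : Type v} [Group M] [MulDistribMulAction H M] {K T A : Subgroup H}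

/-- **`EQ(x)`: `A` is quadratic** (`M/F ≅ [M,x] ≤ F`). -/
theorem quad (h : InX H M K T A) {x : H} (hx : x ∈ A) (hE : cv M ({x} : Set H) = cv M (A : Set H)) {a b : H}
    (ha : a ∈ A) (hb : b ∈ A) (m : M) : b • (a • m * m) = a • m * m := by
  have sq := h.sq
  have hM := h.comm
  have hinv : ∀ y : M, y⁻¹ = y := fun y => inv_eq_of_mul_eq_one_right (sq y)
  -- `[m, x] ∈ C_M(x) = C_M(A)`
  have h1 : x • m * m ∈ cv M ({x} : Set H) := by
    rw [mem_cv_singleton, smul_mul', ← mul_smul, h.el x hx, one_smul, hM]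
  rw [hE] at h1
  have h2 : a • (x • m * m) = x • m * m := h1 a ha
  have h3 : a • m * m ∈ cv M ({x} : Set H) := by
    rw [mem_cv_singleton, smul_mul', ← mul_smul, h.A_comm x hx a ha, mul_smul]
    rw [smul_mul'] at h2
    -- `a x m * a m = x m * m`
    have h4 : a • x • m = x • m * m * a • m := by
      calc a • x • m = a • x • m * (a • m * a • m) := by rw [sq, mul_one]
        _ = a • x • m * a • m * a • m := by rw [mul_assoc]
        _ = x • m * m * a • m := by rw [h2]
    rw [h4]
    calc x • m * m * a • m * x • m = (x • m * x • m) * (m * a • m) := by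
          rw [hM (x • m * m * a • m) (x • m), mul_assoc (x • m) m, ← mul_assoc]
      _ = a • m * m := by rw [sq, one_mul, hM]
  rw [hE] at h3
  exact h3 b hb

/-- `EQ(x)`: `A ≤ EE (C_M(A))` -/
theorem le_EE (h : InX H M K T A) {x : H} (hx : x ∈ A) (hE : cv M ({x} : Set H) = cv M (A : Set H)) :
    A ≤ (EE (cv M (A : Set H)) : Subgroup H) := by
  intro a ha
  refine ⟨fun m hm => hm a ha, fun m b hb => ?_⟩
  have h1 : m⁻¹ = m := inv_eq_of_mul_eq_one_right (h.sq m)
  rw [h1]
  exact quad h hx hE ha hb m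

/-- exponent two groups are commutative -/
theorem comm_of_sq' {N : Type v} [Group N] (sq : ∀ m : N, m * m = 1) (x y : N) : x * y = y * x := by
  have h1 : ∀ m : N, m⁻¹ = m := fun m => inv_eq_of_mul_eq_one_right (sq m)
  calc x * y = (x * y)⁻¹ := (h1 _).symm
    _ = y⁻¹ * x⁻¹ := mul_inv_rev x y
    _ = y * x := by rw [h1, h1]

/-- **DICHOTOMY** -/
theorem lt_or_eq [Finite M] (h : InX H M K T A) {x : H} (hx : x ∈ A) :
    (cv M ({x} : Set H)).index < Nat.card A ∨ cv M ({x} : Set H) = cv M (A : Set H) := by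
  have hle : cv M (A : Set H) ≤ cv M ({x} : Set H) := cv_anti (Set.singleton_subset_iff.2 hx)
  have h1 : (cv M (A : Set H)).relIndex (cv M ({x} : Set H)) * (cv M ({x} : Set H)).index = Nat.card A := by
    rw [← h.exact]
    exact relIndex_mul_index hle
  by_cases h2 : (cv M (A : Set H)).relIndex (cv M ({x} : Set H)) = 1
  · exact Or.inr (le_antisymm (relIndex_eq_one.1 h2) hle)
  · left
    have h3 : (cv M (A : Set H)).relIndex (cv M ({x} : Set H)) ≠ 0 := by
      intro h4
      rw [h4, zero_mul] at h1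
      have := h.four
      omega
    have h4 : 0 < (cv M ({x} : Set H)).index := Nat.pos_of_ne_zero index_ne_zero_of_finite
    rw [← h1]
    have h5 : 2 ≤ (cv M (A : Set H)).relIndex (cv M ({x} : Set H)) := by omega
    nlinarith

/-- `|M : C_M(x)| ≤ |A|` -/
theorem index_le [Finite M] (h : InX H M K T A) {x : H} (hx : x ∈ A) :
    (cv M ({x} : Set H)).index ≤ Nat.card A := by
  rcases lt_or_eq h hx with h1 | h1
  · exact h1.le
  · rw [h1, h.exact]

/-- an element commuting with `x` stabilises `C_M(x)` -/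
theorem stab_of_comm {x c : H} (hc : c * x = x * c) (m : M) : m ∈ cv M ({x} : Set H) ↔ c • m ∈ cv M ({x} : Set H) := by
  rw [mem_cv_singleton, mem_cv_singleton, ← mul_smul, ← hc, mul_smul, smul_left_cancel_iff]

/-- **`EQ(x)`: `C_H(x)` normalises `EE (C_M(A))`.** -/
theorem conj_mem_EE {x : H} (hE : cv M ({x} : Set H) = cv M (A : Set H)) {c e : H} (hc : c * x = x * c)
    (he : e ∈ (EE (cv M (A : Set H)) : Subgroup H)) : c * e * c⁻¹ ∈ (EE (cv M (A : Set H)) : Subgroup H) :=
  smul_mem_EE (fun m => by rw [← hE]; exact stab_of_comm hc m) he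

/-- **`EQ(x)`: an elementary abelian `E ≥ A` normalised by `C_H(x)`.** -/
theorem exists_normal (h : InX H M K T A) {x : H} (hx : x ∈ A)
    (hE : cv M ({x} : Set H) = cv M (A : Set H)) :
    ∃ E : Subgroup H, A ≤ E ∧ (∀ e ∈ E, e * e = 1) ∧ centralizer ({x} : Set H) ≤ normalizer (E : Set H) := by
  refine ⟨EE (cv M (A : Set H)), le_EE h hx hE, fun e he => EE_sq h.sq h.faith he, fun c hc => ?_⟩
  have hc' : c * x = x * c := mem_centralizer_singleton_iff.1 hc
  rw [mem_normalizer_iff]
  refine fun y => ⟨fun hy => conj_mem_EE hE hc' hy, fun hy => ?_⟩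
  have h1 : c⁻¹ * x = x * c⁻¹ := by rw [inv_mul_eq_iff_eq_mul, ← mul_assoc, hc', mul_inv_cancel_right]
  have h2 := conj_mem_EE hE h1 hy
  have h3 : c⁻¹ * (c * y * c⁻¹) * c⁻¹⁻¹ = y := by group
  rwa [h3] at h2

/-- `EQ(x)` is impossible if the elementary abelian `E ∋ x` normalised by `C_H(x)` are smaller than `A`. -/
theorem false_of_card [Finite H] (h : InX H M K T A) {x : H} (hx : x ∈ A)
    (hE : cv M ({x} : Set H) = cv M (A : Set H))
    (hs : ∀ E : Subgroup H, (∀ e ∈ E, e * e = 1) → x ∈ E → centralizer ({x} : Set H) ≤ normalizer (E : Set H) →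
      Nat.card E < Nat.card A) : False := by
  obtain ⟨E, h1, h2, h3⟩ := exists_normal h hx hE
  exact absurd (card_le_of_le h1) (not_le.2 (hs E h2 (h1 hx) h3))

/-- `EE (C_M(A))` does not contain a nonabelian group. -/
theorem not_le_EE (h : InX H M K T A) {R : Subgroup H} (nab : ∃ a ∈ R, ∃ b ∈ R, a * b ≠ b * a) :
    ¬ R ≤ (EE (cv M (A : Set H)) : Subgroup H) := by
  intro h2
  obtain ⟨a, ha, b, hb, hab⟩ := nab
  have h3 : ∀ y ∈ R, y⁻¹ = y := fun y hy => inv_eq_of_mul_eq_one_right (EE_sq h.sq h.faith (h2 hy))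
  apply hab
  calc a * b = (a * b)⁻¹ := (h3 _ (R.mul_mem ha hb)).symm
    _ = b⁻¹ * a⁻¹ := mul_inv_rev _ _
    _ = b * a := by rw [h3 a ha, h3 b hb]

/-- **`EQ(x)` and an irreducible group `P ≤ C_H(x)` on a nonabelian `R ≥ A`.** -/
theorem false_of_irr [Finite H] (h : InX H M K T A) {x : H} (hx : x ∈ A)
    (hE : cv M ({x} : Set H) = cv M (A : Set H)) {P R : Subgroup H} (hP : ∀ p ∈ P, p * x = x * p) (hAR : A ≤ R)
    (hR : ∀ p ∈ P, ∀ r ∈ R, p * r * p⁻¹ ∈ R)
    (irr : ∀ B ≤ R, (∀ p ∈ P, ∀ b ∈ B, p * b * p⁻¹ ∈ B) → Nat.card B < Nat.card A ∨ B = R)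
    (nab : ∃ a ∈ R, ∃ b ∈ R, a * b ≠ b * a) : False := by
  rcases irr ((EE (cv M (A : Set H)) : Subgroup H) ⊓ R) inf_le_right
    (fun p hp b hb => ⟨conj_mem_EE hE (hP p hp) hb.1, hR p hp b hb.2⟩) with h1 | h1
  · have h2 : A ≤ (EE (cv M (A : Set H)) : Subgroup H) ⊓ R := le_inf (le_EE h hx hE) hAR
    exact absurd (card_le_of_le h2) (not_le.2 h1)
  · exact not_le_EE h nab (inf_eq_right.1 h1)

/-- an element with `|M : C_M(a)| = 2` is a transvection -/
theorem tv (sq : ∀ m : M, m * m = 1) {a : H} (ha : (cv M ({a} : Set H)).index = 2) :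
    ∃ v : M, v ≠ 1 ∧ ∀ m : M, (a • m = m ∧ a • m * m = 1) ∨ (a • m ≠ m ∧ a • m * m = v) := by
  have hinv : ∀ y : M, y⁻¹ = y := fun y => inv_eq_of_mul_eq_one_right (sq y)
  have hM := comm_of_sq' sq
  obtain ⟨m₀, hm₀⟩ : ∃ m : M, m ∉ cv M ({a} : Set H) := by
    by_contra hc
    push Not at hc
    rw [(eq_top_iff' _).2 hc, index_top] at ha
    omega
  rw [mem_cv_singleton] at hm₀
  refine ⟨a • m₀ * m₀, fun h1 => hm₀ ?_, fun m => ?_⟩
  · rw [mul_eq_one_iff_eq_inv, hinv] at h1
    exact h1
  · by_cases hm : a • m = m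
    · exact Or.inl ⟨hm, by rw [hm, sq]⟩
    · right
      refine ⟨hm, ?_⟩
      have h1 : m * m₀ ∈ cv M ({a} : Set H) := by
        rw [mul_mem_iff_of_index_two ha]
        exact ⟨fun h2 => absurd (mem_cv_singleton.1 h2) hm, fun h2 => absurd (mem_cv_singleton.1 h2) hm₀⟩
      rw [mem_cv_singleton, smul_mul'] at h1
      -- `a m * a m₀ = m * m₀`
      calc a • m * m = (a • m * a • m₀) * (a • m₀ * m) := by
            rw [mul_assoc, ← mul_assoc (a • m₀), sq, one_mul]
        _ = (m * m₀) * (a • m₀ * m) := by rw [h1]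
        _ = (m₀ * m) * (m * a • m₀) := by rw [hM m m₀, hM (a • m₀) m]
        _ = m₀ * (m * m) * a • m₀ := by simp only [mul_assoc]
        _ = a • m₀ * m₀ := by rw [sq, mul_one, hM]

/-- **Two commuting transvections with different axes whose product is a transvection have the same centre.** -/
theorem tv_eq (sq : ∀ m : M, m * m = 1) {a b : H} (hab : a * b = b * a)
    (ha : (cv M ({a} : Set H)).index = 2) (hb : (cv M ({b} : Set H)).index = 2)
    (hc : (cv M ({a * b} : Set H)).index = 2) (hne : cv M ({a} : Set H) ≠ cv M ({b} : Set H)) [Finite M] {v : M}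
    (hv : ∀ m : M, (a • m = m ∧ a • m * m = 1) ∨ (a • m ≠ m ∧ a • m * m = v)) :
    ∀ m : M, (b • m = m ∧ b • m * m = 1) ∨ (b • m ≠ m ∧ b • m * m = v) := by
  have hinv : ∀ y : M, y⁻¹ = y := fun y => inv_eq_of_mul_eq_one_right (sq y)
  have hM := comm_of_sq' sq
  obtain ⟨w, hw1, hw⟩ := tv sq hb
  obtain ⟨c, hc1, hcc⟩ := tv sq hc
  -- `m ∈ H_a - H_b`, `n ∈ H_b - H_a`
  have key : ∀ {N L : Subgroup M}, N.index = 2 → L.index = 2 → N ≠ L → ∃ m ∈ N, m ∉ L := by
    intro N L hN hL hNL
    by_contra hcon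
    push Not at hcon
    have h1 : N ≤ L := hcon
    have h2 := relIndex_mul_index h1
    rw [hN, hL] at h2
    have h3 : N.relIndex L = 1 := by omega
    exact hNL (le_antisymm h1 (relIndex_eq_one.1 h3))
  obtain ⟨m, hma, hmb⟩ := key ha hb hne
  obtain ⟨n, hnb, hna⟩ := key hb ha hne.symm
  rw [mem_cv_singleton] at hma hmb hnb hna
  have hmb' : b • m * m = w := ((hw m).resolve_left fun h1 => hmb h1.1).2
  have hna' : a • n * n = v := ((hv n).resolve_left fun h1 => hna h1.1).2
  -- `ab m = a (b m) = b (a m) = b m`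
  have h1 : (a * b) • m = b • m := by rw [hab, mul_smul, hma]
  have h2 : (a * b) • n = a • n := by rw [mul_smul, hnb]
  have h3 : (a * b) • m * m = c := ((hcc m).resolve_left fun h4 => hmb (by rw [← h1]; exact h4.1)).2
  have h4 : (a * b) • n * n = c := ((hcc n).resolve_left fun h4 => hna (by rw [← h2]; exact h4.1)).2
  have h5 : w = v := by rw [← hmb', ← hna', ← h1, h3, ← h4, h2]
  rw [← h5]
  exact hw

/-- **`R` nonabelian of 2-rank at most 2, irreducible modulo `⟨z⟩`, contains `A`**: impossible. -/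
theorem false_of_rank_two_aux [Finite H] [Finite M] (h : InX H M K T A) {z : H} (zz : z * z = 1) (z1 : z ≠ 1)
    {P R : Subgroup H} (zR : z ∈ R) (cR : ∀ r ∈ R, r * z = z * r) (hP : ∀ p ∈ P, p * z = z * p)
    (hR : ∀ p ∈ P, ∀ r ∈ R, p * r * p⁻¹ ∈ R)
    (irr : ∀ B ≤ R, (∀ p ∈ P, ∀ b ∈ B, p * b * p⁻¹ ∈ B) → (∀ b ∈ B, b = 1 ∨ b = z) ∨ B = R)
    (nab : ∃ a ∈ R, ∃ b ∈ R, a * b ≠ b * a) (rk : ∀ B ≤ R, (∀ b ∈ B, b * b = 1) → Nat.card B ≤ 4)
    (fus : ∀ r ∈ R, r * r = 1 → r ≠ 1 → ∃ k : H, k * z * k⁻¹ = r) (hAR : A ≤ R) : False := by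
  have sq := h.sq
  have hM := comm_of_sq' sq
  have hinv : ∀ y : M, y⁻¹ = y := fun y => inv_eq_of_mul_eq_one_right (sq y)
  have h4 : Nat.card A = 4 := le_antisymm (rk A hAR h.el) h.four
  -- `z ∈ A`
  have hz : z ∈ A := by
    have hzc : ∀ x ∈ A, x * z = z * x := fun x hx => cR x (hAR hx)
    have hz2 : ∀ b : H, b * z * z = b := fun b => by rw [mul_assoc, zz, mul_one]
    -- `N = A ⟨z⟩`
    let N : Subgroup H :=
      { carrier := {b | b ∈ A ∨ b * z ∈ A}
        one_mem' := Or.inl A.one_mem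
        mul_mem' := by
          rintro a b (ha | ha) (hb | hb)
          · exact Or.inl (A.mul_mem ha hb)
          · exact Or.inr (by rw [mul_assoc]; exact A.mul_mem ha hb)
          · refine Or.inr ?_
            have h5 : a * b * z = (a * z) * b := by rw [mul_assoc, hzc b hb, ← mul_assoc]
            rw [h5]
            exact A.mul_mem ha hb
          · refine Or.inl ?_
            have h5 : a * b = (a * z) * (b * z) := by
              have h6 := hzc _ hb
              rw [hz2] at h6
              rw [mul_assoc, ← h6]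
            rw [h5]
            exact A.mul_mem ha hb
        inv_mem' := by
          rintro a (ha | ha)
          · exact Or.inl (A.inv_mem ha)
          · refine Or.inr ?_
            have h5 : a⁻¹ * z = (a * z)⁻¹ := by
              have h6 := hzc _ (A.inv_mem ha)
              have h7 : z⁻¹ = z := inv_eq_of_mul_eq_one_right zz
              have h8 : (a * z)⁻¹ * z = a⁻¹ := by
                rw [h6, mul_inv_rev, h7, ← mul_assoc, zz, one_mul]
              rw [← h8, hz2]
            rw [h5]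
            exact A.inv_mem ha }
    have hN : N ≤ R := by
      rintro b (hb | hb)
      · exact hAR hb
      · have h5 := R.mul_mem (hAR hb) zR
        rwa [hz2] at h5
    have h8 : Nat.card N ≤ 4 := by
      refine rk N hN fun b hb => ?_
      have hbz : b * z = z * b := cR b (hN hb)
      rcases hb with hb | hb
      · exact h.el b hb
      · have h5 := h.el _ hb
        calc b * b = b * b * (z * z) := by rw [zz, mul_one]
          _ = b * (b * z) * z := by simp only [mul_assoc]
          _ = b * (z * b) * z := by rw [hbz]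
          _ = b * z * (b * z) := by simp only [mul_assoc]
          _ = 1 := h5
    have h9 : A = N := Subgroup.eq_of_le_of_card_ge (fun x hx => Or.inl hx) (by rw [h4]; exact h8)
    rw [h9]
    exact Or.inr (by rw [zz]; exact A.one_mem)
  rcases lt_or_eq h hz with h5 | hE
  swap
  · -- `EQ(z)`
    refine false_of_irr h hz hE hP hAR hR (fun B hB hBP => ?_) nab
    rcases irr B hB hBP with h6 | h6
    · left
      have h7 : (B : Set H) ⊆ {1, z} := fun b hb => h6 b hb
      have h8 := Set.ncard_le_ncard h7 (Set.toFinite _)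
      have h9 : ({1, z} : Set H).ncard ≤ 2 := (Set.ncard_insert_le _ _).trans (by rw [Set.ncard_singleton])
      have h10 : Nat.card B = (B : Set H).ncard := rfl
      omega
    · exact Or.inr h6
  · -- `z` is a transvection; all involutions of `R` are
    have htv : ∀ a ∈ A, a ≠ 1 → (cv M ({a} : Set H)).index = 2 := by
      intro a ha ha1
      obtain ⟨k, hk⟩ := fus a (hAR ha) (h.el a ha) ha1
      have h6 : (cv M ({a} : Set H)).index = (cv M ({z} : Set H)).index := by
        rw [← hk]
        have h7 : cv M ({k * z * k⁻¹} : Set H) = (cv M ({z} : Set H)).map (MulDistribMulAction.toMulEquiv M k).toMonoidHom := by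
          ext m
          rw [mem_cv_singleton]
          constructor
          · intro h8
            refine ⟨k⁻¹ • m, ?_, ?_⟩
            · rw [SetLike.mem_coe, mem_cv_singleton, ← mul_smul]
              have h9 : z * k⁻¹ = k⁻¹ * (k * z * k⁻¹) := by group
              rw [h9, mul_smul, h8]
            · exact smul_inv_smul k m
          · rintro ⟨n, hn, rfl⟩
            rw [SetLike.mem_coe, mem_cv_singleton] at hn
            change (k * z * k⁻¹) • k • n = k • n
            rw [← mul_smul, inv_mul_cancel_right, mul_smul, hn]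
        rw [h7]
        exact index_map_equiv _ (MulDistribMulAction.toMulEquiv M k)
      have h7 : (cv M ({z} : Set H)).index ≠ 1 := by
        intro h8
        rw [index_eq_one] at h8
        apply z1
        refine h.faith z fun m => ?_
        have h9 : m ∈ cv M ({z} : Set H) := h8 ▸ mem_top m
        exact mem_cv_singleton.1 h9
      have h8 : (cv M ({z} : Set H)).index ∣ 4 := by
        rw [← h4, ← h.exact]
        exact index_dvd_of_le (cv_anti (Set.singleton_subset_iff.2 hz))
      rw [h4] at h5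
      have h9 : (cv M ({z} : Set H)).index ≠ 0 := index_ne_zero_of_finite
      have h10 : (cv M ({z} : Set H)).index ≠ 3 := by
        intro h11
        rw [h11] at h8
        omega
      omega
    obtain ⟨v, hv1, hv⟩ := tv sq (htv z hz z1)
    -- `u ∈ A`, `u ≠ 1, z`
    obtain ⟨u, hu, hu1, huz⟩ : ∃ u ∈ A, u ≠ 1 ∧ u ≠ z := by
      by_contra hcon
      push Not at hcon
      have h7 : (A : Set H) ⊆ {1, z} := fun b hb => by
        by_cases hb1 : b = 1
        · exact Or.inl hb1
        · exact Or.inr (hcon b hb hb1)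
      have h8 := Set.ncard_le_ncard h7 (Set.toFinite _)
      have h9 : ({1, z} : Set H).ncard ≤ 2 := (Set.ncard_insert_le _ _).trans (by rw [Set.ncard_singleton])
      have h10 : Nat.card A = (A : Set H).ncard := rfl
      omega
    have hzu1 : z * u ≠ 1 := fun h6 => huz (by
      rw [mul_eq_one_iff_eq_inv] at h6
      rw [h6]
      exact (inv_eq_of_mul_eq_one_right (h.el u hu)).symm)
    have hAgen : cv M (A : Set H) = cv M ({z} : Set H) ⊓ cv M ({u} : Set H) := by
      refine le_antisymm (le_inf (cv_anti (Set.singleton_subset_iff.2 hz)) (cv_anti (Set.singleton_subset_iff.2 hu))) ?_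
      intro m hm
      have hm1 : z • m = m := mem_cv_singleton.1 (mem_inf.1 hm).1
      have hm2 : u • m = m := mem_cv_singleton.1 (mem_inf.1 hm).2
      -- the stabiliser of `m` in `A` has more than 2 elements
      let St : Subgroup H := MulAction.stabilizer H m ⊓ A
      have hSt : St ≤ A := inf_le_right
      have h6 : Nat.card St ∣ 4 := by rw [← h4]; exact card_dvd_of_le hSt
      have h7 : ({1, z, u} : Set H) ⊆ (St : Set H) := by
        rintro x (rfl | rfl | rfl)
        · exact St.one_mem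
        · exact ⟨hm1, hz⟩
        · exact ⟨hm2, hu⟩
      have h8 := Set.ncard_le_ncard h7 (Set.toFinite _)
      have h9 : ({1, z, u} : Set H).ncard = 3 := by
        rw [Set.ncard_eq_three]
        exact ⟨1, z, u, z1.symm, hu1.symm, huz.symm, rfl⟩
      have h10 : Nat.card St = (St : Set H).ncard := rfl
      have h11 : Nat.card St = 4 := by
        have h12 : Nat.card St ≤ 4 := Nat.le_of_dvd (by norm_num) h6
        have h13 : Nat.card St ≠ 3 := fun h14 => by rw [h14] at h6; omega
        omega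
      have h12 : St = A := Subgroup.eq_of_le_of_card_ge hSt (by rw [h11, h4])
      intro a ha
      have h13 : a ∈ St := h12 ▸ ha
      exact h13.1
    have hne : cv M ({z} : Set H) ≠ cv M ({u} : Set H) := by
      intro h6
      rw [← h6, inf_idem] at hAgen
      have h7 := h.exact
      rw [hAgen, htv z hz z1, h4] at h7
      omega
    have hvu := tv_eq sq (cR u (hAR hu)).symm (htv z hz z1) (htv u hu hu1) (htv _ (A.mul_mem hz hu) hzu1) hne hv
    -- elements commuting with `z` fix `v`
    have hfix : ∀ c : H, c * z = z * c → c • v = v := by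
      intro c hc
      obtain ⟨m, hm⟩ : ∃ m : M, z • m * m = v ∧ z • m ≠ m := by
        by_contra hcon
        push Not at hcon
        apply z1
        refine h.faith z fun m => ?_
        rcases hv m with h6 | h6
        · exact h6.1
        · exact hcon m h6.2
      have h6 : z • (c • m) * (c • m) = c • v := by
        rw [← mul_smul, ← hc, mul_smul, ← smul_mul', hm.1]
      rcases hv (c • m) with h7 | h7
      · exfalso
        apply hv1
        rw [h7.2] at h6
        have h8 : v = c⁻¹ • (1 : M) := by rw [h6, inv_smul_smul]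
        rw [h8, smul_one]
      · rw [← h6, h7.2]
    -- `D = {r ∈ R : [M, r] ≤ ⟨v⟩}`
    have hvv : ∀ {x y : M}, (x = 1 ∨ x = v) → (y = 1 ∨ y = v) → (x * y = 1 ∨ x * y = v) := by
      rintro x y (rfl | rfl) (rfl | rfl)
      · exact Or.inl (mul_one _)
      · exact Or.inr (one_mul _)
      · exact Or.inr (mul_one _)
      · exact Or.inl (sq _)
    let D : Subgroup H :=
      { carrier := {r | r ∈ R ∧ ∀ m : M, r • m * m = 1 ∨ r • m * m = v}
        one_mem' := ⟨R.one_mem, fun m => Or.inl (by rw [one_smul, sq])⟩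
        mul_mem' := by
          rintro a b ⟨ha, ha'⟩ ⟨hb, hb'⟩
          refine ⟨R.mul_mem ha hb, fun m => ?_⟩
          have h6 : (a * b) • m * m = a • (b • m * m) * (a • m * m) := by
            rw [mul_smul, smul_mul', mul_assoc, ← mul_assoc (a • m), sq, one_mul]
          rw [h6]
          refine hvv ?_ (ha' m)
          rcases hb' m with h7 | h7
          · exact Or.inl (by rw [h7, smul_one])
          · exact Or.inr (by rw [h7, hfix a (cR a ha)])
        inv_mem' := by
          rintro a ⟨ha, ha'⟩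
          refine ⟨R.inv_mem ha, fun m => ?_⟩
          have h6 := ha' (a⁻¹ • m)
          rw [smul_inv_smul, hM] at h6
          exact h6 }
    have hDm : ∀ r : H, r ∈ D ↔ r ∈ R ∧ ∀ m : M, r • m * m = 1 ∨ r • m * m = v := fun r => Iff.rfl
    have huD : u ∈ D := ⟨hAR hu, fun m => (hvu m).imp (fun h6 => h6.2) (fun h6 => h6.2)⟩
    rcases irr D (fun r hr => hr.1) (by
      rintro p hp r ⟨hr, hr'⟩
      refine ⟨hR p hp r hr, fun m => ?_⟩
      have h6 : (p * r * p⁻¹) • m * m = p • (r • (p⁻¹ • m) * (p⁻¹ • m)) := by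
        rw [smul_mul', smul_inv_smul, ← mul_smul, ← mul_smul, mul_assoc]
      rw [h6]
      rcases hr' (p⁻¹ • m) with h7 | h7
      · exact Or.inl (by rw [h7, smul_one])
      · exact Or.inr (by rw [h7, hfix p (hP p hp)])) with h6 | h6
    · rcases h6 u huD with h7 | h7
      · exact hu1 h7
      · exact huz h7
    · -- `R` is abelian
      obtain ⟨a, ha, b, hb, hab⟩ := nab
      apply hab
      have ha' := ((hDm a).1 (h6.ge ha)).2
      have hb' := ((hDm b).1 (h6.ge hb)).2
      have key : ∀ c ∈ R, (∀ m : M, c • m * m = 1 ∨ c • m * m = v) → ∀ d ∈ R,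
          (∀ m : M, d • m * m = 1 ∨ d • m * m = v) → ∀ m : M, (c * d) • m = (c • m * m) * (d • m * m) * m := by
        intro c hc hc' d hd hd' m
        have h7 : c • (d • m * m) = d • m * m := by
          rcases hd' m with h8 | h8
          · rw [h8, smul_one]
          · rw [h8, hfix c (cR c hc)]
        calc (c * d) • m = c • ((d • m * m) * m) := by rw [mul_smul, mul_assoc, sq, mul_one]
          _ = (d • m * m) * c • m := by rw [smul_mul', h7]
          _ = (d • m * m) * (c • m * (m * m)) := by rw [sq, mul_one]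
          _ = (d • m * m) * (c • m * m) * m := by simp only [mul_assoc]
          _ = (c • m * m) * (d • m * m) * m := by rw [hM (d • m * m) (c • m * m)]
      have h7 : (b * a)⁻¹ * (a * b) = 1 := by
        refine h.faith _ fun m => ?_
        rw [mul_smul, inv_smul_eq_iff, key a ha ha' b hb hb', key b hb hb' a ha ha', hM (a • m * m) (b • m * m)]
      exact (inv_mul_eq_one.1 h7).symm

/-- **`R` nonabelian of 2-rank at most 2, irreducible modulo `⟨z⟩`, contains a conjugate of `A`**: impossible. -/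
theorem false_of_rank_two [Finite H] [Finite M] (h : InX H M K T A) {z : H} (zz : z * z = 1) (z1 : z ≠ 1)
    {P R : Subgroup H} (zR : z ∈ R) (cR : ∀ r ∈ R, r * z = z * r) (hP : ∀ p ∈ P, p * z = z * p)
    (hR : ∀ p ∈ P, ∀ r ∈ R, p * r * p⁻¹ ∈ R)
    (irr : ∀ B ≤ R, (∀ p ∈ P, ∀ b ∈ B, p * b * p⁻¹ ∈ B) → (∀ b ∈ B, b = 1 ∨ b = z) ∨ B = R)
    (nab : ∃ a ∈ R, ∃ b ∈ R, a * b ≠ b * a) (rk : ∀ B ≤ R, (∀ b ∈ B, b * b = 1) → Nat.card B ≤ 4)
    (fus : ∀ r ∈ R, r * r = 1 → r ≠ 1 → ∃ k : H, k * z * k⁻¹ = r)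
    {g : H} (hg : ∀ a ∈ A, g⁻¹ * a * g ∈ R) : False := by
  have hcj : ∀ x : H, (MulAut.conj g).toMonoidHom x = g * x * g⁻¹ := fun x => rfl
  refine false_of_rank_two_aux h (z := g * z * g⁻¹) (P := P.map (MulAut.conj g).toMonoidHom)
    (R := R.map (MulAut.conj g).toMonoidHom) ?_ ?_ ?_ ?_ ?_ ?_ ?_ ?_ ?_ ?_ ?_
  · calc g * z * g⁻¹ * (g * z * g⁻¹) = g * (z * z) * g⁻¹ := by group
      _ = 1 := by rw [zz]; group
  · intro h1
    apply z1
    have h2 : z = g⁻¹ * (g * z * g⁻¹) * g := by group
    rw [h2, h1]; group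
  · exact ⟨z, zR, rfl⟩
  · rintro _ ⟨r, hr, rfl⟩
    rw [hcj]
    calc g * r * g⁻¹ * (g * z * g⁻¹) = g * (r * z) * g⁻¹ := by group
      _ = g * (z * r) * g⁻¹ := by rw [cR r hr]
      _ = _ := by group
  · rintro _ ⟨r, hr, rfl⟩
    rw [hcj]
    calc g * r * g⁻¹ * (g * z * g⁻¹) = g * (r * z) * g⁻¹ := by group
      _ = g * (z * r) * g⁻¹ := by rw [hP r hr]
      _ = _ := by group
  · rintro _ ⟨p, hp, rfl⟩ _ ⟨r, hr, rfl⟩
    exact ⟨p * r * p⁻¹, hR p hp r hr, by rw [map_mul, map_mul, map_inv]⟩
  · intro B hB hBP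
    have h5 := irr (B.comap (MulAut.conj g).toMonoidHom) (fun b hb => by
        obtain ⟨r, hr, hrb⟩ := hB hb
        rwa [← (MulAut.conj g).injective hrb]) (fun p hp b hb => by
        have h6 := hBP _ ⟨p, hp, rfl⟩ _ hb
        rw [mem_comap, map_mul, map_mul, map_inv]
        exact h6)
    rcases h5 with h5 | h5
    · left
      intro b hb
      obtain ⟨r, hr, rfl⟩ := hB hb
      rcases h5 r hb with rfl | rfl
      · left; exact map_one _
      · right; rfl
    · right
      rw [← h5]
      exact (map_comap_eq_self_of_surjective (MulAut.conj g).surjective B).symm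
  · obtain ⟨a, ha, b, hb, hab⟩ := nab
    refine ⟨_, ⟨a, ha, rfl⟩, _, ⟨b, hb, rfl⟩, fun h5 => hab ?_⟩
    rw [← map_mul, ← map_mul] at h5
    exact (MulAut.conj g).injective h5
  · intro B hB hel
    have h1 := rk (B.comap (MulAut.conj g).toMonoidHom) (fun b hb => by
        obtain ⟨r, hr, hrb⟩ := hB hb
        rwa [← (MulAut.conj g).injective hrb]) (fun b hb => (MulAut.conj g).injective (by
          rw [map_mul, map_one]; exact hel _ hb))
    have h2 : (B.comap (MulAut.conj g).toMonoidHom).map (MulAut.conj g).toMonoidHom = B :=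
      map_comap_eq_self_of_surjective (MulAut.conj g).surjective B
    rw [← h2, card_map_of_injective (MulAut.conj g).injective]
    exact h1
  · rintro _ ⟨r, hr, rfl⟩ hrr hr1
    obtain ⟨k, hk⟩ := fus r hr ((MulAut.conj g).injective (by rw [map_mul, map_one]; exact hrr))
      (fun h1 => hr1 (by rw [h1, map_one]))
    refine ⟨g * k * g⁻¹, ?_⟩
    rw [hcj, ← hk]; group
  · intro a ha
    refine ⟨g⁻¹ * a * g, hg a ha, ?_⟩
    rw [hcj]; group

end Cfsg.Agent.Omega.ML.Ex.Extra
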