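import Cfsg.Agent.Omega.ML.Ex.Def
import Cfsg.Agent.Omega.ML.FourOrd

/-!
# The exact K-list, `|A| = 4` (helper512)

* **`InX.dvd_of_four`** : `|A| = 4`, `a`, `b ∈ A`, `g ∈ H`: every odd divisor of the order of `a · gbg⁻¹` is 1, 3 or 5;
* `InX.order_mul` : the same for two conjugates.  (`A` need not be an atom of `M`: `InX.index_le_four` of Def.lean.)
-/

set_option autoImplicit false

namespace Cfsg.Agent.Omega.ML.Ex

open Subgroup Cfsg.Agent.ClassTwoFusion.Quad

universe u v

variable {H : Type u} [Group H] {M : Type v} [Group M] [MulDistribMulAction H M] {K T A : Subgroup H}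

theorem cv_conj_index (g a : H) : (cv M ({g * a * g⁻¹} : Set H)).index = (cv M ({a} : Set H)).index := by
  let e : M ≃* M := MulDistribMulAction.toMulEquiv M g
  have h1 : cv M ({g * a * g⁻¹} : Set H) = (cv M ({a} : Set H)).map e.toMonoidHom := by
    ext v
    rw [mem_map_equiv, mem_cv_singleton, mem_cv_singleton]
    have h2 : e.symm v = g⁻¹ • v := rfl
    rw [h2]
    constructor
    · intro h
      have h3 := congrArg (fun x => g⁻¹ • x) h
      simp only [mul_smul, inv_smul_smul] at h3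
      exact h3
    · intro h
      rw [mul_smul, mul_smul, h, smul_inv_smul]
  rw [h1]
  exact index_map_equiv (cv M ({a} : Set H)) e

/-- **LEMMA 35** in (EXL): conjugates `xax⁻¹`, `yby⁻¹` of elements of `A`. -/
theorem InX.order_mul (h : InX H M K T A) [Finite H] [Finite M] (h4 : Nat.card A = 4) {a b : H} (ha : a ∈ A)
    (hb : b ∈ A) (x y : H) {n : ℕ} (hn : n ∣ orderOf ((x * a * x⁻¹) * (y * b * y⁻¹))) (ho : Odd n) :
    n = 1 ∨ n = 3 ∨ n = 5 := by
  have h1 : ∀ g c : H, c ∈ A → (g * c * g⁻¹) * (g * c * g⁻¹) = 1 := by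
    intro g c hc
    calc (g * c * g⁻¹) * (g * c * g⁻¹) = g * (c * c) * g⁻¹ := by group
      _ = 1 := by rw [h.el c hc]; group
  exact FourOrd.dvd_of_smul h.sq h.faith (h1 x a ha) (h1 y b hb) (by rw [cv_conj_index]; exact h.index_le_four h4 ha)
    (by rw [cv_conj_index]; exact h.index_le_four h4 hb) hn ho

/-- **LEMMA 35** in (EXL): `a`, `b ∈ A`, `g ∈ H`. -/
theorem InX.dvd_of_four (h : InX H M K T A) [Finite H] [Finite M] (h4 : Nat.card A = 4) {a b : H} (ha : a ∈ A)
    (hb : b ∈ A) (g : H) {n : ℕ} (hn : n ∣ orderOf (a * (g * b * g⁻¹))) (ho : Odd n) :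
    n = 1 ∨ n = 3 ∨ n = 5 :=
  h.order_mul h4 ha hb 1 g (by rwa [one_mul, inv_one, mul_one]) ho

end Cfsg.Agent.Omega.ML.Ex
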