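import Cfsg.Agent.GH.L2AutSyl
import Cfsg.Agent.ClassicalGeometry.PSL2Basic

/-!
# `PSL₂(q)`, `q` odd: products of two involutions with given trace (helper786)

`R : Rep F L` (`L = SL₂(F) / ±1`), `F` finite, `2 ≠ 0`.

* `exists_wh` : for `τ² ≠ 4`, and for all `τ` if `-1` is a square: there are `w₁`, `w₂` in `SL₂(F)` with
  `w₁² = w₂² = -1`, `tr (w₁ w₂) = τ`, and `w₁ w₂` is not scalar;
* `orderOf_dvd` : `tr x = tr y`, `x` not scalar : the order of `π(y)` divides the order of `π(x)`;
* `orderOf_dg` : the order of `π(diag(a, a⁻¹))` for a generator `a` of `Fˣ`;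
* `exists_prime_seven` : `q` a power of 3 or 5, `q ≡ 1 (4)`, `q > 9`: a prime `r ≥ 7` divides `q + 1`;
* **`exists_order`** : `q ≥ 13`: there are `w₁`, `w₂` with `w₁² = w₂² = -1` and an odd divisor `n ≥ 7` of the order of
  `π(w₁) π(w₂)`;
* `exists_four` : a unipotent element is a product of four `π(w)`, `w² = -1`.
-/

set_option autoImplicit false
set_option linter.unusedSectionVars false
set_option linter.unusedSimpArgs false

namespace Cfsg.Agent.Omega.ML.Ex.LTwoMat

open Subgroup Cfsg Matrix Cfsg.Agent.GH.L2Aut Cfsg.Agent.Lib.SL2Mat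

section sl

variable {F : Type*} [Field F]

local notation "SL2" => Matrix.SpecialLinearGroup (Fin 2) F

/-- trace -/
def tr (x : SL2) : F := ent x 0 0 + ent x 1 1

/-- not a scalar matrix -/
def NS (x : SL2) : Prop := ent x 0 1 ≠ 0 ∨ ent x 1 0 ≠ 0 ∨ ent x 0 0 ≠ ent x 1 1

theorem ent_neg (x : SL2) (i j : Fin 2) : ent (-x) i j = -ent x i j := rfl

theorem ns_of_tr {x : SL2} (h : tr x ^ 2 ≠ 4) : NS x := by
  by_contra hc
  simp only [NS, not_or, not_not] at hc
  obtain ⟨h01, h10, h00⟩ := hc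
  apply h
  have := det_eq x
  rw [h01, zero_mul, sub_zero, h00] at this
  rw [tr, h00]
  linear_combination 4 * this

/-- **products of two involutions with given trace** -/
theorem exists_wh [Finite F] (h2 : (2 : F) ≠ 0) (τ : F) (h : τ ^ 2 ≠ 4 ∨ ∃ i : F, i * i = -1) :
    ∃ w v : SL2, w * w = -1 ∧ v * v = -1 ∧ tr (w * v) = τ ∧ NS (w * v) := by
  have main : ∀ x y : F, x ^ 2 + y ^ 2 = τ / 2 * (τ / 2) - 1 → ∃ w v : SL2, w * w = -1 ∧ v * v = -1 ∧
      tr (w * v) = τ ∧ ent (w * v) 0 1 = -x := by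
    intro x y hxy
    have h4 : τ / 2 + τ / 2 = τ := by field_simp; ring
    have hab : x * x + (y - τ / 2) * (y + τ / 2) = -1 := by linear_combination hxy
    refine ⟨mk 0 1 (-1) 0 (by ring), mk x (y - τ / 2) (y + τ / 2) (-x) (by linear_combination -hab), ?_, ?_, ?_, ?_⟩
    · refine ext_ent ?_ ?_ ?_ ?_ <;> simp [ent_mul, ent_neg]
    · refine ext_ent ?_ ?_ ?_ ?_ <;> simp only [ent_mul, ent_neg, mk_00, mk_01, mk_10, mk_11, ent_one_00, ent_one_01,
        ent_one_10, ent_one_11]
      · linear_combination hab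
      · ring
      · ring
      · linear_combination hab
    · simp only [tr, ent_mul, mk_00, mk_01, mk_10, mk_11]
      linear_combination h4
    · simp [ent_mul]
  by_cases hτ : τ ^ 2 = 4
  · obtain ⟨i, hi⟩ := h.resolve_left (fun h3 => h3 hτ)
    obtain ⟨w, v, h3, h4, h5, h6⟩ := main 1 i (by
      have : τ / 2 * (τ / 2) = 1 := by
        field_simp
        linear_combination hτ
      rw [this]
      linear_combination hi)
    refine ⟨w, v, h3, h4, h5, Or.inl ?_⟩
    rw [h6]
    exact neg_ne_zero.2 one_ne_zero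
  · obtain ⟨x, y, hxy⟩ := exists_sq_add_sq h2 (τ / 2 * (τ / 2) - 1)
    obtain ⟨w, v, h3, h4, h5, -⟩ := main x y hxy
    exact ⟨w, v, h3, h4, h5, ns_of_tr (by rwa [h5])⟩

/-- coefficients of the powers of a matrix of determinant 1 -/
def co (τ : F) : ℕ → F × F
  | 0 => (0, 1)
  | n + 1 => ((co τ n).1 * τ + (co τ n).2, -(co τ n).1)

theorem pow_ent (x : SL2) (n : ℕ) (i j : Fin 2) :
    ent (x ^ n) i j = (co (tr x) n).1 * ent x i j + (co (tr x) n).2 * ent (1 : SL2) i j := by
  induction n generalizing i j with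
  | zero => simp [co]
  | succ n ih =>
    have hd := det_eq x
    rw [pow_succ, ent_mul, ih i 0, ih i 1, co]
    fin_cases i <;> fin_cases j <;> simp only [Fin.zero_eta, Fin.mk_one, Fin.isValue, ent_one_00, ent_one_01,
      ent_one_10, ent_one_11, tr] <;>
      first
        | ring1
        | linear_combination (-(co (ent x 0 0 + ent x 1 1) n).1) * hd

theorem pow_eq {x y : SL2} (hx : NS x) (h : tr x = tr y) {n : ℕ} (hn : x ^ n = 1 ∨ x ^ n = -1) :
    y ^ n = 1 ∨ y ^ n = -1 := by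
  have key : ∀ c : F, (∀ i j, ent (x ^ n) i j = c * ent (1 : SL2) i j) → ∀ i j, ent (y ^ n) i j = c * ent (1 : SL2) i j := by
    intro c hc
    have h01 := hc 0 1
    have h10 := hc 1 0
    have h00 := hc 0 0
    have h11 := hc 1 1
    simp only [pow_ent, ent_one_00, ent_one_01, ent_one_10, ent_one_11, mul_zero, add_zero, mul_one] at h01 h10 h00 h11
    have h1 : (co (tr x) n).1 = 0 := by
      rcases hx with h | h | h
      · exact (mul_eq_zero.1 h01).resolve_right h
      · exact (mul_eq_zero.1 h10).resolve_right h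
      · have h3 : (co (tr x) n).1 * (ent x 0 0 - ent x 1 1) = 0 := by linear_combination h00 - h11
        exact (mul_eq_zero.1 h3).resolve_right (sub_ne_zero.2 h)
    have h2 : (co (tr x) n).2 = c := by
      rw [h1, zero_mul, zero_add] at h00
      exact h00
    intro i j
    rw [pow_ent, ← h, h1, h2, zero_mul, zero_add]
  rcases hn with hn | hn
  · left
    have h1 := key 1 fun i j => by rw [hn, one_mul]
    exact ext_ent (by rw [h1, one_mul]) (by rw [h1, one_mul]) (by rw [h1, one_mul]) (by rw [h1, one_mul])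
  · right
    have h1 := key (-1) fun i j => by rw [hn, ent_neg, neg_one_mul]
    exact ext_ent (by rw [h1, ent_neg, neg_one_mul]) (by rw [h1, ent_neg, neg_one_mul])
      (by rw [h1, ent_neg, neg_one_mul]) (by rw [h1, ent_neg, neg_one_mul])

variable {L : Type*} [Group L] (R : GH.L2Aut.Rep F L)

theorem orderOf_dvd {x y : SL2} (hx : NS x) (h : tr x = tr y) : orderOf (R.π y) ∣ orderOf (R.π x) := by
  rw [orderOf_dvd_iff_pow_eq_one, ← map_pow, R.ker]
  refine pow_eq hx h ?_
  rw [← R.ker, map_pow, pow_orderOf_eq_one]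

/-- the order of `π(y)` is divisible by an odd prime power divisor of the order of `y` -/
theorem dvd_orderOf_pi {y : SL2} {r : ℕ} (hr : r.Prime) (h2 : r ≠ 2) (hy : orderOf y = r) : r ∣ orderOf (R.π y) := by
  have h1 : R.π y ^ orderOf (R.π y) = 1 := pow_orderOf_eq_one _
  rw [← map_pow, R.ker] at h1
  have h3 : y ^ (orderOf (R.π y) * 2) = 1 := by
    rw [pow_mul, pow_two]
    rcases h1 with h1 | h1 <;> rw [h1] <;> simp
  have h4 : r ∣ orderOf (R.π y) * 2 := hy ▸ orderOf_dvd_of_pow_eq_one h3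
  refine (hr.dvd_mul.1 h4).resolve_right fun h5 => h2 ?_
  exact (Nat.prime_dvd_prime_iff_eq hr Nat.prime_two).1 h5

end sl

section num

/-- `q` a power of 5 -/
theorem five {f N : ℕ} (h : 5 ^ f + 1 = 2 * N) (h9 : 9 ∣ N) : 7 ∣ N := by
  have h1 : 5 ^ f % 63 = 5 ^ (f % 6) % 63 := by
    conv_lhs => rw [← Nat.div_add_mod f 6, pow_add, pow_mul, Nat.mul_mod, Nat.pow_mod]
    norm_num
  have h2 : f % 6 < 6 := Nat.mod_lt _ (by norm_num)
  generalize f % 6 = s at h1 h2
  interval_cases s <;> norm_num at h1 <;> omega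

/-- `q` a power of 3 -/
theorem three {f N : ℕ} (h : 3 ^ f + 1 = 2 * N) (h9 : 25 ∣ N) : 1181 ∣ N := by
  have h1 : 3 ^ f % 29525 = 3 ^ (f % 20) % 29525 := by
    conv_lhs => rw [← Nat.div_add_mod f 20, pow_add, pow_mul, Nat.mul_mod, Nat.pow_mod]
    norm_num
  have h2 : f % 20 < 20 := Nat.mod_lt _ (by norm_num)
  generalize f % 20 = s at h1 h2
  interval_cases s <;> norm_num at h1 <;> omega

/-- `q = p^f ≡ 1 (4)`, `p ∈ {3, 5}`, `q > 9` -/
theorem exists_prime_seven {p f : ℕ} (hp : p = 3 ∨ p = 5) (h4 : p ^ f % 4 = 1) (h9 : 9 < p ^ f) :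
    ∃ r : ℕ, r.Prime ∧ 7 ≤ r ∧ r ∣ p ^ f + 1 := by
  by_contra hcon
  push Not at hcon
  obtain ⟨N, hN⟩ : ∃ N, p ^ f + 1 = 2 * N := ⟨(p ^ f + 1) / 2, by omega⟩
  have hf : f ≠ 0 := by rintro rfl; simp at h9
  have hpd : p ∣ p ^ f := dvd_pow_self p hf
  have hodd : N % 2 = 1 := by omega
  have h1 : ∀ d : ℕ, d.Prime → d ∣ N → d = 8 - p := by
    intro d hd hdN
    have h2 : d ∣ p ^ f + 1 := by rw [hN]; exact Dvd.dvd.mul_left hdN 2
    have h3 : d < 7 := by
      by_contra h
      exact hcon d hd (by omega) h2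
    have h5 : d ≠ 2 := by rintro rfl; omega
    have h6 : d ≠ p := by
      rintro rfl
      have : d ∣ 1 := (Nat.dvd_add_right hpd).1 h2
      exact hd.one_lt.ne' (Nat.dvd_one.1 this)
    have h7 := hd.two_le
    interval_cases d
    · exact absurd rfl h5
    · omega
    · exact absurd hd (by norm_num)
    · omega
    · exact absurd hd (by norm_num)
  obtain ⟨a, ha⟩ : ∃ a, N = (8 - p) ^ a :=
    ⟨_, Nat.eq_prime_pow_of_unique_prime_dvd (by omega) fun {d} hdp hdn => h1 d hdp hdn⟩
  rcases hp with rfl | rfl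
  · have ha2 : 2 ≤ a := by
      by_contra h
      have : a = 0 ∨ a = 1 := by omega
      rcases this with rfl | rfl <;> norm_num at ha <;> omega
    have h5 : 25 ∣ N := by
      rw [ha]
      exact pow_dvd_pow 5 ha2
    have h6 := h1 1181 (by norm_num) (three hN h5)
    omega
  · have ha2 : 2 ≤ a := by
      by_contra h
      have : a = 0 ∨ a = 1 := by omega
      rcases this with rfl | rfl <;> norm_num at ha <;> omega
    have h5 : 9 ∣ N := by
      rw [ha]
      exact pow_dvd_pow 3 ha2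
    have h6 := h1 7 (by norm_num) (five hN h5)
    omega

end num

section order

variable {F : Type*} [Field F] [Fintype F] {L : Type*} [Group L] (R : GH.L2Aut.Rep F L)

local notation "SL2" => Matrix.SpecialLinearGroup (Fin 2) F

theorem dg_mul (a b : F) (ha : a ≠ 0) (hb : b ≠ 0) : dg a ha * dg b hb = dg (a * b) (mul_ne_zero ha hb) := by
  refine ext_ent ?_ ?_ ?_ ?_ <;> simp [ent_mul]
  field_simp

theorem dg_pow (a : F) (ha : a ≠ 0) (n : ℕ) : dg a ha ^ n = dg (a ^ n) (pow_ne_zero n ha) := by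
  induction n with
  | zero => refine ext_ent ?_ ?_ ?_ ?_ <;> simp
  | succ n ih =>
    rw [pow_succ, ih, dg_mul]
    refine ext_ent ?_ ?_ ?_ ?_ <;> simp [pow_succ]

theorem up_pow (b : F) (n : ℕ) : up b ^ n = up (n * b) := by
  induction n with
  | zero => simp [up_zero]
  | succ n ih =>
    rw [pow_succ, ih, up_mul]
    congr 1
    push_cast
    ring

/-- **`π(w) π(v)` of an order with a large odd divisor** -/
theorem exists_order (hodd : Odd (Fintype.card F)) (h13 : 13 ≤ Fintype.card F) :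
    ∃ w v : SL2, w * w = -1 ∧ v * v = -1 ∧ ∃ n : ℕ, Odd n ∧ 7 ≤ n ∧ n ∣ orderOf (R.π w * R.π v) := by
  have h2 : (2 : F) ≠ 0 := two_ne_zero_of_odd hodd
  have fin : ∀ (y : SL2) (n : ℕ), (tr y ^ 2 ≠ 4 ∨ ∃ i : F, i * i = -1) → Odd n → 7 ≤ n → n ∣ orderOf (R.π y) →
      ∃ w v : SL2, w * w = -1 ∧ v * v = -1 ∧ ∃ n : ℕ, Odd n ∧ 7 ≤ n ∧ n ∣ orderOf (R.π w * R.π v) := by
    intro y n h hn h7 hd
    obtain ⟨w, v, h3, h4, h5, h6⟩ := exists_wh h2 (tr y) h
    refine ⟨w, v, h3, h4, n, hn, h7, ?_⟩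
    rw [← map_mul]
    exact hd.trans (orderOf_dvd R h6 h5)
  by_cases hq : Fintype.card F % 4 = 3
  · -- the torus of order `q - 1`
    obtain ⟨a, ha⟩ := IsCyclic.exists_generator (α := Fˣ)
    have ho : orderOf a = Fintype.card F - 1 := by
      rw [orderOf_eq_card_of_forall_mem_zpowers ha, Nat.card_units, Nat.card_eq_fintype_card]
    have ha0 : (a : F) ≠ 0 := a.ne_zero
    have key : ∀ k : ℕ, (a : F) ^ k = 1 ∨ (a : F) ^ k = -1 → Fintype.card F - 1 ∣ k * 2 := by
      intro k hk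
      rw [← ho, orderOf_dvd_iff_pow_eq_one]
      apply Units.ext
      rw [Units.val_pow_eq_pow_val, pow_mul, Units.val_one]
      rcases hk with hk | hk <;> rw [hk] <;> ring
    refine fin (dg (a : F) ha0) ((Fintype.card F - 1) / 2) (Or.inl ?_) ?_ (by omega) ?_
    · intro h4
      have h5 : ((a : F) - (a : F)⁻¹) ^ 2 = 0 := by
        have h6 : (a : F) * (a : F)⁻¹ = 1 := mul_inv_cancel₀ ha0
        have h7 : ((a : F) + (a : F)⁻¹) ^ 2 = 4 := h4
        linear_combination h7 - 4 * h6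
      have h6 : (a : F) = (a : F)⁻¹ := sub_eq_zero.1 (pow_eq_zero_iff (by norm_num) |>.1 h5)
      have h7 : (a : F) ^ 2 = 1 := by
        rw [pow_two]
        nth_rw 2 [h6]
        exact mul_inv_cancel₀ ha0
      have h8 := Nat.le_of_dvd (by norm_num) (key 2 (Or.inl h7))
      omega
    · rw [Nat.odd_iff]
      omega
    · have h5 : R.π (dg (a : F) ha0) ^ orderOf (R.π (dg (a : F) ha0)) = 1 := pow_orderOf_eq_one _
      rw [← map_pow, R.ker, dg_pow] at h5
      have h6 : (a : F) ^ orderOf (R.π (dg (a : F) ha0)) = 1 ∨ (a : F) ^ orderOf (R.π (dg (a : F) ha0)) = -1 := by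
        rcases h5 with h5 | h5
        · left
          exact congrArg (fun x => ent x 0 0) h5
        · right
          exact congrArg (fun x => ent x 0 0) h5
      have h7 := key _ h6
      have h8 : (Fintype.card F - 1) / 2 * 2 ∣ orderOf (R.π (dg (a : F) ha0)) * 2 := by
        rwa [show (Fintype.card F - 1) / 2 * 2 = Fintype.card F - 1 by
          obtain ⟨m, hm⟩ := hodd
          omega]
      exact Nat.dvd_of_mul_dvd_mul_right (by norm_num) h8
  · have hi : ∃ i : F, i * i = -1 := by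
      obtain ⟨i, hi⟩ := FiniteField.isSquare_neg_one_iff.2 hq
      exact ⟨i, hi.symm⟩
    obtain ⟨p, hp⟩ := CharP.exists F
    have : Fact p.Prime := ⟨CharP.char_is_prime F p⟩
    obtain ⟨f, hpp, hf⟩ := FiniteField.card F p
    have hp2 : p ≠ 2 := by
      rintro rfl
      apply h2
      exact_mod_cast CharP.cast_eq_zero F 2
    have hp1 := hpp.two_le
    by_cases h7 : 7 ≤ p
    · refine fin (up 1) p (Or.inr hi) (hpp.odd_of_ne_two hp2) h7 (dvd_orderOf_pi R hpp hp2 ?_)
      refine orderOf_eq_prime ?_ ?_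
      · rw [up_pow, CharP.cast_eq_zero, zero_mul, up_zero]
      · intro h
        exact one_ne_zero (up_inj (h.trans up_zero.symm))
    · have h35 : p = 3 ∨ p = 5 := by
        interval_cases p
        · exact absurd rfl hp2
        · left; rfl
        · exact absurd hpp (by norm_num)
        · right; rfl
        · exact absurd hpp (by norm_num)
      have hmod : p ^ (f : ℕ) % 4 = 1 := by
        rw [← hf]
        obtain ⟨m, hm⟩ := hodd
        omega
      obtain ⟨r, hr, hr7, hrd⟩ := exists_prime_seven h35 hmod (by rw [← hf]; omega)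
      rw [← hf] at hrd
      have hr2 : r ≠ 2 := by omega
      have : Fact r.Prime := ⟨hr⟩
      have hc : r ∣ Nat.card SL2 := by
        rw [Cfsg.Agent.ClassicalGeometry.PSL2Basic.card_SL2]
        refine Dvd.dvd.mul_left ?_ _
        have : Fintype.card F ^ 2 - 1 = (Fintype.card F + 1) * (Fintype.card F - 1) := by
          have := Nat.sq_sub_sq (Fintype.card F) 1
          rwa [one_pow] at this
        rw [this]
        exact Dvd.dvd.mul_right hrd _
      obtain ⟨y, hy⟩ := exists_prime_orderOf_dvd_card' (G := SL2) r hc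
      exact fin y r (Or.inr hi) (hr.odd_of_ne_two hr2) hr7 (dvd_orderOf_pi R hr hr2 hy)

end order

section eleven

variable {F : Type*} [Field F] [Fintype F] {L : Type*} [Group L] (R : GH.L2Aut.Rep F L)

local notation "SL2" => Matrix.SpecialLinearGroup (Fin 2) F

theorem conj_sq {w x : SL2} (h : w * w = -1) : (x * w * x⁻¹) * (x * w * x⁻¹) = -1 := by
  calc (x * w * x⁻¹) * (x * w * x⁻¹) = x * (w * w) * x⁻¹ := by group
    _ = -1 := by rw [h, mul_neg, mul_one, neg_mul, mul_inv_cancel]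

/-- **a unipotent element is a product of four involutions**, `|F| > 3` -/
theorem exists_four (h3 : 3 < Fintype.card F) : ∃ w : Fin 4 → SL2, (∀ i, w i * w i = -1) ∧ ∃ c : F, c ≠ 0 ∧
    R.π (up c) = R.π (w 0) * R.π (w 1) * R.π (w 2) * R.π (w 3) := by
  classical
  -- an element `a`, `a² ≠ 1`
  obtain ⟨a, ha, ha1⟩ : ∃ a : F, a ≠ 0 ∧ a ^ 2 ≠ 1 := by
    by_contra hc
    push Not at hc
    have h4 : (Finset.univ : Finset F) ⊆ {0, 1, -1} := by
      intro x _
      by_cases hx : x = 0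
      · simp [hx]
      · have h5 : (x - 1) * (x + 1) = 0 := by linear_combination hc x hx
        rcases mul_eq_zero.1 h5 with h6 | h6
        · simp [sub_eq_zero.1 h6]
        · simp [eq_neg_of_add_eq_zero_left h6]
    have h5 := (Finset.card_le_card h4).trans Finset.card_le_three
    rw [Finset.card_univ] at h5
    omega
  have hw : ∀ (b : F) (hb : b ≠ 0), wm b hb * wm b hb = -1 := by
    intro b hb
    refine ext_ent ?_ ?_ ?_ ?_ <;> simp [ent_mul, ent_neg, hb]
  refine ⟨![wm a ha, wm 1 one_ne_zero, up 1 * wm 1 one_ne_zero * (up 1)⁻¹, up 1 * wm a ha * (up 1)⁻¹], ?_,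
    a ^ 2 - 1, sub_ne_zero.2 ha1, ?_⟩
  · intro i
    fin_cases i
    · exact hw a ha
    · exact hw 1 one_ne_zero
    · exact conj_sq (hw 1 one_ne_zero)
    · exact conj_sq (hw a ha)
  · have h1 : wm a ha * wm 1 one_ne_zero = -dg a ha := by
      refine ext_ent ?_ ?_ ?_ ?_ <;> simp [ent_mul, ent_neg]
    have h2 : wm 1 one_ne_zero * wm a ha = -(dg a ha)⁻¹ := by
      rw [ent_inv]
      refine ext_ent ?_ ?_ ?_ ?_ <;> simp [ent_mul, ent_neg]
    have h3 : up (a ^ 2 - 1) = wm a ha * wm 1 one_ne_zero * (up 1 * wm 1 one_ne_zero * (up 1)⁻¹) *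
        (up 1 * wm a ha * (up 1)⁻¹) := by
      calc up (a ^ 2 - 1) = dg a ha * up 1 * (dg a ha)⁻¹ * (up 1)⁻¹ := by
            rw [eq_mul_inv_iff_mul_eq, eq_mul_inv_iff_mul_eq, up_mul, dg_up]
            congr 2
            ring
        _ = -dg a ha * (up 1 * -(dg a ha)⁻¹) * (up 1)⁻¹ := by
            simp only [mul_neg, neg_mul, neg_neg, mul_assoc]
        _ = wm a ha * wm 1 one_ne_zero * (up 1 * (wm 1 one_ne_zero * wm a ha)) * (up 1)⁻¹ := by rw [h1, h2]
        _ = _ := by group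
    rw [h3, map_mul, map_mul, map_mul]
    rfl

end eleven

end Cfsg.Agent.Omega.ML.Ex.LTwoMat
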