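import Cfsg.Agent.Omega.ML.Ex.Gen
import Cfsg.Agent.Omega.ML.Ex.FourX
import Cfsg.Agent.Omega.ML.Ex.Known
import Cfsg.Agent.Omega.ML.Ex.LTwoMat
import Cfsg.Agent.Omega.ML.RowLTwoOdd
import Cfsg.Agent.Omega.KFactsZS
import Cfsg.Agent.S0253
import Cfsg.Agent.S0255

/-!
# The K-list for EXACT subgroups: the row `L₂(q)`, `q` odd (helper786)

* `exists_central` : an involution `t ∈ K ∩ Z(T)`;
* `card_le_four_of` : `q` a square: an elementary abelian subgroup of `O₂(C_X(t))` has order at most 4;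
* `card_le_four` : the same for all `q ≠ 9` for elementary abelian groups containing `t`;
* `exists_mem` : in `InX H M K T A` with `K ≅ L₂(q)`: `|A| = 4`, and `A ∩ K` contains an involution;
* **`deadX`** : `DeadX` for `L₂(q)`, `q` odd, `q ≠ 9`, not of Lie type in characteristic 2.
-/

set_option autoImplicit false
set_option linter.unusedSectionVars false
set_option linter.unusedSimpArgs false

namespace Cfsg.Agent.Omega.ML.Ex.RowLTwoX

open Subgroup Cfsg Matrix Cfsg.Agent.GH.L2Aut Cfsg.Agent.Lib.SL2Mat Cfsg.Agent.Omega.ML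
  Cfsg.Agent.ClassTwoFusion.Quad
open Cfsg.Agent.MinSimple.VModule (o2_isPGroup o2_le le_o2 le_normalizer_o2)
open Cfsg.Agent.ZN (o2)

universe u v

/-- an involution of `S ∩ Z(T)` -/
theorem exists_central {X : Type*} [Group X] [Finite X] {S T A : Subgroup X} (h : ASx S T A)
    (hev : 2 ∣ Nat.card S) : ∃ t : X, t ∈ T ∧ t ∈ S ∧ (∀ x ∈ T, x * t = t * x) ∧ t * t = 1 ∧ t ≠ 1 := by
  have hS := h.norm
  have : Fact (Nat.Prime 2) := ⟨Nat.prime_two⟩
  have hTS : (T ⊓ S : Subgroup X) ≠ ⊥ := by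
    intro h0
    have h1 := SignalizersComponents.PCompCore.relIndex_dvd_index_of_normal_right T S
    rw [← inf_relIndex_right, h0, relIndex_bot_left] at h1
    exact h.syl (hev.trans h1)
  have hn : ((T ⊓ S).subgroupOf T).Normal := by
    rw [inf_subgroupOf_left]
    exact hS.subgroupOf T
  have hne : (T ⊓ S).subgroupOf T ≠ ⊥ := by
    intro h0
    apply hTS
    rw [← map_subgroupOf_eq_of_le (inf_le_left : T ⊓ S ≤ T), h0, Subgroup.map_bot]
  obtain ⟨t', ht'⟩ : ∃ t' : X, t' ∈ T ⊓ S ∧ (∀ x ∈ T, x * t' = t' * x) ∧ t' ≠ 1 := by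
    obtain ⟨v, hv1, hv2, hv3⟩ := GTwoFour.Tools.exists_mem_center_of_normal h.two _ hne
    refine ⟨v, hv1, fun x hx => ?_, fun h0 => hv3 (Subtype.ext h0)⟩
    exact congrArg Subtype.val (mem_center_iff.1 hv2 ⟨x, hx⟩)
  obtain ⟨ht1, ht2, ht3⟩ := ht'
  obtain ⟨k, hk⟩ := h.two ⟨t', ht1.1⟩
  have hk' : t' ^ 2 ^ k = 1 := congrArg Subtype.val hk
  have hord : 2 ∣ orderOf t' := by
    obtain ⟨j, -, hj⟩ := (Nat.dvd_prime_pow Nat.prime_two).1 (orderOf_dvd_of_pow_eq_one hk')
    rcases Nat.eq_zero_or_pos j with rfl | hj0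
    · rw [pow_zero, orderOf_eq_one_iff] at hj
      exact absurd hj ht3
    · rw [hj]; exact dvd_pow_self 2 hj0.ne'
  obtain ⟨m, hm⟩ := hord
  have hpos : 0 < orderOf t' := orderOf_pos t'
  refine ⟨t' ^ m, pow_mem ht1.1 m, pow_mem ht1.2 m, fun x hx => ?_, ?_, ?_⟩
  · exact (show Commute x t' from ht2 x hx).pow_right m
  · rw [← pow_add, ← two_mul, ← hm, pow_orderOf_eq_one]
  · intro h0
    have := Nat.le_of_dvd (by omega) (orderOf_dvd_of_pow_eq_one h0)
    omega

theorem centralizer_ne_top {X : Type*} [Group X] {S : Subgroup X} (hcen : centralizer (S : Set X) = ⊥) {t : X}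
    (ht1 : t ≠ 1) : centralizer ({t} : Set X) ≠ ⊤ := by
  intro h0
  apply ht1
  have h1 : t ∈ centralizer (S : Set X) := by
    rw [mem_centralizer_iff]
    intro y _
    have : y ∈ centralizer ({t} : Set X) := by rw [h0]; exact mem_top y
    exact mem_centralizer_singleton_iff.1 this
  rwa [hcen, mem_bot] at h1

/-- **`S ≅ PSL₂(F)`, `-1` a square, `r` an odd divisor of `|F| - 1`** -/
theorem card_le_four_of {X : Type*} [Group X] [Finite X] {S A : Subgroup X} (hS : S.Normal)
    (hcen : centralizer (S : Set X) = ⊥) {F : Type*} [Field F] [Finite F] (R : GH.L2Aut.Rep F S) {i : Fˣ}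
    (hi : (i : F) * i = -1) {z : Fˣ} {r : ℕ} (hr : Odd r) (hzr : z ^ r = 1) (hz : z ≠ 1) {t : X} (htS : t ∈ S)
    (htt : t * t = 1) (ht1' : t ≠ 1) (hAR : A ≤ o2 (centralizer ({t} : Set X))) (hel : ∀ a ∈ A, a * a = 1) :
    Nat.card A ≤ 4 := by
  obtain ⟨g, hg⟩ := R.inv_conj (RowLTwoOdd.pi_dg_sq R hi) (RowLTwoOdd.pi_dg_ne R hi) (t := (⟨t, htS⟩ : S))
    (Subtype.ext htt) (fun h0 => ht1' (congrArg Subtype.val h0))
  let R' : GH.L2Aut.Rep F S := RowLTwoOdd.conjRep R g
  have hRt : R'.π (RowLTwoOdd.dg i) = (⟨t, htS⟩ : S) := by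
    change g * R.π (RowLTwoOdd.dg i) * g⁻¹ = _
    exact hg
  set Q := o2 (centralizer ({t} : Set X)) with hQ
  set c : S := R'.π (RowLTwoOdd.dg z) with hc
  have hct : (c : X) * t = t * c := by
    have h1 := RowLTwoOdd.pi_dg_comm R' z i
    rw [hRt] at h1
    exact congrArg Subtype.val h1
  have hcR : (c : X) ∈ centralizer ({t} : Set X) := mem_centralizer_singleton_iff.2 hct
  have hcr : c ^ r = 1 := by rw [hc, ← map_pow, RowLTwoOdd.dg_pow, hzr, RowLTwoOdd.dg_one, map_one]
  -- `A` centralises `c`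
  have hAc : ∀ a ∈ A, a * (c : X) * a⁻¹ = c := by
    intro a ha
    have haQ : a ∈ Q := hAR ha
    have haR : a ∈ centralizer ({t} : Set X) := o2_le _ haQ
    let k : S := ⟨a * (c : X) * a⁻¹, hS.conj_mem _ c.2 a⟩
    have hkt : k * R'.π (RowLTwoOdd.dg i) = R'.π (RowLTwoOdd.dg i) * k := by
      rw [hRt]
      apply Subtype.ext
      change a * (c : X) * a⁻¹ * t = t * (a * (c : X) * a⁻¹)
      have h1 : a * t = t * a := mem_centralizer_singleton_iff.1 haR
      have h2 : a⁻¹ * t = t * a⁻¹ := by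
        rw [inv_mul_eq_iff_eq_mul, ← mul_assoc, h1, mul_inv_cancel_right]
      calc a * (c : X) * a⁻¹ * t = a * (c : X) * (a⁻¹ * t) := by group
        _ = a * ((c : X) * t) * a⁻¹ := by rw [h2]; group
        _ = a * t * (c : X) * a⁻¹ := by rw [hct]; group
        _ = t * (a * (c : X) * a⁻¹) := by rw [h1]; group
    have hkr : k ^ r = 1 := by
      apply Subtype.ext
      change (a * (c : X) * a⁻¹) ^ r = 1
      rw [conj_pow]
      have : (c : X) ^ r = 1 := congrArg Subtype.val hcr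
      rw [this, mul_one, mul_inv_cancel]
    obtain ⟨μ, hμ⟩ := RowLTwoOdd.exists_dg R' hi hkt hr hkr
    have hkc : Commute k c := by
      rw [hμ]
      exact RowLTwoOdd.pi_dg_comm R' μ z
    have h1 : (k * c⁻¹) ^ r = 1 := by
      rw [(hkc.inv_right).mul_pow, hkr, inv_pow, hcr, inv_one, one_mul]
    have h2 : ((k * c⁻¹ : S) : X) ∈ Q := by
      have h3 : ((k * c⁻¹ : S) : X) = a * ((c : X) * a⁻¹ * (c : X)⁻¹) := by
        change a * (c : X) * a⁻¹ * (c : X)⁻¹ = _
        group
      rw [h3]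
      exact mul_mem haQ ((mem_normalizer_iff.1 (le_normalizer_o2 _ hcR) _).1 (inv_mem haQ))
    obtain ⟨m, hm⟩ := o2_isPGroup (centralizer ({t} : Set X)) ⟨_, h2⟩
    have hm' : ((k * c⁻¹ : S) : X) ^ 2 ^ m = 1 := congrArg Subtype.val hm
    have h4 : ((k * c⁻¹ : S) : X) ^ r = 1 := congrArg Subtype.val h1
    have h5 : orderOf ((k * c⁻¹ : S) : X) ∣ Nat.gcd (2 ^ m) r :=
      Nat.dvd_gcd (orderOf_dvd_of_pow_eq_one hm') (orderOf_dvd_of_pow_eq_one h4)
    have h6 : Nat.gcd (2 ^ m) r = 1 := by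
      apply Nat.Coprime.pow_left
      rw [Nat.coprime_two_left]
      exact hr
    rw [h6, Nat.dvd_one, orderOf_eq_one_iff] at h5
    have h7 : a * (c : X) * a⁻¹ * (c : X)⁻¹ = 1 := h5
    rwa [mul_inv_eq_one] at h7
  -- the action on `S`
  let f : X →* MulAut S := MulAut.conjNormal
  have hfi : Function.Injective f := by
    rw [injective_iff_map_eq_one]
    intro x hx
    have h2 : x ∈ centralizer (S : Set X) := by
      rw [mem_centralizer_iff]
      intro y hy
      have h3 := congrArg (fun φ : MulAut S => ((φ ⟨y, hy⟩ : S) : X)) hx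
      have h4 : x * y * x⁻¹ = y := h3
      calc y * x = (x * y * x⁻¹) * x := by rw [h4]
        _ = x * y := by group
    rw [hcen, mem_bot] at h2
    exact h2
  rw [← card_map_of_injective hfi]
  refine RowLTwoOdd.card_le_four R' hr hzr hz (A.map f) ?_ ?_
  · rintro _ ⟨x, hx, rfl⟩
    rw [← map_mul, hel x hx, map_one]
  · rintro _ ⟨x, hx, rfl⟩
    exact Subtype.ext (hAc x hx)


/-- **`S ≅ L₂(q)`, `q` odd, `q ≠ 9`** -/
theorem card_le_four {X : Type*} [Group X] [Finite X] {S A : Subgroup X} (hS : S.Normal)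
    (hcen : centralizer (S : Set X) = ⊥) {F : Type*} [Field F] [Fintype F] (hodd : Odd (Fintype.card F))
    (h3 : 3 < Fintype.card F) (h9 : Fintype.card F ≠ 9) (e : S ≃* Matrix.ProjectiveSpecialLinearGroup (Fin 2) F)
    {t : X} (htS : t ∈ S) (htt : t * t = 1) (ht1 : t ≠ 1) (hA : A ≤ o2 (centralizer ({t} : Set X)))
    (hel : ∀ a ∈ A, a * a = 1) : Nat.card A ≤ 4 := by
  have h2 : (2 : F) ≠ 0 := two_ne_zero_of_odd hodd
  by_cases hF : ∀ σ : F ≃+* F, σ * σ = 1 → σ = 1
  · exact (TwoF.RkPSL.rkAut_two_odd h2 hF).of_normal e hcen A hel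
  · push Not at hF
    obtain ⟨σ, hσ, hσ1⟩ := hF
    have hs : ∀ x, σ (σ x) = x := fun x => DFunLike.congr_fun hσ x
    have hcard := HKS.PGammaInv.card_sq h2 hs hσ1
    set q := Nat.card (HKS.PGammaInv.fixF σ) with hq
    have hqodd : Odd q := by
      by_contra hcon
      rw [Nat.not_odd_iff_even] at hcon
      rw [hcard] at hodd
      exact (Nat.not_even_iff_odd.2 hodd) (Nat.even_pow.2 ⟨hcon, two_ne_zero⟩)
    have hq1 : 1 < q := by
      by_contra hcon
      have h5 : q ≤ 1 := by omega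
      have h6 : q ^ 2 ≤ 1 := by
        calc q ^ 2 ≤ 1 ^ 2 := Nat.pow_le_pow_left h5 2
          _ = 1 := one_pow 2
      omega
    have hq3 : q ≠ 3 := by
      intro h0
      rw [h0] at hcard
      exact h9 hcard
    obtain ⟨r, hr, hro, hrd⟩ := RowLTwoOdd.exists_odd_prime hq1 hq3 hqodd
    have hu : Nat.card Fˣ = Fintype.card F - 1 := by
      rw [Nat.card_units, Nat.card_eq_fintype_card]
    have : Fact r.Prime := ⟨hr⟩
    obtain ⟨z, hz⟩ := exists_prime_orderOf_dvd_card' (G := Fˣ) r (by rw [hu, hcard]; exact hrd)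
    have hz1 : z ≠ 1 := by
      rintro rfl
      rw [orderOf_one] at hz
      exact hr.one_lt.ne hz
    have hzr : z ^ r = 1 := by rw [← hz, pow_orderOf_eq_one]
    obtain ⟨i, hi⟩ : ∃ i : Fˣ, (i : F) * i = -1 := by
      have h4 : Fintype.card F % 4 ≠ 3 := by
        obtain ⟨m, hm⟩ := hqodd
        rw [hcard, hm]
        have : (2 * m + 1) ^ 2 = 4 * (m * m + m) + 1 := by ring
        omega
      obtain ⟨i, hi⟩ := FiniteField.isSquare_neg_one_iff.2 h4
      have hi0 : i ≠ 0 := by
        rintro rfl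
        rw [mul_zero, neg_eq_zero] at hi
        exact one_ne_zero hi
      exact ⟨Units.mk0 i hi0, hi.symm⟩
    exact card_le_four_of hS hcen (GH.L2Aut.Rep.ofEquiv h2 e) hi hro hzr hz1 htS htt ht1 hA hel

section module

variable {H : Type u} [Group H] {M : Type v} [Group M] [MulDistribMulAction H M] {K T A : Subgroup H}

/-- **`|A| = 4` and `A ∩ K ≠ 1`.** -/
theorem exists_mem [Finite H] (h : InX H M K T A) {F : Type*} [Field F] [Fintype F]
    (hodd : Odd (Fintype.card F)) (h3 : 3 < Fintype.card F) (h9 : Fintype.card F ≠ 9)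
    (e : K ≃* Matrix.ProjectiveSpecialLinearGroup (Fin 2) F) :
    Nat.card A = 4 ∧ ∃ t : K, (t : H) ∈ A ∧ t ≠ 1 := by
  have h2 : (2 : F) ≠ 0 := two_ne_zero_of_odd hodd
  let R := GH.L2Aut.Rep.ofEquiv h2 e
  have hev : 2 ∣ Nat.card K := by
    have hw : wm (1 : F) one_ne_zero * wm 1 one_ne_zero = -1 := by
      refine ext_ent ?_ ?_ ?_ ?_ <;> simp [ent_mul, LTwoMat.ent_neg]
    have h5 : R.π (wm 1 one_ne_zero) * R.π (wm 1 one_ne_zero) = 1 := by
      rw [← map_mul, hw, R.ker]
      exact Or.inr rfl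
    have h6 : R.π (wm 1 one_ne_zero) ≠ 1 := by
      intro h0
      rcases (R.ker _).1 h0 with h1 | h1
      · rw [h1, one_mul] at hw
        exact R.neg_one_ne_one hw.symm
      · rw [h1, neg_mul_neg, one_mul] at hw
        exact R.neg_one_ne_one hw.symm
    have h7 : orderOf (R.π (wm 1 one_ne_zero)) = 2 := orderOf_eq_prime (by rw [pow_two]; exact h5) h6
    rw [← h7]
    exact orderOf_dvd_natCard _
  obtain ⟨t, htT, htK, htc, htt, ht1⟩ := exists_central h.asx hev
  have hTR : T ≤ centralizer ({t} : Set H) := fun x hx => mem_centralizer_singleton_iff.2 (htc x hx)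
  have hRne := centralizer_ne_top h.cen ht1
  have hAR := h.low _ hTR hRne
  -- `t` is in `O₂(C(t))`
  have htR : t ∈ o2 (centralizer ({t} : Set H)) := by
    have h5 : zpowers t ≤ o2 (centralizer ({t} : Set H)) := by
      refine le_o2 ?_ ?_ ?_
      · rw [zpowers_le]
        exact mem_centralizer_singleton_iff.2 rfl
      · exact h.two.to_le (by rwa [zpowers_le])
      · intro x hx
        have h6 : x * t = t * x := mem_centralizer_singleton_iff.1 hx
        rw [mem_normalizer_iff]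
        intro y
        have h7 : ∀ y ∈ zpowers t, x * y * x⁻¹ = y := by
          rintro _ ⟨k, rfl⟩
          have : Commute x (t ^ k) := (show Commute x t from h6).zpow_right k
          rw [mul_inv_eq_iff_eq_mul]
          exact this
        constructor
        · intro hy
          rw [h7 y hy]
          exact hy
        · intro hy
          have h8 : x⁻¹ * (x * y * x⁻¹) * x = x * y * x⁻¹ := by
            have h9 := h7 _ hy
            calc x⁻¹ * (x * y * x⁻¹) * x = x⁻¹ * (x * (x * y * x⁻¹) * x⁻¹) * x := by rw [h9]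
              _ = x * y * x⁻¹ := by group
          have h9 : y = x * y * x⁻¹ := by
            rw [← h8]
            group
          rw [h9]
          exact hy
    exact h5 (mem_zpowers t)
  have hAt : ∀ a ∈ A, a * t = t * a := fun a ha => htc a (h.AT ha)
  -- `B = A ⟨t⟩`
  have hB : A ⊔ zpowers t ≤ o2 (centralizer ({t} : Set H)) := sup_le hAR (by rwa [zpowers_le])
  have htn : ∀ k : ℤ, t ^ k * t ^ k = 1 := by
    intro k
    rw [← (Commute.refl t).mul_zpow, htt, _root_.one_zpow]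
  have hBel : ∀ b ∈ A ⊔ zpowers t, b * b = 1 := by
    intro b hb
    have hn : A ≤ normalizer (zpowers t : Set H) := by
      intro a ha
      have h5 : ∀ k : ℤ, a * t ^ k = t ^ k * a := fun k => ((show Commute a t from hAt a ha).zpow_right k).eq
      rw [mem_normalizer_iff]
      intro y
      constructor
      · rintro ⟨k, rfl⟩
        refine ⟨k, ?_⟩
        change t ^ k = a * t ^ k * a⁻¹
        rw [h5, mul_inv_cancel_right]
      · rintro ⟨k, hk⟩
        refine ⟨k, ?_⟩
        change t ^ k = y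
        have hk' : t ^ k = a * y * a⁻¹ := hk
        have h6 : a⁻¹ * t ^ k * a = t ^ k := by rw [mul_assoc, ← h5, inv_mul_cancel_left]
        rw [← h6, hk']
        group
    have hb' : b ∈ ((A ⊔ zpowers t : Subgroup H) : Set H) := hb
    rw [coe_mul_of_left_le_normalizer_right _ _ hn] at hb'
    obtain ⟨a, ha, z, ⟨k, rfl⟩, rfl⟩ := Set.mem_mul.1 hb'
    change a * t ^ k * (a * t ^ k) = 1
    have h5 : a * t ^ k = t ^ k * a := ((show Commute a t from hAt a ha).zpow_right k).eq
    calc a * t ^ k * (a * t ^ k) = a * (t ^ k * a) * t ^ k := by group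
      _ = (a * a) * (t ^ k * t ^ k) := by rw [← h5]; group
      _ = 1 := by rw [h.el a ha, htn, one_mul]
  have h5 := card_le_four h.norm h.cen hodd h3 h9 e htK htt ht1 hB hBel
  have h6 : A ≤ A ⊔ zpowers t := le_sup_left
  have h7 : Nat.card A ≤ Nat.card (A ⊔ zpowers t : Subgroup H) := card_le_of_le h6
  have h8 := h.four
  have h9' : Nat.card A = 4 := by omega
  refine ⟨h9', ⟨t, htK⟩, ?_, fun h0 => ht1 (congrArg Subtype.val h0)⟩
  have h10 : A = A ⊔ zpowers t := eq_of_le_of_card_ge h6 (by omega)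
  change t ∈ A
  rw [h10]
  exact le_sup_right (a := A) (mem_zpowers t)

variable {F : Type*} [Field F] [Fintype F]

local notation "SL2" => Matrix.SpecialLinearGroup (Fin 2) F

/-- all `π(w)`, `w² = -1`, are conjugate to `t ∈ A` -/
theorem exists_conj (R : GH.L2Aut.Rep F K) {t : K} (htt : t * t = 1) (ht : t ≠ 1) {w : SL2} (hw : w * w = -1) :
    ∃ g : H, ((R.π w : K) : H) = g * t * g⁻¹ := by
  have h1 : R.π w * R.π w = 1 := by
    rw [← map_mul, hw, R.ker]
    exact Or.inr rfl
  have h2 : R.π w ≠ 1 := by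
    intro h0
    rcases (R.ker _).1 h0 with h1 | h1
    · rw [h1, one_mul] at hw
      exact R.neg_one_ne_one hw.symm
    · rw [h1, neg_mul_neg, one_mul] at hw
      exact R.neg_one_ne_one hw.symm
  obtain ⟨g, hg⟩ := R.inv_conj htt ht h1 h2
  refine ⟨g, ?_⟩
  rw [← hg]
  rfl

/-- **The situation `InX` does not occur.** -/
theorem false_of [Finite H] [Finite M] (h : InX H M K T A) (hodd : Odd (Fintype.card F)) (h11 : 11 ≤ Fintype.card F)
    (e : K ≃* Matrix.ProjectiveSpecialLinearGroup (Fin 2) F) : False := by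
  have h2 : (2 : F) ≠ 0 := two_ne_zero_of_odd hodd
  let R := GH.L2Aut.Rep.ofEquiv h2 e
  obtain ⟨h4, t, htA, ht1⟩ := exists_mem h hodd (by omega) (by omega) e
  have htt : t * t = 1 := Subtype.ext (h.el _ htA)
  by_cases h13 : 13 ≤ Fintype.card F
  · obtain ⟨w, v, hw, hv, n, hn, hn7, hnd⟩ := LTwoMat.exists_order R hodd h13
    obtain ⟨x, hx⟩ := exists_conj R htt ht1 hw
    obtain ⟨y, hy⟩ := exists_conj R htt ht1 hv
    have h5 : orderOf (R.π w * R.π v) = orderOf ((x * t * x⁻¹) * (y * t * y⁻¹)) := by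
      rw [← hx, ← hy, ← Subgroup.orderOf_coe]
      rfl
    rcases h.order_mul h4 htA htA x y (h5 ▸ hnd) hn with h6 | h6 | h6 <;> omega
  · -- `q = 11`
    have hq : Fintype.card F = 11 := by
      obtain ⟨m, hm⟩ := hodd
      omega
    obtain ⟨w, hw, c, hc, hu⟩ := LTwoMat.exists_four R (by omega)
    have h5 : ∀ i, (cv M ({((R.π (w i) : K) : H)} : Set H)).index ≤ 4 := by
      intro i
      obtain ⟨x, hx⟩ := exists_conj R htt ht1 (hw i)
      rw [hx, cv_conj_index]
      exact h.index_le_four h4 htA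
    set u : H := ((R.π (up c) : K) : H) with hu'
    have h6 := Gen.index_le_pow (M := M) (fun i => ((R.π (w i) : K) : H)) h5 (J := zpowers u) (by
      rw [zpowers_le, hu', hu]
      have h7 : ∀ i, ((R.π (w i) : K) : H) ∈ closure (Set.range fun i => ((R.π (w i) : K) : H)) :=
        fun i => subset_closure ⟨i, rfl⟩
      exact mul_mem (mul_mem (mul_mem (h7 0) (h7 1)) (h7 2)) (h7 3))
    have hp : Fact (Nat.Prime 11) := ⟨by norm_num⟩
    have hchar : ((11 : ℕ) : F) = 0 := by
      rw [← hq]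
      exact Nat.cast_card_eq_zero F
    have hup : u ^ 11 = 1 := by
      have : (R.π (up c)) ^ 11 = 1 := by
        rw [← map_pow, LTwoMat.up_pow, hchar, zero_mul, up_zero, map_one]
      rw [hu', ← Subgroup.coe_pow, this, Subgroup.coe_one]
    have hu1 : u ≠ 1 := by
      intro h0
      have h7 : R.π (up c) = 1 := Subtype.ext h0
      rcases (R.ker _).1 h7 with h8 | h8
      · exact hc (up_inj (h8.trans up_zero.symm))
      · have h9 := congrArg (fun x => ent x 0 0) h8
        have h10 : (1 : F) = -1 := h9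
        exact h2 (by linear_combination h10)
    have h7 := Gen.pow_le_index h (u := u) (r := 11) (k := 10) (by norm_num) (by decide) hup hu1 InvFrob.ord_11
    have h8 : (cv M ({u} : Set H)).index ≤ (cv M ((zpowers u : Subgroup H) : Set H)).index :=
      Nat.le_of_dvd (Nat.pos_of_ne_zero Subgroup.index_ne_zero_of_finite)
        (Subgroup.index_dvd_of_le (cv_anti (by simp)))
    have h9 := (h7.trans h8).trans h6
    norm_num at h9

end module

/-- `PSL₂(7) = PSL₃(2)` -/
theorem charTwo_seven {K : Type u} [Group K] {F : Type} [Field F] [Fintype F] (hF : Fintype.card F = 7)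
    (e : K ≃* Matrix.ProjectiveSpecialLinearGroup (Fin 2) F) : IsLieTypeChar 2 K := by
  obtain ⟨f⟩ := S0255.result (K := ZMod 2) hF (by simp)
  exact Or.inl ⟨ZMod 2, inferInstance, inferInstance, inferInstance, 3, by norm_num, by norm_num, ⟨e.trans f⟩⟩

/-- **The row `L₂(q)`, `q` odd.** -/
theorem deadX : DeadX.{u, v} fun S _ => ¬ IsLieTypeChar 2 S ∧ ∃ (F : Type) (_ : Field F) (_ : Fintype F),
    Odd (Fintype.card F) ∧ 3 < Fintype.card F ∧ Fintype.card F ≠ 9 ∧
      Nonempty (S ≃* Matrix.ProjectiveSpecialLinearGroup (Fin 2) F) := by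
  rintro H _ _ M _ _ _ K T A h ⟨hn, F, _, _, hodd, h3, h9, ⟨e⟩⟩
  have h5 : Fintype.card F ≠ 5 := by
    intro h0
    obtain ⟨f⟩ := S0253.result h0
    exact hn (KFacts.charTwo_alt_five (e.trans f))
  have h7 : Fintype.card F ≠ 7 := fun h0 => hn (charTwo_seven h0 e)
  refine false_of h hodd ?_ e
  obtain ⟨m, hm⟩ := hodd
  omega

end Cfsg.Agent.Omega.ML.Ex.RowLTwoX
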