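import Cfsg.Agent.Omega.ML.Ex.RkX
import Cfsg.Agent.SectRankFour.AutM11
import Cfsg.Agent.Omega.TwoF.RowM11

/-!
# Exact and low configurations: the row M11 (helper333): `A = 1`

`M11` is sharply 4-transitive on 11 points; a 2-subgroup which is normal in the stabiliser (of odd index 11) of a point is
trivial: it is transitive on the ten other points or trivial.
-/

set_option autoImplicit false

namespace Cfsg.Agent.Omega.ML.Ex.RowM11X

open Subgroup Cfsg Cfsg.Agent.ZN Cfsg.Agent.Omega.TwoF Cfsg.Agent.Omega.ML.Rows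
open Cfsg.Agent.SporadicA.SharpFour

universe u v

theorem card_le_one {G : Type*} [Group G] [Finite G] {α : Type*} [Fintype α] [DecidableEq α] [MulAction G α]
    (h : Sharp4 G α) (h11 : Fintype.card α = 11) (ω : α) (Q : Subgroup G) (hQ : Q ≤ MulAction.stabilizer G ω)
    (hQ2 : IsPGroup 2 Q) (hN : MulAction.stabilizer G ω ≤ normalizer (Q : Set G)) : Nat.card Q ≤ 1 := by
  by_contra hcon
  -- an element moving a point
  obtain ⟨d, hd, hd1⟩ : ∃ d ∈ Q, d ≠ 1 := by
    have h1 : Q ≠ ⊥ := by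
      rintro rfl
      exact hcon (by rw [card_bot])
    obtain ⟨⟨d, hd⟩, hd1⟩ := Q.ne_bot_iff_exists_ne_one.1 h1
    exact ⟨d, hd, fun h2 => hd1 (Subtype.ext h2)⟩
  obtain ⟨a, ha⟩ : ∃ a : α, d • a ≠ a := by
    by_contra hc
    push Not at hc
    have hcard : (4 : ℕ) ≤ (Finset.univ : Finset α).card := by rw [Finset.card_univ, h11]; norm_num
    exact hd1 (Cfsg.Agent.SectRankFour.AutM11.eq_one_of_card h d Finset.univ hcard fun x _ => hc x)
  set b := d • a with hb
  have hdω : d • ω = ω := hQ hd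
  have haω : a ≠ ω := by
    rintro rfl
    exact ha hdω
  have hbω : b ≠ ω := by
    intro h1
    apply haω
    have h2 : d • a = d • ω := by rw [← hb, h1, hdω]
    exact smul_left_cancel d h2
  -- the orbit of `a` under `Q` contains every `c ≠ ω`
  have horb : ∀ c : α, c ≠ ω → c ∈ MulAction.orbit Q a := by
    intro c hc
    by_cases hca : c = a
    · rw [hca]; exact MulAction.mem_orbit_self a
    · -- a fourth point
      have h4 : ∃ e : α, e ≠ ω ∧ e ≠ a ∧ e ≠ b := by
        have h5 : ({ω, a, b} : Finset α).card < (Finset.univ : Finset α).card := by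
          rw [Finset.card_univ, h11]
          exact lt_of_le_of_lt (Finset.card_le_three) (by norm_num)
        obtain ⟨e, -, he⟩ := Finset.exists_mem_notMem_of_card_lt_card h5
        simp only [Finset.mem_insert, Finset.mem_singleton, not_or] at he
        exact ⟨e, he.1, he.2.1, he.2.2⟩
      have h4' : ∃ e : α, e ≠ ω ∧ e ≠ a ∧ e ≠ c := by
        have h5 : ({ω, a, c} : Finset α).card < (Finset.univ : Finset α).card := by
          rw [Finset.card_univ, h11]
          exact lt_of_le_of_lt (Finset.card_le_three) (by norm_num)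
        obtain ⟨e, -, he⟩ := Finset.exists_mem_notMem_of_card_lt_card h5
        simp only [Finset.mem_insert, Finset.mem_singleton, not_or] at he
        exact ⟨e, he.1, he.2.1, he.2.2⟩
      obtain ⟨e, he1, he2, he3⟩ := h4
      obtain ⟨e', he1', he2', he3'⟩ := h4'
      obtain ⟨r, hr1, hr2, hr3, -⟩ := h.exists_map ω a b e ω a c e'
        (nodup4_iff.2 ⟨haω.symm, hbω.symm, he1.symm, ha.symm, he2.symm, he3.symm⟩)
        (nodup4_iff.2 ⟨haω.symm, hc.symm, he1'.symm, Ne.symm hca, he2'.symm, he3'.symm⟩)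
      have h6 : r * d * r⁻¹ ∈ Q := (mem_normalizer_iff.1 (hN (show r ∈ MulAction.stabilizer G ω from hr1)) d).1 hd
      refine ⟨⟨r * d * r⁻¹, h6⟩, ?_⟩
      show (r * d * r⁻¹) • a = c
      have h7 : r⁻¹ • a = a := inv_smul_eq_iff.2 hr2.symm
      rw [mul_smul, mul_smul, h7, ← hb, hr3]
  have hnot : ω ∉ MulAction.orbit Q a := by
    rintro ⟨q, hq⟩
    apply haω
    have h1 : (q : G) • ω = ω := hQ q.2
    have h2 : (q : G) • a = (q : G) • ω := by rw [h1]; exact hq
    exact smul_left_cancel _ h2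
  have hset : MulAction.orbit Q a = {ω}ᶜ := by
    ext c
    rw [Set.mem_compl_singleton_iff]
    exact ⟨fun h1 h2 => hnot (h2 ▸ h1), horb c⟩
  have hcard : Nat.card (MulAction.orbit Q a) = 10 := by
    rw [hset, Nat.card_coe_set_eq, Set.ncard_compl, Set.ncard_singleton, Nat.card_eq_fintype_card, h11]
  have h1 : 10 ∣ Nat.card Q := by
    rw [← hcard]
    exact Nat.card_congr (MulAction.orbitEquivQuotientStabilizer Q a) ▸
      (MulAction.stabilizer Q a).index_dvd_card
  obtain ⟨n, hn⟩ := IsPGroup.iff_card.1 hQ2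
  rw [hn] at h1
  have h3 : 5 ∣ 2 ^ n := (by norm_num : (5 : ℕ) ∣ 10).trans h1
  have h4 := Nat.Prime.dvd_of_dvd_pow Nat.prime_five h3
  omega

/-- **The row `M11`**: `A = 1`. -/
theorem m11 : DeadGx.{u} 1 (fun S _ => Spor.IsoM11 S) := by
  intro X _ _ S T A h hS
  have hS' := hS
  obtain ⟨e⟩ := hS
  have hM : Cfsg.IsM11 S := by
    have hs0 : IsSimpleGroup Spor.M11 := Cfsg.Agent.Omega.TwoF.isM11.1
    exact ⟨e.isSimpleGroup, (Nat.card_congr e.toEquiv).trans Cfsg.Agent.Omega.TwoF.isM11.2⟩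
  have htop : S = ⊤ := h.top_of_inn fun α => Cfsg.Agent.SectRankFour.AutM11.exists_conj hM α
  obtain ⟨α, i1, i2, i3, h11, hsh⟩ := Cfsg.Agent.SectRankFour.AutM11.exists_sharp4 hM
  obtain ⟨ω⟩ : Nonempty α := Fintype.card_pos_iff.1 (by rw [h11]; norm_num)
  have htr : ∀ c : α, c ∈ MulAction.orbit S ω := by
    intro c
    have hex : ∀ x : α, ∃ s t u : α, [x, s, t, u].Nodup := by
      intro x
      have h5 : (4 : ℕ) ≤ (Finset.univ : Finset α).card := by rw [Finset.card_univ, h11]; norm_num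
      obtain ⟨s, hs1, hs2, hs3⟩ := Finset.exists_subsuperset_card_eq (s := {x}) (t := (Finset.univ : Finset α)) (n := 4)
        (Finset.subset_univ _) (by simp) h5
      have hx : x ∈ s := hs1 (Finset.mem_singleton_self x)
      have h6 : (s.erase x).card = 3 := by rw [Finset.card_erase_of_mem hx, hs3]
      obtain ⟨p, q, r, hpq, hpr, hqr, hs⟩ := Finset.card_eq_three.1 h6
      have hp : p ∈ s.erase x := by rw [hs]; simp
      have hq : q ∈ s.erase x := by rw [hs]; simp
      have hr : r ∈ s.erase x := by rw [hs]; simp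
      exact ⟨p, q, r, nodup4_iff.2 ⟨(Finset.ne_of_mem_erase hp).symm, (Finset.ne_of_mem_erase hq).symm,
        (Finset.ne_of_mem_erase hr).symm, hpq, hpr, hqr⟩⟩
    obtain ⟨s, t, u, h1⟩ := hex ω
    obtain ⟨s', t', u', h1'⟩ := hex c
    obtain ⟨g, hg, -⟩ := hsh.exists_map ω s t u c s' t' u' h1 h1'
    exact ⟨g, hg⟩
  have hidx : (MulAction.stabilizer S ω).index = 11 := by
    have h1 : MulAction.orbit S ω = Set.univ := Set.eq_univ_of_forall htr
    have h2 : Nat.card (MulAction.orbit S ω) = 11 := by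
      rw [h1, Nat.card_coe_set_eq, Set.ncard_univ, Nat.card_eq_fintype_card, h11]
    rw [← h2]
    exact (Nat.card_congr (MulAction.orbitEquivQuotientStabilizer S ω)).symm
  refine h.card_le_of_odd_index htop (R := MulAction.stabilizer S ω) (by rw [hidx]; norm_num) ?_
    fun Q hQ hQ2 hN => card_le_one hsh h11 ω Q hQ hQ2 hN
  intro h1
  rw [h1, index_top] at hidx
  norm_num at hidx

/-- **The row is dead.** -/
theorem m11_dead : DeadX.{u, v} (fun S _ => Spor.IsoM11 S) := m11.deadX (by norm_num)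

end Cfsg.Agent.Omega.ML.Ex.RowM11X
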