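import Cfsg.Agent.Omega.ML.Ex.RkX
import Cfsg.Agent.Omega.ML.Ex.TIE
import Cfsg.Agent.Omega.ML.RowM12
import Cfsg.Agent.Omega.ML.InvRow

/-!
# Exact and low configurations: the row M12 (helper226)

`|A| ≤ 16` and `|M : C_M(x)| ≥ 16` for all involutions `x` of `K`, so `|A| = 16`, `C_M(x) = C_M(A)` for `x ∈ (A ∩ K)#`,
`E := A ∩ K` is of order 8 and normal in `C_K(x)` for all `x ∈ E#`.  There is no such `E` : no involution of `E` is in
2A (`C(2A) = 2 × S_5`), so `|C_K(x)| = 192` and the orbits of `N_K(E)` on the 7 elements of `E#` have the same length,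
so `N_K(E) = C_K(E)` contains a Sylow 2-subgroup, which has a centre of order 2.
-/

set_option autoImplicit false

namespace Cfsg.Agent.Omega.ML.Ex.RowM12X

open Subgroup Cfsg Cfsg.Agent.Omega.ML.Rows Cfsg.Agent.Omega.ML.InvChain Cfsg.Agent.Omega.ML.InvTool
open Cfsg.Agent.Omega.TwoF Cfsg.Agent.CoThreeStd Cfsg.Agent.CoThreeStd.MTwelve Cfsg.Agent.CoThreeStd.InvTwo
open Cfsg.Agent.ClassTwoFusion.Quad Cfsg.Agent.Omega.ML.Ex.TIE

universe u v

/-! ### The group theory of `M12` -/

section group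

/-- the 2-rank of `M12` is at most 3 -/
theorem card_le_eight (B : Subgroup Spor.M12) (hB : ∀ b ∈ B, b * b = 1) : Nat.card B ≤ 8 := by
  have hp : Fact (Nat.Prime 2) := ⟨Nat.prime_two⟩
  have hB2 : IsPGroup 2 B := fun b => ⟨1, by rw [pow_one, pow_two]; exact Subtype.ext (hB b b.2)⟩
  obtain ⟨P, hP⟩ := hB2.exists_le_sylow
  obtain ⟨e⟩ := Cfsg.Agent.MTwelveType.SylowModel.exists_equiv P
  have h1 : Nat.card B = Nat.card ((B.subgroupOf (P : Subgroup Spor.M12)).map e.symm.toMonoidHom) := by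
    rw [← Nat.card_congr ((B.subgroupOf _).equivMapOfInjective e.symm.toMonoidHom e.symm.injective).toEquiv]
    exact Nat.card_congr (subgroupOfEquivOfLe hP).symm.toEquiv
  rw [h1]
  apply TwoF.RowM12.card_le
  rintro _ ⟨b, hb, rfl⟩
  show e.symm b * e.symm b = 1
  rw [← map_mul, ← map_one e.symm]
  congr 1
  exact Subtype.ext (hB b hb)

theorem perm5 : ∀ σ : Equiv.Perm (Fin 5), σ * σ = 1 →
    (∀ τ : Equiv.Perm (Fin 5), (σ * (τ * σ * τ⁻¹)) * (σ * (τ * σ * τ⁻¹)) = 1) → σ = 1 := by decide +kernel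

/-- a normal elementary abelian subgroup of `C(2A)` is `⟨x⟩` or `1` -/
theorem not_A {E : Subgroup Spor.M12} (hE : ∀ e ∈ E, e * e = 1) {x : Spor.M12} (hx : x ∈ E) (hA : InvTwo.IsA x)
    (hN : centralizer ({x} : Set Spor.M12) ≤ normalizer (E : Set Spor.M12)) {e : Spor.M12} (he : e ∈ E) :
    e = 1 ∨ e = x := by
  obtain ⟨c, rfl⟩ := hA
  have hcomm : ∀ a ∈ E, ∀ b ∈ E, a * b = b * a := by
    intro a ha b hb
    have h1 : ∀ z ∈ E, z⁻¹ = z := fun z hz => inv_eq_of_mul_eq_one_right (hE z hz)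
    calc a * b = (a * b)⁻¹ := (h1 _ (E.mul_mem ha hb)).symm
      _ = b⁻¹ * a⁻¹ := mul_inv_rev _ _
      _ = b * a := by rw [h1 _ ha, h1 _ hb]
  have h1 : (c * e * c⁻¹) * y = y * (c * e * c⁻¹) := by
    have h2 := hcomm e he _ hx
    calc (c * e * c⁻¹) * y = c * (e * (c⁻¹ * y * c)) * c⁻¹ := by group
      _ = c * ((c⁻¹ * y * c) * e) * c⁻¹ := by rw [h2]
      _ = y * (c * e * c⁻¹) := by group
  obtain ⟨σ, hσ⟩ := cent_y _ h1
  have hee : (c * e * c⁻¹) * (c * e * c⁻¹) = 1 := by
    calc (c * e * c⁻¹) * (c * e * c⁻¹) = c * (e * e) * c⁻¹ := by group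
      _ = 1 := by rw [hE e he]; group
  -- the conjugates
  have hconj : ∀ τ, (c * e * c⁻¹ * (w τ * (c * e * c⁻¹) * (w τ)⁻¹)) * (c * e * c⁻¹ * (w τ * (c * e * c⁻¹) * (w τ)⁻¹)) = 1 := by
    intro τ
    have h2 : c⁻¹ * w τ * c ∈ centralizer ({c⁻¹ * y * c} : Set Spor.M12) := by
      rw [mem_centralizer_singleton_iff]
      have h3 := y_comm τ
      calc (c⁻¹ * w τ * c) * (c⁻¹ * y * c) = c⁻¹ * (w τ * y) * c := by group
        _ = c⁻¹ * (y * w τ) * c := by rw [h3]
        _ = (c⁻¹ * y * c) * (c⁻¹ * w τ * c) := by group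
    have h3 := (mem_normalizer_iff.1 (hN h2) e).1 he
    have h4 := hE _ (E.mul_mem he h3)
    calc (c * e * c⁻¹ * (w τ * (c * e * c⁻¹) * (w τ)⁻¹)) * (c * e * c⁻¹ * (w τ * (c * e * c⁻¹) * (w τ)⁻¹))
        = c * ((e * ((c⁻¹ * w τ * c) * e * (c⁻¹ * w τ * c)⁻¹)) * (e * ((c⁻¹ * w τ * c) * e * (c⁻¹ * w τ * c)⁻¹))) * c⁻¹ := by
          group
      _ = 1 := by rw [h4]; group
  have hσ1 : σ = 1 := by
    refine perm5 σ ?_ fun τ => ?_
    · apply w_injective
      rw [map_mul, map_one]
      rcases hσ with h2 | h2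
      · rw [← h2, hee]
      · have h3 := hee
        rw [h2] at h3
        calc w σ * w σ = y * y * w σ * w σ := by rw [y_sq, one_mul]
          _ = y * (y * w σ) * w σ := by group
          _ = y * (w σ * y) * w σ := by rw [y_comm]
          _ = (y * w σ) * (y * w σ) := by group
          _ = 1 := h3
    · apply w_injective
      rw [map_mul, map_one, map_mul, map_mul, map_mul, map_inv]
      rcases hσ with h2 | h2
      · have h3 := hconj τ
        rwa [h2] at h3
      · have h3 := hconj τ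
        rw [h2] at h3
        have h4 : y * w σ * (w τ * (y * w σ) * (w τ)⁻¹) = w σ * (w τ * w σ * (w τ)⁻¹) := by
          calc y * w σ * (w τ * (y * w σ) * (w τ)⁻¹) = (y * w σ) * ((w τ * y) * w σ * (w τ)⁻¹) := by group
            _ = (w σ * y) * ((y * w τ) * w σ * (w τ)⁻¹) := by rw [← y_comm τ, y_comm σ]
            _ = w σ * (y * y) * (w τ * w σ * (w τ)⁻¹) := by group
            _ = _ := by rw [y_sq, mul_one]
        rwa [h4] at h3
  rw [hσ1, map_one, mul_one] at hσ
  rcases hσ with h2 | h2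
  · left
    calc e = c⁻¹ * (c * e * c⁻¹) * c := by group
      _ = 1 := by rw [h2]; group
  · right
    calc e = c⁻¹ * (c * e * c⁻¹) * c := by group
      _ = c⁻¹ * y * c := by rw [h2]

/-- the centre of the Sylow 2-subgroup -/
theorem center_T4 : ∀ x : TwoF.RowM12.T4, (∀ y : TwoF.RowM12.T4, x * y = y * x) → x = 1 ∨ x = Cfsg.Agent.ClassificationK.GTwoModel.T.z 2 := by
  decide +kernel

theorem card_cent_B {x : Spor.M12} (hx : InvTwo.IsB x) : Nat.card (centralizer ({x} : Set Spor.M12)) = 192 := by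
  obtain ⟨c, rfl⟩ := hx
  rw [← card_cent_v]
  have h1 : centralizer ({c⁻¹ * (p * r) * c} : Set Spor.M12) =
      (centralizer ({p * r} : Set Spor.M12)).map (MulAut.conj c⁻¹).toMonoidHom := by
    ext g
    rw [mem_centralizer_singleton_iff]
    constructor
    · intro h
      refine ⟨c * g * c⁻¹, mem_centralizer_singleton_iff.2 ?_, ?_⟩
      · calc c * g * c⁻¹ * (p * r) = c * (g * (c⁻¹ * (p * r) * c)) * c⁻¹ := by group
          _ = c * ((c⁻¹ * (p * r) * c) * g) * c⁻¹ := by rw [h]
          _ = p * r * (c * g * c⁻¹) := by group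
      · show c⁻¹ * (c * g * c⁻¹) * c⁻¹⁻¹ = g
        group
    · rintro ⟨k, hk, rfl⟩
      have h2 := mem_centralizer_singleton_iff.1 hk
      show c⁻¹ * k * c⁻¹⁻¹ * (c⁻¹ * (p * r) * c) = c⁻¹ * (p * r) * c * (c⁻¹ * k * c⁻¹⁻¹)
      calc c⁻¹ * k * c⁻¹⁻¹ * (c⁻¹ * (p * r) * c) = c⁻¹ * (k * (p * r)) * c := by group
        _ = c⁻¹ * ((p * r) * k) * c := by rw [h2]
        _ = _ := by group
  rw [h1]
  exact card_map_of_injective (MulAut.conj c⁻¹).injective

/-- **No `E` of order 8 is normal in the centralizers of its involutions.** -/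
theorem no_eight {E : Subgroup Spor.M12} (hE : ∀ e ∈ E, e * e = 1) (h8 : Nat.card E = 8)
    (hN : ∀ x ∈ E, x ≠ 1 → centralizer ({x} : Set Spor.M12) ≤ normalizer (E : Set Spor.M12)) : False := by
  have hp : Fact (Nat.Prime 2) := ⟨Nat.prime_two⟩
  set N := normalizer (E : Set Spor.M12) with hNd
  -- all the involutions are in 2B
  have hB : ∀ x ∈ E, x ≠ 1 → Nat.card (centralizer ({x} : Set Spor.M12)) = 192 := by
    intro x hx hx1
    rcases inv2.cases x (hE x hx) hx1 with hA | hB
    · exfalso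
      have h1 : (E : Set Spor.M12) ⊆ {1, x} := fun e he => by
        rcases not_A hE hx hA (hN x hx hx1) he with h | h
        · exact Or.inl h
        · exact Or.inr h
      have h2 : Nat.card E ≤ 2 := by
        have h3 := Set.ncard_le_ncard h1 (Set.toFinite _)
        have h4 : ({1, x} : Set Spor.M12).ncard ≤ 2 := Set.ncard_insert_le _ _ |>.trans (by rw [Set.ncard_singleton])
        exact le_trans (le_of_eq (Nat.card_coe_set_eq (E : Set Spor.M12))) (h3.trans h4)
      omega
    · exact card_cent_B hB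
  -- the action of `N` on `E#`
  let Y : Type := {e : Spor.M12 // e ∈ E ∧ e ≠ 1}
  have hnm : ∀ (g : N) (e : Y), (g : Spor.M12) * e.1 * (g : Spor.M12)⁻¹ ∈ E ∧
      (g : Spor.M12) * e.1 * (g : Spor.M12)⁻¹ ≠ 1 := by
    intro g e
    refine ⟨(mem_normalizer_iff.1 g.2 e.1).1 e.2.1, fun h => e.2.2 ?_⟩
    calc e.1 = (g : Spor.M12)⁻¹ * ((g : Spor.M12) * e.1 * (g : Spor.M12)⁻¹) * g := by group
      _ = 1 := by rw [h]; group
  letI : MulAction N Y :=
    { smul := fun g e => ⟨(g : Spor.M12) * e.1 * (g : Spor.M12)⁻¹, hnm g e⟩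
      one_smul := fun e => Subtype.ext (by
        show ((1 : N) : Spor.M12) * e.1 * ((1 : N) : Spor.M12)⁻¹ = e.1
        simp)
      mul_smul := fun g g' e => Subtype.ext (by
        show ((g * g' : N) : Spor.M12) * e.1 * ((g * g' : N) : Spor.M12)⁻¹ = 
          (g : Spor.M12) * ((g' : Spor.M12) * e.1 * (g' : Spor.M12)⁻¹) * (g : Spor.M12)⁻¹
        simp [mul_assoc]) }
  have hsm : ∀ (g : N) (e : Y), ((g • e : Y) : Spor.M12) = (g : Spor.M12) * e.1 * (g : Spor.M12)⁻¹ := fun _ _ => rfl
  have hstab : ∀ e : Y, Nat.card (MulAction.stabilizer N e) = 192 := by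
    intro e
    rw [← hB e.1 e.2.1 e.2.2]
    have h1 : (MulAction.stabilizer N e).map N.subtype = centralizer ({e.1} : Set Spor.M12) := by
      ext g
      rw [mem_centralizer_singleton_iff]
      constructor
      · rintro ⟨k, hk, rfl⟩
        have h2 := congrArg Subtype.val (MulAction.mem_stabilizer_iff.1 hk)
        rw [hsm] at h2
        exact mul_inv_eq_iff_eq_mul.1 h2
      · intro h
        refine ⟨⟨g, hN e.1 e.2.1 e.2.2 (mem_centralizer_singleton_iff.2 h)⟩, ?_, rfl⟩
        apply MulAction.mem_stabilizer_iff.2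
        apply Subtype.ext
        rw [hsm]
        exact mul_inv_eq_iff_eq_mul.2 h
    rw [← h1]
    exact (card_map_of_injective N.subtype_injective).symm
  have horb : ∀ e : Y, Nat.card (MulAction.orbit N e) * 192 = Nat.card N := by
    intro e
    have h1 := MulAction.index_stabilizer N e
    have h2 := (MulAction.stabilizer N e).card_mul_index
    rw [h1, hstab e, ← Nat.card_coe_set_eq, mul_comm] at h2
    exact h2
  -- the number of elements
  have h7 : Nat.card Y = 7 := by
    have h1 : Nat.card Y + 1 = Nat.card E := by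
      have h2 : ({e : Spor.M12 | e ∈ E ∧ e ≠ 1} : Set Spor.M12) = (E : Set Spor.M12) \ {1} := by
        ext e; simp
      have h3 : Nat.card Y = ((E : Set Spor.M12) \ {1}).ncard := by
        rw [← h2]
        exact Nat.card_coe_set_eq _
      rw [h3, Set.ncard_diff_singleton_add_one (one_mem E) (Set.toFinite _)]
      exact (Nat.card_coe_set_eq _).symm
    omega
  have hfinY : Finite Y := Nat.finite_of_card_ne_zero (by rw [h7]; norm_num)
  obtain ⟨e₀⟩ : Nonempty Y := Finite.card_pos_iff.1 (by rw [h7]; norm_num)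
  set m := Nat.card (MulAction.orbit N e₀) with hm
  have hcard : Nat.card N = m * 192 := (horb e₀).symm
  have h1 : Nat.card Y = Nat.card (MulAction.orbitRel.Quotient N Y) * m := by
    have := Fintype.ofFinite (MulAction.orbitRel.Quotient N Y)
    rw [Nat.card_congr (MulAction.selfEquivSigmaOrbits' N Y), Nat.card_sigma]
    have h2 : ∀ ω : MulAction.orbitRel.Quotient N Y, Nat.card ω.orbit = m := by
      intro ω
      rw [MulAction.orbitRel.Quotient.orbit_eq_orbit_out ω Quotient.out_eq']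
      have h3 := horb ω.out
      rw [hcard] at h3
      exact Nat.eq_of_mul_eq_mul_right (by norm_num) h3
    rw [Finset.sum_congr rfl fun ω _ => h2 ω, Finset.sum_const, Finset.card_univ, smul_eq_mul, Nat.card_eq_fintype_card]
  have hm7 : m = 1 := by
    have h2 : m ∣ 7 := ⟨_, by rw [← h7, h1, mul_comm]⟩
    rcases (Nat.dvd_prime (by norm_num : Nat.Prime 7)).1 h2 with h | h
    · exact h
    · exfalso
      have h3 : Nat.card N ∣ Nat.card Spor.M12 := card_subgroup_dvd_card N
      rw [hcard, h, TwoF.RowM12.card_M12] at h3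
      norm_num at h3
  have hcN : Nat.card N = 192 := by rw [hcard, hm7, one_mul]
  -- `N` centralizes `E`
  have hcen : ∀ g ∈ N, ∀ e ∈ E, g * e = e * g := by
    intro g hg e he
    by_cases he1 : e = 1
    · rw [he1, mul_one, one_mul]
    · have h2 : centralizer ({e} : Set Spor.M12) = N :=
        Subgroup.eq_of_le_of_card_ge (hN e he he1) (by rw [hcN, hB e he he1])
      exact mem_centralizer_singleton_iff.1 (h2 ▸ hg)
  -- a Sylow 2-subgroup in `N`
  have hidx : ¬ 2 ∣ N.index := by
    intro h2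
    have h3 := N.card_mul_index
    rw [hcN, TwoF.RowM12.card_M12] at h3
    have h4 : N.index = 495 := by omega
    rw [h4] at h2
    norm_num at h2
  obtain ⟨P⟩ : Nonempty (Sylow 2 Spor.M12) := inferInstance
  obtain ⟨g, hg⟩ := exists_conj_le P.isPGroup' hidx
  -- `g E g⁻¹` centralizes `P`
  have hPE : ∀ t ∈ (P : Subgroup Spor.M12), ∀ e ∈ E, t * (g * e * g⁻¹) = g * e * g⁻¹ * t := by
    intro t ht e he
    have h2 := hcen _ (hg t ht) e he
    calc t * (g * e * g⁻¹) = g * ((g⁻¹ * t * g) * e) * g⁻¹ := by group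
      _ = g * (e * (g⁻¹ * t * g)) * g⁻¹ := by rw [h2]
      _ = _ := by group
  set E' : Subgroup Spor.M12 := E.map (MulAut.conj g).toMonoidHom with hE'
  have hE'2 : IsPGroup 2 E' := by
    rintro ⟨_, e, he, rfl⟩
    refine ⟨1, Subtype.ext ?_⟩
    show (g * e * g⁻¹) ^ 2 ^ 1 = 1
    rw [pow_one, conj_pow, pow_two, hE e he]
    group
  have hle : E' ≤ (P : Subgroup Spor.M12) := by
    have h2 : (P : Subgroup Spor.M12) ≤ normalizer (E' : Set Spor.M12) := by
      refine le_trans ?_ (centralizer_le_normalizer _)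
      intro t ht
      rw [mem_centralizer_iff]
      rintro _ ⟨e, he, rfl⟩
      exact (hPE t ht e he).symm
    have h3 : IsPGroup 2 ((E' ⊔ (P : Subgroup Spor.M12) : Subgroup Spor.M12)) :=
      hE'2.to_sup_of_normal_left' P.isPGroup' h2
    have h4 := P.is_maximal' h3 le_sup_right
    exact h4 ▸ le_sup_left
  obtain ⟨f⟩ := Cfsg.Agent.MTwelveType.SylowModel.exists_equiv P
  -- the centre
  have h5 : (E' : Set Spor.M12) ⊆ {1, ((f (Cfsg.Agent.ClassificationK.GTwoModel.T.z 2) : (P : Subgroup Spor.M12)) : Spor.M12)} := by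
    intro x hx
    have hxP := hle hx
    rcases center_T4 (f.symm ⟨x, hxP⟩) (fun t => by
      apply f.injective
      rw [map_mul, map_mul, f.apply_symm_apply]
      apply Subtype.ext
      obtain ⟨e, he, rfl⟩ := hx
      exact (hPE _ (f t).2 e he).symm) with h6 | h6
    · left
      have h7 := congrArg f h6
      rw [f.apply_symm_apply, map_one] at h7
      exact congrArg Subtype.val h7
    · right
      have h7 := congrArg f h6
      rw [f.apply_symm_apply] at h7
      exact congrArg Subtype.val h7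
  have h6 : Nat.card E' ≤ 2 := by
    have h7 := Set.ncard_le_ncard h5 (Set.toFinite _)
    have h8' := Set.ncard_insert_le (1 : Spor.M12) {((f (Cfsg.Agent.ClassificationK.GTwoModel.T.z 2) : (P : Subgroup Spor.M12)) : Spor.M12)}
    rw [Set.ncard_singleton] at h8'
    exact le_trans (le_of_eq (Nat.card_coe_set_eq (E' : Set Spor.M12))) (h7.trans h8')
  have h9 : Nat.card E' = 8 := by
    rw [← h8]
    exact card_map_of_injective (MulAut.conj g).injective
  omega

end group

/-! ### The module -/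

section module

variable {H : Type u} [Group H] [Finite H] {M : Type v} [Group M] [Finite M] [MulDistribMulAction H M]
  {K T A : Subgroup H}

omit [Finite H] in
theorem two_pow_le (h : InX H M K T A) {n : ℕ} {x : K} (hxx : x * x = 1) (hx : InvAt x n) :
    2 ^ n ≤ (cv M ({(x : H)} : Set H)).index :=
  InvRow.inv_big h.sq h.faith (congrArg Subtype.val hxx) (hx.map K.subtype K.subtype_injective)

omit [Finite H] in
/-- `C_M(x) = C_M(A)`, `|A| = 2 ^ n` -/
theorem cv_eq (h : InX H M K T A) {n : ℕ} (hn : Nat.card A ≤ 2 ^ n) {x : K} (hxA : (x : H) ∈ A) (hx : InvAt x n) :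
    cv M ({(x : H)} : Set H) = cv M (A : Set H) ∧ Nat.card A = 2 ^ n := by
  have hxx : x * x = 1 := Subtype.ext (h.el _ hxA)
  have h1 := two_pow_le h hxx hx
  have hle : cv M (A : Set H) ≤ cv M ({(x : H)} : Set H) := cv_anti (by simpa using hxA)
  have h4 : (cv M (A : Set H)).relIndex (cv M ({(x : H)} : Set H)) * (cv M ({(x : H)} : Set H)).index =
      (cv M (A : Set H)).index := relIndex_mul_index hle
  rw [h.exact] at h4
  have h5 : (cv M (A : Set H)).relIndex (cv M ({(x : H)} : Set H)) ≠ 0 := index_ne_zero_of_finite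
  have h6 : (cv M (A : Set H)).relIndex (cv M ({(x : H)} : Set H)) = 1 := by
    by_contra h7
    have h8 : 2 ≤ (cv M (A : Set H)).relIndex (cv M ({(x : H)} : Set H)) := by omega
    have h9 : 2 * (cv M ({(x : H)} : Set H)).index ≤ Nat.card A := by
      rw [← h4]
      exact Nat.mul_le_mul_right _ h8
    have h10 : 0 < 2 ^ n := by positivity
    omega
  refine ⟨le_antisymm (relIndex_eq_one.1 h6) hle, ?_⟩
  rw [h6, one_mul] at h4
  omega

/-- **The row M12.** -/
theorem deadX : DeadX.{u, v} (fun S _ => Spor.IsoM12 S) := by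
  rintro H _ _ M _ _ _ K T A h ⟨e⟩
  have hn := h.norm
  have h16 : Nat.card A ≤ 2 ^ 4 := h.asx.card_le_of_rk (TwoF.RowM12.rk.equiv e)
  have hinv : ∀ x : K, x * x = 1 → x ≠ 1 → InvAt x 4 := by
    intro x h2 h1
    have h3 := RowM12.invAt (x := e x) (by rw [← map_mul, h2, map_one])
      (fun h => h1 (e.injective (h.trans (map_one e).symm)))
    have h4 := h3.map e.symm.toMonoidHom e.symm.injective
    have h5 : e.symm.toMonoidHom (e x) = x := e.symm_apply_apply x
    rwa [h5] at h4
  have hidx : K.index ≤ 2 := by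
    refine h.asx.index_le.trans ?_
    rw [index_conj_eq e]
    exact Nat.le_of_dvd (by norm_num) TwoF.RowM12.index_dvd
  set E : Subgroup K := A.subgroupOf K with hEd
  have hcA : Nat.card A ≤ Nat.card E * 2 := (h.asx.card_le_mul_index A).trans (Nat.mul_le_mul_left _ hidx)
  have hEel : ∀ x ∈ E, x * x = 1 := fun x hx => Subtype.ext (h.el _ hx)
  have hrk : ∀ B : Subgroup K, (∀ b ∈ B, b * b = 1) → Nat.card B ≤ 8 := by
    intro B hB
    have h1 := card_le_eight (B.map e.toMonoidHom) (by
      rintro _ ⟨b, hb, rfl⟩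
      rw [← map_mul, hB b hb, map_one])
    rwa [card_map_of_injective e.injective] at h1
  -- `E ≠ 1`
  have hE1 : ∃ x ∈ E, x ≠ 1 := by
    by_contra hcon
    push Not at hcon
    have h1 : E = ⊥ := (eq_bot_iff_forall _).2 hcon
    rw [h1, card_bot] at hcA
    have := h.four
    omega
  have heq : ∀ x ∈ E, x ≠ 1 → cv M ({(x : H)} : Set H) = cv M (A : Set H) := fun x hx hx1 =>
    (cv_eq h h16 hx (hinv x (hEel x hx) hx1)).1
  have hA16 : Nat.card A = 16 := by
    obtain ⟨x, hx, hx1⟩ := hE1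
    exact (cv_eq h h16 hx (hinv x (hEel x hx) hx1)).2
  have hE8 : Nat.card E = 8 := by
    have := hrk E hEel
    omega
  set F := cv M (A : Set H) with hF
  -- `E = EE F ∩ K`
  have hEE : E = (EE F : Subgroup H).subgroupOf K := by
    apply Subgroup.eq_of_le_of_card_ge
    · intro x hx
      by_cases hx1 : x = 1
      · rw [hx1]
        exact one_mem _
      · have h1 := heq x hx hx1
        refine ⟨fun m hm => hm _ hx, fun m => ?_⟩
        show ((x : H) • m) * m⁻¹ ∈ F
        have h2 : (x : H) * x = 1 := h.el _ hx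
        rw [← h1, mem_cv_singleton, smul_mul', smul_inv', ← mul_smul, h2, one_smul]
        have h3 : m⁻¹ = m := inv_eq_of_mul_eq_one_left (h.sq m)
        have h4 : ((x : H) • m)⁻¹ = (x : H) • m := inv_eq_of_mul_eq_one_left (h.sq _)
        rw [h3, h4, h.comm]
    · rw [hE8]
      exact hrk _ fun b hb => Subtype.ext (EE_sq h.sq h.faith hb)
  -- the centralizers normalize `E`
  have hnE : ∀ x ∈ E, x ≠ 1 → centralizer ({x} : Set K) ≤ normalizer (E : Set K) := by
    intro x hx hx1 g hg
    have h1 := heq x hx hx1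
    have h2 : (g : H) * x = x * g := congrArg Subtype.val (mem_centralizer_singleton_iff.1 hg)
    have h3 : ∀ m, m ∈ F ↔ (g : H) • m ∈ F := by
      intro m
      rw [← h1, mem_cv_singleton, mem_cv_singleton, ← mul_smul, ← h2, mul_smul]
      exact ⟨fun h => by rw [h], fun h => smul_left_cancel _ h⟩
    have h3' : ∀ m, m ∈ F ↔ (g : H)⁻¹ • m ∈ F := fun m => by rw [h3 ((g : H)⁻¹ • m), smul_inv_smul]
    rw [mem_normalizer_iff]
    intro y
    rw [hEE]
    constructor
    · intro hy
      exact smul_mem_EE h3 hy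
    · intro hy
      have h4 := smul_mem_EE h3' hy
      have h5 : (g : H)⁻¹ * (K.subtype (g * y * g⁻¹)) * (g : H)⁻¹⁻¹ = K.subtype y := by
        rw [map_mul, map_mul, map_inv]
        show (g : H)⁻¹ * ((g : H) * y * (g : H)⁻¹) * (g : H)⁻¹⁻¹ = y
        group
      rw [h5] at h4
      exact h4
  -- transport to the model
  refine no_eight (E := E.map e.toMonoidHom) ?_ ?_ ?_
  · rintro _ ⟨b, hb, rfl⟩
    rw [← map_mul, hEel b hb, map_one]
  · rw [← hE8]
    exact card_map_of_injective e.injective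
  · rintro _ ⟨x, hx, rfl⟩ hx1 g hg
    have h1 : x ≠ 1 := fun h => hx1 (by rw [h, map_one])
    obtain ⟨k, rfl⟩ := e.surjective g
    have h2 : k ∈ centralizer ({x} : Set K) := by
      rw [mem_centralizer_singleton_iff] at hg ⊢
      apply e.injective
      rw [map_mul, map_mul]
      exact hg
    have h3 := mem_normalizer_iff.1 (hnE x hx h1 h2)
    rw [mem_normalizer_iff]
    intro y
    obtain ⟨y, rfl⟩ := e.surjective y
    constructor
    · rintro ⟨z, hz, hzy⟩
      have h4 : z = y := e.injective hzy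
      rw [h4] at hz
      exact ⟨k * y * k⁻¹, (h3 y).1 hz, by simp⟩
    · rintro ⟨z, hz, hzy⟩
      have h4 : z = k * y * k⁻¹ := e.injective (by
        rw [map_mul, map_mul, map_inv]
        exact hzy)
      rw [h4] at hz
      exact ⟨y, (h3 y).2 hz, rfl⟩

end module

end Cfsg.Agent.Omega.ML.Ex.RowM12X
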