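import Cfsg.Agent.SporadicA.OctadFix
import Cfsg.Agent.SporadicA.MathieuRecog
import Cfsg.Agent.Omega.NOThree.NoOver

/-!
# An element of order 11 in the join of two conjugates of the translation group `2⁴` of `M22` (helper278)
-/

set_option autoImplicit false

namespace Cfsg.Agent.Omega.ML.Ex.Eleven

open Cfsg Cfsg.Agent.SporadicA.GolayBase Cfsg.Agent.SporadicA.GolayPerm
open Cfsg.Agent.SporadicA.OctadStab Cfsg.Agent.SporadicA.OctadFix
open Cfsg.Agent.Omega.NOThree.NoOver (cj)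
open scoped Pointwise

/-- packed elements of the translation group of `oct0` -/
def T₁ : ℕ := 971592882964418941354553515258775584
def T₂ : ℕ := 967812279691448225500382947153381408
def T₃ : ℕ := 975346028712660580592452217730074656
def T₄ : ℕ := 965128854020860192151391391390468128
/-- packed element of `M22` and its inverse -/
def G₀ : ℕ := 976203949472844401778415637369211552
def G₁ : ℕ := 961932971729804105739981527545385632

theorem T₁_ok : transOk T₁ = true := by decide +kernel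
theorem T₂_ok : transOk T₂ = true := by decide +kernel
theorem T₃_ok : transOk T₃ = true := by decide +kernel
theorem T₄_ok : transOk T₄ = true := by decide +kernel

/-- Check of the packed element of `M22`. -/
def gOk (P : ℕ) : Bool := isPerm P && isAut P && Nat.beq (papp P 0) 0 && Nat.beq (papp P 23) 23

theorem G₀_ok : gOk G₀ = true := by decide +kernel
theorem G₁_ok : gOk G₁ = true := by decide +kernel

theorem G_inv : ∀ i < 24, papp G₀ (papp G₁ i) = i := by decide +kernel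

/-- the word, on indices -/
def w (i : ℕ) : ℕ := papp T₁ (papp G₀ (papp T₂ (papp G₁ (papp T₃ (papp G₀ (papp T₄ (papp G₁ i)))))))

theorem w_eleven : ∀ i < 24, w (w (w (w (w (w (w (w (w (w (w i)))))))))) = i := by decide +kernel

theorem w_one : w 1 ≠ 1 := by decide +kernel

theorem exists_fix {P : ℕ} (h : transOk P = true) : ∃ g ∈ fixOct oct0, ∀ x, idx (g x) = papp P (idx x) := by
  unfold transOk at h
  simp only [Bool.and_eq_true, Nat.beq_eq, List.all_eq_true, List.mem_range] at h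
  obtain ⟨⟨⟨⟨⟨⟨⟨⟨⟨⟨hperm, haut⟩, f0⟩, f1⟩, f2⟩, f3⟩, f5⟩, f14⟩, f17⟩, f23⟩, hinv⟩ := h
  refine ⟨permOf P hperm, mem_fixOct.2 ⟨permOf_mem_M24 hperm haut, ?_⟩, fun x => idx_permOf _ _⟩
  intro x hx
  apply idx_injective
  rw [idx_permOf]
  rw [mem_oct0] at hx
  rcases mem_oct0_cases _ (idx_lt x) hx with h | h | h | h | h | h | h | h
  · rw [h, f0]
  · rw [h, f1]
  · rw [h, f2]
  · rw [h, f3]
  · rw [h, f5]
  · rw [h, f14]
  · rw [h, f17]
  · rw [h, f23]

theorem exists_g {P : ℕ} (h : gOk P = true) : ∃ g ∈ Spor.M22, ∀ x, idx (g x) = papp P (idx x) := by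
  unfold gOk at h
  simp only [Bool.and_eq_true, Nat.beq_eq] at h
  obtain ⟨⟨⟨hperm, haut⟩, f0⟩, f23⟩ := h
  refine ⟨permOf P hperm, (Cfsg.Agent.SporadicA.MathieuRecog.mem_M22_iff _).2
    ⟨permOf_mem_M24 hperm haut, ?_, ?_⟩, fun x => idx_permOf _ _⟩
  · apply idx_injective
    rw [idx_permOf]
    exact f23
  · apply idx_injective
    rw [idx_permOf]
    exact f0

/-- **The model fact.** -/
theorem exists_eleven : ∃ g ∈ Spor.M22, ∃ y ∈ (fixOct oct0 ⊔ cj g (fixOct oct0) : Subgroup (Equiv.Perm GolayPt)),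
    orderOf y = 11 := by
  obtain ⟨t₁, h₁, e₁⟩ := exists_fix T₁_ok
  obtain ⟨t₂, h₂, e₂⟩ := exists_fix T₂_ok
  obtain ⟨t₃, h₃, e₃⟩ := exists_fix T₃_ok
  obtain ⟨t₄, h₄, e₄⟩ := exists_fix T₄_ok
  obtain ⟨g, hg, e₅⟩ := exists_g G₀_ok
  obtain ⟨g', hg', e₆⟩ := exists_g G₁_ok
  have hgg : g * g' = 1 := by
    ext1 x
    rw [Equiv.Perm.mul_apply, Equiv.Perm.one_apply]
    apply idx_injective
    rw [e₅, e₆, G_inv _ (idx_lt x)]
  have hg1 : g' = g⁻¹ := (inv_eq_of_mul_eq_one_right hgg).symm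
  obtain ⟨y, hy⟩ : ∃ y, y = t₁ * (g * t₂ * g⁻¹) * t₃ * (g * t₄ * g⁻¹) := ⟨_, rfl⟩
  have hyx : ∀ x, idx (y x) = w (idx x) := by
    intro x
    have e : y x = t₁ (g (t₂ (g' (t₃ (g (t₄ (g' x))))))) := by
      rw [hy, ← hg1]
      simp only [Equiv.Perm.mul_apply]
    rw [e, e₁, e₅, e₂, e₆, e₃, e₅, e₄, e₆]
    rfl
  refine ⟨g, hg, y, ?_, ?_⟩
  · rw [hy]
    have hl : fixOct oct0 ≤ fixOct oct0 ⊔ cj g (fixOct oct0) := le_sup_left
    have hr : cj g (fixOct oct0) ≤ fixOct oct0 ⊔ cj g (fixOct oct0) := le_sup_right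
    exact Subgroup.mul_mem _ (Subgroup.mul_mem _ (Subgroup.mul_mem _ (hl h₁) (hr ⟨t₂, h₂, rfl⟩)) (hl h₃))
      (hr ⟨t₄, h₄, rfl⟩)
  · have : Fact (Nat.Prime 11) := ⟨by norm_num⟩
    apply orderOf_eq_prime
    · ext1 x
      rw [Equiv.Perm.one_apply]
      apply idx_injective
      rw [← w_eleven _ (idx_lt x)]
      simp only [pow_succ, pow_zero, one_mul, Equiv.Perm.mul_apply, hyx]
    · intro h
      have h1 := hyx (pt 1)
      rw [h, Equiv.Perm.one_apply, idx_pt (by norm_num)] at h1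
      exact w_one h1.symm

end Cfsg.Agent.Omega.ML.Ex.Eleven
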