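import Cfsg.Agent.Omega.ML.LocPrime
import Cfsg.Agent.Omega.ML.LocLift

/-!
# EXACT + LOW rows: products of conjugates of an exact group (helper278)

`H` acts on the finite 2-group `M`; `fab M 1 1 X = |X| |C_M(X)|` is log-supermodular.

* `Off f A` : `f 1 ≤ f A` and `f C ≤ f 1` for all `C ≤ A` (exact and sub-exact);  `Off.of_exact`;  `Off.cj`;
* `Off.iSup` : **(P)** `f 1 ≤ f D` for every join `D` of such subgroups;  `index_le_of` : `|M : C_M(D)| ≤ |D|`;
* `index_iSup_le` : `|M : C_M(⟨D_1, .., D_k⟩)| ≤ ∏ |M : C_M(D_i)|`;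
* `false_of_prime_mem` : an element of odd prime order `r`, `r ∤ 2 ^ j - 1` for `0 < j ≤ m`, is not in a subgroup `L` with
  `|M : C_M(L)| ≤ 2 ^ m`;
* `index_le_of_loc` : the K-fact `Loc H E x p n` and a low exact `A ≠ 1` give `|M : C_M(E)| ≤ 2 ^ n`.
-/

set_option autoImplicit false

namespace Cfsg.Agent.Omega.ML.Ex.Prod

open Subgroup Cfsg Cfsg.Agent.ClassTwoFusion.Quad Cfsg.Agent.Omega.NOThree.NoOver Cfsg.Agent.Omega.ML.CD
open Cfsg.Agent.ZN Cfsg.Agent.Omega.ML.LocRow Cfsg.Agent.Omega.ML.LocPrime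
open Cfsg.Agent.MinSimple.VModule (o2_isPGroup o2_le le_o2 le_normalizer_o2)

universe u v

section ls

variable {H : Type*} [Group H] {f : Subgroup H → ℕ}

/-- exact and sub-exact -/
structure Off (f : Subgroup H → ℕ) (A : Subgroup H) : Prop where
  ge : f ⊥ ≤ f A
  sub : ∀ C ≤ A, f C ≤ f ⊥

theorem Off.cj (hf : LS f) {A : Subgroup H} (h : Off f A) (g : H) : Off f (cj g A) where
  ge := by rw [hf.conj]; exact h.ge
  sub := by
    intro C hC
    have h1 := h.sub (Cfsg.Agent.Omega.NOThree.NoOver.cj g⁻¹ C) (by rwa [cj_le_iff, inv_inv])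
    rwa [hf.conj] at h1

/-- **(P)** -/
theorem Off.iSup [Finite H] (hf : LS f) {ι : Sort*} {A : ι → Subgroup H} (h : ∀ i, Off f (A i)) :
    f ⊥ ≤ f (⨆ i, A i) := by
  obtain ⟨X, hX, hmax⟩ := Set.exists_max_image {X : Subgroup H | X ≤ ⨆ i, A i ∧ f ⊥ ≤ f X} (fun X => Nat.card X)
    (Set.toFinite _) ⟨⊥, bot_le, le_rfl⟩
  have hle : ∀ i, A i ≤ X := by
    intro i
    have h1 := hf.sup X (A i)
    have h2 : f ⊥ * f ⊥ ≤ f (X ⊔ A i) * f ⊥ :=
      (Nat.mul_le_mul hX.2 (h i).ge).trans (h1.trans (Nat.mul_le_mul_left _ ((h i).sub _ inf_le_right)))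
    have h3 : f ⊥ ≤ f (X ⊔ A i) := Nat.le_of_mul_le_mul_right h2 (hf.pos ⊥)
    have h4 := hmax (X ⊔ A i) ⟨sup_le hX.1 (le_iSup A i), h3⟩
    have h5 := eq_of_le_of_card_ge (le_sup_left : X ≤ X ⊔ A i) h4
    exact le_sup_right.trans h5.ge
  rw [show (⨆ i, A i) = X from le_antisymm (iSup_le hle) hX.1]
  exact hX.2

end ls

section action

variable {H : Type*} [Group H] {M : Type*} [Group M] [MulDistribMulAction H M]

/-- the form with indices -/
theorem Off.of_exact [Finite M] {A : Subgroup H} (exact : (cv M (A : Set H)).index = Nat.card A)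
    (sub : ∀ C ≤ A, Nat.card C ≤ (cv M (C : Set H)).index) : Off (fab M 1 1) A where
  ge := by
    have h1 := card_mul_index (cv M (A : Set H))
    unfold fab
    rw [cv_bot, card_bot, pow_one, pow_one, pow_one, pow_one, one_mul, card_top, ← h1, exact, mul_comm]
  sub := by
    intro C hC
    have h1 := card_mul_index (cv M (C : Set H))
    unfold fab
    rw [cv_bot, card_bot, pow_one, pow_one, pow_one, pow_one, one_mul, card_top, ← h1, mul_comm]
    exact Nat.mul_le_mul_left _ (sub C hC)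

theorem index_le_of [Finite M] {D : Subgroup H} (h : fab M 1 1 (⊥ : Subgroup H) ≤ fab M 1 1 D) :
    (cv M (D : Set H)).index ≤ Nat.card D := by
  have h1 := card_mul_index (cv M (D : Set H))
  unfold fab at h
  rw [cv_bot, card_bot, pow_one, pow_one, pow_one, pow_one, one_mul, card_top, ← h1, mul_comm] at h
  exact Nat.le_of_mul_le_mul_right h Nat.card_pos

/-- **(P)** for the action -/
theorem index_le_card [Finite H] [Finite M] {A : Subgroup H} (h : Off (fab M 1 1) A) {ι : Sort*} (g : ι → H) :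
    (cv M ((⨆ i, cj (g i) A : Subgroup H) : Set H)).index ≤ Nat.card (⨆ i, cj (g i) A : Subgroup H) :=
  index_le_of (Off.iSup (ls_fab M 1 1) fun i => h.cj (ls_fab M 1 1) (g i))

theorem cv_sup (A B : Subgroup H) : cv M ((A ⊔ B : Subgroup H) : Set H) = cv M (A : Set H) ⊓ cv M (B : Set H) := by
  ext m
  constructor
  · intro h
    exact ⟨fun a ha => h a (le_sup_left (a := A) (b := B) ha), fun b hb => h b (le_sup_right (a := A) (b := B) hb)⟩
  · rintro ⟨h1, h2⟩ x hx
    have h3 : A ⊔ B ≤ MulAction.stabilizer H m :=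
      sup_le (fun a ha => MulAction.mem_stabilizer_iff.2 (h1 a ha)) fun b hb => MulAction.mem_stabilizer_iff.2 (h2 b hb)
    exact MulAction.mem_stabilizer_iff.1 (h3 hx)

/-- two subgroups -/
theorem index_sup_le [Finite M] (A B : Subgroup H) : (cv M ((A ⊔ B : Subgroup H) : Set H)).index ≤
    (cv M (A : Set H)).index * (cv M (B : Set H)).index := by
  rw [cv_sup]
  exact index_inf_le

/-- `|M : C_M(A^g)| = |M : C_M(A)|` -/
theorem index_cj [Finite H] [Finite M] (g : H) (A : Subgroup H) :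
    (cv M ((cj g A : Subgroup H) : Set H)).index = (cv M (A : Set H)).index := by
  have h1 := (ls_fab (H := H) (M := M) 1 1).conj g A
  have h2 : Nat.card (cj g A) = Nat.card A :=
    (Nat.card_congr (A.equivMapOfInjective _ (MulAut.conj g).injective).toEquiv).symm
  unfold fab at h1
  rw [pow_one, pow_one, pow_one, pow_one, h2] at h1
  have h3 := Nat.eq_of_mul_eq_mul_left Nat.card_pos h1
  have h4 := card_mul_index (cv M ((cj g A : Subgroup H) : Set H))
  have h5 := card_mul_index (cv M (A : Set H))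
  rw [h3, ← h5] at h4
  exact Nat.eq_of_mul_eq_mul_left Nat.card_pos h4

/-- an element of odd prime order `r` with `r ∤ 2 ^ j - 1`, `0 < j ≤ m`, does not centralise a subgroup of index
`≤ 2 ^ m` -/
theorem false_of_prime_mem [Finite M] (sq : ∀ m : M, m * m = 1) (faith : ∀ h : H, (∀ m : M, h • m = m) → h = 1)
    {W : Subgroup M} {m r : ℕ} (hW : W.index ≤ 2 ^ m) (hr : r.Prime) (hr2 : r ≠ 2)
    (nd : ∀ j, 0 < j → j ≤ m → ¬ r ∣ 2 ^ j - 1) {y : H} (hy : orderOf y = r) (hc : ∀ w ∈ W, y • w = w) : False := by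
  have hrf : Fact r.Prime := ⟨hr⟩
  have hcomm := Cfsg.Agent.Omega.ML.LocPrime.smul_mul_inv_mem (C := zpowers y) (U := M) (p := r) (n := m + 1) hr hr2
    (fun k h1 h2 => nd k h1 (by omega)) (IsPGroup.of_card (n := 1) (by rw [Nat.card_zpowers, hy, pow_one])) sq
    (D := cv M ((zpowers y : Subgroup H) : Set H)) ?_ ?_
  · -- `y` acts trivially on `M / C_M(y)`, so on `M`
    have h1 : ∀ m : M, y • m = m := by
      intro m
      obtain ⟨d, hd⟩ : ∃ d, d = y • m * m⁻¹ := ⟨_, rfl⟩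
      have hdc : y • d = d := by
        rw [hd]
        exact hcomm ⟨y, mem_zpowers y⟩ m y (mem_zpowers y)
      have hm : y • m = d * m := by rw [hd, inv_mul_cancel_right]
      have hpow : ∀ i : ℕ, y ^ i • m = d ^ i * m := by
        intro i
        induction i with
        | zero => simp
        | succ i ih => rw [pow_succ', mul_smul, ih, smul_mul', smul_pow', hdc, hm, ← mul_assoc, pow_succ]
      have h2 := hpow r
      rw [← hy, pow_orderOf_eq_one, one_smul, hy] at h2
      have h3 : d ^ r = 1 := (mul_eq_right.1 h2.symm)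
      have h4 : d ^ 2 = 1 := by rw [pow_two]; exact sq d
      have h5 : d = 1 := by
        have h6 : Nat.Coprime r 2 := (Nat.coprime_primes hr Nat.prime_two).2 hr2
        exact orderOf_eq_one_iff.1 (Nat.eq_one_of_dvd_coprimes h6 (orderOf_dvd_of_pow_eq_one h3)
          (orderOf_dvd_of_pow_eq_one h4))
      rw [hm, h5, one_mul]
    have h2 := faith y h1
    rw [h2, orderOf_one] at hy
    exact hr.one_lt.ne hy
  · intro x d hd z hz
    obtain ⟨i, hi⟩ := x.2
    obtain ⟨j, rfl⟩ := hz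
    change (y ^ j) • ((x : H) • d) = (x : H) • d
    have h1 : (x : H) • d = d := hd _ x.2
    rw [h1]
    exact hd _ ⟨j, rfl⟩
  · have h1 : W ≤ cv M ((zpowers y : Subgroup H) : Set H) := by
      intro w hw z hz
      have h2 : zpowers y ≤ MulAction.stabilizer H w := by
        rw [zpowers_le]
        exact MulAction.mem_stabilizer_iff.2 (hc w hw)
      exact MulAction.mem_stabilizer_iff.1 (h2 hz)
    have h2 : (cv M ((zpowers y : Subgroup H) : Set H)).index ≤ 2 ^ m :=
      (Nat.le_of_dvd (Nat.pos_of_ne_zero index_ne_zero_of_finite) (index_dvd_of_le h1)).trans hW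
    exact lt_of_le_of_lt h2 (Nat.pow_lt_pow_right (by norm_num) (by omega))

end action

section loc

variable {H : Type u} [Group H] [Finite H] {M : Type v} [Group M] [Finite M] [MulDistribMulAction H M]
  {T A E : Subgroup H} {x : H} {p n : ℕ}

/-- **the K-fact and a low exact `A ≠ 1` give `|M : C_M(E)| ≤ 2 ^ n`** -/
theorem index_le_of_loc (L : LocK.Loc H E x p n) (two : IsPGroup 2 T) (syl : ¬ 2 ∣ T.index) (ne : A ≠ ⊥)
    (hA : Off (fab M 1 1) A) (low : ∀ R : Subgroup H, T ≤ R → R ≠ ⊤ → A ≤ o2 R)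
    (core : ∀ N : Subgroup H, N.Normal → IsPGroup 2 N → N = ⊥) : (cv M (E : Set H)).index ≤ 2 ^ n := by
  have hf2 : Fact (Nat.Prime 2) := ⟨Nat.prime_two⟩
  -- WLOG `T` normalises `F = E^g`
  obtain ⟨g, hg⟩ := exists_conj_le two syl L.odd
  have hFe : E.map (MulAut.conj g⁻¹).toMonoidHom = cj g⁻¹ E := rfl
  obtain ⟨F, y, L', hTF, hFi⟩ : ∃ (F : Subgroup H) (y : H), LocK.Loc H F y p n ∧ T ≤ normalizer (F : Set H) ∧
      (cv M (F : Set H)).index = (cv M (E : Set H)).index := by
    refine ⟨_, _, L.map (MulAut.conj g⁻¹), fun t ht => ?_, ?_⟩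
    · have key : ∀ s ∈ T, ∀ a ∈ E.map (MulAut.conj g⁻¹).toMonoidHom,
          s * a * s⁻¹ ∈ E.map (MulAut.conj g⁻¹).toMonoidHom := by
        rintro s hs _ ⟨e, he, rfl⟩
        have h1 := (mem_normalizer_iff.1 (hg s hs) e).1 he
        refine ⟨_, h1, ?_⟩
        change g⁻¹ * (g * s * g⁻¹ * e * (g * s * g⁻¹)⁻¹) * g⁻¹⁻¹ = s * (g⁻¹ * e * g⁻¹⁻¹) * s⁻¹
        group
      refine LocK.mem_normalizer_of (fun a ha => key t ht a ha) fun a ha => ?_
      have h2 := key t⁻¹ (T.inv_mem ht) a ha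
      rwa [inv_inv] at h2
    · exact index_cj g⁻¹ E
  rw [← hFi]
  clear hg L hFi hFe
  have hpf : Fact p.Prime := ⟨L'.prime⟩
  have hC : IsPGroup p (zpowers y) := IsPGroup.of_card (n := 1) (by rw [Nat.card_zpowers, L'.ord, pow_one])
  have hyN : y ∈ normalizer (F : Set H) := by
    rw [Subgroup.mem_normalizer_iff_map_conj_eq]
    refine eq_of_le_of_card_ge ?_ (Nat.card_congr (F.equivMapOfInjective _ (MulAut.conj y).injective).toEquiv).le
    rintro _ ⟨b, hb, rfl⟩
    exact L'.norm b hb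
  have hzN : zpowers y ≤ normalizer (F : Set H) := by rwa [zpowers_le]
  have hirr : ∀ E₁ ≤ F, (∀ l ∈ zpowers y, ∀ e ∈ E₁, l * e * l⁻¹ ∈ E₁) → E₁ = ⊥ ∨ E₁ = F := by
    intro E₁ h1 h2
    refine (irr_of L'.prime L'.p2 L'.nd hC L'.sq L'.card.le
      (fun c hc e he => (mem_normalizer_iff.1 (hzN hc) e).1 he) h1 h2).resolve_right fun h3 => ?_
    obtain ⟨e, he, hne⟩ := L'.ne
    exact hne (h3 y (mem_zpowers y) e he)
  have hF2 : IsPGroup 2 F := fun a => ⟨1, Subtype.ext (by rw [pow_one, pow_two]; exact L'.sq a a.2)⟩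
  have hFT : F ≤ T := le_of_norm two syl hF2 hTF
  have hFne : F ≠ ⊥ := by
    intro h
    obtain ⟨e, he, hne⟩ := L'.ne
    rw [h, mem_bot] at he
    rw [he] at hne
    exact hne (by group)
  obtain ⟨R, hR⟩ : ∃ R : Subgroup H, R = normalizer (F : Set H) := ⟨_, rfl⟩
  rw [← hR] at hTF hzN
  have hRne : R ≠ ⊤ := by
    intro h
    rw [hR] at h
    exact hFne (core F (normalizer_eq_top_iff.1 h) hF2)
  have hconj : ∀ r ∈ R, ∀ e ∈ F, r * e * r⁻¹ ∈ F := fun r hr e he => by
    rw [hR] at hr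
    exact (mem_normalizer_iff.1 hr e).1 he
  -- `O₂(R) ≤ F`
  have hoF : o2 R ≤ F := by
    have hZ : ∃ e ∈ F, e ≠ 1 ∧ ∀ q ∈ o2 R, q * e = e * q := by
      have h1 : Nontrivial F := (nontrivial_iff_ne_bot F).2 hFne
      -- `O₂(R)` acts on `F`
      let act : MulDistribMulAction (o2 R) F := cja (o2 R) F fun c hc e he => hconj c (o2_le R hc) e he
      have h2 := (o2_isPGroup R).card_modEq_card_fixedPoints F
      have h3 : 2 ∣ Nat.card F := by
        obtain ⟨k, hk⟩ := IsPGroup.iff_card.1 hF2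
        have h4 : 1 < Nat.card F := Finite.one_lt_card
        rw [hk] at h4 ⊢
        exact dvd_pow_self 2 (by rintro rfl; simp at h4)
      have h4 : 2 ∣ Nat.card (MulAction.fixedPoints (o2 R) F) := (Nat.modEq_zero_iff_dvd.1 (h2.symm.trans
        (Nat.modEq_zero_iff_dvd.2 h3)))
      have h5 : (1 : F) ∈ MulAction.fixedPoints (o2 R) F := fun q => smul_one q
      have h6 : 1 < Nat.card (MulAction.fixedPoints (o2 R) F) := by
        have h7 : Nat.card (MulAction.fixedPoints (o2 R) F) ≠ 0 := by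
          have : Nonempty (MulAction.fixedPoints (o2 R) F) := ⟨⟨1, h5⟩⟩
          exact Nat.card_pos.ne'
        omega
      have h7 : Nontrivial (MulAction.fixedPoints (o2 R) F) := Finite.one_lt_card_iff_nontrivial.1 h6
      obtain ⟨⟨e, he⟩, hne⟩ := exists_ne (⟨1, h5⟩ : MulAction.fixedPoints (o2 R) F)
      refine ⟨e, e.2, fun h8 => hne (Subtype.ext (Subtype.ext h8)), fun q hq => ?_⟩
      have h8 : (⟨q, hq⟩ : o2 R) • e = e := he ⟨q, hq⟩
      have h9 : q * (e : H) * q⁻¹ = e := congrArg Subtype.val h8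
      rwa [mul_inv_eq_iff_eq_mul] at h9
    have h1 := hirr (F ⊓ centralizer (o2 R : Set H)) inf_le_left (by
      intro l hl e he
      refine ⟨hconj l (hzN hl) e he.1, mem_centralizer_iff.2 fun q hq => ?_⟩
      have h2 : l⁻¹ * q * l ∈ o2 R := by
        have h3 := (mem_normalizer_iff.1 (le_normalizer_o2 R (R.inv_mem (hzN hl))) q).1 hq
        rwa [inv_inv] at h3
      have h4 := mem_centralizer_iff.1 he.2 _ h2
      calc q * (l * e * l⁻¹) = l * ((l⁻¹ * q * l) * e) * l⁻¹ := by group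
        _ = l * (e * (l⁻¹ * q * l)) * l⁻¹ := by rw [h4]
        _ = l * e * l⁻¹ * q := by group)
    rcases h1 with h1 | h1
    · obtain ⟨e, he, he1, heq⟩ := hZ
      have h2 : e ∈ F ⊓ centralizer (o2 R : Set H) := ⟨he, mem_centralizer_iff.2 fun q hq => heq q hq⟩
      rw [h1, mem_bot] at h2
      exact absurd h2 he1
    · intro q hq
      refine L'.cent q fun e he => ?_
      have h2 : e ∈ F ⊓ centralizer (o2 R : Set H) := by rw [h1]; exact he
      exact mem_centralizer_iff.1 h2.2 q hq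
  -- `D = ⟨A^R⟩`
  have hAF : A ≤ F := (low R hTF hRne).trans hoF
  obtain ⟨D, hD⟩ : ∃ D : Subgroup H, D = ⨆ r : R, cj (r : H) A := ⟨_, rfl⟩
  have hDle : D ≤ F := by
    rw [hD]
    refine iSup_le fun r => ?_
    rintro _ ⟨a, ha, rfl⟩
    exact hconj r r.2 a (hAF ha)
  have hAD : A ≤ D := by
    rw [hD]
    refine le_trans (le_of_eq (cj_one A).symm) (le_iSup (fun r : R => cj (r : H) A) 1)
  have hDF : D = F := by
    refine (hirr D hDle fun l hl => ?_).resolve_left fun h => ne (le_bot_iff.1 (h ▸ hAD))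
    have h1 : D ≤ D.comap (MulAut.conj l).toMonoidHom := by
      conv_lhs => rw [hD]
      refine iSup_le fun d => ?_
      rintro _ ⟨a, ha, rfl⟩
      rw [mem_comap, hD]
      refine (le_iSup (fun r : R => cj (r : H) A) (⟨l, hzN hl⟩ * d)) ⟨a, ha, ?_⟩
      change (l * (d : H)) * a * (l * (d : H))⁻¹ = l * ((d : H) * a * (d : H)⁻¹) * l⁻¹
      group
    exact fun x hx => h1 hx
  have h1 := index_le_card (M := M) hA (fun r : R => (r : H))
  rw [← hD, hDF, L'.card] at h1
  exact h1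

end loc

end Cfsg.Agent.Omega.ML.Ex.Prod
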