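import Cfsg.Agent.Omega.ML.Ex.Def
import Cfsg.Agent.Omega.ML.Ex.Prod
import Cfsg.Agent.Omega.ML.LocM22X
import Cfsg.Agent.Omega.ML.Ex.Eleven

/-!
# EXACT + LOW rows: `M22`, `M22:2` (helper278)

`|M : C_M(E)| ≤ 2⁴` for `E = 2⁴ = O₂(2⁴:A6)` (`Prod.index_le_of_loc`), and two conjugates of `E` generate a subgroup
which contains an element of order 11; but a nontrivial module of an element of order 11 has order at least `2¹⁰`.
-/

set_option autoImplicit false

namespace Cfsg.Agent.Omega.ML.Ex.RowM22X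

open Subgroup Cfsg
open Cfsg.Agent.SporadicA.OctadFix
open Cfsg.Agent.UGT.End.Octad
open Cfsg.Agent.J4Type.Aut22
open Cfsg.Agent.Omega.NOThree.NoOver (cj)
open Cfsg.Agent.ClassTwoFusion.Quad
open Cfsg.Agent.Omega.ML.LocK Cfsg.Agent.Omega.ML.LocExt
open Cfsg.Agent.Omega.ML.Ex.Prod
open scoped Pointwise

universe u v

/-- The K-fact of `LocM22` for a given octad. -/
theorem exists_loc_of {K : Subgroup (Equiv.Perm GolayPt)} (hK : K ≤ M24) {O : Finset GolayPt} (hO : O ∈ octads)
    (hE : fixOct O ≤ K) (hodd : ¬ 2 ∣ (MulAction.stabilizer K O).index)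
    (h5 : 5 ∣ Nat.card (MulAction.stabilizer K O)) : ∃ x : K, Loc K ((fixOct O).subgroupOf K) x 5 4 := by
  have hcard := card_fixOct hO
  have hconj : ∀ g : K, (g : Equiv.Perm GolayPt) • O = O → ∀ a ∈ (fixOct O).subgroupOf K,
      g * a * g⁻¹ ∈ (fixOct O).subgroupOf K := by
    intro g hg a ha
    rw [mem_subgroupOf] at ha ⊢
    exact conj_mem (hK g.2) hg ha
  have hinv : ∀ g : K, (g : Equiv.Perm GolayPt) • O = O → ((g⁻¹ : K) : Equiv.Perm GolayPt) • O = O := by
    intro g hg
    conv_lhs => rw [← hg]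
    rw [Subgroup.coe_inv, inv_smul_smul]
  have hcent : ∀ g : K, (∀ a ∈ (fixOct O).subgroupOf K, g * a = a * g) → g ∈ (fixOct O).subgroupOf K := by
    intro g hg
    have hc : ∀ b ∈ fixOct O, (g : Equiv.Perm GolayPt) * b = b * g := by
      intro b hb
      exact congrArg Subtype.val (hg ⟨b, hE hb⟩ (mem_subgroupOf.2 hb))
    have hne : ∃ v ∈ fixOct O, v ≠ 1 := by
      by_contra hcon
      push Not at hcon
      have h1 : fixOct O = ⊥ := (eq_bot_iff_forall _).2 hcon
      rw [h1, card_bot] at hcard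
      omega
    obtain ⟨v, hv, hv1⟩ := hne
    rw [mem_subgroupOf]
    exact mem_fixOct_of_comm hO (hK g.2) (stab_of_comm hO hv hv1 (hc v hv)) hc
  have : Fact (Nat.Prime 5) := ⟨by norm_num⟩
  obtain ⟨x, hx⟩ := exists_prime_orderOf_dvd_card' 5 h5
  have hxO : ((x : K) : Equiv.Perm GolayPt) • O = O := x.2
  have hx5 : orderOf (x : K) = 5 := by rw [Subgroup.orderOf_coe, hx]
  refine ⟨x, ?_⟩
  exact
    { comm := fun a ha b hb => Subtype.ext (mul_comm_fixOct hO (mem_subgroupOf.1 ha) (mem_subgroupOf.1 hb))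
      sq := fun a ha => Subtype.ext (fixOct_sq hO (mem_subgroupOf.1 ha))
      card := by
        rw [Nat.card_congr (subgroupOfEquivOfLe hE).toEquiv, hcard]
        norm_num
      odd := by
        intro h
        refine hodd (h.trans (index_dvd_of_le fun g hg => ?_))
        have hg' : (g : Equiv.Perm GolayPt) • O = O := hg
        refine mem_normalizer_of (hconj g hg') fun a ha => ?_
        have := hconj g⁻¹ (hinv g hg') a ha
        rwa [inv_inv] at this
      cent := hcent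
      prime := by norm_num
      p2 := by norm_num
      ord := hx5
      nd := by
        intro k h0 h1
        interval_cases k <;> omega
      norm := hconj x hxO
      ne := by
        by_contra hcon
        push Not at hcon
        have h1 := hcent _ hcon
        have h2 : (x : K) * x = 1 := Subtype.ext (fixOct_sq hO (mem_subgroupOf.1 h1))
        have h3 := orderOf_dvd_of_pow_eq_one (show (x : K) ^ 2 = 1 by rw [pow_two, h2])
        rw [hx5] at h3
        omega }

/-- the model fact -/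
theorem eleven : ∃ O : Finset GolayPt, O ∈ octads ∧ none ∈ O ∧ some 0 ∈ O ∧ ∃ g ∈ Spor.M22,
    ∃ y ∈ (fixOct O ⊔ cj g (fixOct O) : Subgroup (Equiv.Perm GolayPt)), orderOf y = 11 :=
  ⟨Cfsg.Agent.SporadicA.OctadStab.oct0,
    (Cfsg.Agent.SporadicA.GolayBase.fin_mem_octads_iff (by norm_num)).2 (by decide +kernel),
    Cfsg.Agent.SporadicA.OctadFix.mem_oct0.2 (by decide +kernel),
    Cfsg.Agent.SporadicA.OctadFix.mem_oct0.2 (by decide +kernel), Eleven.exists_eleven⟩

theorem exists_loc11 {K : Subgroup (Equiv.Perm GolayPt)} (hK : Spor.M22 ≤ K) (hK' : K ≤ D22) :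
    ∃ (E : Subgroup K) (x g y : K), Loc K E x 5 4 ∧ orderOf y = 11 ∧ y ∈ E ⊔ cj g E := by
  obtain ⟨O, hO, h0, h1, g, hg, y, hy, hy11⟩ := eleven
  have hi := LocM22X.index_stab hK hK' hO h0 h1
  have hE : fixOct O ≤ K := by
    intro g hg
    rw [mem_fixOct] at hg
    exact hK ((Cfsg.Agent.SporadicA.MathieuRecog.mem_M22_iff g).2 ⟨hg.1, hg.2 _ h0, hg.2 _ h1⟩)
  obtain ⟨x, hx⟩ := exists_loc_of (fun g hg => ((mem_D22_iff g).1 (hK' hg)).1) hO hE (by rw [hi]; omega) (by
    have h2 := card_mul_index (MulAction.stabilizer K O)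
    have h3 := card_dvd_of_le hK
    rw [hi] at h2
    rw [Cfsg.Agent.SporadicA.MathieuRecog.card_M22] at h3
    omega)
  have hle : (fixOct O ⊔ cj g (fixOct O) : Subgroup (Equiv.Perm GolayPt)) ≤
      ((fixOct O).subgroupOf K ⊔ cj ⟨g, hK hg⟩ ((fixOct O).subgroupOf K)).map K.subtype := by
    rw [Subgroup.map_sup]
    refine sup_le_sup ?_ ?_
    · intro a ha
      exact ⟨⟨a, hE ha⟩, mem_subgroupOf.2 ha, rfl⟩
    · rintro _ ⟨a, ha, rfl⟩
      exact ⟨_, ⟨⟨a, hE ha⟩, mem_subgroupOf.2 ha, rfl⟩, rfl⟩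
  obtain ⟨y', hy', rfl⟩ := hle hy
  exact ⟨_, x, ⟨g, hK hg⟩, y', hx, by rw [← hy11]; exact (Subgroup.orderOf_coe y').symm, hy'⟩

/-- `M22` and `M22:2` -/
theorem exists_locX {X : Type*} [Group X] {S : Subgroup X} [S.Normal]
    (hS : ∀ x : X, (∀ s ∈ S, x * s * x⁻¹ = s) → x = 1) (h : Spor.IsoM22 S) :
    ∃ (E : Subgroup X) (x g y : X), Loc X E x 5 4 ∧ orderOf y = 11 ∧ y ∈ E ⊔ cj g E := by
  obtain ⟨e⟩ := h
  obtain ⟨φ, hφ, h1, h2⟩ := exists_embed M22_le_D22 e hS exists_conj fun g hg hm => eq_one_of_centralizes hg hm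
  obtain ⟨E, x, g, y, hE, hy, hyE⟩ := exists_loc11 h1 h2
  let f := (MonoidHom.ofInjective hφ).symm
  refine ⟨_, _, f g, f y, hE.map f, ?_, ?_⟩
  · rw [← hy]
    exact orderOf_injective f.toMonoidHom f.injective y
  · have h3 : f y ∈ (E ⊔ cj g E).map f.toMonoidHom := ⟨y, hyE, rfl⟩
    rw [Subgroup.map_sup] at h3
    have h4 : (cj g E).map f.toMonoidHom ≤ cj (f g) (E.map f.toMonoidHom) := by
      rintro _ ⟨_, ⟨a, ha, rfl⟩, rfl⟩
      refine ⟨f a, ⟨a, ha, rfl⟩, ?_⟩
      change f g * f a * (f g)⁻¹ = f (g * a * g⁻¹)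
      rw [map_mul, map_mul, map_inv]
    exact sup_le_sup le_rfl h4 h3

/-- no normal 2-subgroups -/
theorem core_bot {H : Type u} [Group H] [Finite H] {M : Type v} [Group M] [Finite M] [MulDistribMulAction H M]
    {K T A : Subgroup H} (h : InX H M K T A) {N : Subgroup H} (hN : N.Normal) (hN2 : IsPGroup 2 N) : N = ⊥ := by
  have hf : Fact (Nat.Prime 2) := ⟨Nat.prime_two⟩
  have hall : (∀ m ∈ cv M (N : Set H), m = 1) ∨ ∀ m : M, m ∈ cv M (N : Set H) := by
    rcases h.irr (cv M (N : Set H)) (by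
      intro x w hw a ha
      have h1 : x⁻¹ * a * x ∈ N := by
        have := hN.conj_mem a ha x⁻¹
        rwa [inv_inv] at this
      have h2 := hw _ h1
      calc a • x • w = x • (x⁻¹ * a * x) • w := by rw [← mul_smul, ← mul_smul]; congr 1; group
        _ = x • w := by rw [h2]) with h1 | h1
    · left
      intro m hm
      rw [h1] at hm
      exact mem_bot.1 hm
    · right
      intro m
      rw [h1]
      exact mem_top m
  rw [eq_bot_iff]
  intro n hn
  refine mem_bot.2 (h.faith n fun m => ?_)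
  rcases hall with h1 | h1
  · have h2 := hN2.card_modEq_card_fixedPoints M
    have h3 : Nat.card (MulAction.fixedPoints N M) = 1 := by
      rw [Nat.card_eq_one_iff_unique]
      refine ⟨⟨fun a b => ?_⟩, ⟨⟨1, fun n => smul_one n⟩⟩⟩
      have ha := h1 a fun n hn => a.2 ⟨n, hn⟩
      have hb := h1 b fun n hn => b.2 ⟨n, hn⟩
      exact Subtype.ext (ha.trans hb.symm)
    rw [h3] at h2
    obtain ⟨k, hk⟩ := IsPGroup.iff_card.1 h.M_two
    have h4 : Nat.card M = 1 := by
      rw [hk] at h2 ⊢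
      cases k with
      | zero => rfl
      | succ k =>
        exfalso
        have h5 : 2 ^ (k + 1) % 2 = 1 % 2 := h2
        rw [pow_succ] at h5
        omega
    have h5 := (Nat.card_eq_one_iff_unique.1 h4).1
    exact Subsingleton.elim _ _
  · exact h1 m n hn

/-- **The row `M22`.** -/
theorem deadX : DeadX.{u, v} @Spor.IsoM22 := by
  intro H _ _ M _ _ _ K T A h hS
  have := h.norm
  obtain ⟨E, x, g, y, L, hy, hyE⟩ := exists_locX (X := H) (S := K) (by
    intro x hx
    have h1 : x ∈ centralizer (K : Set H) := by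
      refine mem_centralizer_iff.2 fun s hs => ?_
      have h2 := hx s hs
      rw [mul_inv_eq_iff_eq_mul] at h2
      exact h2.symm
    rw [h.cen] at h1
    exact mem_bot.1 h1) hS
  have hoff := Off.of_exact (M := M) h.exact fun C hC => h.sub C hC
  have hcore : ∀ N : Subgroup H, N.Normal → IsPGroup 2 N → N = ⊥ := by
    intro N hN hN2
    exact core_bot h hN hN2
  have hi := index_le_of_loc (M := M) L h.two h.syl h.A_ne_bot hoff h.low hcore
  have h8 : (cv M ((E ⊔ cj g E : Subgroup H) : Set H)).index ≤ 2 ^ 8 := by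
    refine (index_sup_le E (cj g E)).trans ?_
    rw [index_cj]
    calc _ ≤ 2 ^ 4 * 2 ^ 4 := Nat.mul_le_mul hi hi
      _ = 2 ^ 8 := by norm_num
  refine false_of_prime_mem (M := M) h.sq h.faith h8 (r := 11) (by norm_num) (by norm_num) ?_ hy fun w hw => hw y hyE
  intro j h1 h2
  interval_cases j <;> norm_num

end Cfsg.Agent.Omega.ML.Ex.RowM22X
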