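import Cfsg.Agent.Omega.ML.Ex.RkX
import Cfsg.Agent.Omega.ML.RowM23

/-!
# Exact and low configurations: the group-theoretic row M23 over `ASx` (helper333)
-/

set_option autoImplicit false

namespace Cfsg.Agent.Omega.ML.Ex.RowM23X

open Subgroup Cfsg Cfsg.Agent.ZN Cfsg.Agent.Omega.TwoF Cfsg.Agent.Omega.ML.Rows

universe u v

/-- **The row `M23`**: `A = 1`. -/
theorem m23 : DeadGx.{u} 1 (fun S _ => Spor.IsoM23 S) := by
  intro X _ _ S T A h hS
  have hp : Fact (Nat.Prime 2) := ⟨Nat.prime_two⟩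
  have htop : S = ⊤ := h.top_of_inn fun α => by
    obtain ⟨k, hk⟩ := Cfsg.Agent.KFacts.M23.OutOne.exists_conj' hS α
    exact ⟨k, MulEquiv.ext fun x => hk x⟩
  obtain ⟨e⟩ := hS
  obtain ⟨R, hs, hi, hc⟩ := RowM23.exists_M22
  have e' : R.comap e.toMonoidHom ≃* R :=
    ((R.comap e.toMonoidHom).equivMapOfInjective _ e.injective).trans
      (MulEquiv.subgroupCongr (map_comap_eq_self_of_surjective e.surjective R))
  refine h.card_le_of_odd_index_simple htop (R := R.comap e.toMonoidHom) ?_ ?_ e'.isSimpleGroup ?_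
  · rw [index_comap_of_surjective _ e.surjective, hi]
    norm_num
  · intro h1
    have h2 := index_comap_of_surjective R (f := e.toMonoidHom) e.surjective
    rw [h1, index_top, hi] at h2
    omega
  · intro h1
    obtain ⟨n, hn⟩ := IsPGroup.iff_card.1 h1
    rw [Nat.card_congr e'.toEquiv, hc] at hn
    have h3 : (3 : ℕ) ∣ 2 ^ n := hn ▸ by norm_num
    have h4 := Nat.Prime.dvd_of_dvd_pow Nat.prime_three h3
    omega

/-- **The row is dead.** -/
theorem m23_dead : DeadX.{u, v} (fun S _ => Spor.IsoM23 S) := m23.deadX (by norm_num)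

end Cfsg.Agent.Omega.ML.Ex.RowM23X
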