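import Cfsg.Agent.Omega.ML.Ex.RowM22X
import Cfsg.Agent.Omega.ML.RowM24
import Cfsg.Agent.SporadicStructure.M24IndexMain
import Cfsg.Agent.SporadicA.GolayCount

/-!
# EXACT + LOW rows: `M24` (helper278)

As for `M22`: `|M : C_M(E)| ≤ 2⁴` for `E = 2⁴ = O₂(2⁴:A8)`, and two conjugates of `E` generate a subgroup which
contains an element of order 11.
-/

set_option autoImplicit false

namespace Cfsg.Agent.Omega.ML.Ex.RowM24X

open Subgroup Cfsg
open Cfsg.Agent.SporadicA.OctadFix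
open Cfsg.Agent.UGT.End.Octad
open Cfsg.Agent.Omega.NOThree.NoOver (cj)
open Cfsg.Agent.ClassTwoFusion.Quad
open Cfsg.Agent.Omega.ML.LocK
open Cfsg.Agent.Omega.ML.Ex.Prod
open scoped Pointwise

universe u v

theorem index_stab {O : Finset GolayPt} (hO : O ∈ octads) : (MulAction.stabilizer M24 O).index = 759 := by
  refine Cfsg.Agent.SporadicStructure.M24IndexMain.index_octad (fun o o' ho ho' => ?_)
    Cfsg.Agent.SporadicA.GolayCount.octads_ncard hO
  obtain ⟨g, hg, h⟩ := Cfsg.Agent.SporadicA.OctadStab.exists_smul_eq_oct0 ho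
  obtain ⟨k, hk, h'⟩ := Cfsg.Agent.SporadicA.OctadStab.exists_smul_eq_oct0 ho'
  refine ⟨⟨k⁻¹ * g, M24.mul_mem (M24.inv_mem hk) hg⟩, ?_⟩
  change (k⁻¹ * g) • o = o'
  rw [mul_smul, h, ← h', inv_smul_smul]

theorem exists_loc11 : ∃ (E : Subgroup M24) (x g y : M24), Loc M24 E x 5 4 ∧ orderOf y = 11 ∧ y ∈ E ⊔ cj g E := by
  obtain ⟨O, hO, h0, h1, g, hg, y, hy, hy11⟩ := RowM22X.eleven
  have hi := index_stab hO
  have hE : fixOct O ≤ M24 := fun g hg => (mem_fixOct.1 hg).1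
  have hgM : g ∈ M24 := ((Cfsg.Agent.SporadicA.MathieuRecog.mem_M22_iff g).1 hg).1
  obtain ⟨x, hx⟩ := RowM22X.exists_loc_of le_rfl hO hE (by rw [hi]; omega) (by
    have h2 := card_mul_index (MulAction.stabilizer M24 O)
    rw [hi, SporadicA.M24Trans.card_M24] at h2
    omega)
  have hle : (fixOct O ⊔ cj g (fixOct O) : Subgroup (Equiv.Perm GolayPt)) ≤
      ((fixOct O).subgroupOf M24 ⊔ cj ⟨g, hgM⟩ ((fixOct O).subgroupOf M24)).map M24.subtype := by
    rw [Subgroup.map_sup]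
    refine sup_le_sup ?_ ?_
    · intro a ha
      exact ⟨⟨a, hE ha⟩, mem_subgroupOf.2 ha, rfl⟩
    · rintro _ ⟨a, ha, rfl⟩
      exact ⟨_, ⟨⟨a, hE ha⟩, mem_subgroupOf.2 ha, rfl⟩, rfl⟩
  obtain ⟨y', hy', rfl⟩ := hle hy
  exact ⟨_, x, ⟨g, hgM⟩, y', hx, by rw [← hy11]; exact (Subgroup.orderOf_coe y').symm, hy'⟩

/-- transport -/
theorem map_loc11 {X Y : Type*} [Group X] [Group Y] (f : X ≃* Y)
    (h : ∃ (E : Subgroup X) (x g y : X), Loc X E x 5 4 ∧ orderOf y = 11 ∧ y ∈ E ⊔ cj g E) :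
    ∃ (E : Subgroup Y) (x g y : Y), Loc Y E x 5 4 ∧ orderOf y = 11 ∧ y ∈ E ⊔ cj g E := by
  obtain ⟨E, x, g, y, hE, hy, hyE⟩ := h
  refine ⟨_, _, f g, f y, hE.map f, ?_, ?_⟩
  · rw [← hy]
    exact orderOf_injective f.toMonoidHom f.injective y
  · have h3 : f y ∈ (E ⊔ cj g E).map f.toMonoidHom := ⟨y, hyE, rfl⟩
    rw [Subgroup.map_sup] at h3
    have h4 : (cj g E).map f.toMonoidHom ≤ cj (f g) (E.map f.toMonoidHom) := by
      rintro _ ⟨_, ⟨a, ha, rfl⟩, rfl⟩
      refine ⟨f a, ⟨a, ha, rfl⟩, ?_⟩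
      change f g * f a * (f g)⁻¹ = f (g * a * g⁻¹)
      rw [map_mul, map_mul, map_inv]
    exact sup_le_sup le_rfl h4 h3

/-- no outer automorphisms -/
theorem eq_top_of_inner {X : Type*} [Group X] {S : Subgroup X} [S.Normal] (cen : centralizer (S : Set X) = ⊥)
    (inn : ∀ α : MulAut S, ∃ k, α = MulAut.conj k) : S = ⊤ := by
  rw [eq_top_iff]
  intro x _
  obtain ⟨k, hk⟩ := inn (MulAut.conjNormal x)
  have h1 : (k : X)⁻¹ * x ∈ centralizer (S : Set X) := by
    refine mem_centralizer_iff.2 fun s hs => ?_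
    have h2 := congrArg (fun f : MulAut S => ((f ⟨s, hs⟩ : S) : X)) hk
    change x * s * x⁻¹ = k * s * (k : X)⁻¹ at h2
    have h3 : x * s = k * s * (k : X)⁻¹ * x := by rw [← h2]; group
    calc s * ((k : X)⁻¹ * x) = (k : X)⁻¹ * (k * s * (k : X)⁻¹ * x) := by group
      _ = (k : X)⁻¹ * (x * s) := by rw [h3]
      _ = _ := by group
  rw [cen, mem_bot, inv_mul_eq_one] at h1
  rw [← h1]
  exact k.2

/-- the end, for every group with the fact -/
theorem false_of {H : Type u} [Group H] [Finite H] {M : Type v} [Group M] [Finite M] [MulDistribMulAction H M]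
    {K T A : Subgroup H} (h : InX H M K T A)
    (hf : ∃ (E : Subgroup H) (x g y : H), Loc H E x 5 4 ∧ orderOf y = 11 ∧ y ∈ E ⊔ cj g E) : False := by
  obtain ⟨E, x, g, y, L, hy, hyE⟩ := hf
  have hoff := Off.of_exact (M := M) h.exact fun C hC => h.sub C hC
  have hi := index_le_of_loc (M := M) L h.two h.syl h.A_ne_bot hoff h.low fun N hN hN2 => RowM22X.core_bot h hN hN2
  have h8 : (cv M ((E ⊔ cj g E : Subgroup H) : Set H)).index ≤ 2 ^ 8 := by
    refine (index_sup_le E (cj g E)).trans ?_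
    rw [index_cj]
    calc _ ≤ 2 ^ 4 * 2 ^ 4 := Nat.mul_le_mul hi hi
      _ = 2 ^ 8 := by norm_num
  refine false_of_prime_mem (M := M) h.sq h.faith h8 (r := 11) (by norm_num) (by norm_num) ?_ hy fun w hw => hw y hyE
  intro j h1 h2
  interval_cases j <;> norm_num

/-- **The row `M24`.** -/
theorem deadX : DeadX.{u, v} (fun S _ => Spor.IsoM24 S) := by
  intro H _ _ M _ _ _ K T A h hS
  have := h.norm
  have htop := eq_top_of_inner h.cen (RowM24.inner hS)
  obtain ⟨e⟩ := hS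
  refine false_of h (map_loc11 (e.symm.trans ((MulEquiv.subgroupCongr htop).trans Subgroup.topEquiv)) exists_loc11)

end Cfsg.Agent.Omega.ML.Ex.RowM24X
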