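import Cfsg.Agent.Omega.ML.Ex.RkX
import Cfsg.Agent.Omega.ML.RowMT

/-!
# Exact and low configurations: the group-theoretic rows McL, Ly over `ASx` (helper333)
-/

set_option autoImplicit false

namespace Cfsg.Agent.Omega.ML.Ex.RowMTX

open Subgroup Cfsg Cfsg.Agent.ZN Cfsg.Agent.Omega.TwoF Cfsg.Agent.Omega.ML.Rows
open Cfsg.Agent.TypeM.Two (MT)

universe u v

theorem card_le {X : Type u} [Group X] [Finite X] {S T A : Subgroup X} (h : ASx S T A) {n k : ℕ} (hn : 5 ≤ n)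
    (L : MT n S) (h2 : 2 ∣ Nat.card S) (hk : (MulAut.conj : S →* MulAut S).range.index ≤ k) : Nat.card A ≤ 2 * k := by
  refine h.card_le_of_inv h2 (n := 2) (k := k) (fun z hz hz1 Q hQ hQ2 hN => ?_) hk
  obtain ⟨L', hL'⟩ := L.exists_rebase hz hz1
  rw [← hL'] at hQ hN
  exact RowMT.card_le_two hn L' Q hQ hQ2 hN

/-- **The row `McL`.** -/
theorem mcl : DeadGx.{u} 4 (fun S _ => Spor.IsoMcL S) := by
  intro X _ _ S T A h hS
  obtain ⟨hfin, hs, hc, ⟨L⟩⟩ := Cfsg.Agent.TypeM.FactsMcL.facts hS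
  refine card_le h (k := 2) (by norm_num) L (by rw [hc]; norm_num) ?_
  rcases RowMcL.index_cases L hc with h1 | h1 <;> rw [h1]
  norm_num

/-- **The row `Ly`.** -/
theorem ly : DeadGx.{u} 2 (fun S _ => Spor.IsoLy S) := by
  intro X _ _ S T A h hS
  obtain ⟨hfin, hs, hc, ⟨L⟩⟩ := Cfsg.Agent.TypeM.FactsLy.facts hS
  refine card_le h (k := 1) (by norm_num) L (by rw [hc]; norm_num) ?_
  have h1 : (MulAut.conj : S →* MulAut S).range = ⊤ := by
    rw [eq_top_iff]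
    exact fun φ _ => Cfsg.Agent.TypeM.OutLyFin.inner hS φ
  rw [h1, index_top]

/-- **The row is dead.** -/
theorem ly_dead : DeadX.{u, v} (fun S _ => Spor.IsoLy S) := ly.deadX (by norm_num)

end Cfsg.Agent.Omega.ML.Ex.RowMTX
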