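import Cfsg.Agent.Omega.ML.Ex.Inv
import Cfsg.Agent.Omega.ML.RowRu

/-!
# The K-list for EXACT subgroups (EXL): the row Ru (helper638)

`m₂(Aut Ru) ≤ 11`, `Out Ru = 1`, and every involution inverts an element `w` with `dim [M, w] ≥ 24` (`RowRu.invAt` of
helper226), so `|M : C_M(x)| ≥ 2^12 > |A|` for the involutions `x ∈ A`.

* `dead_of_model` : `Inv.dead_strong` from a model;
* **`dead : DeadX IsoRu`**.
-/

set_option autoImplicit false

namespace Cfsg.Agent.Omega.ML.Ex.RowRuX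

open Subgroup Cfsg Cfsg.Agent.Omega.ML.Rows Cfsg.Agent.Omega.ML.InvChain Cfsg.Agent.Omega.ML.InvTool
open Cfsg.Agent.Omega.TwoF

universe u v w

/-- **The row from a model**, strong form. -/
theorem dead_of_model {S₀ : Type w} [Group S₀] {n : ℕ} (hrk : RK S₀ n)
    (hout : (MulAut.conj : S₀ →* MulAut S₀).range.index < 4) (hinv : ∀ x : S₀, x * x = 1 → x ≠ 1 → InvAt x (n + 1)) :
    DeadX.{u, v} (fun S _ => Nonempty (S ≃* S₀)) := by
  apply Inv.dead_strong
  rintro S _ _ ⟨e⟩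
  refine ⟨n, hrk.equiv e, by rwa [index_conj_eq e], fun x h2 h1 => ?_⟩
  have h3 := hinv (e x) (by rw [← map_mul, h2, map_one]) (fun h => h1 (e.injective (h.trans (map_one e).symm)))
  have h4 := h3.map e.symm.toMonoidHom e.symm.injective
  have h5 : e.symm.toMonoidHom (e x) = x := e.symm_apply_apply x
  rwa [h5] at h4

theorem dead_model : DeadX.{u, v} (fun S _ => Nonempty (S ≃* SporadicB.RuOrder.H)) :=
  dead_of_model (n := 11) (RowTool.toRK TwoF.RowRu.center_eq TwoF.RowRu.rk)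
    (by rw [TwoF.RowRu.range_eq, index_top]; norm_num) fun _ h2 h1 => ML.RowRu.invAt h2 h1

/-- **The row Ru.** -/
theorem dead : DeadX.{u, v} @Spor.IsoRu := by
  intro H _ _ M _ _ _ K T A h hS
  obtain ⟨e⟩ := hS
  exact dead_model H M K T A h ⟨e.trans Cfsg.Agent.RuLat.Main.equiv⟩

end Cfsg.Agent.Omega.ML.Ex.RowRuX
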