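import Cfsg.Agent.Omega.ML.Ex.ShInvX
import Cfsg.Agent.Omega.ML.RowSuz

/-!
# Exact and low configurations, the row `Suz` (with `Suz.2`) (helper202)

`A ^ g ≤ O₂(C_X(z)) ≤ R = 2^{1+6}_-`, so `|A| ≤ 8`; `A ^ g` contains an involution `y ≠ z` of `R`, which inverts an element
of order 5 in a Frobenius group `11 : 5`, so `|M : C_M(y)| ≥ 16 > |A|`.
-/

set_option autoImplicit false

namespace Cfsg.Agent.Omega.ML.Ex.RowSuz

open Cfsg Cfsg.Spor Cfsg.Agent.SuzThree.QZero Cfsg.Agent.KFacts.SuzSheet Cfsg.Agent.Omega.ML.InvChain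
open Cfsg.Agent.OddHalf.D8.JTwo.Sheet Cfsg.Agent.SuzThree.Basic Cfsg.Agent.SuzThree.CentA
open Cfsg.Agent.KFacts.SuzCent Cfsg.Agent.KFacts.SuzR

universe u v

/-- **The row `Suz`.** -/
theorem deadX : DeadX.{u, v} (fun S _ => IsoSuz S) := by
  refine deadX_of_sheetInv ?_
  rintro S _ _ ⟨e⟩
  refine ⟨e.symm z0, _, _, 3, of_sheetE (KFacts.SheetIso.sheetE_map e.symm KFacts.SuzSheetE.sheetE), ?_, ?_⟩
  · intro B hB hBe
    have h1 : B.map e.toMonoidHom ≤ Q0 := by
      rintro _ ⟨b, hb, rfl⟩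
      have h2 := (KFacts.SheetIso.mem_map' e.symm).1 (hB hb)
      exact h2
    have h2 := Omega.TwoF.RowSuz.card_le_eight h1 (by
      rintro _ ⟨b, hb, rfl⟩
      rw [← map_mul, hBe b hb, map_one])
    rwa [Subgroup.card_map_of_injective e.injective] at h2
  · intro y hy hyy h1 hz
    have h2 : e y ∈ Q0 := (KFacts.SheetIso.mem_map' e.symm).1 hy
    have h3 : InvAt (e y) 4 := ML.RowSuz.invAt_R h2 (by rw [← map_mul, hyy, map_one]) (by
      intro h3
      exact h1 (by rwa [map_eq_one_iff e e.injective] at h3)) (by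
      intro h3
      exact hz (by rw [← h3, e.symm_apply_apply]))
    have h4 := h3.map e.symm.toMonoidHom e.symm.injective
    have h5 : e.symm.toMonoidHom (e y) = y := e.symm_apply_apply y
    rwa [h5] at h4

end Cfsg.Agent.Omega.ML.Ex.RowSuz
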