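import Cfsg.Agent.Omega.ML.Ex.Known
import Cfsg.Agent.Omega.ML.ExLow.Alt
import Cfsg.Agent.Omega.ML.Ex.RowM11X
import Cfsg.Agent.Omega.ML.Ex.RowM12X
import Cfsg.Agent.Omega.ML.Ex.RowM22X
import Cfsg.Agent.Omega.ML.Ex.RowM23X
import Cfsg.Agent.Omega.ML.Ex.RowM24X
import Cfsg.Agent.Omega.ML.Ex.RowJ1X
import Cfsg.Agent.Omega.ML.Ex.RowJ4X
import Cfsg.Agent.Omega.ML.Ex.RowCo1
import Cfsg.Agent.Omega.ML.Ex.RowCo2X
import Cfsg.Agent.Omega.ML.Ex.RowTitsX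
import Cfsg.Agent.Omega.ML.Ex.RowLTwoX
import Cfsg.Agent.Omega.ML.Ex.OddLieX
import Cfsg.Agent.Omega.ML.Ex.KnownN
import Cfsg.Agent.Omega.ML.Ex.LA
import Cfsg.Agent.Omega.ML.Ex.Two
import Cfsg.Agent.Omega.ML.Ex.RowASixN
import Cfsg.Agent.Omega.ML.Ex.RowJ23Y
import Cfsg.Agent.Omega.ML.Ex.RowCo3X
import Cfsg.Agent.Omega.ML.Ex.RowMcLX
import Cfsg.Agent.Omega.ML.Ex.RowHSX
import Cfsg.Agent.Omega.ML.Ex.RowSuz
import Cfsg.Agent.Omega.ML.Ex.RowHeFiX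
import Cfsg.Agent.Omega.ML.Ex.RowRuX
import Cfsg.Agent.Omega.ML.Ex.RowONX
import Cfsg.Agent.Omega.ML.Ex.RowMTX
import Cfsg.Agent.Omega.ML.Ex.RowFi23X
import Cfsg.Agent.Omega.ML.ExEx.RowFi24
import Cfsg.Agent.Omega.ML.ExEx.RowHN
import Cfsg.Agent.Omega.ML.ExEx.RowBM

/-!
# The K-list for EXACT subgroups (EXL) (helper484)

`rows : RowsX`, and the closed exits
* **`exitX : ExitX`** (helper854, `LA.lean`) : a simple group with an offender sheet (`InX`) is of Lie type in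
  characteristic 2, `U₃(3)` or `A₆`;
* **`exitN : Two.ExitN`** (helper585, `Two.lean`): over `InN` there is no `A₆`.
-/

set_option autoImplicit false

namespace Cfsg.Agent.Omega.ML.Ex.KnownDone

open Cfsg Cfsg.Agent.Omega.ML.Ex Cfsg.Agent.Omega.ML.Known Cfsg.Agent.Omega.ML.Rows

universe u v

/-- **The groups of Lie type in odd characteristic** -/
theorem odd : DeadX.{u, v} fun S _ => OddLie S ∧ ¬ IsLieTypeChar 2 S ∧ ¬ IsUThreeThree S ∧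
    ¬ Nonempty (S ≃* alternatingGroup (Fin 6)) :=
  (RowLTwoX.deadX.or (OddLieX.small.or ExLow.Dead.deadX)).mono fun S _ h => by
    rcases OddLieX.cases.{u, v} h.1 h.2.1 h.2.2.1 h.2.2.2 with h1 | h1 | h1
    · exact Or.inl ⟨h.2.1, h1⟩
    · exact Or.inr (Or.inl h1)
    · exact Or.inr (Or.inr h1)

/-- **The rows.** -/
theorem rows : RowsX.{u, v} where
  alt := ExLow.Alt.deadX_alt
  odd := odd
  tits := RowTitsX.deadX
  m11 := RowM11X.m11_dead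
  m12 := RowM12X.deadX
  m22 := RowM22X.deadX
  m23 := RowM23X.m23_dead
  m24 := RowM24X.deadX
  j1 := RowJ1X.j1_dead
  j2 := RowJ23Y.deadX_J2
  j3 := RowJ23Y.deadX_J3
  j4 := RowJ4X.deadX
  co1 := RowCo1.deadX
  co2 := RowCo2X.deadX
  co3 := RowCo3X.co3_dead
  mcl := RowMcLX.mcl_dead
  hs := RowHSX.deadEx
  suz := RowSuz.deadX
  he := RowHeFiX.deadX_he
  ru := RowRuX.dead
  on := RowONX.on_dead
  ly := RowMTX.ly_dead
  fi22 := RowHeFiX.deadX_fi22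
  fi23 := RowFi23X.fi23_dead
  fi24 := ExEx.RowFi24.deadX
  hn := ExEx.RowHN.deadX
  th := ExEx.RowBM.thompson
  b := ExEx.RowBM.baby
  m := ExEx.RowBM.monster

/-- helper854: **`ExitX`** (LA.lean) -/
theorem exitX : ExitX.{u, v} := fun _ _ _ _ _ _ _ _ _ _ hI hS => rows.exit hI hS

/-- helper585: **`ExitN`** (Two.lean) -/
theorem exitN : Two.ExitN.{u, v} := fun _ _ _ _ _ _ _ _ _ _ hI hS => rows.exitN RowASixN.deadN hI hS

end Cfsg.Agent.Omega.ML.Ex.KnownDone
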