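import Cfsg.Agent.Omega.ML.Ex.RedDef

/-!
# THEOREM RED, steps (1), (3): the components (helper995)

For `h : Mn T B lam`:

* `Mn.sub_bot`, `Mn.odd_bot`, `Mn.nilp_bot` : no subnormal 2-subgroup, subgroup of odd order, nilpotent subgroup;
* `Mn.exists_component` : some component is not centralised by `B`;
* **`Mn.exists_cmp`** : `∃ K E, Cmp T B K E lam ∧ ¬ B ≤ C(E)`.
-/

set_option autoImplicit false

namespace Cfsg.Agent.Omega.ML.Ex.Red

open Subgroup Cfsg Cfsg.Agent.ZN Cfsg.Agent.Omega.NOThree.NoOver Cfsg.Agent.Omega.ML.CD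
open Cfsg.Agent.ClassTwoFusion.Quad Cfsg.Agent.Omega.ML.MinFrame
open Cfsg.Agent.MinSimple.VModule (o2_isPGroup o2_le le_o2 le_normalizer_o2 o2_le_of_sylow)
open Cfsg.Agent.SignalizersComponents.Components Cfsg.Agent.SignalizersComponents.CompBasic

universe u v

section grp

variable {X : Type*} [Group X]

/-- `x y ∈ T`, `x ∈ E`, `y ∈ C(E)`, `Z(E) = 1` : `x ∈ T` if `T ∩ E` is a Sylow 2-subgroup of `E` -/
theorem mem_of_mul_mem [Finite X] {T E : Subgroup X} (hT : IsPGroup 2 T) (hE : ¬ 2 ∣ T.relIndex E)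
    (hZ : E ⊓ centralizer (E : Set X) = ⊥) {x y : X} (hx : x ∈ E) (hy : y ∈ centralizer (E : Set X))
    (hxy : x * y ∈ T) : x ∈ T := by
  have : Fact (Nat.Prime 2) := ⟨Nat.prime_two⟩
  have hcom : ∀ a ∈ E, ∀ b ∈ centralizer (E : Set X), a * b = b * a := fun a ha b hb => mem_centralizer_iff.1 hb a ha
  let Q : Subgroup X :=
    { carrier := {a | a ∈ E ∧ ∃ b ∈ centralizer (E : Set X), a * b ∈ T}
      one_mem' := ⟨E.one_mem, 1, Subgroup.one_mem _, by simp [T.one_mem]⟩
      mul_mem' := by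
        rintro a c ⟨ha, b, hb, hab⟩ ⟨hc, d, hd, hcd⟩
        refine ⟨E.mul_mem ha hc, b * d, Subgroup.mul_mem _ hb hd, ?_⟩
        have e : a * c * (b * d) = a * b * (c * d) := by
          calc a * c * (b * d) = a * (c * b) * d := by group
            _ = a * (b * c) * d := by rw [hcom c hc b hb]
            _ = _ := by group
        rw [e]
        exact T.mul_mem hab hcd
      inv_mem' := by
        rintro a ⟨ha, b, hb, hab⟩
        refine ⟨E.inv_mem ha, b⁻¹, Subgroup.inv_mem _ hb, ?_⟩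
        have e : a⁻¹ * b⁻¹ = (a * b)⁻¹ := by rw [hcom a ha b hb]; group
        rw [e]
        exact T.inv_mem hab }
  have hQE : Q ≤ E := fun a ha => ha.1
  have hTQ : T ⊓ E ≤ Q := fun a ha => ⟨ha.2, 1, Subgroup.one_mem _, by simpa using ha.1⟩
  have hQ2 : IsPGroup 2 Q := by
    rintro ⟨a, ha, b, hb, hab⟩
    obtain ⟨k, hk⟩ := hT ⟨_, hab⟩
    refine ⟨k, Subtype.ext ?_⟩
    have h1 : (a * b) ^ 2 ^ k = 1 := congrArg Subtype.val hk
    have h2 : Commute a b := hcom a ha b hb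
    rw [h2.mul_pow] at h1
    have h3 : a ^ 2 ^ k = (b ^ 2 ^ k)⁻¹ := mul_eq_one_iff_eq_inv.1 h1
    have h4 : a ^ 2 ^ k ∈ E ⊓ centralizer (E : Set X) :=
      ⟨E.pow_mem ha _, h3 ▸ Subgroup.inv_mem _ (Subgroup.pow_mem _ hb _)⟩
    rw [hZ] at h4
    exact mem_bot.1 h4
  have h1 : (T ⊓ E).relIndex Q ∣ T.relIndex E := by
    rw [← inf_relIndex_right T E, ← relIndex_mul_relIndex _ _ _ hTQ hQE]
    exact dvd_mul_right _ _
  have h2 : (T ⊓ E).relIndex Q = 1 := by
    obtain ⟨n, hn⟩ := IsPGroup.iff_card.1 hQ2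
    have h3 : (T ⊓ E).relIndex Q ∣ 2 ^ n := by
      rw [← hn]
      exact relIndex_dvd_card _ _
    obtain ⟨j, -, hj⟩ := (Nat.dvd_prime_pow Nat.prime_two).1 h3
    rcases Nat.eq_zero_or_pos j with h4 | h4
    · rw [hj, h4, pow_zero]
    · exact absurd ((hj ▸ dvd_pow_self 2 h4.ne').trans h1) hE
  have h3 : Q ≤ T ⊓ E := relIndex_eq_one.1 h2
  exact (h3 ⟨hx, y, hy, hxy⟩).1

end grp

variable {X : Type u} [Group X] [Finite X] {M : Type v} [Group M] [MulDistribMulAction X M]
  {T B : Subgroup X} {lam : M}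

namespace Mn

omit [Finite X] in
theorem comm (h : Mn T B lam) (x y : M) : x * y = y * x := comm_of_sq' h.sq x y

omit [Finite X] in
theorem B_ne_bot (h : Mn T B lam) : B ≠ ⊥ := by
  intro h1
  have h2 := h.four
  rw [h1, card_bot] at h2
  omega

omit [Finite X] in
theorem B_comm (h : Mn T B lam) : ∀ a ∈ B, ∀ b ∈ B, a * b = b * a := by
  intro a ha b hb
  have h1 : ∀ z ∈ B, z⁻¹ = z := fun z hz => inv_eq_of_mul_eq_one_right (h.el z hz)
  calc a * b = (a * b)⁻¹ := (h1 _ (B.mul_mem ha hb)).symm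
    _ = b⁻¹ * a⁻¹ := mul_inv_rev _ _
    _ = b * a := by rw [h1 _ ha, h1 _ hb]

omit [Finite X] in
/-- the stabiliser of `lam` is proper -/
theorem stab_ne_top (h : Mn T B lam) : MulAction.stabilizer X lam ≠ ⊤ := by
  intro h1
  apply h.B_ne_bot
  rw [eq_bot_iff]
  intro b _
  rw [mem_bot]
  apply h.faith
  have h2 : b ∈ fxr X (orb (⊤ : Subgroup X) lam) := by
    rw [mem_fxr_orb]
    intro g _
    have h3 : ∀ x : X, x • lam = lam := fun x => by
      have : x ∈ MulAction.stabilizer X lam := h1 ▸ mem_top x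
      exact this
    rw [h3 g, h3 b]
  rw [h.gen] at h2
  exact fun m => h2 m (mem_top m)

omit [Finite X] in
theorem ne_top (h : Mn T B lam) : T ≠ ⊤ := fun h1 => h.stab_ne_top (by
  rw [eq_top_iff, ← h1]
  exact fun t ht => h.fixT t ht)

omit [Finite X] in
theorem B_le_o2 (h : Mn T B lam) : B ≤ o2 T := h.low T le_rfl h.ne_top

omit [Finite X] in
theorem B_le (h : Mn T B lam) : B ≤ T := h.B_le_o2.trans (o2_le T)

theorem o2_eq_bot (h : Mn T B lam) {N : Subgroup X} (hN : N.Normal) (h2 : IsPGroup 2 N) : N = ⊥ := by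
  rw [eq_bot_iff]
  intro x hx
  rw [mem_bot]
  apply h.faith
  have h1 : N ≤ T := by
    have h3 : N ≤ o2 (⊤ : Subgroup X) := Cfsg.Agent.MinSimple.VModule.le_o2 le_top h2
      (MinFrame.le_normalizer_of fun g _ x hx => hN.conj_mem x hx g)
    exact h3.trans (o2_le_of_sylow h.two (by rw [relIndex_top_right]; exact h.syl))
  have h3 : x ∈ fxr X (orb (⊤ : Subgroup X) lam) := by
    rw [mem_fxr_orb]
    intro g _
    have h4 : g⁻¹ * x * g ∈ T := by
      have := hN.conj_mem x hx g⁻¹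
      rw [inv_inv] at this
      exact h1 this
    have h5 := h.fixT _ h4
    rw [mul_smul, mul_smul, inv_smul_eq_iff] at h5
    exact h5
  rw [h.gen] at h3
  exact fun m => h3 m (mem_top m)

theorem sub_bot (h : Mn T B lam) (N : Subgroup X) (hN : N.IsSubnormal) (h2 : IsPGroup 2 N) : N = ⊥ := by
  have h1 := h.o2_eq_bot (Lib.Cores.pCore_normal (G := X) 2) (Lib.Cores.pCore_isPGroup 2)
  exact le_bot_iff.1 (h1 ▸ subnormal_pGroup_le_pCore hN h2)

theorem odd_bot (h : Mn T B lam) (N : Subgroup X) (hN : N.IsSubnormal) (hO : Odd (Nat.card N)) : N = ⊥ := by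
  have h1 : (Nat.card N).Coprime 2 := Nat.coprime_two_right.2 hO
  have h2 := subnormal_coprime_le_pPrimeCore hN h1
  have h3 := h.odd _ (Lib.Cores.pPrimeCore_normal (G := X) 2)
    (Nat.coprime_two_right.1 (Lib.Cores.pPrimeCore_coprime 2))
  exact le_bot_iff.1 (h3 ▸ h2)

theorem nilp_bot (h : Mn T B lam) (N : Subgroup X) (hN : N.IsSubnormal) (hn : Group.IsNilpotent N) : N = ⊥ :=
  h.odd_bot N hN (odd_of_nilpotent h.sub_bot hN hn)

/-- some component is not centralised by `B` -/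
theorem exists_component (h : Mn T B lam) : ∃ E : Subgroup X, IsComponent E ∧ ¬ B ≤ centralizer (E : Set X) := by
  by_contra hc
  push Not at hc
  have hfit : fittingSubgroup X = ⊥ :=
    h.nilp_bot _ (Normal.isSubnormal Lib.Cores.fittingSubgroup_normal) Lib.Cores.fittingSubgroup_isNilpotent
  have h1 : B ≤ centralizer (generalizedFittingSubgroup X : Set X) := by
    have h2 : generalizedFittingSubgroup X ≤ centralizer (B : Set X) := by
      rw [Lib.GenFitting.genFitting_def, hfit, sup_bot_eq, layer_le_iff]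
      exact fun L hL => le_centralizer_iff.1 (hc L hL)
    exact le_centralizer_iff.1 h2
  have h3 := Lib.GenFitting.centralizer_genFitting_le (G := X)
  have hF := Lib.GenFitting.genFitting_normal (G := X)
  set C := centralizer (generalizedFittingSubgroup X : Set X) with hC
  have hCn : C.Normal := by rw [hC]; infer_instance
  have h4 : C = ⊥ := by
    refine h.nilp_bot C (Normal.isSubnormal hCn) ?_
    let _ : CommGroup C := { (inferInstance : Group C) with
      mul_comm := fun x y => Subtype.ext (mem_centralizer_iff.1 y.2 x (h3 x.2)) }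
    exact CommGroup.isNilpotent
  exact h.B_ne_bot (le_bot_iff.1 (h4 ▸ h1))

variable {E : Subgroup X}

/-- `X = ⟨E^T⟩ T` -/
theorem sup_eq_top (h : Mn T B lam) (hL : IsComponent E) (hLA : ¬ B ≤ centralizer (E : Set X)) :
    tcl T E ⊔ T = ⊤ := by
  by_contra hne
  have h1 := h.low _ le_sup_right hne
  apply hLA
  intro a ha
  rw [mem_centralizer_iff]
  exact fun x hx => comm_of_o2 h.sub_bot (Fr.tcl_subnormal hL) le_sup_left
    (sup_le le_normalizer (le_normalizer_tcl T E)) (le_tcl T E hx) (h1 ha)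

theorem tcl_normal (h : Mn T B lam) (hL : IsComponent E) (hLA : ¬ B ≤ centralizer (E : Set X)) :
    (tcl T E).Normal := by
  rw [← normalizer_eq_top_iff, ← top_le_iff, ← h.sup_eq_top hL hLA]
  exact sup_le le_normalizer (le_normalizer_tcl T E)

/-- `Z(E) = 1` -/
theorem center_bot (h : Mn T B lam) (hL : IsComponent E) : E ⊓ centralizer (E : Set X) = ⊥ := by
  have h1 : ((E ⊓ centralizer (E : Set X)).subgroupOf E).Normal :=
    (normal_subgroupOf_iff_le_normalizer inf_le_left).2 (MinFrame.le_normalizer_of fun g hg x hx => by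
      have e : g * x * g⁻¹ = x := by rw [mem_centralizer_iff.1 hx.2 g hg, mul_inv_cancel_right]
      rw [e]
      exact hx)
  refine h.nilp_bot _ (IsSubnormal.trans inf_le_left h1.isSubnormal hL.1) ?_
  let _ : CommGroup (E ⊓ centralizer (E : Set X) : Subgroup X) :=
    { (inferInstance : Group (E ⊓ centralizer (E : Set X) : Subgroup X)) with
      mul_comm := fun x y => Subtype.ext (mem_centralizer_iff.1 y.2.2 x x.2.1) }
  exact CommGroup.isNilpotent

theorem simple (h : Mn T B lam) (hL : IsComponent E) : IsSimpleGroup E := by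
  have h1 : center E = ⊥ := by
    rw [eq_bot_iff]
    intro x hx
    have h2 : (x : X) ∈ E ⊓ centralizer (E : Set X) := by
      refine ⟨x.2, mem_centralizer_iff.2 fun y hy => ?_⟩
      exact congrArg Subtype.val (mem_center_iff.1 hx ⟨y, hy⟩)
    rw [h.center_bot hL, mem_bot] at h2
    exact mem_bot.2 (Subtype.ext h2)
  have h2 : IsSimpleGroup (E ⧸ center E) := hL.2.2
  have e : (E ⧸ center E) ≃* E := (QuotientGroup.quotientMulEquivOfEq h1).trans QuotientGroup.quotientBot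
  exact Final.simple_congr e h2

theorem not_comm (h : Mn T B lam) (hL : IsComponent E) : ¬ E ≤ centralizer (E : Set X) := by
  intro h1
  have h2 := h.center_bot hL
  rw [inf_eq_left.2 h1] at h2
  have hs := h.simple hL
  obtain ⟨x, hx⟩ := exists_ne (1 : E)
  exact hx (Subtype.ext (mem_bot.1 (h2 ▸ x.2)))

/-- `E` has even order -/
theorem inf_ne_bot (h : Mn T B lam) (hL : IsComponent E) : T ⊓ E ≠ ⊥ := by
  intro h1
  have h2 := h.odd_bot E hL.1 (odd_of_relIndex (not_dvd_relIndex_of_subnormal h.two h.syl hL.1) h1)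
  have hs := h.simple hL
  obtain ⟨x, hx⟩ := exists_ne (1 : E)
  exact hx (Subtype.ext (mem_bot.1 (h2 ▸ x.2)))

/-- `C_X(K) = 1` -/
theorem cen_bot (h : Mn T B lam) {K : Subgroup X} (hK : K.Normal) (hKT : K ⊔ T = ⊤) :
    centralizer (K : Set X) = ⊥ := by
  have hCn : (centralizer (K : Set X)).Normal := inferInstance
  have h1 : K ⊓ centralizer (K : Set X) = ⊥ := by
    refine h.nilp_bot _ (Normal.isSubnormal (normal_inf_normal _ _)) ?_
    let _ : CommGroup (K ⊓ centralizer (K : Set X) : Subgroup X) :=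
      { (inferInstance : Group (K ⊓ centralizer (K : Set X) : Subgroup X)) with
        mul_comm := fun x y => Subtype.ext (mem_centralizer_iff.1 y.2.2 x x.2.1) }
    exact CommGroup.isNilpotent
  refine h.o2_eq_bot hCn ?_
  rintro ⟨x, hx⟩
  have hx2 : x ∈ K ⊔ T := hKT ▸ mem_top x
  obtain ⟨y, hy, t, ht, rfl⟩ := mem_sup_of_normal_left.1 hx2
  obtain ⟨k, hk⟩ := h.two ⟨t, ht⟩
  refine ⟨k, Subtype.ext ?_⟩
  have h2 : t ^ 2 ^ k = 1 := congrArg Subtype.val hk
  have h3 : (y * t) ^ 2 ^ k ∈ K := by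
    rw [← QuotientGroup.eq_one_iff, QuotientGroup.mk_pow, QuotientGroup.mk_mul,
      (QuotientGroup.eq_one_iff y).2 hy, one_mul, ← QuotientGroup.mk_pow, h2, QuotientGroup.mk_one]
  have h4 : (y * t) ^ 2 ^ k ∈ K ⊓ centralizer (K : Set X) := ⟨h3, Subgroup.pow_mem _ hx _⟩
  rw [h1] at h4
  exact mem_bot.1 h4

/-- **(3) `B` normalises `E`.** -/
theorem B_le_normalizer (h : Mn T B lam) (hL : IsComponent E) (hLA : ¬ B ≤ centralizer (E : Set X)) :
    B ≤ normalizer (E : Set X) := by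
  intro b hb
  by_contra hcon
  have hbT := h.B_le hb
  set K := tcl T E with hKdef
  have hKn : K.Normal := h.tcl_normal hL hLA
  have hKT : K ⊔ T = ⊤ := h.sup_eq_top hL hLA
  have hKl : K ≤ layer X := Fr.tcl_le_layer hL
  set L₂ : Subgroup X := E.map (MulAut.conj b).toMonoidHom with hL₂def
  have hL₂ : IsComponent L₂ := isComponent_conj b hL
  have hne : L₂ ≠ E := fun h1 => hcon (mem_normalizer_of_map h1)
  have hL₂c : L₂ ≤ centralizer (E : Set X) := component_le_centralizer_of_ne hL₂ hL hne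
  have hrel := not_dvd_relIndex_of_subnormal h.two h.syl hL.1
  set S : Subgroup X := T ⊓ E with hS
  -- `R ∩ K` normalises `S`
  have hRK : ∀ R : Subgroup X, T ≤ R → R ≠ ⊤ → ∀ r ∈ R, r ∈ K → ∀ s ∈ S, r * s * r⁻¹ ∈ S := by
    intro R hTR hR r hr hrK s hs
    have hlow := h.low R hTR hR
    have hoT : o2 R ≤ T := o2_le_of_sylow h.two fun h2 => h.syl (h2.trans (relIndex_dvd_index_of_le hTR))
    have hrE : r ∈ normalizer (E : Set X) := layer_le_normalizer_component hL (hKl hrK)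
    have hrL : r ∈ normalizer (L₂ : Set X) := layer_le_normalizer_component hL₂ (hKl hrK)
    have h1 : s * (b * s⁻¹ * b⁻¹) ∈ o2 R := by
      have h2 := conj_mem_of_le (le_normalizer_o2 R) (hTR hs.1) (hlow hb)
      have h3 := Subgroup.mul_mem _ h2 (Subgroup.inv_mem _ (hlow hb))
      have e : s * b * s⁻¹ * b⁻¹ = s * (b * s⁻¹ * b⁻¹) := by group
      rwa [e] at h3
    have h2 : (r * s * r⁻¹) * (r * (b * s⁻¹ * b⁻¹) * r⁻¹) ∈ T := by
      have h3 := hoT (conj_mem_of_le (le_normalizer_o2 R) hr h1)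
      have e : r * (s * (b * s⁻¹ * b⁻¹)) * r⁻¹ = (r * s * r⁻¹) * (r * (b * s⁻¹ * b⁻¹) * r⁻¹) := by group
      rwa [e] at h3
    have h3 : r * s * r⁻¹ ∈ E := (mem_normalizer_iff.1 hrE s).1 hs.2
    have h4 : r * (b * s⁻¹ * b⁻¹) * r⁻¹ ∈ L₂ := (mem_normalizer_iff.1 hrL _).1 ⟨s⁻¹, E.inv_mem hs.2, rfl⟩
    exact ⟨mem_of_mul_mem h.two hrel (h.center_bot hL) h3 (hL₂c h4) h2, h3⟩
  -- the subgroup `⟨S^T⟩`
  set S' : Subgroup X := tcl T S with hS'
  have hS'T : S' ≤ T := tcl_le fun t ht => by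
    rintro _ ⟨x, hx, rfl⟩
    exact T.mul_mem (T.mul_mem ht hx.1) (T.inv_mem ht)
  refine h.nmax ⟨normalizer (S' : Set X), ?_, ?_⟩
  · intro h1
    have h2 := h.o2_eq_bot (normalizer_eq_top_iff.1 h1) (h.two.to_le hS'T)
    exact h.inf_ne_bot hL (le_bot_iff.1 (h2 ▸ le_tcl T S))
  · intro R hTR hR r hr
    have hr2 : r ∈ K ⊔ T := hKT ▸ mem_top r
    obtain ⟨k, hk, t, ht, rfl⟩ := mem_sup_of_normal_left.1 hr2
    have hkR : k ∈ R := by
      have := R.mul_mem hr (R.inv_mem (hTR ht))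
      rwa [mul_inv_cancel_right] at this
    refine Subgroup.mul_mem _ ?_ (le_normalizer_tcl T S ht)
    have key : R ⊓ K ≤ normalizer (S' : Set X) := by
      refine le_normalizer_of_map_le fun g hg => map_sup_le _ fun t' ht' => ?_
      have hg' : t'⁻¹ * g * t' ∈ R ⊓ K := by
        refine ⟨R.mul_mem (R.mul_mem (R.inv_mem (hTR ht')) hg.1) (hTR ht'), ?_⟩
        have := hKn.conj_mem g hg.2 t'⁻¹
        rwa [inv_inv] at this
      rintro _ ⟨s, hs, rfl⟩
      have h5 := hRK R hTR hR _ hg'.1 hg'.2 s hs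
      refine map_conj_le_tcl ht' ⟨_, h5, ?_⟩
      change t' * (t'⁻¹ * g * t' * s * (t'⁻¹ * g * t')⁻¹) * t'⁻¹ = g * t' * s * (g * t')⁻¹
      group
    exact key ⟨hkR, hk⟩

/-- **Steps (1), (3).** -/
theorem exists_cmp (h : Mn T B lam) : ∃ K E : Subgroup X, Cmp T B K E lam ∧ ¬ B ≤ centralizer (E : Set X) := by
  obtain ⟨E, hL, hLA⟩ := h.exists_component
  have hKn := h.tcl_normal hL hLA
  have hKT := h.sup_eq_top hL hLA
  have hconj : ∀ t ∈ T, t ∉ normalizer (E : Set X) →
      E.map (MulAut.conj t).toMonoidHom ≤ centralizer (E : Set X) := fun t _ htn =>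
    component_le_centralizer_of_ne (isComponent_conj t hL) hL fun h1 => htn (mem_normalizer_of_map h1)
  refine ⟨tcl T E, E, ⟨h, hKn, h.cen_bot hKn hKT, hKT, le_tcl T E, h.simple hL, h.not_comm hL, le_rfl, ?_,
    h.center_bot hL, hconj, h.B_le_normalizer hL hLA⟩, hLA⟩
  refine le_antisymm (sup_le (le_tcl T E) inf_le_left) (tcl_le fun t ht => ?_)
  by_cases h1 : t ∈ normalizer (E : Set X)
  · rw [map_conj_eq_of_mem h1]
    exact le_sup_left
  · exact le_sup_of_le_right (le_inf (map_conj_le_tcl ht) (hconj t ht h1))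

end Mn

end Cfsg.Agent.Omega.ML.Ex.Red
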