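import Cfsg.Agent.Omega.ML.Ex.WPart

/-!
# The W-part of the exact rows: passage to one component (T10; helper844)

`X` acts on `W` (exponent 2) and on `M = W / ker p`, `ker p` central, `C_W(T) ≤ ker p`; `K = E F` normal in `X`,
`[E, F] = 1 = E ∩ F`, `F` perfect, `F` trivial on `N ≤ M`, `N = [N, E]`; `E ≤ Y` normalises `E` and `N`; `a : Y → X₁` and
`q : N → M₁` are onto and compatible, `ker q = C_N(E)`, `X₁` is faithful on `M₁` (#21232 (8), #21287 (6), #21163 (4)).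

* `Dat` : these data;  `F_fix` : `F` is trivial on `W₁ = p⁻¹(N)`;  `fix_of` : an element of `W₁` fixed by `T ∩ E` is fixed by `E`;
* `ker_fix` : the kernel of `a` is trivial on `W₁`;  `phi : X₁ → Aut(W₁)`;
* **`Dat.wpart`** : `WPart K₁ T₁ (q ∘ p)` for `K₁ = a(E)`, `T₁ = a(T ∩ Y)`.
-/

set_option autoImplicit false
set_option linter.style.haveILetI false

namespace Cfsg.Agent.Omega.ML.Ex.WSec

open Subgroup Cfsg.Agent.Omega.ML.Ex

variable {X : Type*} [Group X] {M : Type*} [CommGroup M] [MulDistribMulAction X M] {W : Type*} [CommGroup W]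
  [MulDistribMulAction X W] {X₁ : Type*} [Group X₁] {M₁ : Type*} [Group M₁] [MulDistribMulAction X₁ M₁]

/-- The data. -/
structure Dat (p : W →* M) (T K E F Y : Subgroup X) (N : Subgroup M) (a : Y →* X₁) (q : N →* M₁) : Prop where
  sq : ∀ w : W, w * w = 1
  eqv : ∀ (x : X) (w : W), p (x • w) = x • p w
  surj : Function.Surjective p
  ker : ∀ w : W, p w = 1 → ∀ x : X, x • w = w
  fixT : ∀ w : W, (∀ t ∈ T, t • w = w) → p w = 1
  two : IsPGroup 2 T
  Kn : K.Normal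
  sylK : ¬ 2 ∣ (T ⊓ K).relIndex K
  sylE : ¬ 2 ∣ (T ⊓ E).relIndex E
  EK : E ≤ K
  KEF : ∀ k ∈ K, ∃ e ∈ E, ∃ f ∈ F, k = e * f
  cEF : ∀ e ∈ E, ∀ f ∈ F, e * f = f * e
  iEF : ∀ e ∈ E, e ∈ F → e = 1
  pE : ⁅E, E⁆ = E
  pF : ⁅F, F⁆ = F
  FN : ∀ f ∈ F, ∀ n ∈ N, f • n = n
  NE : N ≤ closure {m | ∃ e ∈ E, ∃ n ∈ N, m = (e • n) * n⁻¹}
  EY : E ≤ Y
  YE : ∀ y ∈ Y, ∀ e ∈ E, y * e * y⁻¹ ∈ E
  YN : ∀ y ∈ Y, ∀ n ∈ N, y • n ∈ N
  asurj : Function.Surjective a
  qsurj : Function.Surjective q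
  aq : ∀ (y : Y) (n : N), q ⟨(y : X) • (n : M), YN y y.2 n n.2⟩ = a y • q n
  qker : ∀ n : N, q n = 1 ↔ ∀ e ∈ E, e • (n : M) = n
  inj : ∀ (e : X) (he : e ∈ E), a ⟨e, EY he⟩ = 1 → e = 1
  faith : ∀ x : X₁, (∀ m : M₁, x • m = m) → x = 1

/-- A perfect group trivial on `p w` fixes `w`. -/
theorem fix_of_perfect {p : W →* M} (eqv : ∀ (x : X) (w : W), p (x • w) = x • p w)
    (ker : ∀ w : W, p w = 1 → ∀ x : X, x • w = w) {L : Subgroup X} (hL : ⁅L, L⁆ = L) {w : W}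
    (h : ∀ x ∈ L, x • p w = p w) : ∀ x ∈ L, x • w = w := by
  have hk : ∀ x ∈ L, ∀ z : X, z • ((x • w) * w⁻¹) = (x • w) * w⁻¹ := by
    intro x hx z
    apply ker
    rw [map_mul, eqv, h x hx, map_inv, mul_inv_cancel]
  have h1 : ⁅L, L⁆ ≤ MulAction.stabilizer X w := by
    rw [commutator_le]
    intro x hx y hy
    -- `x w = w c`, `y w = w d`
    obtain ⟨c, hc⟩ : ∃ c, c = (x • w) * w⁻¹ := ⟨_, rfl⟩
    obtain ⟨d, hd⟩ : ∃ d, d = (y • w) * w⁻¹ := ⟨_, rfl⟩
    have hcz : ∀ z : X, z • c = c := fun z => by rw [hc]; exact hk x hx z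
    have hdz : ∀ z : X, z • d = d := fun z => by rw [hd]; exact hk y hy z
    have e1 : x • w = c * w := by rw [hc]; group
    have e2 : y • w = d * w := by rw [hd]; group
    have hci : ∀ z : X, z • c⁻¹ = c⁻¹ := fun z => by rw [smul_inv', hcz]
    have hdi : ∀ z : X, z • d⁻¹ = d⁻¹ := fun z => by rw [smul_inv', hdz]
    have e3 : x⁻¹ • w = c⁻¹ * w := by
      rw [inv_smul_eq_iff, smul_mul', hci, e1]
      group
    have e4 : y⁻¹ • w = d⁻¹ * w := by
      rw [inv_smul_eq_iff, smul_mul', hdi, e2]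
      group
    rw [MulAction.mem_stabilizer_iff, commutatorElement_def, mul_smul, mul_smul, mul_smul]
    simp only [e4, e3, e2, e1, smul_mul', hci, hdi, hdz]
    rw [mul_left_comm c⁻¹ d, inv_mul_cancel_left, inv_mul_cancel_left]
  rw [hL] at h1
  exact fun x hx => h1 hx

namespace Dat

variable {p : W →* M} {T K E F Y : Subgroup X} {N : Subgroup M} {a : Y →* X₁} {q : N →* M₁}

/-- `F` is trivial on `W₁`. -/
theorem F_fix (h : Dat p T K E F Y N a q) {w : W} (hw : p w ∈ N) : ∀ f ∈ F, f • w = w :=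
  fix_of_perfect h.eqv h.ker h.pF fun f hf => h.FN f hf _ hw

/-- `E` fixes `w` if it fixes `p w`. -/
theorem E_fix (h : Dat p T K E F Y N a q) {w : W} (hw : ∀ e ∈ E, e • p w = p w) : ∀ e ∈ E, e • w = w :=
  fix_of_perfect h.eqv h.ker h.pE hw

/-- the projection of `T ∩ K` to `E` -/
def pr (h : Dat p T K E F Y N a q) : Subgroup X where
  carrier := {e | e ∈ E ∧ ∃ f ∈ F, e * f ∈ T}
  one_mem' := ⟨one_mem _, 1, one_mem _, by rw [mul_one]; exact one_mem _⟩
  mul_mem' := by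
    rintro e e' ⟨he, f, hf, h1⟩ ⟨he', f', hf', h2⟩
    refine ⟨mul_mem he he', f * f', mul_mem hf hf', ?_⟩
    have h3 : e * e' * (f * f') = (e * f) * (e' * f') := by
      calc e * e' * (f * f') = e * (e' * f) * f' := by group
        _ = e * (f * e') * f' := by rw [h.cEF e' he' f hf]
        _ = _ := by group
    rw [h3]
    exact mul_mem h1 h2
  inv_mem' := by
    rintro e ⟨he, f, hf, h1⟩
    refine ⟨inv_mem he, f⁻¹, inv_mem hf, ?_⟩
    have h3 : e⁻¹ * f⁻¹ = (e * f)⁻¹ := by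
      rw [h.cEF e he f hf, mul_inv_rev]
    rw [h3]
    exact inv_mem h1

/-- it is `T ∩ E` -/
theorem pr_le [Finite X] (h : Dat p T K E F Y N a q) : h.pr ≤ T ⊓ E := by
  have hp : IsPGroup 2 h.pr := by
    rintro ⟨e, he, f, hf, h1⟩
    obtain ⟨k, hk⟩ := h.two ⟨e * f, h1⟩
    refine ⟨k, Subtype.ext ?_⟩
    have h2 : (e * f) ^ (2 ^ k) = 1 := congrArg Subtype.val hk
    have hc : Commute e f := h.cEF e he f hf
    rw [hc.mul_pow] at h2
    have h3 : e ^ (2 ^ k) ∈ F := by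
      rw [eq_inv_of_mul_eq_one_left h2]
      exact inv_mem (pow_mem hf _)
    exact h.iEF _ (pow_mem he _) h3
  have hle : T ⊓ E ≤ h.pr := fun e he => ⟨he.2, 1, one_mem _, by rw [mul_one]; exact he.1⟩
  have h2 : ¬ 2 ∣ (T ⊓ E).relIndex h.pr := fun h3 => h.sylE (h3.trans (by
    have h4 : h.pr ≤ E := fun e he => he.1
    exact ⟨_, (relIndex_mul_relIndex (T ⊓ E) h.pr E hle h4).symm⟩))
  obtain ⟨n, hn⟩ := hp.exists_card_eq
  have h3 : (T ⊓ E).relIndex h.pr ∣ 2 ^ n := by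
    rw [← hn]
    exact relIndex_dvd_card _ _
  obtain ⟨k, -, hk⟩ := (Nat.dvd_prime_pow Nat.prime_two).1 h3
  rw [← relIndex_eq_one]
  rcases Nat.eq_zero_or_pos k with rfl | hk0
  · exact hk
  · exact absurd (hk ▸ dvd_pow_self 2 hk0.ne') h2

/-- **An element of `W₁` fixed by `T ∩ E` is fixed by `K`.** -/
theorem fix_of [Finite X] [Finite W] (h : Dat p T K E F Y N a q) {w : W} (hw : p w ∈ N)
    (h1 : ∀ t ∈ T ⊓ E, t • w = w) : ∀ k ∈ K, k • w = w := by
  refine odd_fix_mul h.sq h.two (fun t _ k hk => h.Kn.conj_mem k hk t) h.sylK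
    (fun v hv k _ => h.ker v (h.fixT v hv) k) ?_
  rintro t ⟨htT, htK⟩
  obtain ⟨e, he, f, hf, rfl⟩ := h.KEF t htK
  have h2 : e ∈ T ⊓ E := h.pr_le ⟨he, f, hf, htT⟩
  rw [mul_smul, h.F_fix hw f hf, h1 e h2]

/-- the kernel of `a` is trivial on `N` -/
theorem ker_N (h : Dat p T K E F Y N a q) {y : Y} (hy : a y = 1) : ∀ n ∈ N, (y : X) • n = n := by
  -- `y` centralises `E`
  have hc : ∀ e ∈ E, (y : X) * e = e * y := by
    intro e he
    have h1 : (y : X) * e * (y : X)⁻¹ * e⁻¹ ∈ E := mul_mem (h.YE y y.2 e he) (inv_mem he)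
    have h2 : a ⟨_, h.EY h1⟩ = 1 := by
      have h3 : (⟨_, h.EY h1⟩ : Y) = y * ⟨e, h.EY he⟩ * y⁻¹ * (⟨e, h.EY he⟩ : Y)⁻¹ := Subtype.ext rfl
      rw [h3, map_mul, map_mul, map_mul, map_inv, map_inv, hy, one_mul, inv_one, mul_one, mul_inv_cancel]
    have h3 := h.inj _ h1 h2
    rw [mul_inv_eq_one, mul_inv_eq_iff_eq_mul] at h3
    exact h3
  -- `[n, y] ∈ C_N(E)`
  have hC : ∀ n ∈ N, ∀ e ∈ E, e • (((y : X) • n) * n⁻¹) = ((y : X) • n) * n⁻¹ := by
    intro n hn e he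
    have h1 := h.aq y ⟨n, hn⟩
    rw [hy, one_smul] at h1
    have h2 : q (⟨(y : X) • n, h.YN y y.2 n hn⟩ * (⟨n, hn⟩ : N)⁻¹) = 1 := by
      rw [map_mul, map_inv, h1, mul_inv_cancel]
    exact (h.qker _).1 h2 e he
  have hle : closure {m | ∃ e ∈ E, ∃ n ∈ N, m = (e • n) * n⁻¹} ≤
      (MulDistribMulAction.toMonoidHom M (y : X)).eqLocus (MonoidHom.id M) := by
    rw [closure_le]
    rintro _ ⟨e, he, n, hn, rfl⟩
    show (y : X) • ((e • n) * n⁻¹) = (e • n) * n⁻¹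
    have h1 := hC n hn e he
    have h2 : (y : X) • (e • n) = e • ((y : X) • n) := by rw [← mul_smul, hc e he, mul_smul]
    rw [smul_mul', smul_inv'] at h1
    rw [smul_mul', smul_inv', h2]
    have h3 : e • ((y : X) • n) = ((y : X) • n) * n⁻¹ * (e • n) := by
      rw [← h1]
      group
    rw [h3]
    have h4 : (y : X) • n * n⁻¹ * e • n * ((y : X) • n)⁻¹ = ((y : X) • n * ((y : X) • n)⁻¹) * (e • n * n⁻¹) := by
      rw [mul_assoc, mul_assoc, mul_comm n⁻¹, mul_comm (e • n) ((y : X) • n)⁻¹, mul_assoc, mul_assoc]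
    rw [h4, mul_inv_cancel, one_mul]
  exact fun n hn => hle (h.NE hn)

/-- **the kernel of `a` is trivial on `W₁`** -/
theorem ker_W (h : Dat p T K E F Y N a q) {y : Y} (hy : a y = 1) {w : W} (hw : p w ∈ N) : (y : X) • w = w := by
  have hc : ∀ e ∈ E, (y : X) * e = e * y := by
    intro e he
    have h1 : (y : X) * e * (y : X)⁻¹ * e⁻¹ ∈ E := mul_mem (h.YE y y.2 e he) (inv_mem he)
    have h2 : a ⟨_, h.EY h1⟩ = 1 := by
      have h3 : (⟨_, h.EY h1⟩ : Y) = y * ⟨e, h.EY he⟩ * y⁻¹ * (⟨e, h.EY he⟩ : Y)⁻¹ := Subtype.ext rfl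
      rw [h3, map_mul, map_mul, map_mul, map_inv, map_inv, hy, one_mul, inv_one, mul_one, mul_inv_cancel]
    have h3 := h.inj _ h1 h2
    rw [mul_inv_eq_one, mul_inv_eq_iff_eq_mul] at h3
    exact h3
  have hN := h.ker_N hy
  -- the subgroup of the elements fixed by `y`
  let V : Subgroup W := (MulDistribMulAction.toMonoidHom W (y : X)).eqLocus (MonoidHom.id W)
  have hV : ∀ v, v ∈ V ↔ (y : X) • v = v := fun _ => Iff.rfl
  have h1 : closure {m | ∃ e ∈ E, ∃ n ∈ N, m = (e • n) * n⁻¹} ≤ V.map p := by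
    rw [closure_le]
    rintro _ ⟨e, he, n, hn, rfl⟩
    obtain ⟨v, rfl⟩ := h.surj n
    refine ⟨(e • v) * v⁻¹, ?_, by rw [map_mul, h.eqv, map_inv]⟩
    show (y : X) • ((e • v) * v⁻¹) = (e • v) * v⁻¹
    have h2 : p (((y : X) • v) * v⁻¹) = 1 := by rw [map_mul, h.eqv, hN _ hn, map_inv, mul_inv_cancel]
    have h3 := h.ker _ h2 e
    have h4 : (y : X) • (e • v) = e • ((y : X) • v) := by rw [← mul_smul, hc e he, mul_smul]
    rw [smul_mul', smul_inv'] at h3
    rw [smul_mul', smul_inv', h4]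
    have h5 : e • ((y : X) • v) = ((y : X) • v) * v⁻¹ * (e • v) := by
      rw [← h3]
      group
    rw [h5]
    have h6 : (y : X) • v * v⁻¹ * e • v * ((y : X) • v)⁻¹ = ((y : X) • v * ((y : X) • v)⁻¹) * (e • v * v⁻¹) := by
      rw [mul_assoc, mul_assoc, mul_comm v⁻¹, mul_comm (e • v) ((y : X) • v)⁻¹, mul_assoc, mul_assoc]
    rw [h6, mul_inv_cancel, one_mul]
  obtain ⟨v, hv, hvw⟩ := h1 (h.NE hw)
  have h2 : p (w * v⁻¹) = 1 := by rw [map_mul, map_inv, hvw, mul_inv_cancel]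
  have h3 := h.ker _ h2 (y : X)
  have h4 : w = (w * v⁻¹) * v := by group
  rw [h4, smul_mul', h3, (hV v).1 hv]

/-- the action of `Y` on `W₁` -/
def act (h : Dat p T K E F Y N a q) : Y →* MulAut (N.comap p) where
  toFun y :=
    { toFun := fun w => ⟨(y : X) • (w : W), by
        rw [mem_comap, h.eqv]
        exact h.YN y y.2 _ w.2⟩
      invFun := fun w => ⟨(y : X)⁻¹ • (w : W), by
        rw [mem_comap, h.eqv]
        exact h.YN _ (inv_mem y.2) _ w.2⟩
      left_inv := fun w => Subtype.ext (inv_smul_smul (y : X) (w : W))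
      right_inv := fun w => Subtype.ext (smul_inv_smul (y : X) (w : W))
      map_mul' := fun v w => Subtype.ext (smul_mul' (y : X) (v : W) w) }
  map_one' := by
    ext w
    exact one_smul X (w : W)
  map_mul' x y := by
    ext w
    exact mul_smul (x : X) (y : X) (w : W)

theorem act_apply (h : Dat p T K E F Y N a q) (y : Y) (w : N.comap p) :
    ((h.act y w : N.comap p) : W) = (y : X) • (w : W) := rfl

theorem ker_le (h : Dat p T K E F Y N a q) : a.ker ≤ h.act.ker := by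
  intro y hy
  rw [MonoidHom.mem_ker]
  ext w
  exact h.ker_W hy w.2

/-- the action of `X₁` on `W₁` -/
noncomputable def phi (h : Dat p T K E F Y N a q) : X₁ →* MulAut (N.comap p) :=
  a.liftOfSurjective h.asurj ⟨h.act, h.ker_le⟩

theorem phi_apply (h : Dat p T K E F Y N a q) (y : Y) : h.phi (a y) = h.act y := by
  have := MonoidHom.liftOfRightInverse_comp_apply a _ (Function.rightInverse_surjInv h.asurj) ⟨h.act, h.ker_le⟩ y
  exact this

/-- the action -/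
@[reducible] noncomputable def inst (h : Dat p T K E F Y N a q) : MulDistribMulAction X₁ (N.comap p) :=
  MulDistribMulAction.compHom _ h.phi

/-- `W₁ → M₁` -/
def pi (p : W →* M) {N : Subgroup M} (q : N →* M₁) : (N.comap p) →* M₁ where
  toFun w := q ⟨p w, w.2⟩
  map_one' := by
    have : (⟨p ((1 : N.comap p) : W), (1 : N.comap p).2⟩ : N) = 1 := Subtype.ext (map_one p)
    rw [this, map_one]
  map_mul' v w := by
    have : (⟨p ((v * w : N.comap p) : W), (v * w).2⟩ : N) = ⟨p v, v.2⟩ * ⟨p w, w.2⟩ := Subtype.ext (map_mul p _ _)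
    rw [this, map_mul]

theorem pi_apply (w : N.comap p) : pi p q w = q ⟨p w, w.2⟩ := rfl

/-- **The W-part of one component.** -/
theorem wpart [Finite X] [Finite W] (h : Dat p T K E F Y N a q) :
    letI := h.inst
    WPart ((E.subgroupOf Y).map a) (((T ⊓ Y).subgroupOf Y).map a) (pi p q) := by
  letI := h.inst
  have hsm : ∀ (y : Y) (w : N.comap p), ((a y • w : N.comap p) : W) = (y : X) • (w : W) := by
    intro y w
    show ((h.phi (a y) w : N.comap p) : W) = _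
    rw [h.phi_apply, h.act_apply]
  refine ⟨fun w => Subtype.ext (h.sq w), ?_, ?_, ?_, ?_⟩
  · intro x w
    obtain ⟨y, rfl⟩ := h.asurj x
    have h1 : (⟨p ((a y • w : N.comap p) : W), (a y • w : N.comap p).2⟩ : N) =
        ⟨(y : X) • p w, h.YN y y.2 _ w.2⟩ := Subtype.ext (by
      show p ((a y • w : N.comap p) : W) = (y : X) • p w
      rw [hsm, h.eqv])
    rw [pi_apply, h1, h.aq y ⟨p w, w.2⟩, pi_apply]
  · intro m
    obtain ⟨⟨n, hn⟩, rfl⟩ := h.qsurj m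
    obtain ⟨w, rfl⟩ := h.surj n
    exact ⟨⟨w, hn⟩, rfl⟩
  · intro w
    rw [pi_apply, h.qker]
    constructor
    · rintro h1 _ ⟨y, hy, rfl⟩
      apply Subtype.ext
      rw [hsm]
      exact h.E_fix h1 _ hy
    · intro h1 e he
      have h2 := congrArg Subtype.val (h1 (a ⟨e, h.EY he⟩) ⟨⟨e, h.EY he⟩, he, rfl⟩)
      rw [hsm] at h2
      rw [← h.eqv]
      exact congrArg p h2
  · intro w hw
    have h1 : ∀ t ∈ T ⊓ E, t • (w : W) = w := by
      intro t ht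
      have h2 := congrArg Subtype.val (hw (a ⟨t, h.EY ht.2⟩) ⟨⟨t, h.EY ht.2⟩, ⟨ht.1, h.EY ht.2⟩, rfl⟩)
      rw [hsm] at h2
      exact h2
    rintro _ ⟨y, hy, rfl⟩
    apply Subtype.ext
    rw [hsm]
    exact h.fix_of w.2 h1 y (h.EK hy)

end Dat

end Cfsg.Agent.Omega.ML.Ex.WSec
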