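import Cfsg.Agent.Omega.ML.Ex.RedAsm
import Cfsg.Agent.Omega.ML.Ex.WSec

/-!
# THEOREM RED with the W-part (helper844)

* `Wd T p` : `X` acts on `W`, `p : W → M` onto with central kernel, `C_W(T) ≤ ker p`;
* `Sc.dat` : the data `WSec.Dat` for the section `Sc`;
* **`Sc.wpart`** : `WPart K₁ T₁ p₁` for `p₁ : p⁻¹(N) → N / C_N(K₁)`.
-/

set_option autoImplicit false
set_option linter.style.haveILetI false

namespace Cfsg.Agent.Omega.ML.Ex.Red

open Subgroup Cfsg Cfsg.Agent.ZN Cfsg.Agent.Omega.NOThree.NoOver Cfsg.Agent.Omega.ML.CD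
open Cfsg.Agent.ClassTwoFusion.Quad Cfsg.Agent.Omega.ML.MinFrame Cfsg.Agent.Omega.ML.Ex.SecLow

universe u v w x

variable {X : Type u} [Group X] {M : Type v} [CommGroup M] [MulDistribMulAction X M] {W : Type w} [CommGroup W]
  [MulDistribMulAction X W] {T B K E : Subgroup X} {lam : M} {p : W →* M}

/-- the W-side -/
structure Wd (T : Subgroup X) (p : W →* M) : Prop where
  sq : ∀ w : W, w * w = 1
  eqv : ∀ (x : X) (w : W), p (x • w) = x • p w
  surj : Function.Surjective p
  ker : ∀ w : W, p w = 1 → ∀ x : X, x • w = w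
  fixT : ∀ w : W, (∀ t ∈ T, t • w = w) → p w = 1

namespace Sc

variable {X₁ : Type x} [Group X₁] [MulDistribMulAction X₁ (cm M E)] {a : YY T E →* X₁}

/-- **the data of `WSec`** -/
theorem dat [Finite X] (h : Sc T B K E lam a) (hW : Wd T p) :
    haveI := h.inN0.ck_normal
    letI := modAct (H := X₁) (InN.ck (cm M E) (im a E)) h.inN0.smul_mem_ck
    WSec.Dat p T K E (K ⊓ centralizer (E : Set X)) (YY T E) (cm M E) a
      (QuotientGroup.mk' (InN.ck (cm M E) (im a E))) := by
  haveI := h.inN0.ck_normal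
  letI := modAct (H := X₁) (InN.ck (cm M E) (im a E)) h.inN0.smul_mem_ck
  have hq := h.quo
  have hsqN := h.inN0.sq
  exact
    { sq := hW.sq
      eqv := hW.eqv
      surj := hW.surj
      ker := hW.ker
      fixT := hW.fixT
      two := h.cmpM.cmp.mn.two
      Kn := h.cmpM.cmp.normK
      sylK := h.cmpM.cmp.sylK
      sylE := h.cmpM.cmp.sylE
      EK := h.cmpM.cmp.EK
      KEF := h.cmpM.cmp.KEF
      cEF := h.cmpM.cmp.cEF
      iEF := h.cmpM.cmp.iEF
      pE := h.cmpM.cmp.perfE
      pF := h.cmpM.cmp.perfF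
      FN := fun f hf n hn => h.cmpM.cenN f hf.1 hf.2 n hn
      NE := h.cmpM.le_cc
      EY := E_le_YY
      YE := fun y hy e he => hq.YY_conj hy he
      YN := fun y hy n hn => h.cmpM.smul_mem hy hn
      asurj := h.surj
      qsurj := QuotientGroup.mk'_surjective _
      aq := fun y n => by
        have h1 : (⟨(y : X) • (n : M), h.cmpM.smul_mem y.2 n.2⟩ : cm M E) = a y • n := Subtype.ext (h.act y n).symm
        rw [h1]
        rfl
      qker := fun n => by
        rw [QuotientGroup.mk'_apply, QuotientGroup.eq_one_iff]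
        constructor
        · intro h1 e he
          have h2 := congrArg Subtype.val (h1 (a ⟨e, E_le_YY he⟩) (apply_mem_im (y := ⟨e, E_le_YY he⟩) he))
          rw [h.act] at h2
          exact h2
        · rintro h1 _ ⟨y, hy, rfl⟩
          apply Subtype.ext
          rw [h.act]
          exact h1 y hy
      inj := fun e he h1 => congrArg Subtype.val (h.inj ⟨e, E_le_YY he⟩ he h1)
      faith := fun x hx => h.inN0.faith_quot fun m => by
        have h1 := hx (QuotientGroup.mk m)
        have h2 : (QuotientGroup.mk (x • m) : cm M E ⧸ InN.ck (cm M E) (im a E)) = QuotientGroup.mk m := h1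
        rw [eq_comm, QuotientGroup.eq] at h2
        have h3 : m⁻¹ = m := inv_eq_of_mul_eq_one_right (hsqN m)
        rw [h3] at h2
        rw [h.inN0.comm]
        exact h2 }

/-- the image of `T ∩ Y` -/
theorem im_T (_h : Sc T B K E lam a) : ((T ⊓ YY T E).subgroupOf (YY T E)).map a = im a (T1 T E) := by
  apply le_antisymm
  · rintro _ ⟨y, hy, rfl⟩
    refine ⟨y, ⟨hy.1, ?_⟩, rfl⟩
    exact (sup_le le_normalizer inf_le_right : YY T E ≤ normalizer (E : Set X)) y.2
  · rintro _ ⟨y, hy, rfl⟩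
    exact ⟨y, ⟨hy.1, y.2⟩, rfl⟩

end Sc

/-- **THEOREM RED with the W-part, from one component.** -/
theorem CmpM.exists_section [Finite X] [Finite M] [Finite W] (h : CmpM T B K E lam) (hML : Final.MLK.{u, v})
    (hKG : IsKGroup X) (hW : Wd T p) :
    ∃ (X₁ : Type u) (_ : Group X₁) (_ : Finite X₁) (N : Type v) (_ : Group N) (_ : Finite N)
      (_ : MulDistribMulAction X₁ N) (K₁ T₁ B₁ : Subgroup X₁) (M₁ : Type v) (_ : Group M₁) (_ : Finite M₁)
      (_ : MulDistribMulAction X₁ M₁) (W₁ : Type w) (_ : CommGroup W₁) (_ : Finite W₁)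
      (_ : MulDistribMulAction X₁ W₁) (p₁ : W₁ →* M₁),
      InN X₁ N K₁ T₁ B₁ ∧ InX X₁ M₁ K₁ T₁ B₁ ∧ WPart K₁ T₁ p₁ ∧ IsKGroup X₁ ∧ Nonempty (E ≃* K₁) ∧
        Nat.card B₁ = Nat.card B := by
  letI := h.qact
  have hs := h.sc
  have hfX : Finite h.Xq := Finite.of_surjective _ (QuotientGroup.mk'_surjective h.rep.ker)
  have hKG1 : IsKGroup h.Xq := Final.kgroup_of_surj hKG (YY T E) (QuotientGroup.mk' h.rep.ker)
    (QuotientGroup.mk'_surjective _)
  have hN := hs.inN0.inN hML hKG1
  have hI := hN.inX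
  haveI := hN.ck_normal
  letI := modAct (H := h.Xq) (InN.ck (cm M E) (im (QuotientGroup.mk' h.rep.ker) E)) hN.smul_mem_ck
  have hd := hs.dat hW
  letI := hd.inst
  have hwp := hd.wpart
  rw [hs.im_T] at hwp
  exact ⟨h.Xq, inferInstance, hfX, cm M E, inferInstance, inferInstance, h.qact, _, _, _, _, _, inferInstance, _, _,
    inferInstance, inferInstance, hd.inst, _, hN, hI, hwp, hKG1, ⟨hs.quo.equiv⟩, hs.card_im le_rfl⟩

end Cfsg.Agent.Omega.ML.Ex.Red
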