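import Cfsg.Agent.Omega.ML.Ex.RedLA
import Cfsg.Agent.Omega.ML.Ex.RedW
import Cfsg.Agent.Omega.ML.Ex.Red1

/-!
# (LA) through RED, for the section `Sc` (helper451)

* `CmpM.MB` : `[M,B] ≤ N`;  `CmpM.sit` : the situation of `RedLA`;
* **`Sc.la`** : `LA X M T B lam → ∃ m₁, LA X₁ M₁ K₁ T₁ B₁ m₁` for `M₁ = N / C_N(K₁)`.
-/

set_option autoImplicit false
set_option linter.style.haveILetI false
set_option linter.unusedVariables false

namespace Cfsg.Agent.Omega.ML.Ex.Red

open Subgroup Cfsg Cfsg.Agent.ZN Cfsg.Agent.Omega.NOThree.NoOver Cfsg.Agent.Omega.ML.CD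
open Cfsg.Agent.ClassTwoFusion.Quad Cfsg.Agent.Omega.ML.MinFrame Cfsg.Agent.Omega.ML.Ex.SecLow

universe u v w

variable {X : Type u} [Group X] {M : Type v} [CommGroup M] [MulDistribMulAction X M] {T B K E : Subgroup X} {lam : M}

/-- **`[M,B] ≤ N`** -/
theorem CmpM.MB (h : CmpM T B K E lam) [Finite M] : ∀ b ∈ B, ∀ m : M, (b • m) * m⁻¹ ∈ cm M E := by
  have h1 : (cv M (B : Set X)).relIndex (cm M E) = (cv M (B : Set X)).index := by rw [h.exactN, h.cmp.mn.exact]
  have h2 : cm M E ⊔ cv M (B : Set X) = ⊤ := by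
    have h3 : (cv M (B : Set X)).relIndex (cm M E ⊔ cv M (B : Set X)) = (cv M (B : Set X)).relIndex (cm M E) :=
      relIndex_sup_right _ _
    have h4 := relIndex_mul_index (le_sup_right : cv M (B : Set X) ≤ cm M E ⊔ cv M (B : Set X))
    rw [h3, h1] at h4
    have h5 : (cv M (B : Set X)).index ≠ 0 := index_ne_zero_of_finite
    rw [← index_eq_one]
    exact Nat.eq_of_mul_eq_mul_left (Nat.pos_of_ne_zero h5) (by rw [h4, mul_one])
  intro b hb m
  obtain ⟨n, hn, v, hv, rfl⟩ := mem_sup.1 (h2 ▸ mem_top m : m ∈ cm M E ⊔ cv M (B : Set X))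
  have h3 : b • v = v := hv b hb
  have h4 : (b • (n * v)) * (n * v)⁻¹ = (b • n) * n⁻¹ := by
    rw [smul_mul', h3, mul_inv]
    have : (b • n) * v * (n⁻¹ * v⁻¹) = (b • n) * n⁻¹ * (v * v⁻¹) := by ac_rfl
    rw [this, mul_inv_cancel, mul_one]
  rw [h4]
  have h5 : n⁻¹ = n := inv_eq_of_mul_eq_one_right (h.cmp.mn.sq n)
  have h6 : b • n ∈ cm M E := smul_mem_cm (h.cmp.BE hb) hn
  exact mul_mem h6 (inv_mem hn)

/-- **The situation of `RedLA`.** -/
theorem CmpM.sit (h : CmpM T B K E lam) [Finite X] [Finite M] :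
    RedLA.Sit T B K E (K ⊓ centralizer (E : Set X)) lam (cm M E) where
  toCp := h.cmp.cp
  sq := h.cmp.mn.sq
  faith := h.cmp.mn.faith
  cen := h.cmp.cenK
  core := fun _ hL h2 => h.cmp.mn.o2_eq_bot hL h2
  syl := h.cmp.mn.syl
  fixT := h.cmp.mn.fixT
  ne := h.cmp.mn.stab_ne_top
  NN := fun x hx n hn => by
    refine smul_mem_cm ?_ hn
    have h2 : E.map (MulAut.conj x).toMonoidHom = E := by
      apply Subgroup.eq_of_le_of_card_ge
      · rintro _ ⟨e, he, rfl⟩
        exact hx e he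
      · rw [card_map_of_injective (MulAut.conj x).injective]
    rw [mem_normalizer_iff]
    intro y
    refine ⟨hx y, fun hy => ?_⟩
    have h3 : x * y * x⁻¹ ∈ E.map (MulAut.conj x).toMonoidHom := by rw [h2]; exact hy
    obtain ⟨e, he, he2⟩ := h3
    have h4 : e = y := (MulAut.conj x).injective he2
    exact h4 ▸ he
  FN := fun f hf n hn => h.cenN f hf.1 hf.2 n hn
  BE := fun b hb => h.cmp.B_le hb
  MB := h.MB
  lamE := fun e he => by
    have h1 : lam⁻¹ = lam := inv_eq_of_mul_eq_one_right (h.cmp.mn.sq lam)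
    rw [h1]
    exact h.orbE e he

namespace Sc

variable {X₁ : Type w} [Group X₁] [MulDistribMulAction X₁ (cm M E)] {a : YY T E →* X₁}

/-- the module data -/
theorem qdat (h : Sc T B K E lam a) [Finite X] :
    haveI := h.inN0.ck_normal
    letI := modAct (H := X₁) (InN.ck (cm M E) (im a E)) h.inN0.smul_mem_ck
    RedLA.QDat T K E (K ⊓ centralizer (E : Set X)) a (cm M E)
      (QuotientGroup.mk' (InN.ck (cm M E) (im a E))) := by
  haveI := h.inN0.ck_normal
  letI := modAct (H := X₁) (InN.ck (cm M E) (im a E)) h.inN0.smul_mem_ck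
  exact
    { toQuo := h.quo
      aq := fun y n n' hn => by
        have h1 : n' = a y • n := Subtype.ext (by rw [hn, h.act])
        rw [h1]
        rfl
      qker := fun n => by
        rw [QuotientGroup.mk'_apply, QuotientGroup.eq_one_iff]
        constructor
        · intro h1 e he
          have h2 := congrArg Subtype.val (h1 (a ⟨e, E_le_YY he⟩) (apply_mem_im (y := ⟨e, E_le_YY he⟩) he))
          rw [h.act] at h2
          exact h2
        · rintro h1 _ ⟨y, hy, rfl⟩
          apply Subtype.ext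
          rw [h.act]
          exact h1 y hy }

/-- **(LA) through RED** -/
theorem la (h : Sc T B K E lam a) [Finite X] [Finite M] (hl : LA X M T B lam) :
    haveI := h.inN0.ck_normal
    letI := modAct (H := X₁) (InN.ck (cm M E) (im a E)) h.inN0.smul_mem_ck
    ∃ m₁, LA X₁ (cm M E ⧸ InN.ck (cm M E) (im a E)) (im a (T1 T E)) (im a B) m₁ := by
  haveI := h.inN0.ck_normal
  letI := modAct (H := X₁) (InN.ck (cm M E) (im a E)) h.inN0.smul_mem_ck
  obtain ⟨n, hn, -, h1⟩ := RedLA.la h.cmpM.sit h.qdat hl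
  exact ⟨_, h1⟩

end Sc

end Cfsg.Agent.Omega.ML.Ex.Red
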