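import Cfsg.Agent.Omega.ML.Ex.Red3

/-!
# THEOREM RED, step (6): `B` acts on one component only (helper995)

* `Mn.cent_other` : `B` centralises all components but one;
* **`Mn.exists_cmpMB`** : `∃ K E, CmpM T B K E lam ∧ C_K(E) ≤ C(B)`.
-/

set_option autoImplicit false

namespace Cfsg.Agent.Omega.ML.Ex.Red

open Subgroup Cfsg Cfsg.Agent.ZN Cfsg.Agent.Omega.NOThree.NoOver Cfsg.Agent.Omega.ML.CD
open Cfsg.Agent.ClassTwoFusion.Quad Cfsg.Agent.Omega.ML.MinFrame
open Cfsg.Agent.MinSimple.VModule (o2_isPGroup o2_le le_o2 le_normalizer_o2 o2_le_of_sylow)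
open Cfsg.Agent.SignalizersComponents.Components Cfsg.Agent.SignalizersComponents.CompBasic

universe u v

variable {X : Type u} [Group X] {M : Type v} [Group M] [MulDistribMulAction X M]
  {T B K E : Subgroup X} {lam : M}

namespace Mn

variable [Finite X]

/-- the component `E` gives `Cmp` -/
theorem cmp_of (h : Mn T B lam) (hL : IsComponent E) (hLA : ¬ B ≤ centralizer (E : Set X)) :
    Cmp T B (tcl T E) E lam := by
  have hKn := h.tcl_normal hL hLA
  have hKT := h.sup_eq_top hL hLA
  have hconj : ∀ t ∈ T, t ∉ normalizer (E : Set X) →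
      E.map (MulAut.conj t).toMonoidHom ≤ centralizer (E : Set X) := fun t _ htn =>
    component_le_centralizer_of_ne (isComponent_conj t hL) hL fun h1 => htn (mem_normalizer_of_map h1)
  refine ⟨h, hKn, h.cen_bot hKn hKT, hKT, le_tcl T E, h.simple hL, h.not_comm hL, le_rfl, ?_,
    h.center_bot hL, hconj, h.B_le_normalizer hL hLA⟩
  refine le_antisymm (sup_le (le_tcl T E) inf_le_left) (tcl_le fun t ht => ?_)
  by_cases h1 : t ∈ normalizer (E : Set X)
  · rw [map_conj_eq_of_mem h1]
    exact le_sup_left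
  · exact le_sup_of_le_right (le_inf (map_conj_le_tcl ht) (hconj t ht h1))

/-- **`B` centralises all components but one.** -/
theorem cent_other [Finite M] (h : Mn T B lam) (hML : Final.MLK.{u, v}) (hKG : IsKGroup X) {E' : Subgroup X}
    (hE : IsComponent E) (hE' : IsComponent E') (hne : E ≠ E') (mv : ¬ B ≤ centralizer (E : Set X)) :
    B ≤ centralizer (E' : Set X) := by
  by_contra mv'
  have hc := h.comm
  have hsq := h.sq
  have c1 := h.cmp_of hE mv
  have c2 := h.cmp_of hE' mv'
  obtain ⟨k1, k2, k3⟩ := c2.key hML hKG mv'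
  have hEc : E ≤ centralizer (E' : Set X) := component_le_centralizer_of_ne hE hE' hne
  -- `E ≤ K'`
  have hEK : E ≤ tcl T E' := by
    by_contra h1
    have h2 : E ≤ centralizer (tcl T E' : Set X) := by
      rw [le_centralizer_iff]
      refine tcl_le fun t ht => ?_
      refine component_le_centralizer_of_ne (isComponent_conj t hE') hE fun h3 => h1 ?_
      rw [← h3]
      exact map_conj_le_tcl ht
    rw [c2.cenK] at h2
    obtain ⟨x, hx, hx1⟩ := c1.ne_bot
    exact hx1 (mem_bot.1 (h2 hx))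
  have hcen := c2.cen_cm k3
  have hfix : ∀ e ∈ E, ∀ n ∈ cm M E', e • n = n := fun e he n hn => hcen ⟨hEK he, hEc he⟩ n hn
  have hlam : lam ∈ cv M (B : Set X) := fun b hb => h.fixT b (h.B_le hb)
  have hsup : cm M E' ⊔ cv M (B : Set X) = ⊤ := by
    rw [eq_top_iff, ← k2]
    refine sup_le (orb_le fun e he => ?_) le_sup_right
    have e1 : e • lam = e • lam * lam * lam := by rw [mul_assoc, hsq, mul_one]
    rw [e1]
    exact mul_mem (mem_sup_left (mem_cm he lam)) (mem_sup_right hlam)
  let L : Subgroup X :=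
    { carrier := {x | ∀ m : M, x • m * m ∈ cv M (E : Set X)}
      one_mem' := fun m => by
        rw [one_smul, hsq]
        exact one_mem _
      mul_mem' := fun {x y} hx hy m => by
        have e : (x * y) • m * m = (x • y • m * (y • m)) * (y • m * m) := by
          rw [mul_smul, mul_assoc, ← mul_assoc (y • m) (y • m), hsq, one_mul]
        rw [e]
        exact mul_mem (hx _) (hy m)
      inv_mem' := fun {x} hx m => by
        have h1 := hx (x⁻¹ • m)
        rw [smul_inv_smul, hc] at h1
        exact h1 }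
  have hLn : ∀ e ∈ E, ∀ x ∈ L, e * x * e⁻¹ ∈ L := fun y hy x hx m => by
    have h1 := hx (y⁻¹ • m)
    have h2 : y • (x • (y⁻¹ • m) * (y⁻¹ • m)) = x • (y⁻¹ • m) * (y⁻¹ • m) := h1 y hy
    rw [← h2, smul_mul', smul_inv_smul, ← mul_smul, ← mul_smul] at h1
    exact h1
  have hBL : B ≤ L := by
    intro b hb m
    have h5 : m ∈ cm M E' ⊔ cv M (B : Set X) := hsup ▸ mem_top m
    have hcn : (cv M (B : Set X)).Normal := ⟨fun x hx g => by rw [hc g x, mul_inv_cancel_right]; exact hx⟩
    obtain ⟨y, hy, c, hcc, rfl⟩ := mem_sup_of_normal_right.1 h5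
    have e : b • (y * c) * (y * c) = b • y * y := by
      rw [smul_mul', hcc b hb, hc y c, mul_assoc, ← mul_assoc c c, hsq, one_mul]
    rw [e]
    intro e' he'
    exact hfix e' he' _ (mul_mem (smul_mem_cm (c2.BE hb) hy) hy)
  have hEL : E ≤ L := c1.E_le_of mv hLn hBL
  obtain ⟨x, hx, hx1⟩ := c1.ne_bot
  apply hx1
  apply h.faith
  intro m
  have h2 : ∀ e ∈ E, e • m * m ∈ (⊥ : Subgroup M) := c1.mem_of_mod fun e he e' he' => by
    rw [mem_bot, hEL he m e' he', hsq]
  exact (smul_mul_self_iff hsq).1 (mem_bot.1 (h2 x hx))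

/-- **RED (1)-(6)**: `B` centralises `C_K(E)`. -/
theorem exists_cmpMB [Finite M] (h : Mn T B lam) (hML : Final.MLK.{u, v}) (hKG : IsKGroup X) :
    ∃ K E : Subgroup X, CmpM T B K E lam ∧ K ⊓ centralizer (E : Set X) ≤ centralizer (B : Set X) := by
  obtain ⟨E, hL, mv⟩ := h.exists_component
  have hC := h.cmp_of hL mv
  refine ⟨tcl T E, E, hC.toM hML hKG mv, ?_⟩
  have hK : tcl T E ≤ E ⊔ (centralizer (B : Set X) ⊓ centralizer (E : Set X)) := by
    refine tcl_le fun t ht => ?_
    by_cases htn : E.map (MulAut.conj t).toMonoidHom = E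
    · rw [htn]
      exact le_sup_left
    · refine le_sup_of_le_right (le_inf ?_ ?_)
      · exact le_centralizer_iff.1 (h.cent_other hML hKG hL (isComponent_conj t hL) (Ne.symm htn) mv)
      · exact component_le_centralizer_of_ne (isComponent_conj t hL) hL htn
  rintro f ⟨hfK, hfc⟩
  obtain ⟨y, hy, w, hw, rfl⟩ := sup_eq_mul (inf_le_right.trans (centralizer_le_normalizer _)) (hK hfK)
  have h3 : y ∈ E ⊓ centralizer (E : Set X) := by
    refine ⟨hy, ?_⟩
    have := Subgroup.mul_mem _ hfc (Subgroup.inv_mem _ hw.2)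
    rwa [mul_inv_cancel_right] at this
  rw [hC.inf, mem_bot] at h3
  rw [h3, one_mul]
  exact hw.1

end Mn

end Cfsg.Agent.Omega.ML.Ex.Red
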