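import Cfsg.Agent.Omega.ML.Ex.LA
import Cfsg.Agent.Omega.ML.Ex.Red4

/-!
# THEOREM RED: from `PsR` to `Mn` (helper995)

* **`PsR.mn`** : `PsR T B p m → Mn T B m`.
-/

set_option autoImplicit false

namespace Cfsg.Agent.Omega.ML.Ex

open Subgroup Cfsg Cfsg.Agent.ZN Cfsg.Agent.Omega.ML.Ex.Red Cfsg.Agent.Omega.ML.MinFrame

universe u v w

variable {X : Type u} [Group X] {M : Type v} [CommGroup M] [MulDistribMulAction X M] {W : Type w} [CommGroup W]
  [MulDistribMulAction X W] {T B : Subgroup X} {p : W →* M} {m : M}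

/-- no normal subgroup of odd order: `C_W(T) ≤ C_W(X)` -/
theorem PsR.odd [Finite X] [Finite W] (h : PsR T B p m) {N : Subgroup X} (hN : N.Normal) (ho : Odd (Nat.card N)) :
    N = ⊥ := by
  have hTN : T ⊓ N = ⊥ := by
    have h1 : IsPGroup 2 (T ⊓ N : Subgroup X) := h.two.to_le inf_le_left
    have : Fact (Nat.Prime 2) := ⟨Nat.prime_two⟩
    obtain ⟨k, hk⟩ := IsPGroup.iff_card.1 h1
    have h2 : Nat.card (T ⊓ N : Subgroup X) ∣ Nat.card N := card_dvd_of_le inf_le_right
    rw [← card_eq_one, hk]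
    rcases Nat.eq_zero_or_pos k with h3 | h3
    · rw [h3, pow_zero]
    · exfalso
      rw [hk] at h2
      exact (Nat.not_even_iff_odd.2 ho) (even_iff_two_dvd.2 ((dvd_pow_self 2 h3.ne').trans h2))
  have h1 : ∀ w : W, ∀ k ∈ N, k • w = w := fun w =>
    odd_fix_mul h.sq h.two (fun t _ k hk => hN.conj_mem k hk t) (by
      rw [hTN, relIndex_bot_left]
      exact fun h2 => (Nat.not_even_iff_odd.2 ho) (even_iff_two_dvd.2 h2))
      (fun w hw k _ => h.ker w (h.fixT w hw) k) (fun t ht => by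
        rw [hTN, mem_bot] at ht
        rw [ht, one_smul])
  rw [eq_bot_iff]
  intro x hx
  rw [mem_bot]
  apply h.faith
  intro v
  obtain ⟨w, rfl⟩ := h.surj v
  rw [← h.eqv, h1 w x hx]

/-- **`PsR` gives the input of RED.** -/
theorem PsR.mn [Finite X] [Finite W] (h : PsR T B p m) : Mn T B m where
  sq := h.sqM
  faith := h.faith
  gen := h.gen _ (fun x _ hu => smul_mem_orb (mem_top x) hu) (mem_orb_self _ _)
  fixT := h.la.fix
  odd := fun _ hN ho => h.odd hN ho
  two := h.two
  syl := h.syl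
  el := h.el
  four := h.four
  exact := h.exact
  atom := h.atom
  low := h.low
  nmax := h.nmax

end Cfsg.Agent.Omega.ML.Ex
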