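import Cfsg.Agent.Omega.ML.Ex.RedW
import Cfsg.Agent.Omega.ML.Ex.RedPs
import Cfsg.Agent.Omega.ML.Ex.RedLASc

/-!
# `PsRed` of `Ex/LA.lean` from THEOREM RED (helper844)

* `PsR.wd` : the W-side;
* **`psRed`** : `MLK → PsRed`.
-/

set_option autoImplicit false
set_option linter.unusedSectionVars false
set_option linter.style.haveILetI false

namespace Cfsg.Agent.Omega.ML.Ex

open Subgroup Cfsg Cfsg.Agent.ZN Cfsg.Agent.Omega.NOThree.NoOver
open Cfsg.Agent.ClassTwoFusion.Quad Cfsg.Agent.Omega.ML.MinFrame Cfsg.Agent.Omega.ML.Ex.SecLow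
open Cfsg.Agent.Omega.ML.Ex.Red (Mn CmpM Wd Sc cm)

universe u v w x

section

variable {X : Type u} [Group X] {M : Type v} [CommGroup M] [MulDistribMulAction X M] {W : Type w} [CommGroup W]
    [MulDistribMulAction X W] {T B : Subgroup X} {p : W →* M} {m : M}

theorem PsR.wd (P : PsR T B p m) : Wd T p where
  sq := P.sq
  eqv := P.eqv
  surj := P.surj
  ker := P.ker
  fixT := P.fixT

end

/-- a simple K-group -/
theorem known_of_simple {S : Type u} [Group S] (hs : IsSimpleGroup S) (hna : ¬ IsMulCommutative S) (hK : IsKGroup S) :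
    IsKnownSimple' S := by
  let e : (⊤ : Subgroup S) ⧸ (⊥ : Subgroup (⊤ : Subgroup S)) ≃* S :=
    (QuotientGroup.quotientBot).trans Subgroup.topEquiv
  exact OddHalf.Known.isKnownSimple'_congr e (Final.not_comm_congr e.symm hna)
    (hK ⊤ ⊥ (Final.simple_congr e.symm hs) (Final.not_comm_congr e.symm hna))

/-- **`PsRed`** -/
theorem psRed (hML : Final.MLK.{u, v}) : PsRed.{u, v, w} := by
  intro X _ _ M _ _ _ W _ _ _ T B p m P
  obtain ⟨K, E, h, -⟩ := P.mn.exists_cmpMB hML P.known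
  letI := h.qact
  have hs := h.sc
  have hfX : Finite h.Xq := Finite.of_surjective _ (QuotientGroup.mk'_surjective h.rep.ker)
  have hKG1 : IsKGroup h.Xq := Final.kgroup_of_surj P.known (YY T E) (QuotientGroup.mk' h.rep.ker)
    (QuotientGroup.mk'_surjective _)
  have hN := hs.inN0.inN hML hKG1
  have hI := hN.inX
  have hL := hs.la P.la
  haveI := hN.ck_normal
  letI := modAct (H := h.Xq) (InN.ck (cm M E) (im (QuotientGroup.mk' h.rep.ker) E)) hN.smul_mem_ck
  have hd := hs.dat P.wd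
  letI := hd.inst
  have hwp := hd.wpart
  rw [hs.im_T] at hwp
  obtain ⟨m₁, hm₁⟩ := hL
  refine ⟨h.Xq, inferInstance, hfX, cm M E ⧸ InN.ck (cm M E) (im (QuotientGroup.mk' h.rep.ker) E), inferInstance,
    inferInstance, inferInstance, _, inferInstance, inferInstance, hd.inst, _, _, _, _, m₁, hI, hwp, hm₁, ?_⟩
  refine known_of_simple hI.simple ?_ (Final.kgroup_of_surj hKG1 _ (MonoidHom.id _) fun x => ⟨x, rfl⟩)
  intro h3
  have hsi := hI.simple
  have h4 : im (QuotientGroup.mk' h.rep.ker) E ≤ centralizer (im (QuotientGroup.mk' h.rep.ker) E : Set h.Xq) := by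
    intro x hx
    rw [mem_centralizer_iff]
    intro z hz
    exact congrArg Subtype.val (h3.is_comm.comm (⟨z, hz⟩ : im (QuotientGroup.mk' h.rep.ker) E) ⟨x, hx⟩)
  rw [hI.cen, le_bot_iff] at h4
  obtain ⟨x, hx⟩ := exists_ne (1 : im (QuotientGroup.mk' h.rep.ker) E)
  exact hx (Subtype.ext (mem_bot.1 (h4 ▸ x.2)))

end Cfsg.Agent.Omega.ML.Ex
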