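import Mathlib

/-!
# An extraspecial group `3^{1+2}` on a 2-group of exponent 2: `|M : C_M(Z)| ≥ 64` (helper919)
-/

set_option autoImplicit false

namespace Cfsg.Agent.Omega.ML.Ex.HeisThree

section add

variable {V : Type*} [AddCommGroup V]

/-- `v + S v + S² v` -/
def nm (S : V →+ V) : V →+ V := AddMonoidHom.id V + S + S.comp S

theorem nm_apply (S : V →+ V) (v : V) : nm S v = v + S v + S (S v) := rfl

/-- an eigenspace in `[V, S]` -/
def eg (S A : V →+ V) : AddSubgroup V := (nm S).ker ⊓ (A - AddMonoidHom.id V).ker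

theorem mem_eg {S A : V →+ V} {v : V} : v ∈ eg S A ↔ v + S v + S (S v) = 0 ∧ A v = v := by
  rw [eg, AddSubgroup.mem_inf, AddMonoidHom.mem_ker, AddMonoidHom.mem_ker, nm_apply, AddMonoidHom.sub_apply,
    AddMonoidHom.id_apply, sub_eq_zero]

theorem four_le [Finite V] (h2 : ∀ v : V, v + v = 0) {S A : V →+ V} (hS : ∀ v, S (S (S v)) = v)
    (hSA : ∀ v, S (A v) = A (S v)) {v : V} (hv : v ∈ eg S A) (h0 : v ≠ 0) : 4 ≤ Nat.card (eg S A) := by
  obtain ⟨h3, h4⟩ := mem_eg.1 hv
  have hSi : Function.Injective S := by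
    intro a b hab
    rw [← hS a, ← hS b, hab]
  have h5 : S v ≠ v := by
    intro h
    rw [h, h, h2, zero_add] at h3
    exact h0 h3
  have h6 : S (S v) ≠ v := by
    intro h
    have h7 := congrArg S h
    rw [hS] at h7
    exact h5 h7.symm
  have h7 : S (S v) ≠ S v := fun h => h5 (hSi h)
  have hm1 : S v ∈ eg S A := by
    refine mem_eg.2 ⟨?_, by rw [← hSA, h4]⟩
    rw [← map_add, ← map_add, h3, map_zero]
  have hm2 : S (S v) ∈ eg S A := by
    obtain ⟨h8, h9⟩ := mem_eg.1 hm1
    refine mem_eg.2 ⟨?_, by rw [← hSA, h9]⟩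
    rw [← map_add, ← map_add, h8, map_zero]
  have h8 : S v ≠ 0 := fun h => h0 (hSi (h.trans (map_zero S).symm))
  have h9 : S (S v) ≠ 0 := fun h => h8 (hSi (h.trans (map_zero S).symm))
  let f : Fin 4 → eg S A := ![⟨0, zero_mem _⟩, ⟨v, hv⟩, ⟨S v, hm1⟩, ⟨S (S v), hm2⟩]
  have hf : Function.Injective f := by
    intro a b hab
    have hab' : ((f a : eg S A) : V) = f b := congrArg Subtype.val hab
    fin_cases a <;> fin_cases b <;> first
      | rfl
      | exact absurd hab' (Ne.symm h0)
      | exact absurd hab' h0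
      | exact absurd hab' (Ne.symm h8)
      | exact absurd hab' h8
      | exact absurd hab' (Ne.symm h9)
      | exact absurd hab' h9
      | exact absurd hab' h5
      | exact absurd hab' (Ne.symm h5)
      | exact absurd hab' h6
      | exact absurd hab' (Ne.symm h6)
      | exact absurd hab' h7
      | exact absurd hab' (Ne.symm h7)
  have h10 := Nat.card_le_card_of_injective f hf
  rwa [Nat.card_fin] at h10

theorem heis_add [Finite V] (h2 : ∀ v : V, v + v = 0) {A B S : V →+ V} (hA : ∀ v, A (A (A v)) = v)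
    (hS : ∀ v, S (S (S v)) = v) (hSA : ∀ v, S (A v) = A (S v)) (hSB : ∀ v, S (B v) = B (S v))
    (hBA : ∀ v, B (A v) = A (B (S v))) (hBi : Function.Injective B) (hne : ∃ v, S v ≠ v)
    (C : AddSubgroup V) (hC : ∀ v ∈ C, S v = v) : 64 ≤ C.index := by
  have hSi : Function.Injective S := by
    intro a b hab
    rw [← hS a, ← hS b, hab]
  have heq : ∀ a b : V, a + b = 0 → a = b := by
    intro a b h
    have hn : -b = b := neg_eq_of_add_eq_zero_left (h2 b)
    rw [← hn]
    exact eq_neg_of_add_eq_zero_left h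
  let A1 : V →+ V := A.comp S
  let A2 : V →+ V := A.comp (S.comp S)
  have e1 : ∀ v, A1 v = A (S v) := fun v => rfl
  have e2 : ∀ v, A2 v = A (S (S v)) := fun v => rfl
  have hSA1 : ∀ v, S (A1 v) = A1 (S v) := fun v => by rw [e1, e1, hSA]
  have hSA2 : ∀ v, S (A2 v) = A2 (S v) := fun v => by rw [e2, e2, hSA]
  -- `B` permutes the eigenspaces
  have hBN : ∀ v, v + S v + S (S v) = 0 → B v + S (B v) + S (S (B v)) = 0 := by
    intro v hv
    rw [hSB, hSB, ← map_add, ← map_add, hv, map_zero]
  have m0 : ∀ v ∈ eg S A, B v ∈ eg S A1 := by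
    intro v hv
    obtain ⟨h3, h4⟩ := mem_eg.1 hv
    refine mem_eg.2 ⟨hBN v h3, ?_⟩
    rw [e1, hSB, ← hBA, h4]
  have m1 : ∀ v ∈ eg S A1, B v ∈ eg S A2 := by
    intro v hv
    obtain ⟨h3, h4⟩ := mem_eg.1 hv
    refine mem_eg.2 ⟨hBN v h3, ?_⟩
    rw [e2, hSB, hSB, ← hBA]
    exact congrArg B h4
  have m2 : ∀ v ∈ eg S A2, B v ∈ eg S A := by
    intro v hv
    obtain ⟨h3, h4⟩ := mem_eg.1 hv
    refine mem_eg.2 ⟨hBN v h3, ?_⟩
    have h5 : A (B v) = B (A (S (S v))) := by rw [hBA, hS]
    rw [h5]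
    exact congrArg B h4
  have card_le : ∀ {E E' : AddSubgroup V}, (∀ v ∈ E, B v ∈ E') → Nat.card E ≤ Nat.card E' := by
    intro E E' h
    refine Nat.card_le_card_of_injective (fun v : E => (⟨B v, h v v.2⟩ : E')) ?_
    intro a b hab
    exact Subtype.ext (hBi (congrArg Subtype.val hab))
  have c0 := card_le m0
  have c1 := card_le m1
  have c2 := card_le m2
  -- the projections
  have pr : ∀ {D : V →+ V}, (∀ v, D (D (D v)) = v) → (∀ v, S (D v) = D (S v)) → ∀ v, v + S v + S (S v) = 0 →
      v + D v + D (D v) ∈ eg S D := by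
    intro D hD hSD v hv
    refine mem_eg.2 ⟨?_, ?_⟩
    · have h3 : v + D v + D (D v) + S (v + D v + D (D v)) + S (S (v + D v + D (D v))) =
          (v + S v + S (S v)) + D (v + S v + S (S v)) + D (D (v + S v + S (S v))) := by
        simp only [map_add, hSD]
        abel
      rw [h3, hv, map_zero, map_zero, add_zero, add_zero]
    · rw [map_add, map_add, hD]
      abel
  have hA1 : ∀ v, A1 (A1 (A1 v)) = v := by
    intro v
    simp only [e1, hSA, hS, hA]
  have hA2 : ∀ v, A2 (A2 (A2 v)) = v := by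
    intro v
    simp only [e2, hSA, hS, hA]
  have hbig : 4 ≤ Nat.card (eg S A) ∨ 4 ≤ Nat.card (eg S A1) ∨ 4 ≤ Nat.card (eg S A2) := by
    obtain ⟨y, hy⟩ := hne
    set v := y + S y with hv
    have hv0 : v ≠ 0 := fun h => hy (heq _ _ h).symm
    have hvn : v + S v + S (S v) = 0 := by
      rw [hv, map_add, map_add, hS]
      have : y + S y + (S y + S (S y)) + (S (S y) + y) = (y + y) + (S y + S y) + (S (S y) + S (S y)) := by abel
      simp only [this, h2]
    by_cases k0 : v + A v + A (A v) = 0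
    · by_cases k1 : v + A1 v + A1 (A1 v) = 0
      · by_cases k2 : v + A2 v + A2 (A2 v) = 0
        · exfalso
          have h3 : (v + A v + A (A v)) + (v + A1 v + A1 (A1 v)) + (v + A2 v + A2 (A2 v)) =
              v + (v + v) + A (v + S v + S (S v)) + A (A (v + S v + S (S v))) := by
            simp only [e1, e2, hSA, hS, map_add]
            abel
          rw [k0, k1, k2, hvn, map_zero, map_zero] at h3
          simp only [h2, add_zero] at h3
          exact hv0 h3.symm
        · exact Or.inr (Or.inr (four_le h2 hS hSA2 (pr hA2 hSA2 v hvn) k2))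
      · exact Or.inr (Or.inl (four_le h2 hS hSA1 (pr hA1 hSA1 v hvn) k1))
    · exact Or.inl (four_le h2 hS hSA (pr hA hSA v hvn) k0)
  have b0 : 4 ≤ Nat.card (eg S A) := by omega
  have b1 : 4 ≤ Nat.card (eg S A1) := by omega
  have b2 : 4 ≤ Nat.card (eg S A2) := by omega
  let f : eg S A × eg S A1 × eg S A2 → V ⧸ C := fun z => ((z.1 : V) + (z.2.1 : V) + (z.2.2 : V) : V)
  have hf : Function.Injective f := by
    rintro ⟨⟨a, ha⟩, ⟨b, hb⟩, ⟨c, hc⟩⟩ ⟨⟨a', ha'⟩, ⟨b', hb'⟩, ⟨c', hc'⟩⟩ h
    have h3 : -(a + b + c) + (a' + b' + c') ∈ C := QuotientAddGroup.eq.1 h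
    have ha'' := sub_mem ha' ha
    have hb'' := sub_mem hb' hb
    have hc'' := sub_mem hc' hc
    have h4 : (a' - a) + (b' - b) + (c' - c) ∈ C := by
      have : (a' - a) + (b' - b) + (c' - c) = -(a + b + c) + (a' + b' + c') := by abel
      rw [this]; exact h3
    suffices hk : ∀ x ∈ eg S A, ∀ y ∈ eg S A1, ∀ z ∈ eg S A2, x + y + z ∈ C → x = 0 ∧ y = 0 ∧ z = 0 by
      obtain ⟨h5, h6, h7⟩ := hk _ ha'' _ hb'' _ hc'' h4
      rw [sub_eq_zero] at h5 h6 h7
      subst h5 h6 h7
      rfl
    intro x hx y hy z hz hxyz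
    obtain ⟨x1, x2⟩ := mem_eg.1 hx
    obtain ⟨y1, y2⟩ := mem_eg.1 hy
    obtain ⟨z1, z2⟩ := mem_eg.1 hz
    rw [e1] at y2
    rw [e2] at z2
    have h5 := hC _ hxyz
    have h6 : x + y + z = 0 := by
      have h7 : (x + y + z) + S (x + y + z) + S (S (x + y + z)) = 0 := by
        have : (x + y + z) + S (x + y + z) + S (S (x + y + z)) =
            (x + S x + S (S x)) + (y + S y + S (S y)) + (z + S z + S (S z)) := by
          simp only [map_add]; abel
        rw [this, x1, y1, z1, add_zero, add_zero]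
      rw [h5, h5, h2, zero_add] at h7
      exact h7
    have ay : A y = S (S y) := by
      apply hSi
      rw [hS, hSA]; exact y2
    have az : A z = S z := by
      apply hSi
      apply hSi
      rw [hS, hSA, hSA]; exact z2
    have h7 : A x + A y + A z = 0 := by rw [← map_add, ← map_add, h6, map_zero]
    have h8 : A (A x) + A (A y) + A (A z) = 0 := by rw [← map_add, ← map_add, h7, map_zero]
    have aay : A (A y) = S y := by
      rw [ay, ← hSA, ← hSA, ay, hS]
    have aaz : A (A z) = S (S z) := by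
      rw [az, ← hSA, az]
    rw [x2, ay, az] at h7
    rw [x2, x2, aay, aaz] at h8
    -- sum
    have h9 : x = 0 := by
      have : (x + y + z) + (x + S (S y) + S z) + (x + S y + S (S z)) =
          x + (x + x) + (y + S y + S (S y)) + (z + S z + S (S z)) := by abel
      rw [h6, h7, h8, y1, z1] at this
      simp only [h2, add_zero] at this
      exact this.symm
    rw [h9, zero_add] at h6 h7
    have h10 : y = z := heq _ _ h6
    rw [h10] at h7
    have h11 : S (S z) = S z := heq _ _ h7
    have h12 : S z = z := hSi h11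
    rw [h12, h12, h2, zero_add] at z1
    exact ⟨h9, by rw [h10, z1], z1⟩
  have h3 := Nat.card_le_card_of_injective f hf
  rw [Nat.card_prod, Nat.card_prod] at h3
  calc 64 = 4 * (4 * 4) := rfl
    _ ≤ _ := Nat.mul_le_mul b0 (Nat.mul_le_mul b1 b2)
    _ ≤ C.index := h3

end add

section mul

variable {H : Type*} [Group H]

theorem heis {M : Type*} [CommGroup M] [Finite M] [MulDistribMulAction H M] {a b s : H} (sq : ∀ m : M, m * m = 1)
    (ha : a * a * a = 1) (hs : s * s * s = 1) (hsa : s * a = a * s) (hsb : s * b = b * s) (hba : b * a = a * b * s)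
    (hne : ∃ m : M, s • m ≠ m) (C : Subgroup M) (hC : ∀ m ∈ C, s • m = m) : 64 ≤ C.index := by
  let R : H → (Additive M →+ Additive M) := fun h => (MulDistribMulAction.toMonoidHom M h).toAdditive
  have hR : ∀ (h : H) (m : M), R h (Additive.ofMul m) = Additive.ofMul (h • m) := fun h m => rfl
  have hR' : ∀ (h : H) (v : Additive M), R h v = Additive.ofMul (h • v.toMul) := fun h v => rfl
  have hmul : ∀ (h k : H) (v : Additive M), R h (R k v) = R (h * k) v := by
    intro h k v
    rw [hR' (h * k), mul_smul]; rfl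
  have hinj : ∀ h : H, Function.Injective (R h) := by
    intro h x y hxy
    have h1 := congrArg (R h⁻¹) hxy
    rw [hmul, hmul, inv_mul_cancel, hR', hR', one_smul, one_smul] at h1
    exact h1
  have h1 := heis_add (V := Additive M) (fun v => sq v.toMul) (A := R a) (B := R b) (S := R s)
    (fun v => by rw [hmul, hmul, ha, hR', one_smul]; rfl)
    (fun v => by rw [hmul, hmul, hs, hR', one_smul]; rfl)
    (fun v => by rw [hmul, hmul, hsa]) (fun v => by rw [hmul, hmul, hsb])
    (fun v => by rw [hmul, hmul, hmul, hba]) (hinj b)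
    (by obtain ⟨m, hm⟩ := hne; exact ⟨Additive.ofMul m, hm⟩) (Subgroup.toAddSubgroup C)
    (fun v hv => hC v.toMul hv)
  exact h1

end mul

end Cfsg.Agent.Omega.ML.Ex.HeisThree
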