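import Cfsg.Agent.Omega.ML.RowU33

/-!
# `U₃(3)`: facts for the exit of the exact K-list (helper919)

* `exists_conj_phi` : an outer involutory automorphism of `SU₃(3)` fixing `t0` is conjugate to the field automorphism `φ`;
* `diag_of_real` : the normal four-group of `C(φ) = SO₃(3) ≅ S₄` consists of diagonal matrices;
* `ww` of order 7, `φ ww = ww⁻¹`, **`gen` : `⟨t0, t1, ww⟩ = SU₃(3)`**;
* `aa`, `bb`, `ss` : an extraspecial group `3^{1+2}` with centre `⟨ss⟩ ≤ C(t0)`;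
* `no_four` : `C(t0) = GU₂(3)` has no normal subgroup of exponent 2 other than `⟨t0⟩`;
* `exists_inv_conj` : all involutions are conjugate to `t0`.
-/

set_option autoImplicit false

namespace Cfsg.Agent.Omega.ML.Ex.UThreeGrp

open Matrix Subgroup Cfsg
open Cfsg.Agent.Classification.RTwo.UThreeThree (K9 card_k9 card_k9' IsGood psuEquiv center_SU)
open Cfsg.Agent.OddHalf.Small.U33
open Cfsg.Agent.OddHalf.D4.Small.KU33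
open Cfsg.Agent.OddHalf.D6.RThree.U33

/-- conjugating elements -/
def rtab (k : Fin 36) : Matrix (Fin 3) (Fin 3) K9 :=
  ![!![⟨0, 0⟩, ⟨0, 0⟩, ⟨0, 1⟩; ⟨1, 2⟩, ⟨1, 2⟩, ⟨0, 0⟩; ⟨2, 1⟩, ⟨1, 2⟩, ⟨0, 0⟩],
    !![⟨0, 0⟩, ⟨0, 0⟩, ⟨1, 0⟩; ⟨1, 2⟩, ⟨1, 1⟩, ⟨0, 0⟩; ⟨2, 1⟩, ⟨1, 1⟩, ⟨0, 0⟩],
    !![⟨0, 0⟩, ⟨1, 0⟩, ⟨0, 0⟩; ⟨2, 1⟩, ⟨0, 0⟩, ⟨1, 1⟩; ⟨1, 2⟩, ⟨0, 0⟩, ⟨1, 1⟩],
    !![⟨0, 0⟩, ⟨1, 1⟩, ⟨2, 1⟩; ⟨1, 2⟩, ⟨0, 1⟩, ⟨1, 0⟩; ⟨2, 1⟩, ⟨0, 1⟩, ⟨1, 0⟩],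
    !![⟨0, 0⟩, ⟨1, 1⟩, ⟨1, 2⟩; ⟨1, 2⟩, ⟨0, 1⟩, ⟨2, 0⟩; ⟨1, 2⟩, ⟨0, 2⟩, ⟨1, 0⟩],
    !![⟨0, 0⟩, ⟨1, 2⟩, ⟨2, 1⟩; ⟨1, 2⟩, ⟨0, 1⟩, ⟨0, 1⟩; ⟨2, 1⟩, ⟨0, 1⟩, ⟨0, 1⟩],
    !![⟨0, 0⟩, ⟨1, 2⟩, ⟨1, 2⟩; ⟨1, 2⟩, ⟨0, 1⟩, ⟨0, 2⟩; ⟨1, 2⟩, ⟨0, 2⟩, ⟨0, 1⟩],
    !![⟨0, 0⟩, ⟨0, 1⟩, ⟨0, 0⟩; ⟨1, 2⟩, ⟨0, 0⟩, ⟨1, 2⟩; ⟨1, 2⟩, ⟨0, 0⟩, ⟨2, 1⟩],
    !![⟨0, 0⟩, ⟨1, 1⟩, ⟨1, 1⟩; ⟨1, 2⟩, ⟨1, 0⟩, ⟨2, 0⟩; ⟨1, 2⟩, ⟨2, 0⟩, ⟨1, 0⟩],
    !![⟨0, 0⟩, ⟨1, 1⟩, ⟨2, 2⟩; ⟨1, 2⟩, ⟨1, 0⟩, ⟨1, 0⟩; ⟨2, 1⟩, ⟨1, 0⟩, ⟨1, 0⟩],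
    !![⟨0, 0⟩, ⟨2, 1⟩, ⟨1, 1⟩; ⟨2, 1⟩, ⟨1, 0⟩, ⟨0, 1⟩; ⟨1, 2⟩, ⟨1, 0⟩, ⟨0, 1⟩],
    !![⟨0, 0⟩, ⟨1, 2⟩, ⟨1, 1⟩; ⟨1, 2⟩, ⟨1, 0⟩, ⟨0, 2⟩; ⟨1, 2⟩, ⟨2, 0⟩, ⟨0, 1⟩],
    !![⟨0, 0⟩, ⟨0, 0⟩, ⟨1, 0⟩; ⟨1, 1⟩, ⟨2, 1⟩, ⟨0, 0⟩; ⟨1, 1⟩, ⟨1, 2⟩, ⟨0, 0⟩],
    !![⟨0, 0⟩, ⟨0, 0⟩, ⟨0, 1⟩; ⟨1, 1⟩, ⟨1, 1⟩, ⟨0, 0⟩; ⟨1, 1⟩, ⟨2, 2⟩, ⟨0, 0⟩],
    !![⟨0, 0⟩, ⟨1, 0⟩, ⟨0, 0⟩; ⟨1, 1⟩, ⟨0, 0⟩, ⟨1, 2⟩; ⟨1, 1⟩, ⟨0, 0⟩, ⟨2, 1⟩],
    !![⟨0, 0⟩, ⟨1, 1⟩, ⟨2, 2⟩; ⟨1, 1⟩, ⟨0, 1⟩, ⟨0, 1⟩; ⟨1, 1⟩, ⟨0, 2⟩, ⟨0, 2⟩],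
    !![⟨0, 0⟩, ⟨1, 1⟩, ⟨1, 1⟩; ⟨1, 1⟩, ⟨0, 2⟩, ⟨0, 1⟩; ⟨1, 1⟩, ⟨0, 1⟩, ⟨0, 2⟩],
    !![⟨0, 0⟩, ⟨2, 1⟩, ⟨1, 1⟩; ⟨1, 1⟩, ⟨0, 2⟩, ⟨1, 0⟩; ⟨1, 1⟩, ⟨0, 1⟩, ⟨2, 0⟩],
    !![⟨0, 0⟩, ⟨1, 2⟩, ⟨1, 1⟩; ⟨1, 1⟩, ⟨0, 1⟩, ⟨1, 0⟩; ⟨2, 2⟩, ⟨0, 1⟩, ⟨1, 0⟩],
    !![⟨0, 0⟩, ⟨0, 1⟩, ⟨0, 0⟩; ⟨1, 1⟩, ⟨0, 0⟩, ⟨1, 1⟩; ⟨2, 2⟩, ⟨0, 0⟩, ⟨1, 1⟩],
    !![⟨0, 0⟩, ⟨1, 1⟩, ⟨2, 1⟩; ⟨1, 1⟩, ⟨2, 0⟩, ⟨0, 1⟩; ⟨1, 1⟩, ⟨1, 0⟩, ⟨0, 2⟩],
    !![⟨0, 0⟩, ⟨1, 1⟩, ⟨1, 2⟩; ⟨1, 1⟩, ⟨1, 0⟩, ⟨0, 1⟩; ⟨1, 1⟩, ⟨2, 0⟩, ⟨0, 2⟩],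
    !![⟨0, 0⟩, ⟨1, 2⟩, ⟨1, 2⟩; ⟨1, 1⟩, ⟨1, 0⟩, ⟨2, 0⟩; ⟨1, 1⟩, ⟨2, 0⟩, ⟨1, 0⟩],
    !![⟨0, 0⟩, ⟨1, 2⟩, ⟨2, 1⟩; ⟨1, 1⟩, ⟨1, 0⟩, ⟨1, 0⟩; ⟨2, 2⟩, ⟨1, 0⟩, ⟨1, 0⟩],
    !![⟨0, 0⟩, ⟨1, 1⟩, ⟨2, 2⟩; ⟨0, 0⟩, ⟨1, 2⟩, ⟨1, 2⟩; ⟨1, 0⟩, ⟨0, 0⟩, ⟨0, 0⟩],
    !![⟨0, 0⟩, ⟨1, 1⟩, ⟨1, 1⟩; ⟨0, 0⟩, ⟨2, 1⟩, ⟨1, 2⟩; ⟨1, 0⟩, ⟨0, 0⟩, ⟨0, 0⟩],
    !![⟨0, 0⟩, ⟨1, 2⟩, ⟨1, 1⟩; ⟨0, 0⟩, ⟨2, 1⟩, ⟨1, 1⟩; ⟨1, 0⟩, ⟨0, 0⟩, ⟨0, 0⟩],
    !![⟨0, 0⟩, ⟨1, 1⟩, ⟨1, 2⟩; ⟨1, 0⟩, ⟨0, 0⟩, ⟨0, 0⟩; ⟨0, 0⟩, ⟨1, 1⟩, ⟨2, 1⟩],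
    !![⟨0, 0⟩, ⟨0, 0⟩, ⟨1, 0⟩; ⟨1, 0⟩, ⟨0, 0⟩, ⟨0, 0⟩; ⟨0, 0⟩, ⟨1, 0⟩, ⟨0, 0⟩],
    !![⟨0, 0⟩, ⟨0, 0⟩, ⟨0, 1⟩; ⟨0, 0⟩, ⟨0, 1⟩, ⟨0, 0⟩; ⟨1, 0⟩, ⟨0, 0⟩, ⟨0, 0⟩],
    !![⟨0, 0⟩, ⟨1, 1⟩, ⟨1, 2⟩; ⟨0, 1⟩, ⟨0, 0⟩, ⟨0, 0⟩; ⟨0, 0⟩, ⟨1, 2⟩, ⟨1, 1⟩],
    !![⟨0, 0⟩, ⟨1, 1⟩, ⟨2, 1⟩; ⟨0, 1⟩, ⟨0, 0⟩, ⟨0, 0⟩; ⟨0, 0⟩, ⟨2, 1⟩, ⟨1, 1⟩],
    !![⟨0, 0⟩, ⟨1, 2⟩, ⟨1, 2⟩; ⟨0, 0⟩, ⟨2, 1⟩, ⟨1, 2⟩; ⟨0, 1⟩, ⟨0, 0⟩, ⟨0, 0⟩],
    !![⟨0, 0⟩, ⟨1, 1⟩, ⟨1, 1⟩; ⟨0, 0⟩, ⟨1, 1⟩, ⟨2, 2⟩; ⟨0, 1⟩, ⟨0, 0⟩, ⟨0, 0⟩],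
    !![⟨0, 0⟩, ⟨0, 0⟩, ⟨0, 1⟩; ⟨0, 0⟩, ⟨1, 0⟩, ⟨0, 0⟩; ⟨0, 1⟩, ⟨0, 0⟩, ⟨0, 0⟩],
    !![⟨0, 0⟩, ⟨0, 0⟩, ⟨1, 0⟩; ⟨0, 0⟩, ⟨0, 1⟩, ⟨0, 0⟩; ⟨0, 1⟩, ⟨0, 0⟩, ⟨0, 0⟩]] k

theorem rtab_good : ∀ k : Fin 36, IsGood (rtab k) := by decide +kernel

theorem cover : ∀ d1 d2 a1 a2 b1 b2 : ZMod 3, (⟨d1, d2⟩ : K9) * cj ⟨d1, d2⟩ = 1 →
    (⟨a1, a2⟩ : K9) * cj ⟨a1, a2⟩ + ⟨b1, b2⟩ * cj ⟨b1, b2⟩ = 1 →
    cm ⟨d1, d2⟩ ⟨a1, a2⟩ ⟨b1, b2⟩ * (cm ⟨d1, d2⟩ ⟨a1, a2⟩ ⟨b1, b2⟩).map cj = 1 →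
    ∃ k : Fin 36, rtab k * cm ⟨d1, d2⟩ ⟨a1, a2⟩ ⟨b1, b2⟩ = (rtab k).map cj := by
  decide +kernel

theorem exists_r {h : SU33} (hh : h * t0 = t0 * h) (hs : h * φ h = 1) : ∃ r : SU33, r * h = φ r := by
  obtain ⟨h00, h21, h22, h11⟩ := param hh
  have hm : mt h = cm (mt h 0 0) (mt h 1 1) (mt h 1 2) := mt_cm hh rfl
  have hs' : mt h * (mt h).map cj = 1 := by
    have := congrArg (fun x : SU33 => mt x) hs
    exact this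
  generalize mt h 0 0 = d at hm h00
  generalize mt h 1 1 = a at hm h11
  generalize mt h 1 2 = b at hm h11
  rw [hm] at hs'
  obtain ⟨d1, d2⟩ := d
  obtain ⟨a1, a2⟩ := a
  obtain ⟨b1, b2⟩ := b
  obtain ⟨k, hk⟩ := cover d1 d2 a1 a2 b1 b2 h00 h11 hs'
  refine ⟨(rtab_good k).su, ?_⟩
  apply mt_ext
  rw [mt_mul, mt_φ, hm]
  exact hk

/-- an outer involutory automorphism fixing `t0` is conjugate to `φ` -/
theorem exists_conj_phi {α : MulAut SU33} (h0 : α t0 = t0) (h2 : α * α = 1)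
    (ho : α ∉ (MulAut.conj : SU33 →* MulAut SU33).range) : ∃ r : SU33, MulAut.conj r * α * (MulAut.conj r)⁻¹ = φ := by
  obtain ⟨g, hg, h7 | h7⟩ := fix_cases h0
  · exact absurd ⟨g, h7.symm⟩ ho
  have h8' : ∀ x, α x = (g * gi) * φ x * (g * gi)⁻¹ := by
    intro x
    rw [h7, MulAut.mul_apply, MulAut.conj_apply, f_apply]
    group
  have h9 : (g * gi) * φ (g * gi) = 1 := by
    apply conj_inj
    rw [map_one, ← h2]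
    refine MulEquiv.ext fun x => ?_
    have e1 : φ ((g * gi) * φ x * (g * gi)⁻¹) = φ (g * gi) * x * (φ (g * gi))⁻¹ := by
      rw [map_mul, map_mul _ (g * gi), map_inv, φφ]
    rw [MulAut.mul_apply, h8' (α x), h8' x, e1, MulAut.conj_apply]
    group
  obtain ⟨r, hr⟩ := exists_r (comm_mul hg gi_t0) h9
  refine ⟨r, MulEquiv.ext fun x => ?_⟩
  rw [MulAut.mul_apply, MulAut.mul_apply, ← map_inv, MulAut.conj_apply, h8', MulAut.conj_apply]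
  have e2 : r * (g * gi * φ (r⁻¹ * x * r⁻¹⁻¹) * (g * gi)⁻¹) * r⁻¹ =
      (r * (g * gi)) * φ (r⁻¹ * x * r) * (r * (g * gi))⁻¹ := by
    rw [inv_inv]; group
  rw [e2, hr, map_mul, map_mul, map_inv]
  group

/-! ### the element of order 7 -/

def wMat : Matrix (Fin 3) (Fin 3) K9 := !![⟨0, 1⟩, ⟨0, 1⟩, ⟨1, 2⟩; ⟨0, 1⟩, ⟨1, 1⟩, ⟨1, 0⟩; ⟨1, 2⟩, ⟨1, 0⟩, ⟨0, 2⟩]
def t1Mat : Matrix (Fin 3) (Fin 3) K9 := !![-1, 0, 0; 0, -1, 0; 0, 0, 1]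
def aMat : Matrix (Fin 3) (Fin 3) K9 := !![⟨1, 0⟩, ⟨1, 0⟩, ⟨2, 2⟩; ⟨2, 0⟩, ⟨2, 0⟩, ⟨2, 2⟩; ⟨1, 2⟩, ⟨2, 1⟩, ⟨0, 0⟩]
def bMat : Matrix (Fin 3) (Fin 3) K9 := !![⟨1, 0⟩, ⟨2, 2⟩, ⟨0, 2⟩; ⟨1, 2⟩, ⟨0, 0⟩, ⟨1, 1⟩; ⟨0, 2⟩, ⟨1, 2⟩, ⟨2, 0⟩]
def sMat : Matrix (Fin 3) (Fin 3) K9 := !![⟨1, 0⟩, ⟨0, 0⟩, ⟨0, 0⟩; ⟨0, 0⟩, ⟨1, 1⟩, ⟨1, 2⟩; ⟨0, 0⟩, ⟨2, 2⟩, ⟨1, 2⟩]
def uMat : Matrix (Fin 3) (Fin 3) K9 := !![⟨0, 1⟩, 0, 0; 0, ⟨0, 1⟩, 0; 0, 0, -1]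

theorem w_good : IsGood wMat := by decide +kernel
theorem t1_good : IsGood t1Mat := by decide +kernel
theorem a_good : IsGood aMat := by decide +kernel
theorem b_good : IsGood bMat := by decide +kernel
theorem s_good : IsGood sMat := by decide +kernel
theorem u_good : IsGood uMat := by decide +kernel

/-- the element of order 7 inverted by `φ` -/
def ww : SU33 := w_good.su
/-- `diag(-1,-1,1)` -/
def t1 : SU33 := t1_good.su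
def aa : SU33 := a_good.su
def bb : SU33 := b_good.su
def ss : SU33 := s_good.su
/-- `diag(i,i,-1)` -/
def uu : SU33 := u_good.su

theorem mt_ww : mt ww = wMat := rfl
theorem mt_t1 : mt t1 = t1Mat := rfl
theorem mt_aa : mt aa = aMat := rfl
theorem mt_bb : mt bb = bMat := rfl
theorem mt_ss : mt ss = sMat := rfl
theorem mt_uu : mt uu = uMat := rfl

theorem φ_ww' : φ ww * ww = 1 := by
  apply mt_ext
  rw [mt_mul, mt_φ, mt_ww, mt_one]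
  decide +kernel

theorem φ_ww : φ ww = ww⁻¹ := eq_inv_of_mul_eq_one_left φ_ww'

theorem ww_seven : ww ^ 7 = 1 := by
  have h1 : ∀ x : SU33, x ^ 7 = x * x * x * (x * x * x) * x := by
    intro x; simp only [pow_succ, pow_zero, one_mul, mul_assoc]
  rw [h1]
  apply mt_ext
  simp only [mt_mul, mt_ww, mt_one]
  decide +kernel

theorem ww_ne : ww ≠ 1 := by
  intro h
  have := congrArg (fun x : SU33 => mt x) h
  exact absurd this (by change wMat ≠ 1; decide +kernel)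

theorem t1_t1 : t1 * t1 = 1 := by
  apply mt_ext
  rw [mt_mul, mt_t1, mt_one]
  decide +kernel

theorem t0_t1 : t0 * t1 = t1 * t0 := by
  apply mt_ext
  rw [mt_mul, mt_mul, mt_t1, mt_t0]
  decide +kernel

theorem ss_t0 : ss * t0 = t0 * ss := by
  apply mt_ext
  rw [mt_mul, mt_mul, mt_ss, mt_t0]
  decide +kernel

theorem ss_three : ss * ss * ss = 1 := by
  apply mt_ext
  simp only [mt_mul, mt_ss, mt_one]
  decide +kernel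

theorem aa_three : aa * aa * aa = 1 := by
  apply mt_ext
  simp only [mt_mul, mt_aa, mt_one]
  decide +kernel

theorem bb_three : bb * bb * bb = 1 := by
  apply mt_ext
  simp only [mt_mul, mt_bb, mt_one]
  decide +kernel

theorem ss_ne : ss ≠ 1 := by
  intro h
  have := congrArg (fun x : SU33 => mt x) h
  exact absurd this (by change sMat ≠ 1; decide +kernel)

theorem ss_aa : ss * aa = aa * ss := by
  apply mt_ext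
  rw [mt_mul, mt_mul, mt_ss, mt_aa]
  decide +kernel

theorem ss_bb : ss * bb = bb * ss := by
  apply mt_ext
  rw [mt_mul, mt_mul, mt_ss, mt_bb]
  decide +kernel

theorem bb_aa : bb * aa = aa * bb * ss := by
  apply mt_ext
  simp only [mt_mul, mt_ss, mt_bb, mt_aa]
  decide +kernel

theorem φ_t1 : φ t1 = t1 := by
  apply mt_ext
  rw [mt_φ, mt_t1]
  decide +kernel

theorem φ_t0 : φ t0 = t0 := by
  apply mt_ext
  rw [mt_φ, mt_t0]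
  decide +kernel

/-! ### generation -/

/-- `ww⁻¹` -/
def vv : SU33 := φ ww

theorem mt_vv : mt vv = wMat.map cj := rfl

theorem uu_word : uu = (ww * t1 * vv) * (vv * t0 * ww) * (t1 * ww * ww) := by
  apply mt_ext
  simp only [mt_mul, mt_uu, mt_ww, mt_t1, mt_vv, mt_t0]
  decide +kernel

theorem gi_word : gi = (t1 * ww * t1) * (vv * vv * t1) * ((ww * ww) * (t1 * vv)) := by
  apply mt_ext
  simp only [mt_mul, mt_gi, mt_ww, mt_t1, mt_vv]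
  decide +kernel

theorem aa_word : aa = (vv * t0) * (ww * t0) := by
  apply mt_ext
  simp only [mt_mul, mt_aa, mt_ww, mt_vv, mt_t0]
  decide +kernel

theorem bb_word : bb = (t0 * ww * t0) * (t1 * vv) := by
  apply mt_ext
  simp only [mt_mul, mt_bb, mt_ww, mt_t1, mt_vv, mt_t0]
  decide +kernel

/-- `diag(i,-1,i)` -/
def u2Mat : Matrix (Fin 3) (Fin 3) K9 := !![⟨0, 1⟩, 0, 0; 0, -1, 0; 0, 0, ⟨0, 1⟩]
theorem u2_good : IsGood u2Mat := by decide +kernel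
def u2 : SU33 := u2_good.su
theorem mt_u2 : mt u2 = u2Mat := rfl

theorem u2_gi : u2 * gi = gi * uu := by
  apply mt_ext
  rw [mt_mul, mt_mul, mt_u2, mt_gi, mt_uu]
  decide +kernel

def pw (m : Matrix (Fin 3) (Fin 3) K9) (a : Fin 4) : Matrix (Fin 3) (Fin 3) K9 := ![1, m, m * m, m * m * m] a

theorem sm_eq : ∀ k l : Fin 4, ∀ e : Bool, ∃ a b : Fin 4,
    sm k l e = pw uMat a * pw u2Mat b * (if e then iMat else 1) := by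
  decide +kernel

def pg (x : SU33) (a : Fin 4) : SU33 := ![1, x, x * x, x * x * x] a

theorem mt_pg (x : SU33) (a : Fin 4) : mt (pg x a) = pw (mt x) a := by
  fin_cases a <;> rfl

theorem pg_mem {R : Subgroup SU33} {x : SU33} (hx : x ∈ R) (a : Fin 4) : pg x a ∈ R := by
  fin_cases a
  · exact one_mem R
  · exact hx
  · exact mul_mem hx hx
  · exact mul_mem (mul_mem hx hx) hx

theorem sm_mem {R : Subgroup SU33} (hu : uu ∈ R) (hg : gi ∈ R) (k l : Fin 4) (e : Bool) : (sm_good k l e).su ∈ R := by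
  have h2 : u2 ∈ R := by
    have : u2 = gi * uu * gi⁻¹ := by rw [← u2_gi]; group
    rw [this]
    exact mul_mem (mul_mem hg hu) (inv_mem hg)
  obtain ⟨a, b, h⟩ := sm_eq k l e
  have h3 : (sm_good k l e).su = pg uu a * pg u2 b * (if e then gi else 1) := by
    apply mt_ext
    have h4 : mt (if e then gi else 1) = (if e then iMat else 1) := by
      cases e <;> rfl
    rw [mt_mul, mt_mul, mt_pg, mt_pg, h4, mt_uu, mt_u2]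
    exact h
  rw [h3]
  refine mul_mem (mul_mem (pg_mem hu a) (pg_mem h2 b)) ?_
  cases e
  · exact one_mem R
  · exact hg

theorem dvd_of_S {R : Subgroup SU33} (hu : uu ∈ R) (hg : gi ∈ R) : 32 ∣ Nat.card R := by
  have h1 : IsPGroup 2 (S ⊓ R : Subgroup SU33) := isPGroup_S.to_le inf_le_left
  obtain ⟨n, hn⟩ := IsPGroup.iff_card.1 h1
  have h2 : 32 ≤ Nat.card (S ⊓ R : Subgroup SU33) := by
    let f : Fin 4 × Fin 4 × Bool → (S ⊓ R : Subgroup SU33) := fun p => ⟨(sm_good p.1 p.2.1 p.2.2).su, by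
      have h := sm_pat p.1 p.2.1 p.2.2
      exact ⟨⟨comm_iff.mpr ⟨h.1, h.2.1, h.2.2.1, h.2.2.2.1⟩, h.2.2.2.2⟩, sm_mem hu hg _ _ _⟩⟩
    have hf : Function.Injective f := by
      rintro ⟨k, l, e⟩ ⟨k', l', e'⟩ h
      have h1 : mt (sm_good k l e).su = mt (sm_good k' l' e').su :=
        congrArg (fun x : (S ⊓ R : Subgroup SU33) => mt (x : SU33)) h
      have h2 : sm k l e = sm k' l' e' := h1
      obtain ⟨h3, h4, h5⟩ := sm_inj k l e k' l' e' (by rw [h2]) (by rw [h2]) (by rw [h2])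
      rw [h3, h4, h5]
    have h1 := Nat.card_le_card_of_injective f hf
    have h2 : Nat.card (Fin 4 × Fin 4 × Bool) = 32 := by simp
    rwa [h2] at h1
  have h3 : 5 ≤ n := by
    by_contra hc
    have h4 : 2 ^ n ≤ 2 ^ 4 := Nat.pow_le_pow_right (by norm_num) (by omega)
    rw [hn] at h2
    omega
  have h4 : 32 ∣ 2 ^ n := by
    have : (32 : ℕ) = 2 ^ 5 := by norm_num
    rw [this]
    exact pow_dvd_pow 2 h3
  rw [← hn] at h4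
  exact h4.trans (card_dvd_of_le inf_le_right)

theorem three_mul_le {G : Type*} [Group G] [Finite G] {P Q : Subgroup G} (hP : IsPGroup 3 Q) (h : P < Q) :
    3 * Nat.card P ≤ Nat.card Q := by
  have h1 := card_mul_index (P.subgroupOf Q)
  have h2 : Nat.card (P.subgroupOf Q) = Nat.card P := Nat.card_congr (subgroupOfEquivOfLe h.le).toEquiv
  rw [h2] at h1
  obtain ⟨n, hn⟩ := IsPGroup.iff_card.1 hP
  have h3 : (P.subgroupOf Q).index ∣ 3 ^ n := by rw [← hn]; exact index_dvd_card _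
  obtain ⟨k, -, hk⟩ := (Nat.dvd_prime_pow Nat.prime_three).1 h3
  have h4 : (P.subgroupOf Q).index ≠ 1 := by
    intro h5
    rw [index_eq_one, subgroupOf_eq_top] at h5
    exact absurd h5 (not_le_of_gt h)
  have h5 : 3 ≤ (P.subgroupOf Q).index := by
    rw [hk] at h4 ⊢
    match k, h4 with
    | 0, h4 => simp at h4
    | k + 1, _ => rw [pow_succ]; have := Nat.one_le_pow k 3 (by norm_num); omega
  calc 3 * Nat.card P ≤ (P.subgroupOf Q).index * Nat.card P := Nat.mul_le_mul_right _ h5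
    _ = Nat.card Q := by rw [mul_comm]; exact h1

theorem zp_three {G : Type*} [Group G] {x : G} (h : x * x * x = 1) : IsPGroup 3 (zpowers x) := by
  rintro ⟨y, hy⟩
  refine ⟨1, Subtype.ext ?_⟩
  obtain ⟨k, rfl⟩ := mem_zpowers_iff.1 hy
  show (x ^ k) ^ (3 ^ 1) = 1
  have h3 : x ^ (3 : ℤ) = 1 := by
    have : x ^ (3 : ℤ) = x * x * x := by
      rw [show (3 : ℤ) = 1 + 1 + 1 from rfl, _root_.zpow_add, _root_.zpow_add, _root_.zpow_one]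
    rw [this, h]
  rw [← _root_.zpow_natCast, ← _root_.zpow_mul, mul_comm, _root_.zpow_mul]
  norm_num [h3]

theorem dvd27 {G : Type*} [Group G] [Finite G] {a b s : G} (ha : a * a * a = 1) (hb : b * b * b = 1)
    (hs : s * s * s = 1) (hsa : s * a = a * s) (hsb : s * b = b * s) (hba : b * a = a * b * s) (hs1 : s ≠ 1)
    {R : Subgroup G} (haR : a ∈ R) (hbR : b ∈ R) : 27 ∣ Nat.card R := by
  have hsR : s ∈ R := by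
    have : s = (a * b)⁻¹ * (b * a) := by rw [hba]; group
    rw [this]
    exact mul_mem (inv_mem (mul_mem haR hbR)) (mul_mem hbR haR)
  set Z := zpowers s with hZ
  set Y := zpowers a ⊔ Z with hY
  set P := zpowers b ⊔ Y with hPdef
  have hZp : IsPGroup 3 Z := zp_three hs
  have hnZ : zpowers a ≤ normalizer (Z : Set G) := by
    rw [zpowers_le]
    have hcz : ∀ z ∈ Z, a * z * a⁻¹ = z := by
      intro z hz
      obtain ⟨k, rfl⟩ := mem_zpowers_iff.1 hz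
      have h1 : Commute a s := hsa.symm
      rw [(h1.zpow_right k).eq, mul_inv_cancel_right]
    refine mem_normalizer_iff.2 fun z => ⟨fun hz => by rw [hcz z hz]; exact hz, fun hz => ?_⟩
    have h2 := hcz _ hz
    have h3 : a * z * a⁻¹ = z := by
      have h4 : a * (a * z * a⁻¹) * a⁻¹ = a * z * a⁻¹ := h2
      have h5 := mul_right_cancel h4
      exact mul_left_cancel h5
    rwa [h3] at hz
  have hYp : IsPGroup 3 Y := IsPGroup.to_sup_of_normal_right' (zp_three ha) hZp hnZ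
  have hYcl : Y = closure {a, s} := by
    rw [hY, hZ, zpowers_eq_closure, zpowers_eq_closure, ← Subgroup.closure_union]
    rfl
  -- `Y` is abelian
  have hYc : ∀ y ∈ Y, ∀ y' ∈ Y, y * y' = y' * y := by
    have h2 : ∀ x ∈ ({a, s} : Set G), ∀ y ∈ ({a, s} : Set G), x * y = y * x := by
      rintro x (rfl | rfl) y (rfl | rfl)
      · rfl
      · exact hsa.symm
      · exact hsa
      · rfl
    have h3 : closure ({a, s} : Set G) ≤ centralizer ({a, s} : Set G) := by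
      rw [closure_le]
      exact fun x hx => mem_centralizer_iff.2 fun y hy => h2 y hy x hx
    have h4 : closure ({a, s} : Set G) ≤ centralizer (closure ({a, s} : Set G) : Set G) := by
      rw [closure_le]
      exact fun x hx => mem_centralizer_iff.2 fun y hy => (mem_centralizer_iff.1 (h3 hy) x hx).symm
    rw [hYcl]
    intro y hy y' hy'
    exact (mem_centralizer_iff.1 (h4 hy) y' hy').symm
  have hbn : ∀ y ∈ Y, b * y * b⁻¹ ∈ Y := by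
    have h2 : closure ({a, s} : Set G) ≤ Y.comap (MulAut.conj b).toMonoidHom := by
      rw [closure_le]
      rintro x (rfl | rfl)
      · show b * x * b⁻¹ ∈ Y
        have h3 : b * x * b⁻¹ = x * s := by
          rw [hba, mul_assoc x b s, ← hsb]; group
        rw [h3]
        exact mul_mem (mem_sup_left (mem_zpowers x)) (mem_sup_right (mem_zpowers s))
      · show b * x * b⁻¹ ∈ Y
        rw [← hsb, mul_inv_cancel_right]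
        exact mem_sup_right (mem_zpowers x)
    intro y hy
    rw [hYcl] at hy
    exact h2 hy
  have hnY : zpowers b ≤ normalizer (Y : Set G) := by
    rw [zpowers_le]
    have h1 : Y.map (MulAut.conj b).toMonoidHom = Y := by
      refine Subgroup.eq_of_le_of_card_ge ?_ ?_
      · rintro _ ⟨y, hy, rfl⟩
        exact hbn y hy
      · rw [card_map_of_injective (MulAut.conj b).injective]
    refine mem_normalizer_iff.2 fun z => ⟨fun hz => hbn z hz, fun hz => ?_⟩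
    rw [← h1] at hz
    obtain ⟨y, hy, hyz⟩ := hz
    have h2 : b * y * b⁻¹ = b * z * b⁻¹ := hyz
    have h3 : y = z := mul_left_cancel (mul_right_cancel h2)
    rwa [← h3]
  have hPp : IsPGroup 3 P := IsPGroup.to_sup_of_normal_right' (zp_three hb) hYp hnY
  have hne : b * a ≠ a * b := by
    intro h
    rw [hba] at h
    exact hs1 (mul_left_cancel (a := a * b) (by rw [h, mul_one]))
  have h0 : (⊥ : Subgroup G) < Z := by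
    rw [bot_lt_iff_ne_bot, Ne, zpowers_eq_bot]
    exact hs1
  have h1 : Z < Y := by
    refine lt_of_le_of_ne le_sup_right fun h => hne ?_
    have h2 : a ∈ Z := by rw [h]; exact mem_sup_left (mem_zpowers a)
    obtain ⟨k, hk⟩ := mem_zpowers_iff.1 h2
    rw [← hk]
    have h3 : Commute b s := hsb.symm
    exact (h3.zpow_right k).eq
  have h2 : Y < P := by
    refine lt_of_le_of_ne le_sup_right fun h => hne ?_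
    have h3 : b ∈ Y := by rw [h]; exact mem_sup_left (mem_zpowers b)
    exact hYc b h3 a (mem_sup_left (mem_zpowers a))
  have e0 := three_mul_le hZp h0
  have e1 := three_mul_le hYp h1
  have e2 := three_mul_le hPp h2
  rw [card_bot] at e0
  obtain ⟨n, hn⟩ := IsPGroup.iff_card.1 hPp
  have h3 : 3 ≤ n := by
    by_contra hc
    have h4 : 3 ^ n ≤ 3 ^ 2 := Nat.pow_le_pow_right (by norm_num) (by omega)
    rw [hn] at e2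
    omega
  have h4 : 27 ∣ 3 ^ n := by
    have : (27 : ℕ) = 3 ^ 3 := by norm_num
    rw [this]
    exact pow_dvd_pow 3 h3
  rw [← hn] at h4
  refine h4.trans (card_dvd_of_le ?_)
  rw [hPdef, hY, hZ]
  exact sup_le (zpowers_le.2 hbR) (sup_le (zpowers_le.2 haR) (zpowers_le.2 hsR))

theorem twentyseven {R : Subgroup SU33} (ha : aa ∈ R) (hb : bb ∈ R) : 27 ∣ Nat.card R :=
  dvd27 aa_three bb_three ss_three ss_aa ss_bb bb_aa ss_ne ha hb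

/-- **`⟨t0, t1, ww⟩ = SU₃(3)`** -/
theorem gen {R : Subgroup SU33} (h0 : t0 ∈ R) (h1 : t1 ∈ R) (hw : ww ∈ R) : R = ⊤ := by
  have hv : vv ∈ R := by
    have : vv = ww⁻¹ := φ_ww
    rw [this]
    exact inv_mem hw
  have hu : uu ∈ R := by
    rw [uu_word]
    exact mul_mem (mul_mem (mul_mem (mul_mem hw h1) hv) (mul_mem (mul_mem hv h0) hw))
      (mul_mem (mul_mem h1 hw) hw)
  have hg : gi ∈ R := by
    rw [gi_word]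
    exact mul_mem (mul_mem (mul_mem (mul_mem h1 hw) h1) (mul_mem (mul_mem hv hv) h1))
      (mul_mem (mul_mem hw hw) (mul_mem h1 hv))
  have ha : aa ∈ R := by
    rw [aa_word]
    exact mul_mem (mul_mem hv h0) (mul_mem hw h0)
  have hb : bb ∈ R := by
    rw [bb_word]
    exact mul_mem (mul_mem (mul_mem h0 hw) h0) (mul_mem h1 hv)
  have d1 := dvd_of_S hu hg
  have d2 := twentyseven ha hb
  have d3 : 7 ∣ Nat.card R := by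
    have : Fact (Nat.Prime 7) := ⟨by norm_num⟩
    have h2 : orderOf ww = 7 := orderOf_eq_prime ww_seven ww_ne
    rw [← h2, ← Nat.card_zpowers]
    exact card_dvd_of_le (zpowers_le.2 hw)
  have d4 : 6048 ∣ Nat.card R := by
    have e1 : 32 * 27 ∣ Nat.card R := Nat.Coprime.mul_dvd_of_dvd_of_dvd (by norm_num) d1 d2
    have e2 : 32 * 27 * 7 ∣ Nat.card R := Nat.Coprime.mul_dvd_of_dvd_of_dvd (by norm_num) e1 d3
    exact e2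
  refine Subgroup.eq_top_of_card_eq R ?_
  refine Nat.dvd_antisymm R.card_subgroup_dvd_card ?_
  rw [card_SU]
  exact d4

/-! ### involutions -/

theorem exists_inv_conj {T : SU33} (hTT : T * T = 1) (hT1 : T ≠ 1) : ∃ g : SU33, T = g * t0 * g⁻¹ := by
  obtain ⟨v, hv, hTv⟩ := exists_fixed hTT hT1
  obtain ⟨g, hg⟩ := exists_su hv
  have hgi : mt g⁻¹ * mt g = 1 := by rw [← mt_mul, inv_mul_cancel, mt_one]
  have hS : g⁻¹ * T * g = t0 := by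
    apply eq_t0
    · calc g⁻¹ * T * g * (g⁻¹ * T * g) = g⁻¹ * (T * T) * g := by group
        _ = 1 := by rw [hTT]; group
    · intro h
      apply hT1
      calc T = g * (g⁻¹ * T * g) * g⁻¹ := by group
        _ = 1 := by rw [h]; group
    · rw [mt_mul, mt_mul, ← Matrix.mulVec_mulVec, ← Matrix.mulVec_mulVec, hg, hTv, ← hg,
        Matrix.mulVec_mulVec, hgi, Matrix.one_mulVec]
  refine ⟨g, ?_⟩
  rw [← hS]
  group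

/-! ### `C(t0)` has no normal four-group -/

theorem four_aux : ∀ a1 a2 b1 b2 : ZMod 3, (⟨a1, a2⟩ : K9) * cj ⟨a1, a2⟩ + ⟨b1, b2⟩ * cj ⟨b1, b2⟩ = 1 →
    cm (-1) ⟨a1, a2⟩ ⟨b1, b2⟩ * cm (-1) ⟨a1, a2⟩ ⟨b1, b2⟩ = 1 →
    (cm (-1) ⟨a1, a2⟩ ⟨b1, b2⟩ * (sMat * cm (-1) ⟨a1, a2⟩ ⟨b1, b2⟩ * (sMat * sMat))) *
      (cm (-1) ⟨a1, a2⟩ ⟨b1, b2⟩ * (sMat * cm (-1) ⟨a1, a2⟩ ⟨b1, b2⟩ * (sMat * sMat))) ≠ 1 := by
  decide +kernel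

theorem ss_inv : ss⁻¹ = ss * ss := by
  rw [inv_eq_iff_mul_eq_one, ← mul_assoc, ss_three]

theorem no_four {E : Subgroup SU33} (he : ∀ x ∈ E, x * x = 1) (h0 : t0 ∈ E)
    (hn : ∀ g : SU33, g * t0 = t0 * g → ∀ x ∈ E, g * x * g⁻¹ ∈ E) : ∀ x ∈ E, x = 1 ∨ x = t0 := by
  intro x hx
  have hcomm : ∀ y ∈ E, ∀ z ∈ E, y * z = z * y := by
    have h1 : ∀ z ∈ E, z⁻¹ = z := fun z hz => inv_eq_of_mul_eq_one_right (he z hz)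
    intro y hy z hz
    rw [← h1 _ (mul_mem hy hz), _root_.mul_inv_rev, h1 y hy, h1 z hz]
  have hc : x * t0 = t0 * x := hcomm x hx t0 h0
  have h1 : D x * D x = 1 := by rw [← D_mul hc, he x hx, D_one]
  rcases mul_self_eq_one_iff.1 h1 with hd | hd
  · have h3 : InQ x := inQ_of_two hc (isP_of_pow (k := 1) (by rw [pow_one, pow_two, he x hx])) (Or.inl hd)
    by_contra hcon
    push Not at hcon
    have h4 := isQ.sq x ⟨h3, hd⟩ hcon.1 hcon.2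
    rw [he x hx] at h4
    exact t0_ne h4.symm
  · exfalso
    set y := ss * x * (ss * ss) with hy
    have hyE : y ∈ E := by
      rw [hy, ← ss_inv]
      exact hn ss ss_t0 x hx
    have h5 : (x * y) * (x * y) = 1 := he _ (mul_mem hx hyE)
    obtain ⟨h00, h21, h22, h11⟩ := param hc
    have hm : mt x = cm (mt x 0 0) (mt x 1 1) (mt x 1 2) := mt_cm hc rfl
    have hd' : mt x 0 0 = -1 := hd
    rw [hd'] at hm
    have h6 := congrArg (fun z : SU33 => mt z) h5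
    simp only [mt_mul, hy, mt_ss, mt_one] at h6
    have h7 := congrArg (fun z : SU33 => mt z) (he x hx)
    simp only [mt_mul, mt_one] at h7
    rw [hm] at h6 h7
    generalize mt x 1 1 = a at *
    generalize mt x 1 2 = b at *
    obtain ⟨a1, a2⟩ := a
    obtain ⟨b1, b2⟩ := b
    exact four_aux a1 a2 b1 b2 h11 h7 h6

/-! ### real elements -/

/-- the cyclic permutation -/
def rMat : Matrix (Fin 3) (Fin 3) K9 := !![0, 1, 0; 0, 0, 1; 1, 0, 0]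
def rMat' : Matrix (Fin 3) (Fin 3) K9 := !![0, 0, 1; 1, 0, 0; 0, 1, 0]
theorem r_good : IsGood rMat := by decide +kernel
theorem r_good' : IsGood rMat' := by decide +kernel
def rr : SU33 := r_good.su
def rr' : SU33 := r_good'.su
theorem mt_rr : mt rr = rMat := rfl
theorem mt_rr' : mt rr' = rMat' := rfl

theorem rr_rr' : rr * rr' = 1 := by
  apply mt_ext
  rw [mt_mul, mt_rr, mt_rr', mt_one]
  decide +kernel

theorem φ_rr : φ rr = rr := by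
  apply mt_ext
  rw [mt_φ, mt_rr]
  decide +kernel

theorem real_aux : ∀ x1 x2 : ZMod 3, cj (⟨x1, x2⟩ : K9) = ⟨x1, x2⟩ → x2 = 0 := by decide +kernel

/-- a real matrix -/
def rm (a b c d e f g h i : ZMod 3) : Matrix (Fin 3) (Fin 3) K9 :=
  !![⟨a, 0⟩, ⟨b, 0⟩, ⟨c, 0⟩; ⟨d, 0⟩, ⟨e, 0⟩, ⟨f, 0⟩; ⟨g, 0⟩, ⟨h, 0⟩, ⟨i, 0⟩]

set_option synthInstance.maxHeartbeats 2000000 in
set_option synthInstance.maxSize 4000 in
theorem diag_aux : ∀ a d g : ZMod 3, a * a + d * d + g * g = 1 →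
    ∀ b e h : ZMod 3, b * b + e * e + h * h = 1 → a * b + d * e + g * h = 0 →
    ∀ c f i : ZMod 3, c * c + f * f + i * i = 1 → a * c + d * f + g * i = 0 → b * c + e * f + h * i = 0 →
    rm a b c d e f g h i * rm a b c d e f g h i = 1 → (rm a b c d e f g h i).det = 1 →
    (rm a b c d e f g h i * (rMat * rm a b c d e f g h i * rMat')) *
      (rm a b c d e f g h i * (rMat * rm a b c d e f g h i * rMat')) = 1 →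
    rm a b c d e f g h i = 1 ∨ rm a b c d e f g h i = dg ∨ rm a b c d e f g h i = t1Mat ∨
      rm a b c d e f g h i = dg * t1Mat := by
  decide +kernel

theorem diag_of_real {V : Subgroup SU33} (he : ∀ x ∈ V, x * x = 1) (hf : ∀ x ∈ V, φ x = x)
    (hn : ∀ g : SU33, φ g = g → ∀ x ∈ V, g * x * g⁻¹ ∈ V) : ∀ x ∈ V, x = 1 ∨ x = t0 ∨ x = t1 ∨ x = t0 * t1 := by
  intro x hx
  have hr : rr * x * rr' ∈ V := by
    have : rr' = rr⁻¹ := eq_inv_of_mul_eq_one_right rr_rr'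
    rw [this]
    exact hn rr φ_rr x hx
  have h5 := congrArg (fun z : SU33 => mt z) (he _ (mul_mem hx hr))
  have h7 := congrArg (fun z : SU33 => mt z) (he x hx)
  simp only [mt_mul, mt_rr, mt_rr', mt_one] at h5 h7
  have hre : ∀ i j, ∃ y : ZMod 3, mt x i j = ⟨y, 0⟩ := by
    intro i j
    have h1 : cj (mt x i j) = mt x i j := by rw [← mt_φ_apply, hf x hx]
    generalize mt x i j = z at h1 ⊢
    obtain ⟨z1, z2⟩ := z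
    exact ⟨z1, by rw [real_aux z1 z2 h1]⟩
  obtain ⟨a, ha⟩ := hre 0 0
  obtain ⟨b, hb⟩ := hre 0 1
  obtain ⟨c, hc⟩ := hre 0 2
  obtain ⟨d, hd⟩ := hre 1 0
  obtain ⟨e, hee⟩ := hre 1 1
  obtain ⟨f, hff⟩ := hre 1 2
  obtain ⟨g, hg⟩ := hre 2 0
  obtain ⟨h, hh⟩ := hre 2 1
  obtain ⟨i, hi⟩ := hre 2 2
  have hm : mt x = rm a b c d e f g h i := by
    refine Matrix.ext fun j k => ?_
    fin_cases j <;> fin_cases k
    · exact ha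
    · exact hb
    · exact hc
    · exact hd
    · exact hee
    · exact hff
    · exact hg
    · exact hh
    · exact hi
  have hcube : ∀ y z : ZMod 3, (⟨y, 0⟩ : K9) * (⟨z, 0⟩ * ⟨z, 0⟩ * ⟨z, 0⟩) = ⟨y * z, 0⟩ := by decide +kernel
  have hadd : ∀ y z : ZMod 3, (⟨y, 0⟩ : K9) + ⟨z, 0⟩ = ⟨y + z, 0⟩ := by decide +kernel
  have hone : ∀ y : ZMod 3, (⟨y, 0⟩ : K9) = 1 → y = 1 := by decide +kernel
  have hzero : ∀ y : ZMod 3, (⟨y, 0⟩ : K9) = 0 → y = 0 := by decide +kernel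
  have u00 := unitary x 0 0
  have u11 := unitary x 1 1
  have u22 := unitary x 2 2
  have u01 := unitary x 0 1
  have u02 := unitary x 0 2
  have u12 := unitary x 1 2
  rw [ha, hd, hg, hcube, hcube, hcube, hadd, hadd, if_pos rfl] at u00
  rw [hb, hee, hh, hcube, hcube, hcube, hadd, hadd, if_pos rfl] at u11
  rw [hc, hff, hi, hcube, hcube, hcube, hadd, hadd, if_pos rfl] at u22
  rw [ha, hd, hg, hb, hee, hh, hcube, hcube, hcube, hadd, hadd, if_neg (by decide)] at u01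
  rw [ha, hd, hg, hc, hff, hi, hcube, hcube, hcube, hadd, hadd, if_neg (by decide)] at u02
  rw [hb, hee, hh, hc, hff, hi, hcube, hcube, hcube, hadd, hadd, if_neg (by decide)] at u12
  have hdet := det_eq x
  rw [hm] at h5 h7 hdet
  rcases diag_aux a d g (hone _ u00) b e h (hone _ u11) (hzero _ u01) c f i (hone _ u22) (hzero _ u02) (hzero _ u12)
    h7 hdet h5 with h8 | h8 | h8 | h8
  · exact Or.inl (mt_ext (hm.trans h8))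
  · exact Or.inr (Or.inl (mt_ext (hm.trans h8)))
  · exact Or.inr (Or.inr (Or.inl (mt_ext (hm.trans h8))))
  · exact Or.inr (Or.inr (Or.inr (mt_ext (hm.trans (by rw [mt_mul]; exact h8)))))

/-! ### the Sylow 2-subgroup `S` -/

theorem gi_S : gi ∈ S := Q_le_S gi_Q

theorem uu_t0 : uu * t0 = t0 * uu := comm_iff.mpr ⟨rfl, rfl, rfl, rfl⟩

theorem uu_S : uu ∈ S := ⟨uu_t0, Or.inr rfl⟩

theorem comm_word : gi * uu = gj * uu * gi := by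
  apply mt_ext
  simp only [mt_mul, mt_gi, mt_gj, mt_uu]
  decide +kernel

theorem gj_t0 : gj * t0 = t0 * gj := comm_of_inQ gj_Q

theorem gj_t1 : gj * t1 = t1 * gj := by
  apply mt_ext
  rw [mt_mul, mt_mul, mt_gj, mt_t1]
  decide +kernel

theorem gj_gj : gj * gj = t0 := by
  apply mt_ext
  rw [mt_mul, mt_gj, mt_t0]
  decide +kernel

/-- `S` normalises `⟨t0, t1⟩` -/
theorem S_t1 {c : SU33} (hc : c ∈ S) : c * t1 = t1 * c ∨ c * t1 = (t0 * t1) * c := by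
  obtain ⟨h01, h02, h10, h20⟩ := pattern hc.1
  rcases InS.cases hc with ⟨h1, h2⟩ | ⟨h1, h2⟩
  · right
    apply mt_ext
    simp only [mt_mul, mt_t0, mt_t1]
    refine Matrix.ext fun i j => ?_
    fin_cases i <;> fin_cases j <;> simp [dg, t1Mat, Matrix.mul_apply, Fin.sum_univ_three, h01, h02, h10, h20, h1, h2]
  · left
    apply mt_ext
    simp only [mt_mul, mt_t1]
    refine Matrix.ext fun i j => ?_
    fin_cases i <;> fin_cases j <;> simp [t1Mat, Matrix.mul_apply, Fin.sum_univ_three, h01, h02, h10, h20, h1, h2]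

theorem φ_S {c : SU33} (hc : c ∈ S) : φ c ∈ S := by
  refine ⟨?_, ?_⟩
  · have := congrArg φ hc.1
    rwa [map_mul, map_mul, φ_t0] at this
  · rcases hc.2 with h | h
    · left
      rw [mt_φ_apply, h, cj_zero]
    · right
      rw [mt_φ_apply, h, cj_zero]

/-! ### `ss` is a product of four involutions -/

def x1Mat : Matrix (Fin 3) (Fin 3) K9 := !![⟨1, 0⟩, ⟨0, 1⟩, ⟨1, 2⟩; ⟨0, 2⟩, ⟨1, 0⟩, ⟨1, 1⟩; ⟨1, 1⟩, ⟨1, 2⟩, ⟨0, 0⟩]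
def x3Mat : Matrix (Fin 3) (Fin 3) K9 := !![⟨1, 0⟩, ⟨1, 2⟩, ⟨1, 0⟩; ⟨1, 1⟩, ⟨0, 0⟩, ⟨2, 2⟩; ⟨1, 0⟩, ⟨2, 1⟩, ⟨1, 0⟩]
def x4Mat : Matrix (Fin 3) (Fin 3) K9 := !![⟨1, 0⟩, ⟨1, 0⟩, ⟨2, 2⟩; ⟨1, 0⟩, ⟨1, 0⟩, ⟨1, 1⟩; ⟨2, 1⟩, ⟨1, 2⟩, ⟨0, 0⟩]
theorem x1_good : IsGood x1Mat := by decide +kernel
theorem x3_good : IsGood x3Mat := by decide +kernel
theorem x4_good : IsGood x4Mat := by decide +kernel
def x1 : SU33 := x1_good.su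
def x3 : SU33 := x3_good.su
def x4 : SU33 := x4_good.su
theorem mt_x1 : mt x1 = x1Mat := rfl
theorem mt_x3 : mt x3 = x3Mat := rfl
theorem mt_x4 : mt x4 = x4Mat := rfl

theorem ss_word : ss = (x1 * t0) * (x3 * x4) := by
  apply mt_ext
  simp only [mt_mul, mt_ss, mt_x1, mt_x3, mt_x4, mt_t0]
  decide +kernel

theorem x1_x1 : x1 * x1 = 1 := by
  apply mt_ext
  rw [mt_mul, mt_x1, mt_one]
  decide +kernel

theorem x3_x3 : x3 * x3 = 1 := by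
  apply mt_ext
  rw [mt_mul, mt_x3, mt_one]
  decide +kernel

theorem x4_x4 : x4 * x4 = 1 := by
  apply mt_ext
  rw [mt_mul, mt_x4, mt_one]
  decide +kernel

end Cfsg.Agent.Omega.ML.Ex.UThreeGrp
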