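import Cfsg.Agent.Omega.ML.Ex.Def
import Cfsg.Agent.Omega.ML.Ex.TIE
import Cfsg.Agent.Omega.ML.Ex.HeisThree
import Cfsg.Agent.Omega.ML.Ex.UThreeGrp
import Cfsg.Agent.Omega.ML.RowsList

/-!
# The exit `U₃(3) = G₂(2)'` of the exact K-list (helper919)

Only `sq, faith, irr, norm, simple, cen, gen, two, syl, AT, el, four, exact` of `InX` are used (no `sub`, no `low`, no
atoms).

* `Emb` : the embedding of `SU₃(3)` and the action of `H`;
* **`u33`** : `InX H M K T A`, `K ≅ U₃(3)` ⟹ `|A| = 8`, `|M| = 64`, `C_M(T)` has at most 2 elements.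
-/

set_option autoImplicit false

namespace Cfsg.Agent.Omega.ML.Ex.RowU33X

open Subgroup Cfsg Cfsg.Agent.ZN Cfsg.Agent.ClassTwoFusion.Quad Cfsg.Agent.Omega.ML.Ex.TIE
open Cfsg.Agent.OddHalf.Small.U33 (SU33 t0 finite_SU33)
open Cfsg.Agent.OddHalf.D4.Small.KU33 (S isPGroup_S odd_S gi gj card_SU)
open Cfsg.Agent.OddHalf.D6.RThree.U33 (φ f D D_mul D_one D_t0 D_f D_inv fix_cases index_inn conj_inj t0_t0 t0_ne f_comm
  comm_inv D_conj)
open Cfsg.Agent.Omega.ML.Ex.UThreeGrp

universe u v w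

/-! ### the embedding -/

/-- `K ≅ SU₃(3)` and the action of `H` -/
structure Emb {H : Type u} [Group H] (K : Subgroup H) (κ : SU33 →* H) (F : H →* MulAut SU33) : Prop where
  inj : Function.Injective κ
  range : κ.range = K
  injF : Function.Injective F
  act : ∀ h g, h * κ g * h⁻¹ = κ (F h g)
  Fκ : ∀ g, F (κ g) = MulAut.conj g

section emb

variable {H : Type u} [Group H] {K : Subgroup H}

theorem exists_emb (hK : K.Normal) (cen : centralizer (K : Set H) = ⊥) (e : K ≃* SU33) :
    ∃ (κ : SU33 →* H) (F : H →* MulAut SU33), Emb K κ F := by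
  refine ⟨K.subtype.comp e.symm.toMonoidHom, (MulAut.congr e).toMonoidHom.comp MulAut.conjNormal, ?_, ?_, ?_, ?_, ?_⟩
  · exact K.subtype_injective.comp e.symm.injective
  · ext x
    constructor
    · rintro ⟨g, rfl⟩
      exact (e.symm g).2
    · intro hx
      exact ⟨e ⟨x, hx⟩, by simp⟩
  · rw [injective_iff_map_eq_one]
    intro h hh
    have h1 : (MulAut.conjNormal h : MulAut K) = 1 := (MulAut.congr e).injective (by rw [map_one]; exact hh)
    rw [← mem_bot, ← cen, mem_centralizer_iff]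
    intro k hk
    have h2 := DFunLike.congr_fun h1 (⟨k, hk⟩ : K)
    have h3 : h * k * h⁻¹ = k := congrArg Subtype.val h2
    exact (mul_inv_eq_iff_eq_mul.1 h3).symm
  · intro h g
    show h * (e.symm g : H) * h⁻¹ = ((e.symm (e (MulAut.conjNormal h (e.symm g))) : K) : H)
    rw [e.symm_apply_apply, MulAut.conjNormal_apply]
  · intro g
    refine MulEquiv.ext fun x => ?_
    show e (MulAut.conjNormal ((e.symm g : K) : H) (e.symm x)) = g * x * g⁻¹
    have h1 : (MulAut.conjNormal ((e.symm g : K) : H) (e.symm x) : K) = e.symm g * e.symm x * (e.symm g)⁻¹ :=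
      Subtype.ext (by rw [MulAut.conjNormal_apply]; rfl)
    rw [h1, map_mul, map_mul, map_inv, e.apply_symm_apply, e.apply_symm_apply]

namespace Emb

variable {κ : SU33 →* H} {F : H →* MulAut SU33}

theorem mem (E : Emb K κ F) (g : SU33) : κ g ∈ K := by rw [← E.range]; exact ⟨g, rfl⟩

theorem exists_of_mem (E : Emb K κ F) {x : H} (hx : x ∈ K) : ∃ g, κ g = x := by
  rw [← E.range] at hx; exact hx

/-- change of the embedding by an automorphism -/
theorem twist (E : Emb K κ F) (β : MulAut SU33) :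
    Emb K (κ.comp (β⁻¹ : MulAut SU33).toMonoidHom) ((MulAut.conj β).toMonoidHom.comp F) where
  inj := E.inj.comp (β⁻¹ : MulAut SU33).injective
  range := by
    rw [← E.range]
    ext x
    constructor
    · rintro ⟨g, rfl⟩
      exact ⟨β⁻¹ g, rfl⟩
    · rintro ⟨g, rfl⟩
      exact ⟨β g, by show κ (β⁻¹ (β g)) = κ g; rw [MulAut.inv_apply_self]⟩
  injF := (MulAut.conj β).injective.comp E.injF
  act := by
    intro h g
    show h * κ (β⁻¹ g) * h⁻¹ = κ (β⁻¹ ((β * F h * β⁻¹) g))
    rw [E.act, MulAut.mul_apply, MulAut.mul_apply, MulAut.inv_apply_self]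
  Fκ := by
    intro g
    show β * F (κ (β⁻¹ g)) * β⁻¹ = MulAut.conj g
    rw [E.Fκ]
    refine MulEquiv.ext fun x => ?_
    rw [MulAut.mul_apply, MulAut.mul_apply, MulAut.conj_apply, MulAut.conj_apply, map_mul, map_mul, map_inv,
      MulAut.apply_inv_self, MulAut.apply_inv_self]

theorem twist_κ (β : MulAut SU33) (g : SU33) : (κ.comp (β⁻¹ : MulAut SU33).toMonoidHom) g = κ (β⁻¹ g) := rfl

theorem twist_F (β : MulAut SU33) (h : H) : ((MulAut.conj β).toMonoidHom.comp F) h = β * F h * β⁻¹ := rfl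

theorem comap_inn (E : Emb K κ F) : (MulAut.conj : SU33 →* MulAut SU33).range.comap F = K := by
  ext x
  rw [mem_comap]
  constructor
  · rintro ⟨g, hg⟩
    have : κ g = x := E.injF (by rw [E.Fκ, hg])
    rw [← this]
    exact E.mem g
  · intro hx
    obtain ⟨g, rfl⟩ := E.exists_of_mem hx
    exact ⟨g, (E.Fκ g).symm⟩

theorem relIndex_le (E : Emb K κ F) (B : Subgroup H) : K.relIndex B ≤ 2 := by
  have h1 : K.relIndex B = ((MulAut.conj : SU33 →* MulAut SU33).range).relIndex (B.map F) := by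
    rw [← E.comap_inn, relIndex_comap]
  rw [h1]
  refine (relIndex_le_of_le_right le_top ?_).trans ?_
  · rw [relIndex_top_right, index_inn]; norm_num
  · rw [relIndex_top_right, index_inn]

theorem card_mul (E : Emb K κ F) (B : Subgroup H) :
    Nat.card (B.comap κ) * K.relIndex B = Nat.card B := by
  have h5 := relIndex_mul_relIndex (⊥ : Subgroup H) (K ⊓ B) B bot_le inf_le_right
  rw [relIndex_bot_left, relIndex_bot_left, inf_relIndex_right] at h5
  have h4 : (B.comap κ).map κ = K ⊓ B := by rw [map_comap_eq, E.range]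
  rw [← h4, card_map_of_injective E.inj] at h5
  exact h5

/-- `F x` is outer for `x ∉ K` -/
theorem outer (E : Emb K κ F) {x : H} (hx : x ∉ K) : F x ∉ (MulAut.conj : SU33 →* MulAut SU33).range := by
  intro h
  apply hx
  rw [← E.comap_inn, mem_comap]
  exact h

theorem comm_iff (E : Emb K κ F) {x : H} {g : SU33} : x * κ g = κ g * x ↔ F x g = g := by
  rw [← mul_inv_eq_iff_eq_mul, E.act]
  exact ⟨fun h => E.inj h, fun h => by rw [h]⟩

end Emb

end emb

variable {H : Type u} [Group H] {M : Type v} [Group M] [MulDistribMulAction H M] {K T A : Subgroup H}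
  {κ : SU33 →* H} {F : H →* MulAut SU33}

instance : Finite SU33 := finite_SU33

/-! ### indices -/

section index

variable {H : Type u} [Group H] {M : Type v} [Group M] [MulDistribMulAction H M]

theorem mcomm (sq : ∀ m : M, m * m = 1) (a b : M) : a * b = b * a := by
  have h1 : ∀ c : M, c⁻¹ = c := fun c => inv_eq_of_mul_eq_one_left (sq c)
  calc a * b = (a * b)⁻¹ := (h1 _).symm
    _ = b * a := by rw [mul_inv_rev, h1, h1]

theorem index_map_tm (e : M ≃* M) (C : Subgroup M) : (C.map e.toMonoidHom).index = C.index := by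
  have h1 : Function.Bijective e.toMonoidHom := e.bijective
  exact index_map_of_bijective h1 C

theorem cv_conj (g x : H) : cv M ({g * x * g⁻¹} : Set H) =
    (cv M ({x} : Set H)).map (MulDistribMulAction.toMulEquiv M g : M ≃* M).toMonoidHom := by
  ext m
  rw [mem_cv_singleton]
  constructor
  · intro h
    refine ⟨g⁻¹ • m, ?_, smul_inv_smul g m⟩
    change g⁻¹ • m ∈ cv M ({x} : Set H)
    rw [mem_cv_singleton]
    rw [mul_smul, mul_smul] at h
    calc x • g⁻¹ • m = g⁻¹ • (g • x • g⁻¹ • m) := (inv_smul_smul _ _).symm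
      _ = g⁻¹ • m := by rw [h]
  · rintro ⟨n, hn, rfl⟩
    change n ∈ cv M ({x} : Set H) at hn
    rw [mem_cv_singleton] at hn
    change (g * x * g⁻¹) • (g • n) = g • n
    rw [mul_smul, mul_smul, inv_smul_smul, hn]

theorem index_conj (g x : H) : (cv M ({g * x * g⁻¹} : Set H)).index = (cv M ({x} : Set H)).index := by
  rw [cv_conj]
  exact index_map_tm _ _

theorem index_mul_le [Finite M] (x y : H) :
    (cv M ({x * y} : Set H)).index ≤ (cv M ({x} : Set H)).index * (cv M ({y} : Set H)).index := by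
  have h1 : cv M ({x} : Set H) ⊓ cv M ({y} : Set H) ≤ cv M ({x * y} : Set H) := by
    rintro m ⟨h1, h2⟩
    have h1' := mem_cv_singleton.1 h1
    have h2' := mem_cv_singleton.1 h2
    rw [mem_cv_singleton, mul_smul, h2', h1']
  have h3 : (cv M ({x * y} : Set H)).index ≤ (cv M ({x} : Set H) ⊓ cv M ({y} : Set H)).index :=
    Nat.le_of_dvd (Nat.pos_of_ne_zero index_ne_zero_of_finite) (index_dvd_of_le h1)
  exact h3.trans index_inf_le

theorem index_le_of_le' [Finite M] {C C' : Subgroup M} (h : C ≤ C') : C'.index ≤ C.index :=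
  Nat.le_of_dvd (Nat.pos_of_ne_zero index_ne_zero_of_finite) (index_dvd_of_le h)

theorem two_group (sq : ∀ m : M, m * m = 1) : IsPGroup 2 M := by
  intro m
  exact ⟨1, by rw [pow_one, pow_two, sq]⟩

/-- indices are powers of 2 -/
theorem index_pow [Finite M] (sq : ∀ m : M, m * m = 1) (C : Subgroup M) : ∃ k, C.index = 2 ^ k := by
  obtain ⟨n, hn⟩ := IsPGroup.iff_card.1 (two_group sq)
  have h3 : C.index ∣ 2 ^ n := by rw [← hn]; exact index_dvd_card _
  obtain ⟨k, -, hk⟩ := (Nat.dvd_prime_pow Nat.prime_two).1 h3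
  exact ⟨k, hk⟩

end index

variable {H : Type u} [Group H] {M : Type v} [Group M] [MulDistribMulAction H M] {K T A : Subgroup H}
  {κ : SU33 →* H} {F : H →* MulAut SU33}

instance : Finite SU33 := finite_SU33

theorem sixtyfour [Finite M] (sq : ∀ m : M, m * m = 1) (faith : ∀ x : H, (∀ m : M, x • m = m) → x = 1)
    (E : Emb K κ F) : 64 ≤ (cv M ({κ ss} : Set H)).index := by
  let _ : CommGroup M := { (inferInstance : Group M) with mul_comm := mcomm sq }
  refine HeisThree.heis (a := κ aa) (b := κ bb) (s := κ ss) sq ?_ ?_ ?_ ?_ ?_ ?_ _ ?_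
  · rw [← map_mul, ← map_mul, aa_three, map_one]
  · rw [← map_mul, ← map_mul, ss_three, map_one]
  · rw [← map_mul, ss_aa, map_mul]
  · rw [← map_mul, ss_bb, map_mul]
  · rw [← map_mul, bb_aa, map_mul, map_mul]
  · by_contra hcon
    push Not at hcon
    have h1 := faith _ hcon
    exact ss_ne (E.inj (by rw [h1, map_one]))
  · intro m hm
    exact mem_cv_singleton.1 hm

theorem conj_eq {G : Type*} [Group G] {q r t g y : G} (hq : y = q * t * q⁻¹) (hr : g = r * t * r⁻¹) :
    y = (q * r⁻¹) * g * (q * r⁻¹)⁻¹ := by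
  rw [hq, hr]
  group

/-- no transvections in `K` -/
theorem four_le [Finite M] (sq : ∀ m : M, m * m = 1) (faith : ∀ x : H, (∀ m : M, x • m = m) → x = 1)
    (E : Emb K κ F) {g : SU33} (hg : g * g = 1) (hg1 : g ≠ 1) : 4 ≤ (cv M ({κ g} : Set H)).index := by
  by_contra hlt
  push Not at hlt
  have h2 : (cv M ({κ g} : Set H)).index ≤ 2 := by
    obtain ⟨k, hk⟩ := index_pow (M := M) sq (cv M ({κ g} : Set H))
    rw [hk] at hlt ⊢
    have h6 : k < 2 := by
      by_contra hc
      have := Nat.pow_le_pow_right (n := 2) (by norm_num) (show 2 ≤ k by omega)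
      omega
    interval_cases k <;> norm_num
  obtain ⟨r, hr⟩ := exists_inv_conj hg hg1
  have h3 : ∀ y : SU33, y * y = 1 → (cv M ({κ y} : Set H)).index ≤ 2 := by
    intro y hy
    rcases eq_or_ne y 1 with rfl | hy1
    · have h0 : cv M ({κ (1 : SU33)} : Set H) = ⊤ := by
        rw [eq_top_iff]
        intro m _
        rw [mem_cv_singleton, map_one, one_smul]
      rw [h0, index_top]
      norm_num
    obtain ⟨q, hq⟩ := exists_inv_conj hy hy1
    have h4 : κ y = κ (q * r⁻¹) * κ g * (κ (q * r⁻¹))⁻¹ := by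
      rw [← map_inv, ← map_mul, ← map_mul]
      exact congrArg κ (conj_eq hq hr)
    rw [h4, index_conj]
    exact h2
  have h5 := sixtyfour sq faith E
  rw [ss_word, map_mul, map_mul, map_mul] at h5
  have h6 := index_mul_le (M := M) (κ x1 * κ t0) (κ x3 * κ x4)
  have h7 := index_mul_le (M := M) (κ x1) (κ t0)
  have h8 := index_mul_le (M := M) (κ x3) (κ x4)
  have h9 := Nat.mul_le_mul (h3 x1 x1_x1) (h3 t0 t0_t0)
  have h10 := Nat.mul_le_mul (h3 x3 x3_x3) (h3 x4 x4_x4)
  have h11 := Nat.mul_le_mul (h7.trans h9) (h8.trans h10)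
  have h12 := h5.trans (h6.trans h11)
  norm_num at h12

/-- the centraliser of `x` stabilises `C_M(x)` -/
theorem stab_of_comm {g x : H} (hg : g * x = x * g) : ∀ m : M, m ∈ cv M ({x} : Set H) ↔ g • m ∈ cv M ({x} : Set H) := by
  intro m
  rw [mem_cv_singleton, mem_cv_singleton, ← mul_smul, ← hg, mul_smul, smul_left_cancel_iff]

/-- `[M, x] ≤ C_M(x)` for involutions -/
theorem comm_mem (sq : ∀ m : M, m * m = 1) {e : H} (he2 : e * e = 1) (m : M) : (e • m) * m⁻¹ ∈ cv M ({e} : Set H) := by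
  rw [mem_cv_singleton, smul_mul', ← mul_smul, he2, one_smul, smul_inv']
  have h3 : m⁻¹ = m := inv_eq_of_mul_eq_one_left (sq m)
  have h4 : (e • m)⁻¹ = e • m := inv_eq_of_mul_eq_one_left (sq _)
  rw [h3, h4, mcomm sq]

/-- **no four-group of `K` is exact** -/
theorem four_index [Finite M] (sq : ∀ m : M, m * m = 1) (faith : ∀ x : H, (∀ m : M, x • m = m) → x = 1)
    (E : Emb K κ F) {V : Subgroup SU33} (hV : ∀ x ∈ V, x * x = 1) (h0 : t0 ∈ V) {t : SU33} (ht : t ∈ V) (ht1 : t ≠ 1)
    (ht0 : t ≠ t0) {C : Subgroup M} (hC : ∀ g ∈ V, C ≤ cv M ({κ g} : Set H)) (hi : C.index ≤ 4) : False := by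
  have h1 : ∀ g ∈ V, g ≠ 1 → cv M ({κ g} : Set H) = C := by
    intro g hg hg1
    have h2 := four_le (M := M) sq faith E (hV g hg) hg1
    have h3 := hC g hg
    refine (Subgroup.eq_of_le_of_card_ge h3 ?_).symm
    have h4 := card_mul_index C
    have h5 := card_mul_index (cv M ({κ g} : Set H))
    have h6 : Nat.card (cv M ({κ g} : Set H)) * 4 ≤ Nat.card C * 4 := by
      calc _ ≤ Nat.card (cv M ({κ g} : Set H)) * (cv M ({κ g} : Set H)).index := Nat.mul_le_mul_left _ h2
        _ = Nat.card C * C.index := by rw [h4, h5]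
        _ ≤ Nat.card C * 4 := Nat.mul_le_mul_left _ hi
    omega
  have h2 : ∀ g ∈ V, κ g ∈ (EE C : Subgroup H) := by
    intro g hg
    rcases eq_or_ne g 1 with rfl | hg1
    · rw [map_one]; exact one_mem _
    · refine ⟨fun m hm => mem_cv_singleton.1 (hC g hg hm), fun m => ?_⟩
      rw [← h1 g hg hg1]
      exact comm_mem sq (by rw [← map_mul, hV g hg, map_one]) m
  have h3 := no_four (E := (EE C : Subgroup H).comap κ)
    (fun x hx => E.inj (by rw [map_mul, map_one]; exact EE_sq sq faith hx)) (h2 t0 h0)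
    (by
      intro g hg x hx
      rw [mem_comap, map_mul, map_mul, map_inv]
      refine smul_mem_EE ?_ hx
      rw [← h1 t0 h0 t0_ne]
      exact stab_of_comm (by rw [← map_mul, hg, map_mul]))
    t (h2 t ht)
  rcases h3 with h | h
  · exact ht1 h
  · exact ht0 h

/-- outer involutions -/
theorem exists_phi (E : Emb K κ F) {x : H} (hxx : x * x = 1) (hxK : x ∉ K) (h0 : F x t0 = t0) :
    ∃ (κ' : SU33 →* H) (F' : H →* MulAut SU33), Emb K κ' F' ∧ F' x = φ := by
  obtain ⟨r, hr⟩ := exists_conj_phi h0 (by rw [← map_mul, hxx, map_one]) (E.outer hxK)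
  exact ⟨_, _, E.twist (MulAut.conj r), hr⟩

theorem w_inv (E : Emb K κ F) {x : H} (hx : F x = φ) : x * κ ww * x⁻¹ = (κ ww)⁻¹ := by
  rw [E.act, hx, φ_ww, map_inv]

theorem w_seven : κ ww ^ 7 = 1 := by rw [← map_pow, ww_seven, map_one]

theorem eight_le [Finite M] (sq : ∀ m : M, m * m = 1) (faith : ∀ x : H, (∀ m : M, x • m = m) → x = 1)
    (E : Emb K κ F) {x : H} (hxx : x * x = 1) (hx : F x = φ) : 8 ≤ (cv M ({x} : Set H)).index := by
  refine RowU33.eight_le sq hxx w_seven (w_inv E hx) ?_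
  by_contra hcon
  push Not at hcon
  have h1 := faith _ hcon
  exact ww_ne (E.inj (by rw [h1, map_one]))

section row

variable [Finite H] [Finite M]

theorem exists_t0 (el : ∀ a ∈ A, a * a = 1) (E : Emb K κ F) (hV : 2 ≤ Nat.card (A.comap κ)) :
    ∃ (κ' : SU33 →* H) (F' : H →* MulAut SU33), Emb K κ' F' ∧ κ' t0 ∈ A := by
  obtain ⟨T0, hT0, hne⟩ : ∃ T0 ∈ A.comap κ, T0 ≠ 1 := by
    by_contra hcon
    push Not at hcon
    have h1 : A.comap κ = ⊥ := (eq_bot_iff_forall _).2 hcon
    rw [h1, card_bot] at hV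
    omega
  have hTT : T0 * T0 = 1 := E.inj (by rw [map_mul, el _ hT0, map_one])
  obtain ⟨g, hg⟩ := exists_inv_conj hTT hne
  refine ⟨_, _, E.twist (MulAut.conj g)⁻¹, ?_⟩
  rw [Emb.twist_κ, inv_inv, MulAut.conj_apply, ← hg]
  exact hT0

/-- `A` contains `κ t0` -/
theorem exists_emb_t0 (h : InX H M K T A) (e : K ≃* SU33) :
    ∃ (κ : SU33 →* H) (F : H →* MulAut SU33), Emb K κ F ∧ κ t0 ∈ A := by
  obtain ⟨κ, F, E⟩ := exists_emb h.norm h.cen e
  refine exists_t0 h.el E ?_
  have h1 := E.card_mul A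
  have h2 := E.relIndex_le A
  have h3 := h.four
  by_contra hc
  push Not at hc
  have h4 : Nat.card (A.comap κ) * K.relIndex A ≤ 1 * 2 := Nat.mul_le_mul (by omega) h2
  omega

theorem fix_t0 (h : InX H M K T A) (E : Emb K κ F) (h0 : κ t0 ∈ A) {x : H} (hx : x ∈ A) : F x t0 = t0 :=
  E.comm_iff.1 (h.A_comm x hx _ h0)

theorem outer_index (h : InX H M K T A) (E : Emb K κ F) (h0 : κ t0 ∈ A) {x : H} (hx : x ∈ A) (hxK : x ∉ K) :
    8 ≤ (cv M ({x} : Set H)).index := by
  obtain ⟨κ', F', E', hF'⟩ := exists_phi E (h.el x hx) hxK (fix_t0 h E h0 hx)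
  exact eight_le h.sq h.faith E' (h.el x hx) hF'

theorem card_ge (h : InX H M K T A) (E : Emb K κ F) (h0 : κ t0 ∈ A) : 8 ≤ Nat.card A := by
  by_contra hlt
  push Not at hlt
  have h4 : Nat.card A = 4 := by
    obtain ⟨n, hn⟩ := IsPGroup.iff_card.1 h.A_two
    have h5 := h.four
    rw [hn] at hlt h5 ⊢
    have h6 : n < 3 := by
      by_contra hc
      have := Nat.pow_le_pow_right (n := 2) (by norm_num) (show 3 ≤ n by omega)
      omega
    interval_cases n
    · norm_num at h5
    · norm_num at h5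
    · rfl
  by_cases hAK : A ≤ K
  · -- a four-group of `K`
    have h5 : Nat.card (A.comap κ) = 4 := by
      have h6 := E.card_mul A
      rw [relIndex_eq_one.2 hAK, mul_one, h4] at h6
      exact h6
    obtain ⟨t, ht, ht1, ht0⟩ : ∃ t ∈ A.comap κ, t ≠ 1 ∧ t ≠ t0 := by
      by_contra hcon
      push Not at hcon
      classical
      have h3 : ((A.comap κ : Subgroup SU33) : Set SU33) ⊆ (({1, t0} : Finset SU33) : Set SU33) := by
        intro b hb
        by_cases hb1 : b = 1
        · simp [hb1]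
        · simp [hcon b hb hb1]
      have h7 := Set.ncard_le_ncard h3 (Finset.finite_toSet _)
      rw [Set.ncard_coe_finset] at h7
      have h8 : Nat.card (A.comap κ) ≤ 2 := h7.trans Finset.card_le_two
      omega
    refine four_index h.sq h.faith E (V := A.comap κ) (fun x hx => E.inj (by rw [map_mul, h.el _ hx, map_one])) h0 ht
      ht1 ht0 (C := cv M (A : Set H)) ?_ (by rw [h.exact, h4])
    intro g hg m hm
    exact mem_cv_singleton.2 (hm _ hg)
  · obtain ⟨x, hx, hxK⟩ := SetLike.not_le_iff_exists.1 hAK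
    have h5 := outer_index h E h0 hx hxK
    have h6 : (cv M ({x} : Set H)).index ≤ (cv M (A : Set H)).index :=
      index_le_of_le' (cv_anti (by simpa using hx))
    rw [h.exact, h4] at h6
    omega

theorem card_eight (h : InX H M K T A) (E : Emb K κ F) (h0 : κ t0 ∈ A) : Nat.card A = 8 := by
  refine le_antisymm ?_ (card_ge h E h0)
  have h1 : Nat.card (A.map F) = Nat.card A := card_map_of_injective E.injF
  have h2 := (RowU33.key (B := A.map F) (by
    rintro _ ⟨a, ha, rfl⟩
    rw [← map_mul, h.el a ha, map_one]) (by rw [h1]; exact card_ge h E h0)).1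
  rwa [h1] at h2

/-- the good position -/
structure Pos (A : Subgroup H) (C : Subgroup M) (κ : SU33 →* H) (F : H →* MulAut SU33) (x : H) : Prop where
  xA : x ∈ A
  Fx : F x = φ
  t0A : κ t0 ∈ A
  t1A : κ t1 ∈ A
  cx : cv M ({x} : Set H) = C
  cA : C = cv M (A : Set H)
  EE : (EE C : Subgroup H) = A

theorem exists_pos (h : InX H M K T A) (e : K ≃* SU33) :
    Nat.card A = 8 ∧ ∃ (κ : SU33 →* H) (F : H →* MulAut SU33) (x : H), Emb K κ F ∧
      Pos A (cv M (A : Set H)) κ F x := by
  obtain ⟨κ₁, F₁, E₁, h0⟩ := exists_emb_t0 h e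
  have h8 := card_eight h E₁ h0
  refine ⟨h8, ?_⟩
  have hV₁ : Nat.card (A.comap κ₁) ≤ 4 :=
    RowU33.inner_le h0 (fun b hb => E₁.inj (by rw [map_mul, h.el _ hb, map_one]))
  have hm₁ := E₁.card_mul A
  have hr₁ := E₁.relIndex_le A
  have hV4 : Nat.card (A.comap κ₁) = 4 ∧ K.relIndex A = 2 := by
    rw [h8] at hm₁
    interval_cases hK : K.relIndex A
    · omega
    · omega
    · exact ⟨by omega, rfl⟩
  obtain ⟨x, hx, hxK⟩ : ∃ x ∈ A, x ∉ K := by
    by_contra hcon
    push Not at hcon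
    have h6 : K.relIndex A = 1 := relIndex_eq_one.2 hcon
    omega
  set C := cv M (A : Set H) with hC
  have hout : ∀ y ∈ A, y ∉ K → cv M ({y} : Set H) = C := by
    intro y hy hyK
    have h2 := outer_index h E₁ h0 hy hyK
    have h3 : C ≤ cv M ({y} : Set H) := cv_anti (by simpa using hy)
    refine (Subgroup.eq_of_le_of_card_ge h3 ?_).symm
    have h4 := card_mul_index C
    have h5 := card_mul_index (cv M ({y} : Set H))
    rw [h.exact, h8] at h4
    have h6 : Nat.card (cv M ({y} : Set H)) * 8 ≤ Nat.card C * 8 := by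
      calc _ ≤ Nat.card (cv M ({y} : Set H)) * (cv M ({y} : Set H)).index := Nat.mul_le_mul_left _ h2
        _ = Nat.card C * 8 := by rw [h4, h5]
    omega
  have hEy : ∀ y ∈ A, y ∉ K → y ∈ (TIE.EE C : Subgroup H) := by
    intro y hy hyK
    refine ⟨fun m hm => hm y hy, fun m => ?_⟩
    rw [← hout y hy hyK]
    exact comm_mem h.sq (h.el y hy) m
  have hAE : A ≤ (TIE.EE C : Subgroup H) := by
    intro a ha
    by_cases haK : a ∈ K
    · have h1 : x * a ∉ K := fun h2 => hxK (by
        have := mul_mem h2 (inv_mem haK)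
        rwa [mul_inv_cancel_right] at this)
      have h2 := mul_mem (hEy x hx hxK) (hEy (x * a) (mul_mem hx ha) h1)
      rwa [← mul_assoc, h.el x hx, one_mul] at h2
    · exact hEy a ha haK
  have hEA : (TIE.EE C : Subgroup H) = A := by
    refine (Subgroup.eq_of_le_of_card_ge hAE ?_).symm
    have h1 : Nat.card ((TIE.EE C : Subgroup H).map F₁) = Nat.card (TIE.EE C : Subgroup H) :=
      card_map_of_injective E₁.injF
    have h2 := (RowU33.key (B := (TIE.EE C : Subgroup H).map F₁) (by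
      rintro _ ⟨a, ha, rfl⟩
      rw [← map_mul, EE_sq h.sq h.faith ha, map_one]) (by rw [h1, ← h8]; exact card_le_of_le hAE)).1
    rw [h8, ← h1]
    exact h2
  obtain ⟨κ, F, E, hF⟩ := exists_phi E₁ (h.el x hx) hxK (fix_t0 h E₁ h0 hx)
  -- `A ∩ K`
  have hm := E.card_mul A
  rw [hV4.2, h8] at hm
  have hV : Nat.card (A.comap κ) = 4 := by omega
  have hdiag := diag_of_real (V := A.comap κ) (fun v hv => E.inj (by rw [map_mul, h.el _ hv, map_one]))
    (by
      intro v hv
      rw [← hF]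
      exact E.comm_iff.1 (h.A_comm x hx _ hv))
    (by
      intro g hg v hv
      rw [mem_comap, map_mul, map_mul, map_inv, ← hEA]
      rw [mem_comap, ← hEA] at hv
      refine smul_mem_EE ?_ hv
      rw [← hout x hx hxK]
      refine stab_of_comm ?_
      have := E.comm_iff.2 (show F x g = g by rw [hF]; exact hg)
      exact this.symm)
  have hall : ∀ s : SU33, s ∈ ({t0, t1} : Set SU33) → s ∈ A.comap κ := by
    intro s hs
    by_contra hcon
    classical
    obtain ⟨a, b, hab⟩ : ∃ a b : SU33, ((A.comap κ : Subgroup SU33) : Set SU33) ⊆ (({1, a, b} : Finset SU33) : Set SU33) := by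
      rcases hs with rfl | rfl
      · refine ⟨t1, t0 * t1, fun y hy => ?_⟩
        rcases hdiag y hy with h1 | h1 | h1 | h1
        · simp [h1]
        · exact absurd (h1 ▸ hy) hcon
        · simp [h1]
        · simp [h1]
      · refine ⟨t0, t0 * t1, fun y hy => ?_⟩
        rcases hdiag y hy with h1 | h1 | h1 | h1
        · simp [h1]
        · simp [h1]
        · exact absurd (h1 ▸ hy) hcon
        · simp [h1]
    have h7 := Set.ncard_le_ncard hab (Finset.finite_toSet _)
    rw [Set.ncard_coe_finset] at h7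
    have h8' : Nat.card (A.comap κ) ≤ 3 := h7.trans Finset.card_le_three
    omega
  exact ⟨κ, F, x, E, ⟨hx, hF, hall t0 (by simp), hall t1 (by simp), hout x hx hxK, rfl, hEA⟩⟩

/-- a vector fixed by `K` is trivial -/
theorem eq_one_of_fix (h : InX H M K T A) {m : M} (hm : ∀ k ∈ K, k • m = m) : m = 1 := by
  have hK := h.norm
  have h1 : ∀ x : H, ∀ w ∈ cv M (K : Set H), x • w ∈ cv M (K : Set H) := by
    intro x w hw k hk
    have h2 : x⁻¹ * k * x ∈ K := by
      have := hK.conj_mem k hk x⁻¹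
      rwa [inv_inv] at this
    have h3 : (x⁻¹ * k * x) • w = w := hw _ h2
    calc k • x • w = x • ((x⁻¹ * k * x) • w) := by rw [mul_smul, mul_smul, smul_inv_smul]
      _ = x • w := by rw [h3]
  rcases h.irr _ h1 with h2 | h2
  · rw [← mem_bot, ← h2]
    exact fun k hk => hm k hk
  · exfalso
    have hsim := h.simple
    obtain ⟨k, hk⟩ := exists_ne (1 : K)
    apply hk
    apply Subtype.ext
    refine h.faith _ fun m => ?_
    have h3 : m ∈ cv M (K : Set H) := h2 ▸ mem_top m
    exact h3 k k.2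

/-- **`|M| = 64`** -/
theorem card_M (h : InX H M K T A) (h8 : Nat.card A = 8) (E : Emb K κ F) {x : H} {C : Subgroup M}
    (P : Pos A C κ F x) : Nat.card M = 64 := by
  set w : H := κ ww with hw
  have hwi : x * w * x⁻¹ = w⁻¹ := w_inv E P.Fx
  have hC8 : C.index = 8 := by rw [P.cA, h.exact, h8]
  set C' := C.map (MulDistribMulAction.toMulEquiv M w : M ≃* M).toMonoidHom with hC'
  have hC'8 : C'.index = 8 := by rw [hC', index_map_tm, hC8]
  have hbot : C ⊓ C' = ⊥ := by
    rw [eq_bot_iff]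
    rintro m ⟨h1, n, hn, hnm⟩
    have hnm' : w • n = m := hnm
    rw [mem_bot]
    have hx : x • m = m := by
      rw [P.cA] at h1
      exact h1 x P.xA
    have hxn : x • n = n := by
      rw [SetLike.mem_coe, P.cA] at hn
      exact hn x P.xA
    -- `w² m = m`
    have h2 : (w * w) • m = m := by
      have e1 : w * w = w * x * w⁻¹ * x⁻¹ := by
        have : x * w⁻¹ * x⁻¹ = w := by
          rw [← hwi]
          have hxx := h.el x P.xA
          have hxi : x⁻¹ = x := inv_eq_of_mul_eq_one_right hxx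
          calc x * (x * w * x⁻¹) * x⁻¹ = (x * x) * w * (x⁻¹ * x⁻¹) := by group
            _ = w := by rw [hxx, hxi, hxx, one_mul, mul_one]
        calc w * w = w * (x * w⁻¹ * x⁻¹) := by rw [this]
          _ = w * x * w⁻¹ * x⁻¹ := by group
      have e2 : x⁻¹ • m = m := by rw [inv_smul_eq_iff, hx]
      rw [e1, mul_smul, e2, mul_smul, ← hnm', inv_smul_smul, mul_smul, hxn]
    have h3 : w • m = m := by
      have e1 : w = (w * w) * (w * w) * (w * w) * (w * w) := by
        have h7 : w ^ 7 = 1 := w_seven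
        calc w = w ^ 7 * w := by rw [h7, one_mul]
          _ = w ^ (7 + 1) := (pow_succ w 7).symm
          _ = _ := by simp only [pow_succ, pow_zero, one_mul, mul_assoc]
      rw [e1, mul_smul, mul_smul, mul_smul, h2, h2, h2, h2]
    have h4 : (MulAction.stabilizer H m).comap κ = ⊤ := by
      refine gen ?_ ?_ ?_
      · rw [P.cA] at h1
        exact h1 _ P.t0A
      · rw [P.cA] at h1
        exact h1 _ P.t1A
      · exact h3
    refine eq_one_of_fix h fun k hk => ?_
    obtain ⟨g, rfl⟩ := E.exists_of_mem hk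
    have h5 : g ∈ (MulAction.stabilizer H m).comap κ := h4 ▸ mem_top g
    exact h5
  have h1 : Nat.card M ≤ 64 := by
    have h2 : (C ⊓ C').index ≤ C.index * C'.index := index_inf_le
    rw [hbot, index_bot, hC8, hC'8] at h2
    exact h2
  have h2 : 64 ≤ Nat.card M := by
    refine (sixtyfour h.sq h.faith E).trans ?_
    exact Nat.le_of_dvd Nat.card_pos (index_dvd_card _)
  omega

/-- `C_M(⟨t0, t1⟩) = C_M(A)` -/
theorem mem_C (h : InX H M K T A) (h8 : Nat.card A = 8) (E : Emb K κ F) {x : H} {C : Subgroup M}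
    (P : Pos A C κ F x) {m : M} (h0 : κ t0 • m = m) (h1 : κ t1 • m = m) : m ∈ C := by
  set C₁ := cv M ({κ t0} : Set H) ⊓ cv M ({κ t1} : Set H) with hC₁
  have hle : C ≤ C₁ := by
    intro n hn
    rw [P.cA] at hn
    exact ⟨mem_cv_singleton.2 (hn _ P.t0A), mem_cv_singleton.2 (hn _ P.t1A)⟩
  have hC8 : C.index = 8 := by rw [P.cA, h.exact, h8]
  have h5 : C₁ = C := by
    refine (Subgroup.eq_of_le_of_card_ge hle ?_).symm
    have h4 : 4 < C₁.index := by
      by_contra hcon
      push Not at hcon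
      have ht10 : t1 ≠ t0 := by
        intro h
        have := congrArg (fun x : SU33 => Cfsg.Agent.OddHalf.Small.U33.mt x 0 0) h
        exact absurd this (by change t1Mat 0 0 ≠ Cfsg.Agent.OddHalf.Small.U33.dg 0 0; decide +kernel)
      have ht11 : t1 ≠ 1 := by
        intro h
        have := congrArg (fun x : SU33 => Cfsg.Agent.OddHalf.Small.U33.mt x 0 0) h
        exact absurd this (by change t1Mat 0 0 ≠ (1 : Matrix (Fin 3) (Fin 3) _) 0 0; decide +kernel)
      -- the four-group
      set V : Subgroup SU33 := A.comap κ ⊓ centralizer {t0} with hV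
      refine four_index h.sq h.faith E (V := zpowers t0 ⊔ zpowers t1) ?_ ?_ ?_ ht11 ht10 (C := C₁) ?_ hcon
      · intro g hg
        have hg' : κ g ∈ A := by
          have : zpowers t0 ⊔ zpowers t1 ≤ A.comap κ := sup_le (zpowers_le.2 P.t0A) (zpowers_le.2 P.t1A)
          exact this hg
        exact E.inj (by rw [map_mul, h.el _ hg', map_one])
      · exact mem_sup_left (mem_zpowers t0)
      · exact mem_sup_right (mem_zpowers t1)
      · intro g hg m hm
        have : zpowers t0 ⊔ zpowers t1 ≤ (MulAction.stabilizer H m).comap κ :=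
          sup_le (zpowers_le.2 (mem_cv_singleton.1 hm.1)) (zpowers_le.2 (mem_cv_singleton.1 hm.2))
        exact mem_cv_singleton.2 (this hg)
    have h6 : 8 ≤ C₁.index := by
      obtain ⟨k, hk⟩ := index_pow (M := M) h.sq C₁
      rw [hk] at h4 ⊢
      have h7 : 2 < k := by
        by_contra hc
        have := Nat.pow_le_pow_right (n := 2) (by norm_num) (show k ≤ 2 by omega)
        omega
      calc 8 = 2 ^ 3 := by norm_num
        _ ≤ 2 ^ k := Nat.pow_le_pow_right (by norm_num) h7
    have e4 := card_mul_index C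
    have e5 := card_mul_index C₁
    rw [hC8] at e4
    have e6 : Nat.card C₁ * 8 ≤ Nat.card C * 8 := by
      calc _ ≤ Nat.card C₁ * C₁.index := Nat.mul_le_mul_left _ h6
        _ = Nat.card C * 8 := by rw [e4, e5]
    omega
  rw [← h5]
  exact ⟨mem_cv_singleton.2 h0, mem_cv_singleton.2 h1⟩

/-- `κ(S)` normalises `C` -/
theorem smul_C (h : InX H M K T A) (h8 : Nat.card A = 8) (E : Emb K κ F) {x : H} {C : Subgroup M}
    (P : Pos A C κ F x) {c : SU33} (hc : c ∈ S) {m : M} (hm : m ∈ C) : κ c • m ∈ C := by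
  have m0 : κ t0 • m = m := by rw [P.cA] at hm; exact hm _ P.t0A
  have m1 : κ t1 • m = m := by rw [P.cA] at hm; exact hm _ P.t1A
  refine mem_C h h8 E P ?_ ?_
  · rw [← mul_smul, ← map_mul, ← hc.1, map_mul, mul_smul, m0]
  · have h1 : t1 * c = c * t1 ∨ t1 * c = c * (t0 * t1) := by
      rcases S_t1 hc with h2 | h2
      · exact Or.inl h2.symm
      · right
        calc t1 * c = (t0 * t0) * t1 * c := by rw [t0_t0, one_mul]
          _ = t0 * (t0 * t1 * c) := by group
          _ = t0 * (c * t1) := by rw [← h2]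
          _ = (c * t0) * t1 := by rw [hc.1, mul_assoc]
          _ = c * (t0 * t1) := mul_assoc _ _ _
    rcases h1 with h2 | h2
    · rw [← mul_smul, ← map_mul, h2, map_mul, mul_smul, m1]
    · rw [← mul_smul, ← map_mul, h2, map_mul, map_mul, mul_smul, mul_smul, m1, m0]

/-- a Sylow 2-subgroup -/
theorem exists_TA (E : Emb K κ F) {x : H} (hxx : x * x = 1) (hxK : x ∉ K) (hF : F x = φ) :
    IsPGroup 2 (zpowers x ⊔ S.map κ : Subgroup H) ∧ ¬ 2 ∣ (zpowers x ⊔ S.map κ : Subgroup H).index := by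
  have hxi : x⁻¹ = x := inv_eq_of_mul_eq_one_right hxx
  have hfw : ∀ y ∈ S.map κ, x * y * x⁻¹ ∈ S.map κ := by
    rintro _ ⟨c, hc, rfl⟩
    rw [E.act, hF]
    exact ⟨φ c, φ_S hc, rfl⟩
  have hn : zpowers x ≤ normalizer ((S.map κ : Subgroup H) : Set H) := by
    rw [zpowers_le]
    refine mem_normalizer_iff.2 fun y => ⟨hfw y, fun hy => ?_⟩
    have h1 := hfw _ hy
    have h2 : x * (x * y * x⁻¹) * x⁻¹ = y := by
      calc x * (x * y * x⁻¹) * x⁻¹ = (x * x) * y * (x⁻¹ * x⁻¹) := by group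
        _ = y := by rw [hxx, hxi, hxx, one_mul, mul_one]
    rwa [h2] at h1
  have hx2 : IsPGroup 2 (zpowers x) := by
    rintro ⟨y, hy⟩
    refine ⟨1, Subtype.ext ?_⟩
    obtain ⟨k, rfl⟩ := mem_zpowers_iff.1 hy
    show (x ^ k) ^ (2 ^ 1) = 1
    have h3 : x ^ (2 : ℤ) = 1 := by
      rw [show (2 : ℤ) = 1 + 1 from rfl, zpow_add, zpow_one, hxx]
    rw [← zpow_natCast, ← zpow_mul, mul_comm, zpow_mul]
    norm_num [h3]
  have h2 : IsPGroup 2 (zpowers x ⊔ S.map κ : Subgroup H) :=
    IsPGroup.to_sup_of_normal_right' hx2 (isPGroup_S.map κ) hn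
  refine ⟨h2, ?_⟩
  set TA : Subgroup H := zpowers x ⊔ S.map κ with hTA
  have hS : Nat.card (S.map κ) = Nat.card S := card_map_of_injective E.inj
  have hlt : S.map κ < TA := by
    refine lt_of_le_of_ne le_sup_right fun h => hxK ?_
    have h3 : x ∈ S.map κ := by rw [h]; exact mem_sup_left (mem_zpowers x)
    obtain ⟨c, -, hc⟩ := h3
    rw [← hc]
    exact E.mem c
  have h64 : 64 ≤ Nat.card TA := by
    obtain ⟨r, hr⟩ := card_dvd_of_le hlt.le
    have h3 : Nat.card (S.map κ) < Nat.card TA := by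
      by_contra hc
      exact hlt.ne (Subgroup.eq_of_le_of_card_ge hlt.le (not_lt.1 hc))
    have h5 : 32 ≤ Nat.card (S.map κ) := by rw [hS]; exact Cfsg.Agent.OddHalf.D4.Small.KU33.card_S
    have h6 : 2 ≤ r := by
      by_contra hc
      have h7 : r ≤ 1 := by omega
      have := Nat.mul_le_mul_left (Nat.card (S.map κ)) h7
      omega
    calc 64 = 32 * 2 := by norm_num
      _ ≤ _ := Nat.mul_le_mul h5 h6
      _ = Nat.card TA := hr.symm
  obtain ⟨n, hn'⟩ := IsPGroup.iff_card.1 h2
  have hK : Nat.card K = 6048 := by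
    rw [← E.range, ← card_SU]
    exact (Nat.card_congr (MonoidHom.ofInjective E.inj).toEquiv).symm
  have hKi : K.index ≤ 2 := by
    have := E.relIndex_le ⊤
    rwa [relIndex_top_right] at this
  have hH : Nat.card H ∣ 12096 := by
    have h3 := card_mul_index K
    have h4 : K.index ≠ 0 := index_ne_zero_of_finite
    rw [← h3, hK]
    have h5 : K.index = 1 ∨ K.index = 2 := by omega
    rcases h5 with h5 | h5 <;> rw [h5] <;> norm_num
  intro h3
  have h4 : 64 ∣ Nat.card TA := by
    rw [hn'] at h64 ⊢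
    have h5 : 6 ≤ n := by
      by_contra hc
      have := Nat.pow_le_pow_right (n := 2) (by norm_num) (show n ≤ 5 by omega)
      omega
    calc 64 = 2 ^ 6 := by norm_num
      _ ∣ 2 ^ n := pow_dvd_pow 2 h5
  have h5 : 128 ∣ Nat.card H := by
    rw [← card_mul_index TA]
    exact mul_dvd_mul h4 h3
  have h6 := h5.trans hH
  norm_num at h6

/-- **`|C_M(T)| ≤ 2`** -/
theorem card_fix (h : InX H M K T A) (h8 : Nat.card A = 8) (E : Emb K κ F) {x : H} {C : Subgroup M}
    (P : Pos A C κ F x) : Nat.card (cv M (T : Set H)) ≤ 2 := by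
  have hxx := h.el x P.xA
  have hxK : x ∉ K := by
    intro hx
    obtain ⟨g, hg⟩ := E.exists_of_mem hx
    have h1 := P.Fx
    rw [← hg, E.Fκ] at h1
    have h2 : ww⁻¹ = g * ww * g⁻¹ := by rw [← φ_ww, ← h1, MulAut.conj_apply]
    have hD : Cfsg.Agent.OddHalf.D6.RThree.U33.f ∈ (MulAut.conj : SU33 →* MulAut SU33).range := by
      refine ⟨gi * g, ?_⟩
      rw [map_mul, h1]
      rfl
    exact Cfsg.Agent.OddHalf.D6.RThree.U33.f_outer hD
  obtain ⟨hT2, hTi⟩ := exists_TA E hxx hxK P.Fx
  set TA : Subgroup H := zpowers x ⊔ S.map κ with hTA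
  -- conjugacy
  have hconj : ∃ g : H, ∀ y ∈ TA, g * y * g⁻¹ ∈ T := by
    obtain ⟨g, hg⟩ := MulAction.exists_smul_eq H (IsPGroup.toSylow hT2 hTi) (IsPGroup.toSylow h.two h.syl)
    refine ⟨g, fun y hy => ?_⟩
    have h1 : g * y * g⁻¹ ∈ (g • (IsPGroup.toSylow hT2 hTi) : Sylow 2 H) := by
      change g * y * g⁻¹ ∈ ((g • (IsPGroup.toSylow hT2 hTi) : Sylow 2 H) : Subgroup H)
      rw [Sylow.coe_subgroup_smul]
      exact ⟨y, hy, rfl⟩
    rw [hg] at h1
    exact h1
  obtain ⟨g, hg⟩ := hconj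
  have hle : Nat.card (cv M (T : Set H)) ≤ Nat.card (cv M (TA : Set H)) := by
    refine Nat.card_le_card_of_injective (fun m : cv M (T : Set H) => (⟨g⁻¹ • (m : M), ?_⟩ : cv M (TA : Set H))) ?_
    · intro y hy
      have h1 : (g * y * g⁻¹) • (m : M) = m := m.2 _ (hg y hy)
      calc y • g⁻¹ • (m : M) = g⁻¹ • ((g * y * g⁻¹) • (m : M)) := by
            rw [mul_smul, mul_smul, inv_smul_smul]
        _ = g⁻¹ • (m : M) := by rw [h1]
    · intro a b hab
      have h1 : g⁻¹ • (a : M) = g⁻¹ • (b : M) := congrArg Subtype.val hab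
      exact Subtype.ext (smul_left_cancel _ h1)
  refine hle.trans ?_
  set U := cv M (TA : Set H) with hU
  by_contra hcon
  push Not at hcon
  have hUC : U ≤ C := by
    rw [← P.cx]
    intro m hm
    exact mem_cv_singleton.2 (hm x (mem_sup_left (mem_zpowers x)))
  have hUS : ∀ c ∈ S, ∀ u ∈ U, κ c • u = u := fun c hc u hu => hu _ (mem_sup_right ⟨c, hc, rfl⟩)
  have hM := card_M h h8 E P
  have hC8 : Nat.card C = 8 := by
    have h1 := card_mul_index C
    rw [P.cA, h.exact, h8, ← P.cA, hM] at h1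
    omega
  -- `|C : U| ≤ 2`
  have hrel : (U.subgroupOf C).index ≤ 2 := by
    have h1 := card_mul_index (U.subgroupOf C)
    have h2 : Nat.card (U.subgroupOf C) = Nat.card U := Nat.card_congr (subgroupOfEquivOfLe hUC).toEquiv
    rw [h2, hC8] at h1
    by_contra hc
    push Not at hc
    have := Nat.mul_le_mul hcon hc
    omega
  have hstep : ∀ c ∈ S, ∀ m ∈ C, (κ c • m) * m⁻¹ ∈ U := by
    intro c hc m hm
    have hcm := smul_C h h8 E P hc hm
    by_cases h1 : (U.subgroupOf C).index = 2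
    · have h2 := mul_mem_iff_of_index_two h1 (a := ⟨κ c • m, hcm⟩) (b := ⟨m, hm⟩⁻¹)
      have h3 : (κ c • m ∈ U ↔ m ∈ U) := by
        constructor
        · intro h4
          have h5 := hUS c⁻¹ (inv_mem hc) _ h4
          rw [map_inv, inv_smul_smul] at h5
          rw [h5]
          exact h4
        · intro h4
          rw [hUS c hc m h4]
          exact h4
      have h6 : ((⟨κ c • m, hcm⟩ : C) * (⟨m, hm⟩ : C)⁻¹) ∈ U.subgroupOf C := by
        rw [h2, mem_subgroupOf, mem_subgroupOf]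
        show κ c • m ∈ U ↔ m⁻¹ ∈ U
        rw [inv_mem_iff]
        exact h3
      exact h6
    · have h4 : (U.subgroupOf C).index ≠ 0 := index_ne_zero_of_finite
      have h5 : (U.subgroupOf C).index = 1 := by omega
      rw [index_eq_one, subgroupOf_eq_top] at h5
      exact mul_mem (h5 hcm) (inv_mem (h5 hm))
  have hcomm : ∀ a b : M, a * b = b * a := mcomm h.sq
  -- `gj` fixes `C`
  have hj : ∀ m ∈ C, κ gj • m = m := by
    intro m hm
    have u1 := hstep gi gi_S m hm
    have u2 := hstep uu uu_S m hm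
    set a := (κ gi • m) * m⁻¹ with ha
    set b := (κ uu • m) * m⁻¹ with hb
    have e1 : κ gi • m = a * m := by rw [ha, inv_mul_cancel_right]
    have e2 : κ uu • m = b * m := by rw [hb, inv_mul_cancel_right]
    clear_value a b
    have h1 : κ gi • κ uu • m = b * (a * m) := by rw [e2, smul_mul', hUS gi gi_S b u2, e1]
    have h2 : κ gj • κ uu • κ gi • m = a * (b * (κ gj • m)) := by
      rw [e1, smul_mul', hUS uu uu_S a u1, e2, smul_mul', smul_mul']
      have hgjS : gj ∈ S := Cfsg.Agent.OddHalf.D4.Small.KU33.Q_le_S Cfsg.Agent.OddHalf.D4.Small.KU33.gj_Q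
      rw [hUS gj hgjS a u1, hUS gj hgjS b u2]
    have h3 : κ gi • κ uu • m = κ gj • κ uu • κ gi • m := by
      rw [← mul_smul, ← map_mul, comm_word, map_mul, map_mul, mul_smul, mul_smul]
    rw [h1, h2, ← mul_assoc, ← mul_assoc, hcomm b a] at h3
    exact (mul_left_cancel h3).symm
  -- `gj ∈ A`
  have hjA : κ gj ∈ A := by
    rw [← P.EE]
    refine ⟨hj, fun m => ?_⟩
    have hfix : ∀ s : SU33, κ s ∈ A → gj * s = s * gj → κ s • ((κ gj • m) * m⁻¹) = (κ gj • m) * m⁻¹ := by
      intro s hs hsj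
      rw [← P.EE] at hs
      have hd := hs.2 m
      set d := (κ s • m) * m⁻¹ with hd'
      have e1 : κ s • m = d * m := by rw [hd', inv_mul_cancel_right]
      rw [smul_mul', smul_inv', ← mul_smul, ← map_mul, ← hsj, map_mul, mul_smul, e1, smul_mul', hj d hd, mul_inv_rev,
        hcomm d (κ gj • m)]
      calc κ gj • m * d * (m⁻¹ * d⁻¹) = κ gj • m * (d * (m⁻¹ * d⁻¹)) := mul_assoc _ _ _
        _ = κ gj • m * (d * (d⁻¹ * m⁻¹)) := by rw [hcomm m⁻¹ d⁻¹]
        _ = κ gj • m * m⁻¹ := by rw [mul_inv_cancel_left]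
    exact mem_C h h8 E P (hfix t0 P.t0A gj_t0) (hfix t1 P.t1A gj_t1)
  have h1 := h.el _ hjA
  rw [← map_mul, gj_gj] at h1
  exact t0_ne (E.inj (by rw [h1, map_one]))

/-- **The exit `U₃(3)`.** -/
theorem u33' (h : InX H M K T A) (e : Nonempty (K ≃* SU33)) :
    Nat.card A = 8 ∧ Nat.card M = 64 ∧ Nat.card (cv M (T : Set H)) ≤ 2 := by
  obtain ⟨e⟩ := e
  obtain ⟨h8, κ, F, x, E, P⟩ := exists_pos h e
  exact ⟨h8, card_M h h8 E P, card_fix h h8 E P⟩

open Cfsg.Agent.Classification.RTwo.UThreeThree (K9 card_k9 psuEquiv) in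
/-- **The exit `U₃(3)`**, over `Rows.IsUThreeThree`. -/
theorem u33 (h : InX H M K T A) (hK : Cfsg.Agent.Omega.ML.Rows.IsUThreeThree K) :
    Nat.card A = 8 ∧ Nat.card M = 64 ∧ Nat.card (cv M (T : Set H)) ≤ 2 := by
  obtain ⟨F, _, _, hF, ⟨e⟩⟩ := hK
  have hcard : Fintype.card F = Fintype.card K9 := by rw [hF, card_k9]
  let g : F ≃+* K9 := FiniteField.ringEquivOfCardEq hcard
  exact u33' h ⟨e.trans ((psuEquiv hF).trans (LieClassical.FieldTransfer.suCongr 3 3 g))⟩

theorem dead_three (h : InX H M K T A) (hK : Cfsg.Agent.Omega.ML.Rows.IsUThreeThree K)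
    (hF : 3 ≤ Nat.card (cv M (T : Set H))) : False := by
  have h1 := (u33 h hK).2.2
  omega

theorem dead_four (h : InX H M K T A) (hK : Cfsg.Agent.Omega.ML.Rows.IsUThreeThree K)
    (hF : 4 ≤ Nat.card (cv M (T : Set H))) : False := by
  have h1 := (u33 h hK).2.2
  omega

/-- two different non-trivial `T`-fixed vectors -/
theorem dead_two (h : InX H M K T A) (hK : Cfsg.Agent.Omega.ML.Rows.IsUThreeThree K) {x y : M} (x1 : x ≠ 1)
    (y1 : y ≠ 1) (xy : x ≠ y) (tx : ∀ t ∈ T, t • x = x) (ty : ∀ t ∈ T, t • y = y) : False := by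
  have h1 := (u33 h hK).2.2
  classical
  have h2 : (({1, x, y} : Finset M) : Set M) ⊆ (cv M (T : Set H) : Set M) := by
    intro m hm
    simp only [Finset.coe_insert, Finset.coe_singleton, Set.mem_insert_iff, Set.mem_singleton_iff] at hm
    rcases hm with rfl | rfl | rfl
    · exact one_mem _
    · exact tx
    · exact ty
  have h3 := Set.ncard_le_ncard h2 (Set.toFinite _)
  rw [Set.ncard_coe_finset, Finset.card_insert_of_notMem (by simp [x1.symm, y1.symm]),
    Finset.card_pair xy] at h3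
  have h4 : (cv M (T : Set H) : Set M).ncard = Nat.card (cv M (T : Set H)) := rfl
  omega

end row

end Cfsg.Agent.Omega.ML.Ex.RowU33X
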