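import Cfsg.Agent.Omega.ML.Ex.Two
import Cfsg.Agent.Omega.ML.Ex.RowU33X

/-!
# (E4) of EXT: the exit `U₃(3)` with two fixed vectors (helper919)
-/

set_option autoImplicit false

namespace Cfsg.Agent.Omega.ML.Ex.Two

universe u v

/-- **(E4).** -/
theorem uThreeT : UThreeT.{u, v} := by
  intro H _ _ M _ _ _ K T A x y hI _ hm hK
  refine RowU33X.dead_two hI hK hm.x1 hm.y1 ?_ hm.tx hm.ty
  rintro rfl
  obtain ⟨R, -, h1, r, hr, h2⟩ := hm.mv
  exact h2 (h1 r hr)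

end Cfsg.Agent.Omega.ML.Ex.Two
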