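import Cfsg.Agent.Omega.ML.Ex.Def
import Cfsg.Agent.Omega.ML.InvFrob
import Cfsg.Agent.Omega.Lie.HeisCover

/-!
# The K-list for exact atoms: `|M| ≤ |A|^m` (T14; helper312)

`InX H M K T A`.

* `cv_eq_bot` : `C_M(K) = 1`;
* `index_le_card` : `|M : C_M(x)| ≤ |A|` for `x ∈ A`;
* **`card_le_pow`** : `K ≤ ⟨f 0, …, f (m-1)⟩`, `|M : C_M(f i)| ≤ d` ⟹ `|M| ≤ d^m`;
* `card_le_conj` : the `f i` conjugates of one `x ∈ A`: `|M| ≤ |M : C_M(x)|^m`, `|M| ≤ |A|^m`;
* `card_le_conjA` : `K ≤ ⟨A^{g_0}, …, A^{g_(m-1)}⟩` ⟹ `|M| ≤ |A|^m`;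
* `card_le_genBy` : `K` is generated by `m` `K`-conjugates of every involution, `x ∈ A ∩ K`;
* `lb_le` : `LB K n` ⟹ `2^n ≤ |M|`;  `pow_le_index`, `pow_le_card` : `r` an odd prime, `ord_r(2) ≥ k` ⟹ `2^k ≤ |M|`;
* **`false_of_lb`**, **`false_of_prime`** (conjugates of `x ∈ A`), **`false_of_lbA`**, **`false_of_primeA`** (conjugates of `A`).
-/

set_option autoImplicit false

namespace Cfsg.Agent.Omega.ML.Ex.Gen

open Subgroup Cfsg Cfsg.Agent.ZN Cfsg.Agent.Omega.NOThree.NoOver Cfsg.Agent.Omega.ML.CD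
open Cfsg.Agent.ClassTwoFusion.Quad Cfsg.Agent.Omega.Lie Cfsg.Agent.Omega.ML

open scoped commutatorElement

universe u v

section lin

variable {H : Type*} [Group H] {M : Type*} [Group M] [MulDistribMulAction H M]

/-- `C_M(⟨f 0, …⟩)` has index at most `∏ |M : C_M(f i)|`. -/
theorem index_le_pow [Finite M] {m d : ℕ} (f : Fin m → H) (hf : ∀ i, (cv M ({f i} : Set H)).index ≤ d)
    {J : Subgroup H} (hgen : J ≤ closure (Set.range f)) : (cv M (J : Set H)).index ≤ d ^ m := by
  have h1 : (⨅ i, cv M ({f i} : Set H)) ≤ cv M (J : Set H) := by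
    intro w hw k hk
    have h2 : ∀ i, f i • w = w := fun i => by
      have h3 : w ∈ cv M ({f i} : Set H) := (mem_iInf.1 hw) i
      exact h3 _ rfl
    have h3 : closure (Set.range f) ≤ MulAction.stabilizer H w := by
      rw [closure_le]
      rintro _ ⟨i, rfl⟩
      exact h2 i
    exact h3 (hgen hk)
  calc (cv M (J : Set H)).index ≤ (⨅ i, cv M ({f i} : Set H)).index :=
        Nat.le_of_dvd (Nat.pos_of_ne_zero Subgroup.index_ne_zero_of_finite) (Subgroup.index_dvd_of_le h1)
    _ ≤ ∏ i, (cv M ({f i} : Set H)).index := index_iInf_le _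
    _ ≤ ∏ _i : Fin m, d := Finset.prod_le_prod' fun i _ => hf i
    _ = d ^ m := by rw [Finset.prod_const, Finset.card_univ, Fintype.card_fin]

/-- The same for subgroups `B i`. -/
theorem index_le_powA [Finite M] {m d : ℕ} (B : Fin m → Subgroup H)
    (hB : ∀ i, (cv M (B i : Set H)).index ≤ d) {J : Subgroup H} (hgen : J ≤ ⨆ i, B i) :
    (cv M (J : Set H)).index ≤ d ^ m := by
  have h1 : (⨅ i, cv M (B i : Set H)) ≤ cv M (J : Set H) := by
    intro w hw k hk
    have h3 : (⨆ i, B i) ≤ MulAction.stabilizer H w := by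
      refine iSup_le fun i b hb => ?_
      have h4 : w ∈ cv M (B i : Set H) := (mem_iInf.1 hw) i
      exact h4 b hb
    exact h3 (hgen hk)
  calc (cv M (J : Set H)).index ≤ (⨅ i, cv M (B i : Set H)).index :=
        Nat.le_of_dvd (Nat.pos_of_ne_zero Subgroup.index_ne_zero_of_finite) (Subgroup.index_dvd_of_le h1)
    _ ≤ ∏ i, (cv M (B i : Set H)).index := index_iInf_le _
    _ ≤ ∏ _i : Fin m, d := Finset.prod_le_prod' fun i _ => hB i
    _ = d ^ m := by rw [Finset.prod_const, Finset.card_univ, Fintype.card_fin]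

/-- `|M : C_M(A^g)| = |M : C_M(A)|` -/
theorem index_cv_map_conj [Finite M] (g : H) (A : Subgroup H) :
    (cv M ((A.map (MulAut.conj g).toMonoidHom : Subgroup H) : Set H)).index = (cv M (A : Set H)).index := by
  have h1 : Nat.card (cv M ((A.map (MulAut.conj g).toMonoidHom : Subgroup H) : Set H)) = Nat.card (cv M (A : Set H)) := by
    refine Nat.card_congr (Equiv.subtypeEquiv (MulAction.toPerm g⁻¹) fun m => ?_)
    rw [MulAction.toPerm_apply]
    constructor
    · intro hm a ha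
      have h2 := hm (g * a * g⁻¹) ⟨a, ha, rfl⟩
      rw [mul_smul, mul_smul] at h2
      rw [eq_inv_smul_iff]
      exact h2
    · rintro hm _ ⟨a, ha, rfl⟩
      have h2 := hm a ha
      rw [eq_inv_smul_iff] at h2
      show (g * a * g⁻¹) • m = m
      rw [mul_smul, mul_smul]
      exact h2
  have h2 := (cv M ((A.map (MulAut.conj g).toMonoidHom : Subgroup H) : Set H)).card_mul_index
  have h3 := (cv M (A : Set H)).card_mul_index
  rw [h1, ← h3] at h2
  exact Nat.eq_of_mul_eq_mul_left Nat.card_pos h2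

end lin

variable {H : Type u} [Group H] {M : Type v} [Group M] [MulDistribMulAction H M] {K T A : Subgroup H}

/-- `C_M(K) = 1`. -/
theorem cv_eq_bot (h : InX H M K T A) : cv M (K : Set H) = ⊥ := by
  have hK := h.norm
  rcases h.irr (cv M (K : Set H)) (by
    intro g w hw k hk
    have h1 := hw (g⁻¹ * k * g) (by
      have := hK.conj_mem k hk g⁻¹
      rwa [inv_inv] at this)
    rw [mul_smul, mul_smul, inv_smul_eq_iff] at h1
    exact h1) with h1 | h1
  · exact h1
  · exfalso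
    have hs := h.simple
    obtain ⟨x, hx⟩ := exists_ne (1 : K)
    exact hx (Subtype.ext (h.faith x fun m => (h1 ▸ mem_top m : m ∈ cv M (K : Set H)) x x.2))

/-- `|M : C_M(x)| ≤ |A|` for `x ∈ A`. -/
theorem index_le_card [Finite M] (h : InX H M K T A) {x : H} (hx : x ∈ A) :
    (cv M ({x} : Set H)).index ≤ Nat.card A := by
  rw [← h.exact]
  exact Nat.le_of_dvd (Nat.pos_of_ne_zero Subgroup.index_ne_zero_of_finite)
    (Subgroup.index_dvd_of_le (cv_anti (Set.singleton_subset_iff.2 hx)))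

/-- **`|M| ≤ d^m`.** -/
theorem card_le_pow [Finite M] (h : InX H M K T A) {m d : ℕ} (f : Fin m → H)
    (hf : ∀ i, (cv M ({f i} : Set H)).index ≤ d) (hgen : K ≤ closure (Set.range f)) : Nat.card M ≤ d ^ m := by
  have h1 := index_le_pow f hf hgen
  rwa [cv_eq_bot h, index_bot] at h1

/-- **Conjugates of `x`**: `|M| ≤ |M : C_M(x)|^m`. -/
theorem card_le_conj_index [Finite M] (h : InX H M K T A) {m : ℕ} (x : H) (l : Fin m → H)
    (hgen : K ≤ closure (Set.range fun i => l i * x * (l i)⁻¹)) : Nat.card M ≤ (cv M ({x} : Set H)).index ^ m :=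
  card_le_pow h _ (fun i => (InvFrob.index_cv_conj (M := M) (l i) x).le) hgen

/-- **Conjugates of `x ∈ A`**: `|M| ≤ |A|^m`. -/
theorem card_le_conj [Finite M] (h : InX H M K T A) {m : ℕ} {x : H} (hx : x ∈ A) (l : Fin m → H)
    (hgen : K ≤ closure (Set.range fun i => l i * x * (l i)⁻¹)) : Nat.card M ≤ Nat.card A ^ m :=
  (card_le_conj_index h x l hgen).trans (Nat.pow_le_pow_left (index_le_card h hx) m)

/-- **Conjugates of `A`**: `|M| ≤ |A|^m`. -/
theorem card_le_conjA [Finite M] (h : InX H M K T A) {m : ℕ} (l : Fin m → H)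
    (hgen : K ≤ ⨆ i, A.map (MulAut.conj (l i)).toMonoidHom) : Nat.card M ≤ Nat.card A ^ m := by
  have h1 := index_le_powA (M := M) (fun i => A.map (MulAut.conj (l i)).toMonoidHom) (d := Nat.card A)
    (fun i => by rw [index_cv_map_conj, h.exact]) hgen
  rwa [cv_eq_bot h, index_bot] at h1

/-- `K` is generated by `m` conjugates of every involution. -/
theorem card_le_genBy [Finite M] (h : InX H M K T A) {m : ℕ}
    (hg : ∀ x : K, x ≠ 1 → x * x = 1 → ∃ l : Fin m → K, closure (Set.range fun i => l i * x * (l i)⁻¹) = ⊤)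
    {x : H} (hx : x ∈ A) (hxK : x ∈ K) (hx1 : x ≠ 1) :
    Nat.card M ≤ (cv M ({x} : Set H)).index ^ m ∧ Nat.card M ≤ Nat.card A ^ m := by
  obtain ⟨l, hl⟩ := hg ⟨x, hxK⟩ (fun h1 => hx1 (congrArg Subtype.val h1)) (Subtype.ext (h.el x hx))
  have h3 : K ≤ closure (Set.range fun i => (l i : H) * x * (l i : H)⁻¹) := by
    have h3 := congrArg (Subgroup.map K.subtype) hl
    rw [MonoidHom.map_closure, ← Set.range_comp, ← MonoidHom.range_eq_map, range_subtype] at h3
    exact le_of_eq h3.symm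
  exact ⟨card_le_conj_index h x _ h3, card_le_conj h hx _ h3⟩

/-- `K` is perfect. -/
theorem perf [Finite H] (h : InX H M K T A) : _root_.commutator K = ⊤ := by
  have hs := h.simple
  have h1 : (_root_.commutator K).Normal := inferInstance
  rcases h1.eq_bot_or_eq_top with h2 | h2
  · exfalso
    -- `K` abelian, so `K ≤ C_H(K) = 1`
    have h3 : K ≤ centralizer (K : Set H) := by
      intro k hk
      rw [mem_centralizer_iff]
      intro l hl
      have h4 : ⁅(⟨l, hl⟩ : K), ⟨k, hk⟩⁆ ∈ (_root_.commutator K) :=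
        commutator_mem_commutator (mem_top _) (mem_top _)
      rw [h2, mem_bot, commutatorElement_eq_one_iff_mul_comm] at h4
      exact congrArg Subtype.val h4
    rw [h.cen, le_bot_iff] at h3
    obtain ⟨x, hx⟩ := exists_ne (1 : K)
    exact hx (Subtype.ext (mem_bot.1 (h3 ▸ x.2 : (x : H) ∈ (⊥ : Subgroup H))))
  · exact h2

/-- **The lower bound `LB`.** -/
theorem lb_le [Finite H] [Finite M] (h : InX H M K T A) {n : ℕ} (hl : Heis.LB.{u, u, v} K n) : 2 ^ n ≤ Nat.card M := by
  let _ : CommGroup M := { ‹Group M› with mul_comm := h.comm }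
  refine hl K (MonoidHom.id K) Function.surjective_id ?_ ?_ (perf h) M h.M_two
    ((MulDistribMulAction.toMulAut H M).comp K.subtype) ?_
  · intro x hx
    have h1 : x = 1 := hx
    rw [h1]
    exact one_mem _
  · have h1 : (MonoidHom.id K).ker = ⊥ := by
      ext x
      simp
    rw [h1, card_bot]
    exact odd_one
  · intro h1
    have hs := h.simple
    obtain ⟨x, hx⟩ := exists_ne (1 : K)
    refine hx (Subtype.ext (h.faith x fun m => ?_))
    exact congrArg (fun e : MulAut M => e m) (DFunLike.congr_fun h1 x)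

/-- An element `u ≠ 1` with `u ^ r = 1`: `2^k ≤ |M : C_M(u)|`. -/
theorem pow_le_index [Finite M] (h : InX H M K T A) {u : H} {r k : ℕ} (hp : r.Prime) (ho : Odd r) (hr : u ^ r = 1)
    (hu : u ≠ 1) (hk : ∀ n : ℕ, 0 < n → r ∣ 2 ^ n - 1 → k ≤ n) : 2 ^ k ≤ (cv M ({u} : Set H)).index := by
  refine InvFrob.ord_index h.sq hp ho hr ?_ hk
  by_contra h1
  push Not at h1
  exact hu (h.faith u h1)

/-- **`2^k ≤ |M|`**, `r` an odd prime divisor of `|K|`, `k ≤ ord_r(2)`. -/
theorem pow_le_card [Finite H] [Finite M] (h : InX H M K T A) {r k : ℕ} (hp : r.Prime) (ho : Odd r)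
    (hr : r ∣ Nat.card K) (hk : ∀ n : ℕ, 0 < n → r ∣ 2 ^ n - 1 → k ≤ n) : 2 ^ k ≤ Nat.card M := by
  have : Fact r.Prime := ⟨hp⟩
  obtain ⟨u, hu⟩ := exists_prime_orderOf_dvd_card' r hr
  have h1 := pow_le_index h (u := (u : H)) hp ho (by
    rw [← Subgroup.coe_pow, ← hu, pow_orderOf_eq_one, Subgroup.coe_one]) (by
    intro h1
    have h2 : u = 1 := Subtype.ext h1
    rw [h2, orderOf_one] at hu
    exact hp.one_lt.ne hu) hk
  exact h1.trans (Nat.le_of_dvd Nat.card_pos (Subgroup.index_dvd_card _))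

omit [Group M] [MulDistribMulAction H M] in
theorem lt_of_card {n a m : ℕ} (hn : 2 ^ n ≤ Nat.card M) (ha : Nat.card A ≤ 2 ^ a) (hm : Nat.card M ≤ Nat.card A ^ m) :
    n ≤ a * m := by
  have h1 := (hn.trans hm).trans (Nat.pow_le_pow_left ha m)
  rw [← pow_mul] at h1
  exact (Nat.pow_le_pow_iff_right (by norm_num : 1 < 2)).1 h1

/-- **Kill by generation** (conjugates of `x ∈ A`), `LB`. -/
theorem false_of_lb [Finite H] [Finite M] (h : InX H M K T A) {n a m : ℕ} (hl : Heis.LB.{u, u, v} K n)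
    (ha : Nat.card A ≤ 2 ^ a) {x : H} (hx : x ∈ A) (l : Fin m → H)
    (hgen : K ≤ closure (Set.range fun i => l i * x * (l i)⁻¹)) (hn : a * m < n) : False := by
  have := lt_of_card (lb_le h hl) ha (card_le_conj h hx l hgen)
  omega

/-- **Kill by generation** (conjugates of `x ∈ A`), a prime. -/
theorem false_of_prime [Finite H] [Finite M] (h : InX H M K T A) {r k a m : ℕ} (hp : r.Prime) (ho : Odd r)
    (hr : r ∣ Nat.card K) (hk : ∀ n : ℕ, 0 < n → r ∣ 2 ^ n - 1 → k ≤ n)
    (ha : Nat.card A ≤ 2 ^ a) {x : H} (hx : x ∈ A) (l : Fin m → H)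
    (hgen : K ≤ closure (Set.range fun i => l i * x * (l i)⁻¹)) (hn : a * m < k) : False := by
  have := lt_of_card (pow_le_card h hp ho hr hk) ha (card_le_conj h hx l hgen)
  omega

/-- **Kill by generation** (conjugates of `A`), `LB`. -/
theorem false_of_lbA [Finite H] [Finite M] (h : InX H M K T A) {n a m : ℕ} (hl : Heis.LB.{u, u, v} K n)
    (ha : Nat.card A ≤ 2 ^ a) (l : Fin m → H)
    (hgen : K ≤ ⨆ i, A.map (MulAut.conj (l i)).toMonoidHom) (hn : a * m < n) : False := by
  have := lt_of_card (lb_le h hl) ha (card_le_conjA h l hgen)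
  omega

/-- **Kill by generation** (conjugates of `A`), a prime. -/
theorem false_of_primeA [Finite H] [Finite M] (h : InX H M K T A) {r k a m : ℕ} (hp : r.Prime) (ho : Odd r)
    (hr : r ∣ Nat.card K) (hk : ∀ n : ℕ, 0 < n → r ∣ 2 ^ n - 1 → k ≤ n)
    (ha : Nat.card A ≤ 2 ^ a) (l : Fin m → H)
    (hgen : K ≤ ⨆ i, A.map (MulAut.conj (l i)).toMonoidHom) (hn : a * m < k) : False := by
  have := lt_of_card (pow_le_card h hp ho hr hk) ha (card_le_conjA h l hgen)
  omega

end Cfsg.Agent.Omega.ML.Ex.Gen
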