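import Cfsg.Agent.Omega.ML.Ex.Red2

/-!
# THEOREM RED, steps (4), (5): from a component to its module (helper995)

* `Cmp.key` (4): `C_B(U) = 1`, `M = U C_M(B)`, `[M,E] ≤ U` for `U = ⟨lam^E⟩`, if `B` does not centralise `E`;
* `Cmp.cen_cm` (5): `C_K(E)` centralises `N = [M,E]`;
* `Cmp.irr_cm` : every proper `E N_T(E)`-submodule of `N` is centralised by `E`;
* **`Cmp.toM`** : `CmpM T B K E lam`;  **`Mn.exists_cmpM`**.
-/

set_option autoImplicit false

namespace Cfsg.Agent.Omega.ML.Ex.Red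

open Subgroup Cfsg Cfsg.Agent.ZN Cfsg.Agent.Omega.NOThree.NoOver Cfsg.Agent.Omega.ML.CD
open Cfsg.Agent.ClassTwoFusion.Quad Cfsg.Agent.Omega.ML.MinFrame
open Cfsg.Agent.MinSimple.VModule (o2_isPGroup o2_le le_o2 le_normalizer_o2 o2_le_of_sylow)

universe u v

variable {X : Type u} [Group X] {M : Type v} [Group M] [MulDistribMulAction X M]
  {T B K E : Subgroup X} {lam : M}

namespace Cmp

theorem isSubnormal (h : Cmp T B K E lam) : E.IsSubnormal := by
  have hK := h.normK
  exact IsSubnormal.trans h.EK ((normal_subgroupOf_iff_le_normalizer h.EK).2 h.K_le_normalizer).isSubnormal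
    (Normal.isSubnormal hK)

/-- `E` moves `lam` -/
theorem not_fix (h : Cmp T B K E lam) : ¬ ∀ e ∈ E, e • lam = lam := by
  intro h1
  apply h.mn.stab_ne_top
  rw [eq_top_iff, ← h.gen]
  refine sup_le (h.K_le fun t ht e he => ?_) fun t ht => h.mn.fixT t ht
  have h2 : t⁻¹ • lam = lam := h.mn.fixT _ (T.inv_mem ht)
  rw [MulAction.mem_stabilizer_iff, mul_smul, mul_smul, h2, h1 e he, h.mn.fixT t ht]

/-- a subgroup normalised by `E` which contains `B` contains `E` -/
theorem E_le_of (h : Cmp T B K E lam) (mv : ¬ B ≤ centralizer (E : Set X)) {L : Subgroup X}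
    (hL : ∀ e ∈ E, ∀ x ∈ L, e * x * e⁻¹ ∈ L) (hB : B ≤ L) : E ≤ L := by
  have hs := h.simple
  have h1 : (L.subgroupOf E).Normal := ⟨fun x hx g => hL g g.2 x hx⟩
  rcases h1.eq_bot_or_eq_top with h2 | h2
  · exfalso
    apply mv
    rw [subgroupOf_eq_bot, disjoint_iff] at h2
    intro b hb
    rw [mem_centralizer_iff]
    intro e he
    have h3 : b * e * b⁻¹ * e⁻¹ ∈ L ⊓ E := by
      refine ⟨?_, E.mul_mem ((mem_normalizer_iff.1 (h.BE hb) e).1 he) (E.inv_mem he)⟩
      have h5 := L.mul_mem (hB hb) (hL e he _ (L.inv_mem (hB hb)))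
      have e1 : b * (e * b⁻¹ * e⁻¹) = b * e * b⁻¹ * e⁻¹ := by group
      rwa [e1] at h5
    rw [h2, mem_bot, mul_inv_eq_one, mul_inv_eq_iff_eq_mul] at h3
    exact h3.symm
  · rwa [subgroupOf_eq_top] at h2

theorem B_le_t1 [Finite X] (h : Cmp T B K E lam) : B ≤ T ⊓ normalizer (E : Set X) := le_inf h.mn.B_le h.BE

theorem rel [Finite X] (h : Cmp T B K E lam) : ¬ 2 ∣ T.relIndex E :=
  not_dvd_relIndex_of_subnormal h.mn.two h.mn.syl h.isSubnormal

theorem inf_ne_bot [Finite X] (h : Cmp T B K E lam) : T ⊓ E ≠ ⊥ := by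
  intro h1
  have h2 := h.mn.odd_bot E h.isSubnormal (odd_of_relIndex h.rel h1)
  obtain ⟨x, hx, hx1⟩ := h.ne_bot
  exact hx1 (mem_bot.1 (h2 ▸ hx))

/-- `N_T(E)` is a Sylow 2-subgroup of `E N_T(E)` -/
theorem syl_Y [Finite X] (h : Cmp T B K E lam) :
    ¬ 2 ∣ (T ⊓ normalizer (E : Set X)).relIndex (E ⊔ (T ⊓ normalizer (E : Set X))) := by
  rw [relIndex_sup_comm inf_le_right]
  have h2 : (T ⊓ normalizer (E : Set X)).relIndex E = T.relIndex E := by
    rw [← inf_relIndex_right, inf_assoc, inf_eq_right.2 (le_normalizer (H := E)), inf_relIndex_right]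
  rw [h2]
  exact h.rel

/-- `⟨lam^Y⟩ = ⟨lam^E⟩` -/
theorem orb_Y (h : Cmp T B K E lam) : orb (E ⊔ (T ⊓ normalizer (E : Set X))) lam = orb E lam := by
  apply le_antisymm
  · refine orb_le fun g hg => ?_
    obtain ⟨e, he, t, ht, rfl⟩ := sup_eq_mul inf_le_right hg
    rw [mul_smul, h.mn.fixT t ht.1]
    exact smul_mem_orb_self he
  · exact orb_le fun g hg => smul_mem_orb_self (mem_sup_left hg)

theorem smul_orb_E (h : Cmp T B K E lam) {t : X} (ht : t ∈ T) (htn : t ∈ normalizer (E : Set X)) {m : M}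
    (hm : m ∈ orb E lam) : t • m ∈ orb E lam := by
  have h1 : t ∈ T ⊓ normalizer (E : Set X) := ⟨ht, htn⟩
  rw [← h.orb_Y] at hm ⊢
  exact smul_mem_orb (mem_sup_right h1) hm

variable [Finite X] [Finite M]

/-- **(4)** -/
theorem key (h : Cmp T B K E lam) (hML : Final.MLK.{u, v}) (hKG : IsKGroup X)
    (mv : ¬ B ≤ centralizer (E : Set X)) :
    B ⊓ fxr X (orb E lam) = ⊥ ∧ orb E lam ⊔ cv M (B : Set X) = ⊤ ∧ cm M E ≤ orb E lam := by
  have hc := h.mn.comm
  have hsq := h.mn.sq
  set Y : Subgroup X := E ⊔ (T ⊓ normalizer (E : Set X)) with hY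
  have hBY : B ≤ Y := h.B_le_t1.trans le_sup_right
  have hBs : B ≤ o2 (MulAction.stabilizer X lam) := h.mn.low _ (fun t ht => h.mn.fixT t ht) h.mn.stab_ne_top
  have hrel := rel_subgroup (p := False) Y (hML Y M (Final.sec_KG.sub X hKG Y) hsq)
  have h1 := hrel (T ⊓ normalizer (E : Set X)) (o2 (MulAction.stabilizer X lam) ⊓ Y) B lam (mem_top _)
    (h.mn.two.to_le inf_le_left) le_sup_right h.syl_Y (fun t ht => h.mn.fixT t ht.1)
    ((o2_isPGroup _).to_le inf_le_left) inf_le_right (fun q hq => o2_le _ hq.1)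
    (fun g hg hgz q hq => ⟨conj_mem_of_le (le_normalizer_o2 _) hgz hq.1,
      Y.mul_mem (Y.mul_mem hg hq.2) (Y.inv_mem hg)⟩) (le_inf hBs hBY) h.mn.el False.elim
  rw [h.orb_Y] at h1
  have hinvE : ∀ e ∈ E, ∀ m ∈ orb E lam, e • m ∈ orb E lam := fun e he m hm => smul_mem_orb he hm
  rcases h.mn.alt h1 with h2 | ⟨h2, h3⟩
  · exfalso
    have h3 : E ≤ fxr X (orb E lam) := h.E_le_of mv (fun e he x hx => conj_mem_fxr hinvE he hx) h2
    exact h.not_fix fun e he => h3 he lam (mem_orb_self _ _)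
  · refine ⟨h2, h3, ?_⟩
    let L : Subgroup X :=
      { carrier := {x | ∀ m : M, x • m * m ∈ orb E lam}
        one_mem' := fun m => by
          rw [one_smul, hsq]
          exact one_mem _
        mul_mem' := fun {x y} hx hy m => by
          have e : (x * y) • m * m = (x • y • m * (y • m)) * (y • m * m) := by
            rw [mul_smul, mul_assoc, ← mul_assoc (y • m) (y • m), hsq, one_mul]
          rw [e]
          exact mul_mem (hx _) (hy m)
        inv_mem' := fun {x} hx m => by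
          have h1 := hx (x⁻¹ • m)
          rw [smul_inv_smul, hc] at h1
          exact h1 }
    have hLn : ∀ e ∈ E, ∀ x ∈ L, e * x * e⁻¹ ∈ L := fun y hy x hx m => by
      have h1 := hinvE y hy _ (hx (y⁻¹ • m))
      rw [smul_mul', smul_inv_smul, ← mul_smul, ← mul_smul] at h1
      exact h1
    have hBL : B ≤ L := by
      intro b hb m
      have h5 : m ∈ orb E lam ⊔ cv M (B : Set X) := h3 ▸ mem_top m
      have hcn : (cv M (B : Set X)).Normal := ⟨fun x hx g => by rw [hc g x, mul_inv_cancel_right]; exact hx⟩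
      obtain ⟨y, hy, c, hcc, rfl⟩ := mem_sup_of_normal_right.1 h5
      have e : b • (y * c) * (y * c) = b • y * y := by
        rw [smul_mul', hcc b hb, hc y c, mul_assoc, ← mul_assoc c c, hsq, one_mul]
      rw [e]
      exact mul_mem (h.smul_orb_E (h.mn.B_le hb) (h.BE hb) hy) hy
    exact cm_le fun e he m => h.E_le_of mv hLn hBL he m

omit [Finite M] in
/-- **(5)**: `C_K(E)` centralises `[M,E]`. -/
theorem cen_cm (h : Cmp T B K E lam) (hle : cm M E ≤ orb E lam) :
    K ⊓ centralizer (E : Set X) ≤ fxr X (cm M E) := by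
  have hs := h.simple
  set Ψ : Subgroup X := fxr X (cm M E) ⊓ centralizer (E : Set X) with hΨ
  have hK : K ≤ E ⊔ Ψ := by
    refine h.K_le fun t ht e he => ?_
    by_cases htn : t ∈ normalizer (E : Set X)
    · exact mem_sup_left ((mem_normalizer_iff.1 htn e).1 he)
    refine mem_sup_right ?_
    have hcE : ∀ x ∈ E, t * x * t⁻¹ ∈ centralizer (E : Set X) := fun x hx => h.conj t ht htn ⟨x, hx, rfl⟩
    refine ⟨?_, hcE e he⟩
    -- the elements of `E` whose `t`-conjugate centralises `N`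
    have h1 : (((fxr X (cm M E)).comap (MulAut.conj t).toMonoidHom).subgroupOf E).Normal := by
      refine ⟨fun x hx g => ?_⟩
      have hx' : t * (x : X) * t⁻¹ ∈ fxr X (cm M E) := hx
      have h2 := conj_mem_fxr (R := normalizer (E : Set X)) (U := cm M E) (fun g hg m hm => smul_mem_cm hg hm)
        (centralizer_le_normalizer _ (hcE g g.2)) hx'
      change t * ((g : X) * x * (g : X)⁻¹) * t⁻¹ ∈ fxr X (cm M E)
      have e1 : t * ((g : X) * x * (g : X)⁻¹) * t⁻¹ = t * g * t⁻¹ * (t * x * t⁻¹) * (t * g * t⁻¹)⁻¹ := by group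
      rw [e1]
      exact h2
    have h2 : E ≤ (fxr X (cm M E)).comap (MulAut.conj t).toMonoidHom := by
      rcases h1.eq_bot_or_eq_top with h3 | h3
      · exfalso
        apply h.inf_ne_bot
        rw [subgroupOf_eq_bot, disjoint_iff] at h3
        rw [eq_bot_iff, ← h3]
        rintro s ⟨hsT, hsE⟩
        refine ⟨?_, hsE⟩
        -- `s^t` fixes `lam` and commutes with `E`
        have h4 : t * s * t⁻¹ ∈ fxr X (orb E lam) := by
          rw [mem_fxr_orb]
          intro g hg
          have h5 := mem_centralizer_iff.1 (hcE s hsE) g hg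
          rw [← mul_smul, ← h5, mul_smul, h.mn.fixT _ (T.mul_mem (T.mul_mem ht hsT) (T.inv_mem ht))]
        exact fun m hm => h4 m (hle hm)
      · rwa [subgroupOf_eq_top] at h3
    exact h2 he
  rintro f ⟨hfK, hfc⟩
  obtain ⟨y, hy, w, hw, rfl⟩ := sup_eq_mul (inf_le_right.trans (centralizer_le_normalizer _)) (hK hfK)
  have h3 : y ∈ E ⊓ centralizer (E : Set X) := by
    refine ⟨hy, ?_⟩
    have := Subgroup.mul_mem _ hfc (Subgroup.inv_mem _ hw.2)
    rwa [mul_inv_cancel_right] at this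
  rw [h.inf, mem_bot] at h3
  rw [h3, one_mul]
  exact hw.1

/-- **Every proper submodule of `N` is centralised by `E`.** -/
theorem irr_cm (h : Cmp T B K E lam) (hML : Final.MLK.{u, v}) (hKG : IsKGroup X)
    (hle : cm M E ≤ orb E lam) {W : Subgroup M} (hW : W ≤ cm M E) (hWE : ∀ e ∈ E, ∀ w ∈ W, e • w ∈ W)
    (hWT : ∀ t ∈ T, t ∈ normalizer (E : Set X) → ∀ w ∈ W, t • w ∈ W) :
    W = cm M E ∨ ∀ e ∈ E, ∀ w ∈ W, e • w = w := by
  have hc := h.mn.comm
  have hsq := h.mn.sq
  have hF := h.cen_cm hle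
  let U : Subgroup M := closure {m | ∃ x : X, ∃ w ∈ W, m = x • w}
  have hUi : ∀ g : X, ∀ u ∈ U, g • u ∈ U := by
    intro g u hu
    have h1 : U ≤ U.comap (MulDistribMulAction.toMonoidHom M g) := by
      change Subgroup.closure _ ≤ _
      rw [closure_le]
      rintro _ ⟨x, w, hw, rfl⟩
      refine subset_closure ⟨g * x, w, hw, ?_⟩
      exact (mul_smul _ _ _).symm
    exact h1 hu
  rcases h.sub hML hKG hUi with h1 | h1
  · right
    intro e he w hw
    exact h1 e (h.EK he) w (subset_closure ⟨1, w, hw, (one_smul _ _).symm⟩)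
  left
  refine le_antisymm hW ?_
  let V : Subgroup M :=
    { carrier := {m | ∀ e ∈ E, e • m * m ∈ W}
      one_mem' := fun e _ => by
        rw [smul_one, one_mul]
        exact one_mem _
      mul_mem' := fun {x y} hx hy e he => by
        have e1 : e • (x * y) * (x * y) = (e • x * x) * (e • y * y) := by
          rw [smul_mul', mul_assoc, mul_assoc, ← mul_assoc (e • y) x y, hc (e • y) x, mul_assoc x (e • y) y]
        rw [e1]
        exact mul_mem (hx e he) (hy e he)
      inv_mem' := fun {x} hx e he => by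
        rw [inv_eq_of_mul_eq_one_right (hsq x)]
        exact hx e he }
  have hUV : U ≤ V := by
    change Subgroup.closure _ ≤ _
    rw [closure_le]
    rintro _ ⟨x, w, hw, rfl⟩
    -- `x = t k`
    have hKn := h.normK
    have hx : x⁻¹ ∈ K ⊔ T := h.gen ▸ mem_top _
    obtain ⟨k, hk, t, ht, hkt⟩ := mem_sup_of_normal_left.1 hx
    have hx2 : x = t⁻¹ * k⁻¹ := by
      rw [← mul_inv_rev, hkt, inv_inv]
    have hk2 : k⁻¹ ∈ E ⊔ (K ⊓ centralizer (E : Set X)) := by
      rw [h.sup]
      exact K.inv_mem hk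
    obtain ⟨e0, he0, f, hf, hef⟩ := sup_eq_mul (inf_le_right.trans (centralizer_le_normalizer _)) hk2
    have hw' : k⁻¹ • w ∈ W := by
      rw [hef, mul_smul, hF hf w (hW hw)]
      exact hWE e0 he0 w hw
    intro e he
    rw [hx2, mul_smul]
    by_cases htn : t ∈ normalizer (E : Set X)
    · have h2 := hWT t⁻¹ (T.inv_mem ht) (Subgroup.inv_mem _ htn) _ hw'
      exact mul_mem (hWE e he _ h2) h2
    · have h2 : t * e * t⁻¹ ∈ fxr X (cm M E) := hF ⟨h.normK.conj_mem e (h.EK he) t, h.conj t ht htn ⟨e, he, rfl⟩⟩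
      have h3 := h2 _ (hW hw')
      have e1 : e • t⁻¹ • k⁻¹ • w = t⁻¹ • k⁻¹ • w := by
        rw [mul_smul, mul_smul] at h3
        have h4 := congrArg (t⁻¹ • ·) h3
        simpa only [inv_smul_smul] using h4
      rw [e1, hsq]
      exact one_mem _
  refine cm_le fun e he m => h.mem_of_mod (fun e he e' he' => ?_) e he
  have h2 : e • m * m ∈ cm M E := mem_cm he m
  have h3 : cm M E ≤ cm M K := cm_le fun e he m => mem_cm (h.EK he) m
  exact hUV (h1 (h3 h2)) e' he'

omit [Finite X] [Finite M] in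
/-- `E` does not centralise `N` -/
theorem ne_cm (h : Cmp T B K E lam) : ¬ ∀ e ∈ E, ∀ n ∈ cm M E, e • n = n := by
  intro h1
  have hsq := h.mn.sq
  obtain ⟨x, hx, hx1⟩ := h.ne_bot
  apply hx1
  apply h.mn.faith
  intro m
  have h2 : ∀ e ∈ E, e • m * m ∈ (⊥ : Subgroup M) := h.mem_of_mod fun e he e' he' => by
    rw [mem_bot, h1 e' he' _ (mem_cm he m), hsq]
  exact (smul_mul_self_iff hsq).1 (mem_bot.1 (h2 x hx))

omit [Finite M] in
/-- the vector `lam * ∏ lam^E` -/
theorem exists_point (h : Cmp T B K E lam) :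
    ∃ z ∈ cm M E, (∀ t ∈ T, t ∈ normalizer (E : Set X) → t • z = z) ∧ ¬ ∀ e ∈ E, e • z = z := by
  classical
  have hc := h.mn.comm
  have hsq := h.mn.sq
  let _ : CommGroup M := { (inferInstance : Group M) with mul_comm := hc }
  have : Fintype E := Fintype.ofFinite E
  let O : Finset M := Finset.univ.image fun e : E => (e : X) • lam
  have hO : ∀ {m : M}, m ∈ O ↔ ∃ e ∈ E, e • lam = m := by
    intro m
    simp only [O, Finset.mem_image, Finset.mem_univ, true_and, Subtype.exists]
    constructor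
    · rintro ⟨e, he, h1⟩
      exact ⟨e, he, h1⟩
    · rintro ⟨e, he, h1⟩
      exact ⟨e, he, h1⟩
  let s : M := ∏ m ∈ O, m
  have hs : ∀ g : X, (∀ m ∈ O, g • m ∈ O) → g • s = s := by
    intro g hg
    have h1 : O.image (fun m => g • m) = O := by
      refine Finset.eq_of_subset_of_card_le (fun x hx => ?_) ?_
      · obtain ⟨m, hm, rfl⟩ := Finset.mem_image.1 hx
        exact hg m hm
      · rw [Finset.card_image_of_injective _ (MulAction.injective g)]
    calc g • s = ∏ m ∈ O, g • m := Finset.smul_prod'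
      _ = ∏ m ∈ O.image (fun m => g • m), m :=
          (Finset.prod_image (f := fun m : M => m) (g := fun m => g • m)
            (fun _ _ _ _ hxy => MulAction.injective g hxy)).symm
      _ = s := by rw [h1]
  have hsE : ∀ e ∈ E, e • s = s := fun e he => hs e fun m hm => by
    obtain ⟨e', he', rfl⟩ := hO.1 hm
    exact hO.2 ⟨e * e', E.mul_mem he he', mul_smul _ _ _⟩
  have hsT : ∀ t ∈ T, t ∈ normalizer (E : Set X) → t • s = s := fun t ht htn => hs t fun m hm => by
    obtain ⟨e', he', rfl⟩ := hO.1 hm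
    refine hO.2 ⟨t * e' * t⁻¹, (mem_normalizer_iff.1 htn e').1 he', ?_⟩
    rw [mul_smul, mul_smul, h.mn.fixT _ (T.inv_mem ht)]
  -- the orbit has odd length
  have hodd : Odd O.card := by
    rw [← Nat.not_even_iff_odd, even_iff_two_dvd]
    intro h2
    apply h.rel
    let St : Subgroup E := (MulAction.stabilizer X lam).subgroupOf E
    have h3 : St.index = O.card := by
      have h4 : Nat.card (E ⧸ St) = Nat.card O := by
        refine Nat.card_congr (Equiv.ofBijective (Quotient.lift (fun e : E => (⟨(e : X) • lam, hO.2 ⟨e, e.2, rfl⟩⟩ : O))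
          ?_) ⟨?_, ?_⟩)
        · intro a b hab
          rw [← Quotient.eq_iff_equiv] at hab
          have h5 : a⁻¹ * b ∈ St := QuotientGroup.eq.1 hab
          have h6 : ((a : X)⁻¹ * b) • lam = lam := h5
          rw [mul_smul, inv_smul_eq_iff] at h6
          exact Subtype.ext h6.symm
        · intro a b hab
          induction a using Quotient.inductionOn with
          | _ a =>
          induction b using Quotient.inductionOn with
          | _ b =>
          have h5 : (a : X) • lam = (b : X) • lam := congrArg Subtype.val hab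
          refine QuotientGroup.eq.2 ?_
          change ((a : X)⁻¹ * b) • lam = lam
          rw [mul_smul, ← h5, inv_smul_smul]
        · rintro ⟨m, hm⟩
          obtain ⟨e, he, rfl⟩ := hO.1 hm
          exact ⟨QuotientGroup.mk ⟨e, he⟩, rfl⟩
      rw [← Nat.card_eq_finsetCard, ← h4]
      rfl
    rw [← h3] at h2
    have h5 : (T.subgroupOf E) ≤ St := fun e he => h.mn.fixT _ he
    exact h2.trans (index_dvd_of_le h5)
  refine ⟨s * lam, ?_, ?_, ?_⟩
  · have h1 : s * lam = ∏ m ∈ O, m * lam := by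
      rw [Finset.prod_mul_distrib, Finset.prod_const]
      congr 1
      obtain ⟨k, hk⟩ := hodd
      rw [hk, pow_succ, pow_mul, pow_two, hsq, one_pow, one_mul]
    rw [h1]
    refine Subgroup.prod_mem _ fun m hm => ?_
    obtain ⟨e, he, rfl⟩ := hO.1 hm
    exact mem_cm he lam
  · intro t ht htn
    rw [smul_mul', hsT t ht htn, h.mn.fixT t ht]
  · intro h1
    apply h.not_fix
    intro e he
    have h2 := h1 e he
    rw [smul_mul', hsE e he] at h2
    exact mul_left_cancel h2

/-- **A component which `B` moves, with its module.** -/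
theorem toM (h : Cmp T B K E lam) (hML : Final.MLK.{u, v}) (hKG : IsKGroup X)
    (mv : ¬ B ≤ centralizer (E : Set X)) : CmpM T B K E lam := by
  obtain ⟨k1, k2, k3⟩ := h.key hML hKG mv
  have hc := h.mn.comm
  have hsq := h.mn.sq
  have hF := h.cen_cm k3
  have hlam : lam ∈ cv M (B : Set X) := fun b hb => h.mn.fixT b (h.mn.B_le hb)
  have hsup : cm M E ⊔ cv M (B : Set X) = ⊤ := by
    rw [eq_top_iff, ← k2]
    refine sup_le (orb_le fun e he => ?_) le_sup_right
    have e1 : e • lam = e • lam * lam * lam := by rw [mul_assoc, hsq, mul_one]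
    rw [e1]
    exact mul_mem (mem_sup_left (mem_cm he lam)) (mem_sup_right hlam)
  refine
    { cmp := h
      cenN := fun f hf hfc n hn => hF ⟨hf, hfc⟩ n hn
      irr := fun W hW hWE hWT => h.irr_cm hML hKG k3 hW hWE hWT
      ne := h.ne_cm
      point := h.exists_point
      orbE := fun e he => mem_cm he lam
      faithB := fun b hb hbn => ?_
      exactN := by rw [relIndex_of_sup hc hsup, h.mn.exact]
      atomN := fun C hC hC1 hC2 => ?_ }
  · have h1 : b ∈ B ⊓ fxr X (orb E lam) := by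
      refine ⟨hb, mem_fxr_orb.2 fun e he => ?_⟩
      have h2 := hbn _ (mem_cm he lam)
      rw [smul_mul', h.mn.fixT b (h.mn.B_le hb)] at h2
      exact mul_right_cancel h2
    rw [k1] at h1
    exact mem_bot.1 h1
  · have h1 : cm M E ⊔ cv M (C : Set X) = ⊤ := by
      rw [eq_top_iff, ← hsup]
      exact sup_le_sup_left (cv_anti (SetLike.coe_subset_coe.2 hC)) _
    rw [relIndex_of_sup hc h1]
    exact h.mn.atom C hC hC1 hC2

end Cmp

/-- **Steps (1)-(5).** -/
theorem Mn.exists_cmpM [Finite X] [Finite M] (h : Mn T B lam) (hML : Final.MLK.{u, v}) (hKG : IsKGroup X) :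
    ∃ K E : Subgroup X, CmpM T B K E lam := by
  obtain ⟨K, E, hC, mv⟩ := h.exists_cmp
  exact ⟨K, E, hC.toM hML hKG mv⟩

end Cfsg.Agent.Omega.ML.Ex.Red
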