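import Cfsg.Agent.Omega.ML.Ex.DefN
import Cfsg.Agent.Omega.ML.Final

/-!
# THEOREM RED: sub-exactness on the irreducible quotient from (ML) (helper995)

* `InN0 H N K T A` : `InN` without the field `subK`;
* **`InN0.inN`** : `MLK → IsKGroup H → InN0 H N K T A → InN H N K T A`.
-/

set_option autoImplicit false

namespace Cfsg.Agent.Omega.ML.Ex

open Subgroup Cfsg Cfsg.Agent.ZN Cfsg.Agent.Omega.NOThree.NoOver Cfsg.Agent.Omega.ML.CD
open Cfsg.Agent.ClassTwoFusion.Quad Cfsg.Agent.Omega.ML.MinFrame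
open Cfsg.Agent.MinSimple.VModule (o2_isPGroup o2_le le_o2 le_normalizer_o2)

universe u v w

/-- `InN` without `subK`. -/
structure InN0 (H : Type u) [Group H] (N : Type v) [Group N] [MulDistribMulAction H N] (K T A : Subgroup H) :
    Prop where
  sq : ∀ m : N, m * m = 1
  faith : ∀ h : H, (∀ m : N, h • m = m) → h = 1
  /-- every proper submodule is centralised by `K` -/
  irrK : ∀ W : Subgroup N, (∀ h : H, ∀ w ∈ W, h • w ∈ W) → W = ⊤ ∨ ∀ k ∈ K, ∀ w ∈ W, k • w = w
  /-- `N = ⟨z^H⟩`, `z` fixed by `T` -/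
  point : ∃ z : N, (∀ t ∈ T, t • z = z) ∧ orb (⊤ : Subgroup H) z = ⊤
  norm : K.Normal
  simple : IsSimpleGroup K
  cen : centralizer (K : Set H) = ⊥
  gen : K ⊔ T = ⊤
  two : IsPGroup 2 T
  syl : ¬ 2 ∣ T.index
  AT : A ≤ T
  el : ∀ a ∈ A, a * a = 1
  four : 4 ≤ Nat.card A
  exact : (cv N (A : Set H)).index = Nat.card A
  atom : ∀ C : Subgroup H, C ≤ A → C ≠ ⊥ → C ≠ A → Nat.card C < (cv N (C : Set H)).index
  low : ∀ R : Subgroup H, T ≤ R → R ≠ ⊤ → A ≤ o2 R
  nmax : ¬ ∃ L : Subgroup H, L ≠ ⊤ ∧ ∀ R : Subgroup H, T ≤ R → R ≠ ⊤ → R ≤ L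

variable {H : Type u} [Group H] {N : Type v} [Group N] [MulDistribMulAction H N] {K T A : Subgroup H}

namespace InN0

theorem comm (h : InN0 H N K T A) (x y : N) : x * y = y * x := comm_of_sq' h.sq x y

/-- `K` is perfect -/
theorem hom_eq_one (h : InN0 H N K T A) {P : Type w} [CommGroup P] (f : K →* P)
    (k : K) : f k = 1 := by
  have hs := h.simple
  rcases (MonoidHom.normal_ker f).eq_bot_or_eq_top with h1 | h1
  · have h2 : ∀ x y : K, x * y = y * x := fun x y =>
      (MonoidHom.ker_eq_bot_iff f).1 h1 (by rw [map_mul, map_mul, mul_comm])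
    have h3 : K ≤ centralizer (K : Set H) := by
      intro x hx
      rw [mem_centralizer_iff]
      exact fun y hy => congrArg Subtype.val (h2 ⟨y, hy⟩ ⟨x, hx⟩)
    rw [h.cen, le_bot_iff] at h3
    obtain ⟨x, hx⟩ := exists_ne (1 : K)
    exact absurd (Subtype.ext (mem_bot.1 (h3 ▸ x.2))) hx
  · have h2 : k ∈ f.ker := h1 ▸ mem_top k
    exact h2

theorem ck_normal (h : InN0 H N K T A) : (InN.ck N K).Normal :=
  ⟨fun x hx g => by rw [h.comm g x, mul_inv_cancel_right]; exact hx⟩

theorem smul_mem_ck (h : InN0 H N K T A) (g : H) (m : N) (hm : m ∈ InN.ck N K) : g • m ∈ InN.ck N K := by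
  intro k hk
  have h1 : g⁻¹ * k * g ∈ K := by
    have := h.norm.conj_mem k hk g⁻¹
    rwa [inv_inv] at this
  have h2 := hm _ h1
  rw [mul_smul, mul_smul, inv_smul_eq_iff] at h2
  exact h2

/-- `K` does not centralise `N` -/
theorem ck_ne_top (h : InN0 H N K T A) : InN.ck N K ≠ ⊤ := by
  intro h1
  have hs := h.simple
  obtain ⟨x, hx⟩ := exists_ne (1 : K)
  apply hx
  refine Subtype.ext (h.faith x fun m => ?_)
  have h2 : m ∈ InN.ck N K := h1 ▸ mem_top m
  exact h2 x x.2

/-- a vector fixed by `K` modulo `C_N(K)` is fixed by `K` -/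
theorem mem_ck_of (h : InN0 H N K T A) {m : N} (hm : ∀ k ∈ K, k • m * m ∈ InN.ck N K) : m ∈ InN.ck N K := by
  let _ : CommGroup N := { (inferInstance : Group N) with mul_comm := h.comm }
  let f : K →* N :=
    { toFun := fun k => (k : H) • m * m
      map_one' := by
        change (1 : H) • m * m = 1
        rw [one_smul, h.sq]
      map_mul' := fun k l => by
        change ((k : H) * (l : H)) • m * m = ((k : H) • m * m) * ((l : H) • m * m)
        have h1 : (k : H) • ((l : H) • m * m) = (l : H) • m * m := hm l l.2 k k.2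
        rw [smul_mul'] at h1
        rw [mul_smul]
        have h2 : (k : H) • (l : H) • m = ((l : H) • m * m) * ((k : H) • m) := by
          rw [← h1, mul_assoc, h.sq, mul_one]
        rw [h2, mul_assoc, h.comm] }
  intro k hk
  have h1 := h.hom_eq_one f ⟨k, hk⟩
  have h2 : k • m * m = 1 := h1
  have h3 := congrArg (· * m) h2
  simpa [mul_assoc, h.sq] using h3

/-- `H` is faithful on `N / C_N(K)` -/
theorem faith_quot (h : InN0 H N K T A) {g : H} (hg : ∀ m : N, g • m * m ∈ InN.ck N K) : g = 1 := by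
  have hs := h.simple
  let F : Subgroup H :=
    { carrier := {x | ∀ m : N, x • m * m ∈ InN.ck N K}
      one_mem' := fun m => by
        rw [one_smul, h.sq]
        exact one_mem _
      mul_mem' := fun {x y} hx hy m => by
        have e : (x * y) • m * m = (x • y • m * (y • m)) * (y • m * m) := by
          rw [mul_smul, mul_assoc, ← mul_assoc (y • m) (y • m), h.sq, one_mul]
        rw [e]
        exact mul_mem (hx _) (hy m)
      inv_mem' := fun {x} hx m => by
        have h1 := hx (x⁻¹ • m)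
        rw [smul_inv_smul, h.comm] at h1
        exact h1 }
  have hF : ∀ {x : H}, x ∈ F ↔ ∀ m : N, x • m * m ∈ InN.ck N K := Iff.rfl
  have hFn : F.Normal := ⟨fun x hx y m => by
    have h1 := h.smul_mem_ck y _ (hx (y⁻¹ • m))
    rw [smul_mul', smul_inv_smul, ← mul_smul, ← mul_smul] at h1
    exact h1⟩
  have hFK : F ⊓ K = ⊥ := by
    have h1 : (F.subgroupOf K).Normal := hFn.subgroupOf K
    rcases h1.eq_bot_or_eq_top with h2 | h2
    · rw [subgroupOf_eq_bot, disjoint_iff] at h2
      exact h2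
    · exfalso
      rw [subgroupOf_eq_top] at h2
      exact h.ck_ne_top (eq_top_iff.2 fun m _ => h.mem_ck_of fun k hk => h2 hk m)
  have hFc : F ≤ centralizer (K : Set H) := by
    intro x hx
    rw [mem_centralizer_iff]
    intro k hk
    have h1 : x * k * x⁻¹ * k⁻¹ ∈ F ⊓ K := by
      refine ⟨?_, K.mul_mem (h.norm.conj_mem k hk x) (K.inv_mem hk)⟩
      have h2 := F.mul_mem hx (hFn.conj_mem _ (F.inv_mem hx) k)
      have e : x * (k * x⁻¹ * k⁻¹) = x * k * x⁻¹ * k⁻¹ := by group
      rwa [e] at h2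
    rw [hFK, mem_bot, mul_inv_eq_one, mul_inv_eq_iff_eq_mul] at h1
    exact h1.symm
  have h1 : g ∈ centralizer (K : Set H) := hFc (hF.2 hg)
  rw [h.cen] at h1
  exact mem_bot.1 h1

/-- **Sub-exactness on `N / C_N(K)` from (ML).** -/
theorem subK (h : InN0 H N K T A) [Finite H] [Finite N] (hML : Final.MLK.{u, v}) (hKG : IsKGroup H) {D : Subgroup H}
    (hD : D ≤ A) {V : Subgroup N} (hV : ∀ v ∈ V, ∀ d ∈ D, ∀ k ∈ K, k • (d • v * v) = d • v * v) :
    Nat.card D ≤ V.index := by
  have hnor := h.ck_normal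
  let _ := modAct (H := H) (InN.ck N K) h.smul_mem_ck
  have hinv : ∀ x : N, x⁻¹ = x := fun x => inv_eq_of_mul_eq_one_right (h.sq x)
  have hsm : ∀ (g : H) (x : N), g • (QuotientGroup.mk x : N ⧸ InN.ck N K) = QuotientGroup.mk (g • x) :=
    fun _ _ => rfl
  have hmk : ∀ x y : N, (QuotientGroup.mk x : N ⧸ InN.ck N K) = QuotientGroup.mk y ↔ x * y ∈ InN.ck N K := by
    intro x y
    rw [QuotientGroup.eq, hinv]
  obtain ⟨z, hzT, hz⟩ := h.point
  set zb : N ⧸ InN.ck N K := QuotientGroup.mk z with hzb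
  set R : Subgroup H := MulAction.stabilizer H zb with hR
  have hmemR : ∀ g : H, g ∈ R ↔ g • z * z ∈ InN.ck N K := by
    intro g
    rw [hR, MulAction.mem_stabilizer_iff, hzb, hsm, hmk]
  have hTR : T ≤ R := fun t ht => by
    rw [hmemR, hzT t ht, h.sq]
    exact one_mem _
  have hRne : R ≠ ⊤ := by
    intro h1
    have h2 : z ∈ InN.ck N K := h.mem_ck_of fun k _ => (hmemR k).1 (h1 ▸ mem_top k)
    apply h.ck_ne_top
    rw [eq_top_iff, ← hz]
    exact orb_le fun g _ => h.smul_mem_ck g z h2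
  have hA := h.low R hTR hRne
  have key := hML.act (C := H) (V := N ⧸ InN.ck N K) hKG (T := T) (Q := o2 R) (A := D) (z := zb)
    { sq := fun x => by
        obtain ⟨y, rfl⟩ := QuotientGroup.mk_surjective x
        rw [← QuotientGroup.mk_mul, h.sq]
        rfl
      two := h.two
      odd := h.syl
      fixT := fun t ht => hTR ht
      Q2 := fun q hq => by
        obtain ⟨n, hn⟩ := o2_isPGroup R ⟨q, hq⟩
        refine ⟨n, fun v => ?_⟩
        have h1 : q ^ 2 ^ n = 1 := congrArg Subtype.val hn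
        rw [h1, one_smul]
      fixQ := fun q hq => o2_le R hq
      nrmQ := fun g hg q hq => ⟨g * q * g⁻¹, conj_mem_of_le (le_normalizer_o2 R) hg hq, fun _ => rfl⟩
      AQ := fun a ha => ⟨a, hA (hD ha), fun _ => rfl⟩
      Asq := fun a ha v => by rw [← mul_smul, h.el a (hD ha), one_smul] }
  have horb : orb (⊤ : Subgroup H) zb = ⊤ := by
    rw [eq_top_iff]
    intro x _
    obtain ⟨y, rfl⟩ := QuotientGroup.mk_surjective x
    have h1 : orb (⊤ : Subgroup H) z ≤ (orb (⊤ : Subgroup H) zb).comap (QuotientGroup.mk' (InN.ck N K)) :=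
      orb_le fun g _ => smul_mem_orb_self (mem_top g)
    rw [hz] at h1
    exact h1 (mem_top y)
  rw [horb, relIndex_top_right] at key
  have hfx : fxr H (⊤ : Subgroup (N ⧸ InN.ck N K)) = ⊥ := by
    rw [eq_bot_iff]
    intro g hg
    rw [mem_bot]
    refine h.faith_quot fun m => ?_
    have h1 := hg (QuotientGroup.mk m) (mem_top _)
    rwa [hsm, hmk] at h1
  rw [hfx, relIndex_bot_left] at key
  refine key.trans ?_
  rw [← index_comap_of_surjective _ (QuotientGroup.mk'_surjective (InN.ck N K))]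
  refine Nat.le_of_dvd (Nat.pos_of_ne_zero index_ne_zero_of_finite) (index_dvd_of_le ?_)
  intro v hv d hd
  change d • (QuotientGroup.mk v : N ⧸ InN.ck N K) = QuotientGroup.mk v
  rw [hsm, hmk]
  exact fun k hk => hV v hv d hd k hk

/-- **`InN0` is `InN` for K-groups.** -/
theorem inN (h : InN0 H N K T A) [Finite H] [Finite N] (hML : Final.MLK.{u, v}) (hKG : IsKGroup H) :
    InN H N K T A where
  sq := h.sq
  faith := h.faith
  irrK := h.irrK
  point := h.point
  norm := h.norm
  simple := h.simple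
  cen := h.cen
  gen := h.gen
  two := h.two
  syl := h.syl
  AT := h.AT
  el := h.el
  four := h.four
  exact := h.exact
  atom := h.atom
  subK := fun _ hD _ hV => h.subK hML hKG hD hV
  low := h.low
  nmax := h.nmax

end InN0

end Cfsg.Agent.Omega.ML.Ex
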