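import Cfsg.Agent.Omega.ML.Ex.RedGrp
import Cfsg.Agent.Omega.ML.Ex.RedSub

/-!
# THEOREM RED: the section of one component (helper844)

`a : E N_T(E) → X₁` onto, `X₁` faithful on `N = [M,E]`, compatible with `a`.

* `Sc` : this situation;  `Sc.inj` : `a` is injective on `E`;  `Sc.quo`;
* `CmpM.span` : `N = ⟨e lam · lam⟩`;  `CmpM.le_cc` : `N = [N,E]`;
* `Sc.cen` : `C_{X₁}(K₁) = 1`;
* **`Sc.inN0`** : `InN0 X₁ N K₁ T₁ B₁`, `|B₁| = |B|`;
* `CmpM.rep`, `CmpM.sc` : the quotient of `E N_T(E)` by the kernel on `N`.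
-/

set_option autoImplicit false
set_option linter.style.haveILetI false

namespace Cfsg.Agent.Omega.ML.Ex.Red

open Subgroup Cfsg Cfsg.Agent.ZN Cfsg.Agent.Omega.NOThree.NoOver Cfsg.Agent.Omega.ML.CD
open Cfsg.Agent.ClassTwoFusion.Quad Cfsg.Agent.Omega.ML.MinFrame Cfsg.Agent.Omega.ML.Ex.SecLow
open Cfsg.Agent.MinSimple.VModule (o2_isPGroup o2_le le_o2 le_normalizer_o2)

universe u v w

variable {X : Type u} [Group X] {M : Type v} [Group M] [MulDistribMulAction X M] {T B K E : Subgroup X} {lam : M}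

/-- a perfect group acts trivially on `V` if it acts trivially on `[V, E]`. -/
theorem fix_of_perf (sq : ∀ m : M, m * m = 1) (hE : ⁅E, E⁆ = E) {m : M}
    (h : ∀ e ∈ E, ∀ f ∈ E, f • (e • m * m) = e • m * m) : ∀ e ∈ E, e • m = m := by
  have hcm := comm_of_sq' sq
  have h1 : ⁅E, E⁆ ≤ MulAction.stabilizer X m := by
    rw [commutator_le]
    intro x hx y hy
    have hx1 := h x hx
    have hy1 := h y hy
    obtain ⟨c, hc⟩ : ∃ c, c = (x • m) * m := ⟨_, rfl⟩
    obtain ⟨d, hd⟩ : ∃ d, d = (y • m) * m := ⟨_, rfl⟩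
    rw [← hc] at hx1
    rw [← hd] at hy1
    have e1 : x • m = c * m := by rw [hc, mul_assoc, sq, mul_one]
    have e2 : y • m = d * m := by rw [hd, mul_assoc, sq, mul_one]
    have e3 : x⁻¹ • m = c * m := by
      rw [inv_smul_eq_iff, smul_mul', hx1 x hx, e1, ← mul_assoc, sq, one_mul]
    have e4 : y⁻¹ • m = d * m := by
      rw [inv_smul_eq_iff, smul_mul', hy1 y hy, e2, ← mul_assoc, sq, one_mul]
    rw [MulAction.mem_stabilizer_iff, commutatorElement_def, mul_smul, mul_smul, mul_smul]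
    simp only [e4, smul_mul', hy1 _ (E.inv_mem hx), e3, hy1 y hy, hx1 y hy, e2, hy1 x hx, hx1 x hx, e1]
    calc d * (c * (d * (c * m))) = (d * c) * (d * c) * m := by group
      _ = m := by rw [sq, one_mul]
  rw [hE] at h1
  exact fun e he => h1 he

namespace CmpM

/-- `N` is invariant under `E N_T(E)` -/
theorem smul_mem (_h : CmpM T B K E lam) {y : X} (hy : y ∈ YY T E) {n : M} (hn : n ∈ cm M E) : y • n ∈ cm M E :=
  smul_mem_cm ((sup_le le_normalizer inf_le_right : YY T E ≤ normalizer (E : Set X)) hy) hn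

/-- `X` is not trivial on `lam` -/
theorem lam_moved (h : CmpM T B K E lam) : ¬ ∀ e ∈ E, e • lam = lam := by
  intro h1
  have hs := h.cmp.simple
  have h2 : K ≤ MulAction.stabilizer X lam := h.cmp.tcl.trans (tcl_le fun t ht => by
    rintro _ ⟨e, he, rfl⟩
    rw [MulAction.mem_stabilizer_iff]
    change (t * e * t⁻¹) • lam = lam
    rw [mul_smul, mul_smul, h.cmp.mn.fixT _ (T.inv_mem ht), h1 e he, h.cmp.mn.fixT t ht])
  have h3 : (⊤ : Subgroup X) ≤ MulAction.stabilizer X lam := by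
    rw [← h.cmp.gen]
    exact sup_le h2 fun t ht => h.cmp.mn.fixT t ht
  have h4 : ∀ m : M, m ∈ cv M (Set.univ : Set X) := by
    intro m
    have h5 : orb (⊤ : Subgroup X) lam ≤ cv M (Set.univ : Set X) := orb_le fun g _ x _ => by
      have h6 : g • lam = lam := h3 (mem_top g)
      have h7 : x • lam = lam := h3 (mem_top x)
      rw [h6, h7]
    rw [h.cmp.mn.gen] at h5
    exact h5 (mem_top m)
  obtain ⟨x, hx⟩ := exists_ne (1 : E)
  exact hx (Subtype.ext (h.cmp.mn.faith x fun m => h4 m x (Set.mem_univ _)))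

/-- **`N = ⟨e lam · lam⟩`** -/
theorem span (h : CmpM T B K E lam) : closure {m | ∃ e ∈ E, m = e • lam * lam} = cm M E := by
  have hsq := h.cmp.mn.sq
  have hcm := comm_of_sq' hsq
  have hle : closure {m | ∃ e ∈ E, m = e • lam * lam} ≤ cm M E := by
    rw [closure_le]
    rintro _ ⟨e, he, rfl⟩
    exact h.orbE e he
  obtain ⟨U, hU⟩ : ∃ U, U = closure {m | ∃ e ∈ E, m = e • lam * lam} := ⟨_, rfl⟩
  have hmem : ∀ e ∈ E, e • lam * lam ∈ U := fun e he => hU ▸ subset_closure ⟨e, he, rfl⟩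
  have hinv : ∀ g : X, (∀ e ∈ E, g • (e • lam * lam) ∈ U) → ∀ w ∈ U, g • w ∈ U := by
    intro g hg w hw
    have h1 : U ≤ U.comap (MulDistribMulAction.toMonoidHom M g) := by
      conv_lhs => rw [hU]
      rw [closure_le]
      rintro _ ⟨e, he, rfl⟩
      exact hg e he
    exact h1 hw
  have h1 : ∀ e ∈ E, ∀ w ∈ U, e • w ∈ U := by
    intro g hg
    refine hinv g fun e he => ?_
    have h2 : g • (e • lam * lam) = ((g * e) • lam * lam) * (g • lam * lam) := by
      rw [smul_mul', ← mul_smul, hcm (g • lam) lam, mul_assoc ((g * e) • lam), ← mul_assoc lam lam, hsq, one_mul]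
    rw [h2]
    exact U.mul_mem (hmem _ (E.mul_mem hg he)) (hmem g hg)
  have h2 : ∀ t ∈ T, t ∈ normalizer (E : Set X) → ∀ w ∈ U, t • w ∈ U := by
    intro t ht htn
    refine hinv t fun e he => ?_
    have h3 : t • (e • lam * lam) = (t * e * t⁻¹) • lam * lam := by
      rw [smul_mul', mul_smul, mul_smul, h.cmp.mn.fixT _ (T.inv_mem ht), h.cmp.mn.fixT t ht]
    rw [h3]
    exact hmem _ ((mem_normalizer_iff.1 htn e).1 he)
  rw [← hU] at hle ⊢
  rcases h.irr U hle h1 h2 with h3 | h3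
  · exact h3
  · exact absurd (fix_of_perf hsq h.cmp.perfE fun e he f hf => h3 f hf _ (hmem e he)) h.lam_moved

/-- **`N = [N,E]`** -/
theorem le_cc (h : CmpM T B K E lam) : cm M E ≤ closure {m | ∃ e ∈ E, ∃ n ∈ cm M E, m = (e • n) * n⁻¹} := by
  have hsq := h.cmp.mn.sq
  have hcm := comm_of_sq' hsq
  have hinv' : ∀ x : M, x⁻¹ = x := fun x => inv_eq_of_mul_eq_one_right (hsq x)
  obtain ⟨U, hU⟩ : ∃ U, U = closure {m | ∃ e ∈ E, ∃ n ∈ cm M E, m = (e • n) * n⁻¹} := ⟨_, rfl⟩
  have hmem : ∀ e ∈ E, ∀ n ∈ cm M E, e • n * n ∈ U := fun e he n hn =>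
    hU ▸ subset_closure ⟨e, he, n, hn, by rw [hinv']⟩
  have hle : U ≤ cm M E := by
    rw [hU, closure_le]
    rintro _ ⟨e, he, n, hn, rfl⟩
    rw [hinv']
    exact mem_cm he n
  have hinv : ∀ g ∈ normalizer (E : Set X), ∀ w ∈ U, g • w ∈ U := by
    intro g hg w hw
    have h1 : U ≤ U.comap (MulDistribMulAction.toMonoidHom M g) := by
      conv_lhs => rw [hU]
      rw [closure_le]
      rintro _ ⟨e, he, n, hn, rfl⟩
      change g • ((e • n) * n⁻¹) ∈ U
      rw [hinv']
      have e1 : g • (e • n * n) = (g * e * g⁻¹) • (g • n) * (g • n) := by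
        rw [smul_mul', mul_smul, mul_smul, inv_smul_smul]
      rw [e1]
      exact hmem _ ((mem_normalizer_iff.1 hg e).1 he) _ (smul_mem_cm hg hn)
    exact h1 hw
  rw [← hU]
  rcases h.irr U hle (fun e he => hinv e (le_normalizer he)) (fun t _ ht => hinv t ht) with h1 | h1
  · exact h1.ge
  · exfalso
    apply h.ne
    intro e he n hn
    exact fix_of_perf hsq h.cmp.perfE (fun e he f hf => h1 f hf _ (hmem e he n hn)) e he

end CmpM

/-- **The section.** -/
structure Sc (T B K E : Subgroup X) (lam : M) {X₁ : Type w} [Group X₁] [MulDistribMulAction X₁ (cm M E)]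
    (a : YY T E →* X₁) : Prop where
  cmpM : CmpM T B K E lam
  surj : Function.Surjective a
  act : ∀ (y : YY T E) (n : cm M E), ((a y • n : cm M E) : M) = (y : X) • (n : M)
  faith : ∀ x : X₁, (∀ n : cm M E, x • n = n) → x = 1

namespace Sc

variable {X₁ : Type w} [Group X₁] [MulDistribMulAction X₁ (cm M E)] {a : YY T E →* X₁}

theorem a_eq_one (h : Sc T B K E lam a) {y : YY T E} : a y = 1 ↔ ∀ n ∈ cm M E, (y : X) • n = n := by
  constructor
  · intro h1 n hn
    have h2 := h.act y ⟨n, hn⟩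
    rw [h1, one_smul] at h2
    exact h2.symm
  · intro h1
    exact h.faith _ fun n => Subtype.ext (by rw [h.act, h1 n n.2])

/-- `a` is injective on `E` -/
theorem inj (h : Sc T B K E lam a) (y : YY T E) (hy : (y : X) ∈ E) (h1 : a y = 1) : y = 1 := by
  have hs := h.cmpM.cmp.simple
  rcases hs.eq_bot_or_eq_top_of_normal (a.comp (inclusion (E_le_YY (T := T) (E := E)))).ker inferInstance with h2 | h2
  · have h3 : (⟨y, hy⟩ : E) ∈ (a.comp (inclusion (E_le_YY (T := T) (E := E)))).ker := h1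
    rw [h2, mem_bot] at h3
    exact Subtype.ext (show (y : X) = 1 from congrArg Subtype.val h3)
  · exfalso
    apply h.cmpM.ne
    intro e he
    have h3 : (⟨e, he⟩ : E) ∈ (a.comp (inclusion (E_le_YY (T := T) (E := E)))).ker := h2 ▸ mem_top _
    have h4 : a ⟨e, E_le_YY he⟩ = 1 := h3
    exact h.a_eq_one.1 h4

theorem quo (h : Sc T B K E lam a) [Finite X] : Quo T K E (K ⊓ centralizer (E : Set X)) a where
  toCp := h.cmpM.cmp.cp
  surj := h.surj
  inj := h.inj

/-- **`C_{X₁}(K₁) = 1`** -/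
theorem cen (h : Sc T B K E lam a) [Finite X] : centralizer (im a E : Set X₁) = ⊥ := by
  have hq := h.quo
  have hfin : Finite X₁ := Finite.of_surjective a h.surj
  have hn := hq.normal
  have hcn : (centralizer (im a E : Set X₁)).Normal := by
    refine ⟨fun c hc g => ?_⟩
    rw [mem_centralizer_iff]
    intro k hk
    have h1 := mem_centralizer_iff.1 hc (g⁻¹ * k * g) (by
      have := hn.conj_mem k hk g⁻¹
      rwa [inv_inv] at this)
    calc k * (g * c * g⁻¹) = g * ((g⁻¹ * k * g) * c) * g⁻¹ := by group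
      _ = g * (c * (g⁻¹ * k * g)) * g⁻¹ := by rw [h1]
      _ = g * c * g⁻¹ * k := by group
  have h1 := le_of_normal_two hq.two₁ hq.syl₁ hcn (hq.cen_isPGroup fun e he => h.cmpM.cmp.eq_one_of_comm he)
  rw [eq_bot_iff]
  intro c hc
  obtain ⟨t, ht, rfl⟩ := h1 hc
  -- `t` commutes with `E`
  have h2 : ∀ e ∈ E, (t : X) * e = e * t := by
    intro e he
    have h3 : (t : X) * e * (t : X)⁻¹ * e⁻¹ ∈ E := E.mul_mem (hq.YY_conj t.2 he) (E.inv_mem he)
    have h4 := h.inj (t * ⟨e, E_le_YY he⟩ * t⁻¹ * (⟨e, E_le_YY he⟩ : YY T E)⁻¹) h3 (by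
      have h5 := mem_centralizer_iff.1 hc (a ⟨e, E_le_YY he⟩) (apply_mem_im (y := ⟨e, E_le_YY he⟩) he)
      rw [map_mul, map_mul, map_mul, map_inv, map_inv, ← h5, mul_inv_cancel_right, mul_inv_cancel])
    have h5 := congrArg Subtype.val h4
    have h6 : (t : X) * e * (t : X)⁻¹ * e⁻¹ = 1 := h5
    rw [mul_inv_eq_one, mul_inv_eq_iff_eq_mul] at h6
    exact h6
  rw [mem_bot, h.a_eq_one]
  have h3 : cm M E ≤ cv M ({(t : X)} : Set X) := by
    rw [← h.cmpM.span, closure_le]
    rintro _ ⟨e, he, rfl⟩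
    rw [SetLike.mem_coe, mem_cv_singleton, smul_mul', ← mul_smul, h2 e he, mul_smul,
      h.cmpM.cmp.mn.fixT t ht.1]
  exact fun n hn => mem_cv_singleton.1 (h3 hn)

theorem inj_B (h : Sc T B K E lam a) {b : YY T E} (hb : (b : X) ∈ B) (h1 : a b = 1) : b = 1 :=
  Subtype.ext (h.cmpM.faithB b hb (h.a_eq_one.1 h1))

/-- `|a(C)| = |C|` for `C ≤ B` -/
theorem card_im (h : Sc T B K E lam a) [Finite X] {C : Subgroup X} (hC : C ≤ B) : Nat.card (im a C) = Nat.card C := by
  have hCY : C ≤ YY T E := hC.trans (h.cmpM.cmp.B_le.trans T1_le_YY)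
  symm
  refine Nat.card_congr (Equiv.ofBijective (fun c : C => (⟨a ⟨c, hCY c.2⟩, ⟨c, hCY c.2⟩, c.2, rfl⟩ : im a C))
    ⟨?_, ?_⟩)
  · intro c d hcd
    have h1 : a ⟨c, hCY c.2⟩ = a ⟨d, hCY d.2⟩ := congrArg Subtype.val hcd
    have h2 := h.inj_B (b := ⟨c, hCY c.2⟩ * (⟨d, hCY d.2⟩ : YY T E)⁻¹) (B.mul_mem (hC c.2) (B.inv_mem (hC d.2)))
      (by rw [map_mul, map_inv, h1, mul_inv_cancel])
    have h3 := mul_inv_eq_one.1 h2
    have h4 : (c : X) = d := congrArg (fun y : YY T E => (y : X)) h3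
    exact Subtype.ext h4
  · rintro ⟨_, ⟨y, hy, rfl⟩⟩
    exact ⟨⟨y, hy⟩, rfl⟩

/-- `C_N(a(C)) = N ∩ C_M(C)` -/
theorem cv_im (h : Sc T B K E lam a) {C : Subgroup X} (hC : C ≤ YY T E) :
    cv (cm M E) (im a C : Set X₁) = (cv M (C : Set X)).subgroupOf (cm M E) := by
  ext n
  constructor
  · intro hn c hc
    have h1 := hn (a ⟨c, hC hc⟩) (apply_mem_im (y := ⟨c, hC hc⟩) hc)
    have h2 := congrArg Subtype.val h1
    rw [h.act] at h2
    exact h2
  · rintro hn _ ⟨y, hy, rfl⟩
    apply Subtype.ext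
    rw [h.act]
    exact hn y hy

/-- **`InN0` for the section** -/
theorem inN0 (h : Sc T B K E lam a) [Finite X] : InN0 X₁ (cm M E) (im a E) (im a (T1 T E)) (im a B) := by
  have hq := h.quo
  have hfin : Finite X₁ := Finite.of_surjective a h.surj
  have hBY : B ≤ YY T E := h.cmpM.cmp.B_le.trans T1_le_YY
  -- submodules
  have hirr : ∀ W : Subgroup (cm M E), (∀ x : X₁, ∀ w ∈ W, x • w ∈ W) →
      W = ⊤ ∨ ∀ e ∈ E, ∀ w ∈ W, e • (w : M) = w := by
    intro W hW
    have hmem : ∀ y ∈ YY T E, ∀ w ∈ W.map (cm M E).subtype, y • w ∈ W.map (cm M E).subtype := by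
      rintro y hy _ ⟨w, hw, rfl⟩
      refine ⟨a ⟨y, hy⟩ • w, hW _ w hw, ?_⟩
      exact h.act ⟨y, hy⟩ w
    rcases h.cmpM.irr (W.map (cm M E).subtype) (map_subtype_le _) (fun e he => hmem e (E_le_YY he))
      (fun t ht htn => hmem t (T1_le_YY ⟨ht, htn⟩)) with h1 | h1
    · left
      rw [eq_top_iff]
      intro w _
      have h2 : (w : M) ∈ W.map (cm M E).subtype := by
        rw [h1]
        exact w.2
      obtain ⟨w', hw', h3⟩ := h2
      have h4 : w' = w := Subtype.ext h3
      exact h4 ▸ hw'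
    · right
      intro e he w hw
      exact h1 e he _ ⟨w, hw, rfl⟩
  exact
    { sq := fun n => Subtype.ext (h.cmpM.cmp.mn.sq n)
      faith := h.faith
      irrK := fun W hW => by
        rcases hirr W hW with h1 | h1
        · exact Or.inl h1
        · right
          rintro _ ⟨y, hy, rfl⟩ w hw
          apply Subtype.ext
          rw [h.act]
          exact h1 y hy w hw
      point := by
        obtain ⟨z, hz, hzT, hzE⟩ := h.cmpM.point
        refine ⟨⟨z, hz⟩, ?_, ?_⟩
        · rintro _ ⟨t, ht, rfl⟩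
          apply Subtype.ext
          rw [h.act]
          exact hzT t ht.1 ht.2
        · rcases hirr (orb (⊤ : Subgroup X₁) ⟨z, hz⟩) (fun x w hw => smul_mem_orb (mem_top x) hw) with h1 | h1
          · exact h1
          · exact absurd (fun e he => h1 e he _ (mem_orb_self _ _)) hzE
      norm := hq.normal
      simple := hq.simple₁
      cen := h.cen
      gen := hq.sup_eq_top
      two := hq.two₁
      syl := hq.syl₁
      AT := im_mono h.cmpM.cmp.B_le
      el := by
        rintro _ ⟨b, hb, rfl⟩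
        rw [← map_mul]
        have h1 : b * b = 1 := Subtype.ext (h.cmpM.cmp.mn.el b hb)
        rw [h1, map_one]
      four := by
        rw [h.card_im le_rfl]
        exact h.cmpM.cmp.mn.four
      exact := by
        rw [h.cv_im hBY, h.card_im le_rfl]
        exact h.cmpM.exactN
      atom := fun C hC hC1 hC2 => by
        have h1 : im a (Quo.pre a C ⊓ B) = C := by
          apply le_antisymm
          · rintro _ ⟨y, hy, rfl⟩
            exact Quo.mem_pre.1 hy.1
          · intro c hc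
            obtain ⟨b, hb, rfl⟩ := hC hc
            exact ⟨b, ⟨Quo.mem_pre.2 hc, hb⟩, rfl⟩
        have h2 : (cv (cm M E) (C : Set X₁)).index = (cv M ((Quo.pre a C ⊓ B : Subgroup X) : Set X)).relIndex (cm M E) := by
          rw [← h1, h.cv_im (inf_le_right.trans hBY), h1]
          rfl
        rw [h2, ← h1, h.card_im inf_le_right, h1]
        refine h.cmpM.atomN _ inf_le_right ?_ ?_
        · intro h3
          apply hC1
          rw [← h1, h3, eq_bot_iff]
          rintro _ ⟨y, hy, rfl⟩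
          have h4 : y = 1 := Subtype.ext (mem_bot.1 hy)
          rw [h4, map_one]
          exact one_mem _
        · intro h3
          apply hC2
          rw [← h1, h3]
      low := fun R hR hRt => hq.low₁ h.cmpM.cmp.B_le h.cmpM.cmp.mn.low hR hRt
      nmax := hq.nmax₁ h.cmpM.cmp.not_le h.cmpM.cmp.mn.nmax }

end Sc

/-! ### The quotient by the kernel on `N` -/

namespace CmpM

/-- the action of `E N_T(E)` on `N` -/
def rep (h : CmpM T B K E lam) : YY T E →* MulAut (cm M E) where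
  toFun y :=
    { toFun := fun n => ⟨(y : X) • (n : M), h.smul_mem y.2 n.2⟩
      invFun := fun n => ⟨(y : X)⁻¹ • (n : M), h.smul_mem (inv_mem y.2) n.2⟩
      left_inv := fun n => Subtype.ext (inv_smul_smul (y : X) (n : M))
      right_inv := fun n => Subtype.ext (smul_inv_smul (y : X) (n : M))
      map_mul' := fun m n => Subtype.ext (smul_mul' (y : X) (m : M) n) }
  map_one' := by
    ext n
    exact one_smul X (n : M)
  map_mul' x y := by
    ext n
    exact mul_smul (x : X) (y : X) (n : M)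

theorem rep_apply (h : CmpM T B K E lam) (y : YY T E) (n : cm M E) : ((h.rep y n : cm M E) : M) = (y : X) • (n : M) := rfl

/-- `X₁` -/
abbrev Xq (h : CmpM T B K E lam) : Type u := YY T E ⧸ h.rep.ker

/-- the action of `X₁` on `N` -/
@[reducible] noncomputable def qact (h : CmpM T B K E lam) : MulDistribMulAction h.Xq (cm M E) :=
  MulDistribMulAction.compHom (cm M E) (QuotientGroup.kerLift h.rep)

/-- **the section** -/
theorem sc (h : CmpM T B K E lam) : letI := h.qact; Sc T B K E lam (QuotientGroup.mk' h.rep.ker) := by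
  letI := h.qact
  refine ⟨h, QuotientGroup.mk'_surjective _, fun y n => rfl, fun x hx => ?_⟩
  apply QuotientGroup.kerLift_injective h.rep
  rw [map_one]
  ext n
  exact congrArg Subtype.val (hx n)

end CmpM

end Cfsg.Agent.Omega.ML.Ex.Red
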