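import Cfsg.Agent.Omega.ML.Ex.RedDef

/-!
# (E1) of EXT (#22253, 585): THEOREM RED carries two `T`-fixed vectors to one component (helper690)

`X = KT`, `K = E × C_K(E)` as in `CmpM`, `M` irreducible.  Then `M = [M,E] × C_M(E)`; the components in `[M,E]` of two
`T`-fixed vectors `x, y ≠ 1` are `≠ 1` and `N_T(E)`-fixed, and if an overgroup `R` of `T` fixes `y` and moves `x`, then
an overgroup `R₁ ≤ E N_T(E)` of `N_T(E)` fixes the component of `y` and moves the component of `x`.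

* `Mv T x y` : two `T`-fixed vectors and such an `R`;
* **`CmpM.exists_mv`** : the result inside `X`;
* **`CmpM.mv`** : the result for a group `X₁` acting on `[M,E]` and `φ : E N_T(E) → X₁`.
-/

set_option autoImplicit false

namespace Cfsg.Agent.Omega.ML.Ex.Red

open Subgroup Cfsg Cfsg.Agent.ZN Cfsg.Agent.Omega.NOThree.NoOver Cfsg.Agent.Omega.ML.CD
open Cfsg.Agent.ClassTwoFusion.Quad Cfsg.Agent.Omega.ML.MinFrame

universe u v w

variable {X : Type u} [Group X] {M : Type v} [Group M] [MulDistribMulAction X M]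

/-- Two `T`-fixed vectors `x, y ≠ 1` and an overgroup of `T` which fixes `y` and moves `x`. -/
structure Mv (T : Subgroup X) (x y : M) : Prop where
  xT : ∀ t ∈ T, t • x = x
  yT : ∀ t ∈ T, t • y = y
  x1 : x ≠ 1
  y1 : y ≠ 1
  mv : ∃ R : Subgroup X, T ≤ R ∧ (∀ r ∈ R, r • y = y) ∧ ∃ r ∈ R, r • x ≠ x

variable {T B K E : Subgroup X} {lam : M}

/-- `g` with `[M,g] ≤ U` -/
def into (U : Subgroup M) (sq : ∀ m : M, m * m = 1) : Subgroup X where
  carrier := {g | ∀ m : M, g • m * m ∈ U}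
  one_mem' := fun m => by rw [one_smul, sq]; exact U.one_mem
  mul_mem' := by
    intro g k hg hk m
    have h1 : (g * k) • m * m = (g • (k • m) * (k • m)) * (k • m * m) := by
      rw [mul_smul, mul_assoc (g • k • m), ← mul_assoc (k • m) (k • m), sq, one_mul]
    rw [h1]
    exact U.mul_mem (hg _) (hk m)
  inv_mem' := by
    intro g hg m
    have h1 := hg (g⁻¹ • m)
    rw [smul_inv_smul] at h1
    have h2 : g⁻¹ • m * m = (m * g⁻¹ • m)⁻¹ := by
      rw [mul_inv_rev, inv_eq_of_mul_eq_one_right (sq m), inv_eq_of_mul_eq_one_right (sq (g⁻¹ • m))]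
    rw [h2]
    exact U.inv_mem h1

theorem mem_sup_comm {E C : Subgroup X} (hC : C ≤ centralizer (E : Set X)) {g : X} (hg : g ∈ E ⊔ C) :
    ∃ e ∈ E, ∃ c ∈ C, e * c = g := by
  let U : Subgroup X :=
    { carrier := {g | ∃ e ∈ E, ∃ c ∈ C, e * c = g}
      one_mem' := ⟨1, E.one_mem, 1, C.one_mem, one_mul 1⟩
      mul_mem' := by
        rintro _ _ ⟨e, he, c, hc, rfl⟩ ⟨f, hf, d, hd, rfl⟩
        refine ⟨e * f, E.mul_mem he hf, c * d, C.mul_mem hc hd, ?_⟩
        have h2 : f * c = c * f := mem_centralizer_iff.1 (hC hc) f hf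
        rw [mul_assoc e f, ← mul_assoc f c d, h2, mul_assoc c f d, ← mul_assoc e c]
      inv_mem' := by
        rintro _ ⟨e, he, c, hc, rfl⟩
        refine ⟨e⁻¹, E.inv_mem he, c⁻¹, C.inv_mem hc, ?_⟩
        have h2 : e * c = c * e := mem_centralizer_iff.1 (hC hc) e he
        rw [h2, mul_inv_rev] }
  have h1 : E ⊔ C ≤ U := sup_le (fun e he => ⟨e, he, 1, C.one_mem, mul_one e⟩)
    fun c hc => ⟨1, E.one_mem, c, hc, one_mul c⟩
  exact h1 hg

namespace CmpM

/-- `E^{t⁻¹}` is in `C_K(E)` -/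
theorem conj_inv (h : CmpM T B K E lam) {t : X} (ht : t ∈ T) (htn : t ∉ normalizer (E : Set X)) {f : X}
    (hf : f ∈ E) : t⁻¹ * f * t ∈ K ∧ t⁻¹ * f * t ∈ centralizer (E : Set X) := by
  constructor
  · have := h.cmp.normK.conj_mem f (h.cmp.EK hf) t⁻¹
    rwa [inv_inv] at this
  · refine h.cmp.conj t⁻¹ (T.inv_mem ht) (fun h1 => htn (by simpa using inv_mem h1)) ⟨f, hf, ?_⟩
    simp

/-- `M = [M,E] C_M(E)` for irreducible `M` -/
theorem sup_top (h : CmpM T B K E lam)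
    (irr : ∀ W : Subgroup M, (∀ g : X, ∀ w ∈ W, g • w ∈ W) → W = ⊥ ∨ W = ⊤) (m : M) :
    m ∈ cm M E ⊔ cv M (E : Set X) := by
  have h1 : K ≤ into (X := X) (cm M E ⊔ cv M (E : Set X)) h.cmp.mn.sq := by
    refine h.cmp.tcl.trans (tcl_le fun t ht => ?_)
    rintro _ ⟨e, he, rfl⟩ n
    by_cases htn : t ∈ normalizer (E : Set X)
    · have h2 : t * e * t⁻¹ ∈ E := (mem_normalizer_iff.1 htn e).1 he
      exact mem_sup_left (mem_cm h2 n)
    · refine mem_sup_right fun f hf => ?_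
      obtain ⟨h3, h4⟩ := h.conj_inv ht htn hf
      have e1 : (MulAut.conj t) e • n * n = t • (e • (t⁻¹ • n) * (t⁻¹ • n)) := by
        rw [MulAut.conj_apply, smul_mul', smul_inv_smul, mul_smul, mul_smul]
      change f • ((MulAut.conj t) e • n * n) = (MulAut.conj t) e • n * n
      rw [e1]
      have h5 := h.cenN _ h3 h4 _ (mem_cm he (t⁻¹ • n))
      rw [mul_smul, mul_smul, inv_smul_eq_iff] at h5
      exact h5
  have h2 : cm M K = ⊤ := by
    refine (irr (cm M K) fun g w hw => smul_mem_cm ?_ hw).resolve_left fun h3 => ?_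
    · rw [@normalizer_eq_top _ _ K h.cmp.normK]
      trivial
    · have hs := h.cmp.simple
      obtain ⟨e, he⟩ := exists_ne (1 : E)
      refine he (Subtype.ext (h.cmp.mn.faith e fun n => ?_))
      have h4 : (e : X) • n * n ∈ cm M K := mem_cm (h.cmp.EK e.2) n
      rw [h3, mem_bot] at h4
      rw [eq_inv_of_mul_eq_one_left h4, inv_eq_of_mul_eq_one_right (h.cmp.mn.sq n)]
  have h3 : cm M K ≤ cm M E ⊔ cv M (E : Set X) := cm_le fun k hk n => h1 hk n
  rw [h2] at h3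
  exact h3 trivial

/-- `C_M(K) = 1` for irreducible `M` -/
theorem cvK (h : CmpM T B K E lam)
    (irr : ∀ W : Subgroup M, (∀ g : X, ∀ w ∈ W, g • w ∈ W) → W = ⊥ ∨ W = ⊤) {m : M}
    (hm : ∀ k ∈ K, k • m = m) : m = 1 := by
  have h1 : cv M (K : Set X) = ⊥ := by
    refine (irr (cv M (K : Set X)) fun g w hw k hk => ?_).resolve_right fun h3 => ?_
    · have h1 : g⁻¹ * k * g ∈ K := by
        have := h.cmp.normK.conj_mem k hk g⁻¹
        rwa [inv_inv] at this
      have h2 := hw _ h1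
      rw [mul_smul, mul_smul, inv_smul_eq_iff] at h2
      exact h2
    · have hs := h.cmp.simple
      obtain ⟨e, he⟩ := exists_ne (1 : E)
      refine he (Subtype.ext (h.cmp.mn.faith e fun n => ?_))
      have h4 : n ∈ cv M (K : Set X) := h3 ▸ mem_top n
      exact h4 e (h.cmp.EK e.2)
  have h2 : m ∈ cv M (K : Set X) := hm
  rwa [h1, mem_bot] at h2

/-- `[M,E] ∩ C_M(E) = 1` for irreducible `M` -/
theorem inf_bot (h : CmpM T B K E lam)
    (irr : ∀ W : Subgroup M, (∀ g : X, ∀ w ∈ W, g • w ∈ W) → W = ⊥ ∨ W = ⊤) {m : M}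
    (h1 : m ∈ cm M E) (h2 : ∀ e ∈ E, e • m = m) : m = 1 := by
  refine h.cvK irr fun k hk => ?_
  have h3 : E ⊔ (K ⊓ centralizer (E : Set X)) ≤ MulAction.stabilizer X m := by
    refine sup_le (fun e he => MulAction.mem_stabilizer_iff.2 (h2 e he)) fun f hf => ?_
    exact MulAction.mem_stabilizer_iff.2 (h.cenN f hf.1 hf.2 m h1)
  rw [h.cmp.sup] at h3
  exact MulAction.mem_stabilizer_iff.1 (h3 hk)

/-- uniqueness of the decomposition -/
theorem uniq (h : CmpM T B K E lam)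
    (irr : ∀ W : Subgroup M, (∀ g : X, ∀ w ∈ W, g • w ∈ W) → W = ⊥ ∨ W = ⊤) {a a' b b' : M}
    (ha : a ∈ cm M E) (hb : b ∈ cm M E) (ha' : a' ∈ cv M (E : Set X)) (hb' : b' ∈ cv M (E : Set X))
    (hab : a * a' = b * b') : a = b ∧ a' = b' := by
  have h1 : b⁻¹ * a = b' * a'⁻¹ := by
    rw [inv_mul_eq_iff_eq_mul, ← mul_assoc, ← hab, mul_inv_cancel_right]
  have h2 : b⁻¹ * a = 1 := by
    refine h.inf_bot irr ((cm M E).mul_mem ((cm M E).inv_mem hb) ha) fun e he => ?_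
    rw [h1]
    exact ((cv M (E : Set X)).mul_mem hb' ((cv M (E : Set X)).inv_mem ha')) e he
  rw [inv_mul_eq_one] at h2
  refine ⟨h2.symm, ?_⟩
  rw [h2] at hab
  exact mul_left_cancel hab

/-- a `T`-fixed vector which is fixed by `E` is `1` -/
theorem eq_one_of_fix (h : CmpM T B K E lam)
    (irr : ∀ W : Subgroup M, (∀ g : X, ∀ w ∈ W, g • w ∈ W) → W = ⊥ ∨ W = ⊤) {x : M}
    (h2 : ∀ t ∈ T, ∀ e ∈ E, (t * e * t⁻¹) • x = x) : x = 1 := by
  refine h.cvK irr fun k hk => ?_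
  have h3 : tcl T E ≤ MulAction.stabilizer X x := by
    refine tcl_le fun t ht => ?_
    rintro _ ⟨e, he, rfl⟩
    exact MulAction.mem_stabilizer_iff.2 (h2 t ht e he)
  exact MulAction.mem_stabilizer_iff.1 (h3 (h.cmp.tcl hk))

/-- `N(E)` acts on `C_M(E)` -/
theorem smul_mem_cv {g : X} (hg : g ∈ normalizer (E : Set X)) {m : M} (hm : m ∈ cv M (E : Set X)) :
    g • m ∈ cv M (E : Set X) := by
  intro e he
  have h1 : g⁻¹ * e * g ∈ E := by
    have := (mem_normalizer_iff.1 (inv_mem hg) e).1 he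
    rwa [inv_inv] at this
  have h2 := hm _ h1
  rw [mul_smul, mul_smul, inv_smul_eq_iff] at h2
  exact h2

/-- **The component of a `T`-fixed vector.** -/
theorem exists_part (h : CmpM T B K E lam)
    (irr : ∀ W : Subgroup M, (∀ g : X, ∀ w ∈ W, g • w ∈ W) → W = ⊥ ∨ W = ⊤) {x : M}
    (hx : ∀ t ∈ T, t • x = x) (hx1 : x ≠ 1) :
    ∃ a ∈ cm M E, ∃ a' ∈ cv M (E : Set X), x = a * a' ∧ a ≠ 1 ∧
      ∀ t ∈ T, t ∈ normalizer (E : Set X) → t • a = a := by
  have hN : (cv M (E : Set X)).Normal := ⟨fun x hx g => by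
    rw [comm_of_sq' h.cmp.mn.sq g x, mul_inv_cancel_right]; exact hx⟩
  obtain ⟨a, ha, a', ha', hxa⟩ := mem_sup_of_normal_right.1 (h.sup_top irr x)
  refine ⟨a, ha, a', ha', hxa.symm, ?_, ?_⟩
  · rintro rfl
    rw [one_mul] at hxa
    subst hxa
    refine hx1 (h.eq_one_of_fix irr fun t ht e he => ?_)
    have h1 : t⁻¹ • a' = a' := hx _ (T.inv_mem ht)
    rw [mul_smul, mul_smul, h1, ha' e he, hx t ht]
  · intro t ht htn
    refine (h.uniq irr (smul_mem_cm htn ha) ha (smul_mem_cv htn ha') ha' ?_).1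
    rw [← smul_mul', hxa, hx t ht]

/-- **(E1), inside `X`.** -/
theorem exists_mv (h : CmpM T B K E lam)
    (irr : ∀ W : Subgroup M, (∀ g : X, ∀ w ∈ W, g • w ∈ W) → W = ⊥ ∨ W = ⊤) {x y : M} (hm : Mv T x y) :
    ∃ a ∈ cm M E, ∃ b ∈ cm M E, a ≠ 1 ∧ b ≠ 1 ∧ (∀ t ∈ T, t ∈ normalizer (E : Set X) → t • a = a) ∧
      (∀ t ∈ T, t ∈ normalizer (E : Set X) → t • b = b) ∧
      ∃ R : Subgroup X, T ⊓ normalizer (E : Set X) ≤ R ∧ R ≤ E ⊔ (T ⊓ normalizer (E : Set X)) ∧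
        (∀ r ∈ R, r • b = b) ∧ ∃ r ∈ R, r ∈ E ∧ r • a ≠ a := by
  obtain ⟨R, hTR, hy, r, hr, hrx⟩ := hm.mv
  obtain ⟨a, ha, a', ha', hxa, ha1, hat⟩ := h.exists_part irr hm.xT hm.x1
  obtain ⟨b, hb, b', hb', hyb, hb1, hbt⟩ := h.exists_part irr hm.yT hm.y1
  have hnc : ∀ c ∈ centralizer (E : Set X), c ∈ normalizer (E : Set X) := fun c hc =>
    (centralizer_le_normalizer (E : Set X)) hc
  -- the projection of `R ∩ K` to `E`
  let RE : Subgroup X :=
    { carrier := {e | e ∈ E ∧ ∃ c ∈ K, c ∈ centralizer (E : Set X) ∧ e * c ∈ R}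
      one_mem' := ⟨E.one_mem, 1, K.one_mem, Subgroup.one_mem _, by rw [one_mul]; exact R.one_mem⟩
      mul_mem' := by
        rintro e f ⟨he, c, hcK, hcc, hec⟩ ⟨hf, d, hdK, hdc, hfd⟩
        refine ⟨E.mul_mem he hf, c * d, K.mul_mem hcK hdK, Subgroup.mul_mem _ hcc hdc, ?_⟩
        have h1 : e * f * (c * d) = (e * c) * (f * d) := by
          have h2 : f * c = c * f := mem_centralizer_iff.1 hcc f hf
          rw [mul_assoc e f, ← mul_assoc f c d, h2, mul_assoc c f d, ← mul_assoc e c]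
        rw [h1]
        exact R.mul_mem hec hfd
      inv_mem' := by
        rintro e ⟨he, c, hcK, hcc, hec⟩
        refine ⟨E.inv_mem he, c⁻¹, K.inv_mem hcK, Subgroup.inv_mem _ hcc, ?_⟩
        have h1 : e⁻¹ * c⁻¹ = (e * c)⁻¹ := by
          have h2 : e * c = c * e := mem_centralizer_iff.1 hcc e he
          rw [h2, mul_inv_rev]
        rw [h1]
        exact R.inv_mem hec }
  have hREb : ∀ e ∈ RE, e • b = b := by
    rintro e ⟨he, c, hcK, hcc, hec⟩
    have h1 := hy _ hec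
    rw [hyb, smul_mul', mul_smul, mul_smul, h.cenN c hcK hcc b hb] at h1
    have h2 : c • b' ∈ cv M (E : Set X) := smul_mem_cv (hnc c hcc) hb'
    rw [h2 e he] at h1
    exact (h.uniq irr (smul_mem_cm (le_normalizer he) hb) hb h2 hb' h1).1
  refine ⟨a, ha, b, hb, ha1, hb1, hat, hbt, RE ⊔ (T ⊓ normalizer (E : Set X)), le_sup_right,
    sup_le_sup_right (fun e he => he.1) _, ?_, ?_⟩
  · have h1 : RE ⊔ (T ⊓ normalizer (E : Set X)) ≤ MulAction.stabilizer X b :=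
      sup_le (fun e he => MulAction.mem_stabilizer_iff.2 (hREb e he))
        fun t ht => MulAction.mem_stabilizer_iff.2 (hbt t ht.1 ht.2)
    exact fun r hr => MulAction.mem_stabilizer_iff.1 (h1 hr)
  · by_contra hcon
    push Not at hcon
    have hREa : ∀ e ∈ RE, e • a = a := fun e he => hcon e (mem_sup_left he) he.1
    -- `g x x ∈ C_M(E)` for `g ∈ R ∩ K`
    have h1 : ∀ g ∈ R, g ∈ K → g • x * x ∈ cv M (E : Set X) := by
      intro g hgR hgK
      have h2 : g ∈ E ⊔ (K ⊓ centralizer (E : Set X)) := by rw [h.cmp.sup]; exact hgK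
      have h3 : ∃ e ∈ E, ∃ c ∈ K ⊓ centralizer (E : Set X), e * c = g := by
        exact mem_sup_comm inf_le_right h2
      obtain ⟨e, he, c, ⟨hcK, hcc⟩, rfl⟩ := h3
      have h4 : e • a = a := hREa e ⟨he, c, hcK, hcc, hgR⟩
      have h5 : (e * c) • x * x = (c • a') * a' := by
        have h6 : c • a' ∈ cv M (E : Set X) := smul_mem_cv (hnc c hcc) ha'
        rw [hxa, smul_mul', mul_smul, mul_smul, h.cenN c hcK hcc a ha, h4, h6 e he,
          comm_of_sq' h.cmp.mn.sq a (c • a'), mul_assoc, ← mul_assoc a, h.cmp.mn.sq, one_mul]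
      rw [h5]
      exact Subgroup.mul_mem _ (smul_mem_cv (hnc c hcc) ha') ha'
    -- so `R ∩ K` fixes `x`
    have h2 : ∀ g ∈ R, g ∈ K → g • x = x := by
      intro g hgR hgK
      have h3 : g • x * x = 1 := by
        refine h.eq_one_of_fix irr fun t ht e he => ?_
        have h4 : t⁻¹ * g * t ∈ R := R.mul_mem (R.mul_mem (R.inv_mem (hTR ht)) hgR) (hTR ht)
        have h5 : t⁻¹ * g * t ∈ K := by
          have := h.cmp.normK.conj_mem g hgK t⁻¹
          rwa [inv_inv] at this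
        have h6 := h1 _ h4 h5 e he
        have h7 : (t⁻¹ * g * t) • x * x = t⁻¹ • (g • x * x) := by
          rw [smul_mul', hm.xT _ (T.inv_mem ht), mul_smul, mul_smul, hm.xT t ht]
        rw [h7] at h6
        rw [mul_smul, mul_smul, h6, smul_inv_smul]
      rw [eq_inv_of_mul_eq_one_left h3, inv_eq_of_mul_eq_one_right (h.cmp.mn.sq x)]
    apply hrx
    have h3 : r ∈ K ⊔ T := by rw [h.cmp.gen]; trivial
    have hK := h.cmp.normK
    obtain ⟨k, hk, t, ht, rfl⟩ := mem_sup_of_normal_left.1 h3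
    have h4 : k ∈ R := by
      have := R.mul_mem hr (R.inv_mem (hTR ht))
      rwa [mul_inv_cancel_right] at this
    rw [mul_smul, hm.xT t ht, h2 k h4 hk]

/-- **(E1).** `X₁` acts on `[M,E]`, `φ : E N_T(E) → X₁` is compatible with the actions. -/
theorem mv (h : CmpM T B K E lam)
    (irr : ∀ W : Subgroup M, (∀ g : X, ∀ w ∈ W, g • w ∈ W) → W = ⊥ ∨ W = ⊤) {x y : M} (hm : Mv T x y)
    {X₁ : Type w} [Group X₁] [MulDistribMulAction X₁ (cm M E)]
    (φ : ((E ⊔ (T ⊓ normalizer (E : Set X)) : Subgroup X)) →* X₁)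
    (hφ : ∀ (g : (E ⊔ (T ⊓ normalizer (E : Set X)) : Subgroup X)) (n : cm M E), ((φ g • n : cm M E) : M) = (g : X) • (n : M))
    (T₁ : Subgroup X₁) (hT₁ : T₁ = (T.subgroupOf (E ⊔ (T ⊓ normalizer (E : Set X)))).map φ) :
    ∃ x₁ y₁ : cm M E, Mv T₁ x₁ y₁ := by
  obtain ⟨a, ha, b, hb, ha1, hb1, hat, hbt, R, hTR, hRY, hRb, r, hr, hrE, hra⟩ := h.exists_mv irr hm
  have hY : E ⊔ (T ⊓ normalizer (E : Set X)) ≤ normalizer (E : Set X) := sup_le le_normalizer inf_le_right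
  refine ⟨⟨a, ha⟩, ⟨b, hb⟩, ?_, ?_, fun h1 => ha1 (congrArg Subtype.val h1), fun h1 => hb1 (congrArg Subtype.val h1),
    (R.subgroupOf (E ⊔ (T ⊓ normalizer (E : Set X)))).map φ, ?_, ?_, φ ⟨r, hRY hr⟩, ⟨⟨r, hRY hr⟩, hr, rfl⟩, ?_⟩
  · rw [hT₁]
    rintro _ ⟨t, ht, rfl⟩
    exact Subtype.ext ((hφ _ _).trans (hat t ht (hY t.2)))
  · rw [hT₁]
    rintro _ ⟨t, ht, rfl⟩
    exact Subtype.ext ((hφ _ _).trans (hbt t ht (hY t.2)))
  · rw [hT₁]
    exact map_mono fun t ht => hTR ⟨ht, hY t.2⟩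
  · rintro _ ⟨g, hg, rfl⟩
    exact Subtype.ext ((hφ _ _).trans (hRb g hg))
  · intro h1
    exact hra ((hφ _ _).symm.trans (congrArg Subtype.val h1))

end CmpM

end Cfsg.Agent.Omega.ML.Ex.Red
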