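import Cfsg.Agent.Omega.ML.Ex.Two
import Cfsg.Agent.Omega.ML.Ex.RedTwo
import Cfsg.Agent.Omega.ML.Ex.Red3
import Cfsg.Agent.Omega.ML.Ex.RedAsm

/-!
# (E1) of EXT: `RedT` (helper690)

* `mn_of_sysT` : `SysT H M T A x y → Mn T A x`;
* `Sc.inX`, `Sc.atm` : the section of one component of an irreducible module: `InX X₁ N K₁ T₁ B₁` and `Atm N B₁`;
* `Sc.known` : `K₁` is a known simple group;
* **`redT_of (ml : MLK) : RedT`**.
-/

set_option autoImplicit false
set_option linter.style.haveILetI false

namespace Cfsg.Agent.Omega.ML.Ex.Red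

open Subgroup Cfsg Cfsg.Agent.ZN Cfsg.Agent.Omega.NOThree.NoOver Cfsg.Agent.Omega.ML.CD
open Cfsg.Agent.ClassTwoFusion.Quad Cfsg.Agent.Omega.ML.MinFrame Cfsg.Agent.Omega.ML.Ex.SecLow

universe u v w

/-- a non-abelian simple subgroup of a K-group is known -/
theorem known_of_le {X : Type u} [Group X] [Finite X] (hX : IsKGroup X) (B : Subgroup X) (hs : IsSimpleGroup B)
    (hna : ¬ IsMulCommutative B) : IsKnownSimple' B := by
  have h2 : IsKGroup B := Final.sec_KG.sub X hX B
  let e0 : ↥(⊤ : Subgroup B) ⧸ (⊥ : Subgroup ↥(⊤ : Subgroup B)) ≃* B :=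
    (QuotientGroup.quotientBot).trans Subgroup.topEquiv
  have h4 := h2 ⊤ ⊥ (Final.simple_congr e0.symm hs) (Final.not_comm_congr e0.symm hna)
  exact OddHalf.Known.isKnownSimple'_congr e0 (Final.not_comm_congr e0.symm hna) h4

section

variable {X : Type u} [Group X] {M : Type v} [Group M] [MulDistribMulAction X M] {T B K E : Subgroup X} {lam : M}

/-- the input of RED -/
theorem mn_of_sysT {x y : M} (h : Two.SysT X M T B x y) : Mn T B x where
  sq := h.sq
  faith := h.faith
  gen := by
    rcases h.irr (orb (⊤ : Subgroup X) x) (fun g w hw => smul_mem_orb (mem_top g) hw) with h1 | h1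
    · have h2 := mem_orb_self (⊤ : Subgroup X) x
      rw [h1, mem_bot] at h2
      exact absurd h2 h.x1
    · exact h1
  fixT := h.tx
  odd := h.odd
  two := h.two
  syl := h.syl
  el := h.el
  four := h.four
  exact := h.exact
  atom := h.atom
  low := h.low
  nmax := h.nmax

namespace Sc

variable {X₁ : Type w} [Group X₁] [MulDistribMulAction X₁ (cm M E)] {a : YY T E →* X₁}

/-- the atom of the section -/
theorem atm (h : Sc T B K E lam a) [Finite X] : Atm (cm M E) (im a B) := h.inN0.atom

/-- **the section of an irreducible module** -/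
theorem inX (h : Sc T B K E lam a) [Finite X]
    (irr : ∀ W : Subgroup M, (∀ g : X, ∀ w ∈ W, g • w ∈ W) → W = ⊥ ∨ W = ⊤) :
    InX X₁ (cm M E) (im a E) (im a (T1 T E)) (im a B) := by
  have h0 := h.inN0
  exact
    { sq := h0.sq
      faith := h0.faith
      irr := by
        intro W hW
        rcases h0.irrK W hW with h1 | h1
        · exact Or.inr h1
        · left
          rw [eq_bot_iff]
          intro w hw
          rw [mem_bot]
          apply Subtype.ext
          refine h.cmpM.inf_bot irr w.2 fun e he => ?_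
          have h2 := h1 (a ⟨e, E_le_YY he⟩) (apply_mem_im (y := ⟨e, E_le_YY he⟩) he) w hw
          have h3 := congrArg Subtype.val h2
          rw [h.act] at h3
          exact h3
      norm := h0.norm
      simple := h0.simple
      cen := h0.cen
      gen := h0.gen
      two := h0.two
      syl := h0.syl
      AT := h0.AT
      el := h0.el
      four := h0.four
      exact := h0.exact
      sub := by
        intro C hC
        by_cases h1 : C = ⊥
        · subst h1
          have h2 : cv (cm M E) ((⊥ : Subgroup X₁) : Set X₁) = ⊤ := by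
            rw [eq_top_iff]
            intro m _ c hc
            rw [SetLike.mem_coe, mem_bot] at hc
            rw [hc, one_smul]
          rw [h2, index_top, card_bot]
        · by_cases h2 : C = im a B
          · rw [h2, h0.exact]
          · exact (h0.atom C hC h1 h2).le
      low := h0.low
      nmax := h0.nmax }

omit [MulDistribMulAction X₁ (cm M E)] in
theorem T₁_eq : im a (T1 T E) = (T.subgroupOf (E ⊔ (T ⊓ normalizer (E : Set X)))).map a := by
  have hY : YY T E ≤ normalizer (E : Set X) := sup_le le_normalizer inf_le_right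
  have h1 : (T1 T E).subgroupOf (YY T E) = T.subgroupOf (YY T E) := by
    ext t
    exact ⟨fun ht => ht.1, fun ht => ⟨ht, hY t.2⟩⟩
  change ((T1 T E).subgroupOf (YY T E)).map a = (T.subgroupOf (YY T E)).map a
  rw [h1]

end Sc

/-- `K₁` is known -/
theorem Sc.known {X₁ : Type u} [Group X₁] [MulDistribMulAction X₁ (cm M E)] {a : YY T E →* X₁}
    (h : Sc T B K E lam a) [Finite X] (hX : IsKGroup X) : IsKnownSimple' (im a E) := by
  have hfin : Finite X₁ := Finite.of_surjective a h.surj
  have hs : IsSimpleGroup (im a E) := h.inN0.simple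
  refine known_of_le (Final.kgroup_of_surj hX (YY T E) a h.surj) _ hs fun hc => ?_
  have h1 : im a E ≤ centralizer (im a E : Set X₁) := by
    intro x hx
    rw [mem_centralizer_iff]
    intro y hy
    exact congrArg Subtype.val (hc.is_comm.comm (⟨y, hy⟩ : im a E) ⟨x, hx⟩)
  rw [h.cen, le_bot_iff] at h1
  obtain ⟨x, hx⟩ := exists_ne (1 : im a E)
  exact hx (Subtype.ext (mem_bot.1 (h1 ▸ x.2)))

end

/-- **(E1)** -/
theorem redT_of (ml : Final.MLK.{u, v}) : Two.RedT.{u, v} := by
  intro H _ _ M _ _ _ T A x y h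
  obtain ⟨K, E, hC⟩ := (mn_of_sysT h).exists_cmpM ml h.KH
  letI := hC.qact
  have hs := hC.sc
  have hI := hs.inX h.irr
  have hm : Mv T x y := ⟨h.tx, h.ty, h.x1, h.y1, h.mv⟩
  obtain ⟨x₁, y₁, h1⟩ := hC.mv h.irr hm (QuotientGroup.mk' hC.rep.ker) hs.act (im (QuotientGroup.mk' hC.rep.ker) (T1 T E))
    Sc.T₁_eq
  refine ⟨hC.Xq, inferInstance, inferInstance, cm M E, inferInstance, inferInstance, hC.qact, _, _, _, x₁, y₁, hI,
    hs.atm, ⟨h1.x1, h1.y1, h1.xT, h1.yT, h1.mv⟩, ?_⟩
  exact hs.known h.KH

end Cfsg.Agent.Omega.ML.Ex.Red
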