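import Cfsg.Agent.Omega.ML.Ex.Two
import Cfsg.Agent.Omega.ML.Ex.RedT
import Cfsg.Agent.Omega.ML.Ex.KnownDone
import Cfsg.Agent.Omega.ML.Ex.UThreeTwo
import Cfsg.Agent.Omega.ML.LieRow.CRB.LieT
import Cfsg.Agent.Omega.ML.KnownAll

/-!
# EXT, closed (helper585)

* **`ext`** : `Ext` : the situation `SysT` (an exact low atom and two `T`-fixed vectors) is impossible;
* `SysT.false` : the same for one `SysT`.

Inputs: `redT` (helper995, 844, 690), `KnownDone.exitN` (helper441, 484 and the rows), `CRB.lieT` (helper951),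
`uThreeT` (helper919), `KnownAll.mlk`.
-/

set_option autoImplicit false

namespace Cfsg.Agent.Omega.ML.Ex.Two

universe u v

/-- **EXT.** -/
theorem ext : Ext.{u, v} :=
  ext_of (Red.redT_of KnownAll.mlk) KnownDone.exitN LieRow.CRB.lieT uThreeT

/-- **EXT** for one `SysT` -/
theorem SysT.false {H : Type u} [Group H] [Finite H] {M : Type v} [Group M] [Finite M] [MulDistribMulAction H M]
    {T A : Subgroup H} {x y : M} (h : SysT H M T A x y) : False :=
  ext H M T A x y h

end Cfsg.Agent.Omega.ML.Ex.Two
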