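import Cfsg.Agent.Omega.ML.Ex.DefN
import Cfsg.Agent.Omega.ML.Comp
import Cfsg.Agent.Omega.ML.Final

/-!
# THEOREM RED (#21158 = #21163 = #21287): the literal structures (helper995)

* `Mn T B lam` : the INPUT: `X` faithful on `M = ⟨lam^X⟩`, `T` a Sylow 2-subgroup fixing `lam`, no normal subgroup of odd
  order, `B` an exact atom with `|B| ≥ 4` and `B ≤ O₂(R)` for all `T ≤ R < X`, `T` in two maximal subgroups;
* `cm M E = [M,E]`;
* `Cmp T B K E lam` : one component: `K ⊴ X`, `X = KT`, `C_X(K) = 1`, `K = ⟨E^T⟩`, `E` simple, `K = E × C_K(E)`,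
  the other `T`-conjugates of `E` are in `C_K(E)`, `B` normalises `E`;
* `CmpM T B K E lam` : with the module facts for `N = [M,E]`, `Y = E N_T(E)`.
-/

set_option autoImplicit false

namespace Cfsg.Agent.Omega.ML.Ex.Red

open Subgroup Cfsg Cfsg.Agent.ZN Cfsg.Agent.Omega.NOThree.NoOver Cfsg.Agent.Omega.ML.CD
open Cfsg.Agent.ClassTwoFusion.Quad Cfsg.Agent.Omega.ML.MinFrame
open Cfsg.Agent.MinSimple.VModule (o2_isPGroup o2_le le_o2 le_normalizer_o2)

universe u v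

variable {X : Type u} [Group X] {M : Type v} [Group M] [MulDistribMulAction X M]

/-- **The input of RED.** -/
structure Mn (T B : Subgroup X) (lam : M) : Prop where
  sq : ∀ m : M, m * m = 1
  faith : ∀ x : X, (∀ m : M, x • m = m) → x = 1
  gen : orb (⊤ : Subgroup X) lam = ⊤
  fixT : ∀ t ∈ T, t • lam = lam
  odd : ∀ N : Subgroup X, N.Normal → Odd (Nat.card N) → N = ⊥
  two : IsPGroup 2 T
  syl : ¬ 2 ∣ T.index
  el : ∀ b ∈ B, b * b = 1
  four : 4 ≤ Nat.card B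
  exact : (cv M (B : Set X)).index = Nat.card B
  atom : ∀ C : Subgroup X, C ≤ B → C ≠ ⊥ → C ≠ B → Nat.card C < (cv M (C : Set X)).index
  low : ∀ R : Subgroup X, T ≤ R → R ≠ ⊤ → B ≤ o2 R
  nmax : ¬ ∃ L : Subgroup X, L ≠ ⊤ ∧ ∀ R : Subgroup X, T ≤ R → R ≠ ⊤ → R ≤ L

variable (M) in
/-- `[M,E]` -/
def cm (E : Subgroup X) : Subgroup M := closure {m | ∃ e ∈ E, ∃ n : M, m = e • n * n}

theorem mem_cm {E : Subgroup X} {e : X} (he : e ∈ E) (n : M) : e • n * n ∈ cm M E := subset_closure ⟨e, he, n, rfl⟩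

theorem cm_le {E : Subgroup X} {U : Subgroup M} (h : ∀ e ∈ E, ∀ n : M, e • n * n ∈ U) : cm M E ≤ U := by
  rw [cm, closure_le]
  rintro _ ⟨e, he, n, rfl⟩
  exact h e he n

/-- `[M,E]` is invariant under `N(E)` -/
theorem smul_mem_cm {E : Subgroup X} {g : X} (hg : g ∈ normalizer (E : Set X)) {m : M} (hm : m ∈ cm M E) :
    g • m ∈ cm M E := by
  have h1 : cm M E ≤ (cm M E).comap (MulDistribMulAction.toMonoidHom M g) := by
    refine cm_le fun e he n => ?_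
    change g • (e • n * n) ∈ cm M E
    have e1 : g • (e • n * n) = (g * e * g⁻¹) • (g • n) * (g • n) := by
      rw [smul_mul', mul_smul, mul_smul, inv_smul_smul]
    rw [e1]
    exact mem_cm ((mem_normalizer_iff.1 hg e).1 he) _
  exact h1 hm

/-- **One component.** -/
structure Cmp (T B K E : Subgroup X) (lam : M) : Prop where
  mn : Mn T B lam
  normK : K.Normal
  cenK : centralizer (K : Set X) = ⊥
  gen : K ⊔ T = ⊤
  EK : E ≤ K
  simple : IsSimpleGroup E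
  nc : ¬ E ≤ centralizer (E : Set X)
  /-- `K = ⟨E^T⟩` -/
  tcl : K ≤ tcl T E
  /-- `K = E × C_K(E)` -/
  sup : E ⊔ (K ⊓ centralizer (E : Set X)) = K
  inf : E ⊓ centralizer (E : Set X) = ⊥
  conj : ∀ t ∈ T, t ∉ normalizer (E : Set X) → E.map (MulAut.conj t).toMonoidHom ≤ centralizer (E : Set X)
  BE : B ≤ normalizer (E : Set X)

/-- **One component and the module `N = [M,E]`** of `Y = E N_T(E)`. -/
structure CmpM (T B K E : Subgroup X) (lam : M) : Prop where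
  cmp : Cmp T B K E lam
  /-- `C_K(E)` centralises `N` -/
  cenN : ∀ f ∈ K, f ∈ centralizer (E : Set X) → ∀ n ∈ cm M E, f • n = n
  /-- every proper `Y`-submodule of `N` is centralised by `E` -/
  irr : ∀ W : Subgroup M, W ≤ cm M E → (∀ e ∈ E, ∀ w ∈ W, e • w ∈ W) →
    (∀ t ∈ T, t ∈ normalizer (E : Set X) → ∀ w ∈ W, t • w ∈ W) → W = cm M E ∨ ∀ e ∈ E, ∀ w ∈ W, e • w = w
  /-- `E` does not centralise `N` -/
  ne : ¬ ∀ e ∈ E, ∀ n ∈ cm M E, e • n = n
  /-- a vector of `N` fixed by `N_T(E)`, not by `E` -/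
  point : ∃ z ∈ cm M E, (∀ t ∈ T, t ∈ normalizer (E : Set X) → t • z = z) ∧ ¬ ∀ e ∈ E, e • z = z
  /-- every vector of `⟨lam^E⟩` is in `N` or in `N lam` -/
  orbE : ∀ e ∈ E, e • lam * lam ∈ cm M E
  /-- `C_B(N) = 1` -/
  faithB : ∀ b ∈ B, (∀ n ∈ cm M E, b • n = n) → b = 1
  exactN : (cv M (B : Set X)).relIndex (cm M E) = Nat.card B
  atomN : ∀ C : Subgroup X, C ≤ B → C ≠ ⊥ → C ≠ B → Nat.card C < (cv M (C : Set X)).relIndex (cm M E)

end Cfsg.Agent.Omega.ML.Ex.Red
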