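import Cfsg.Agent.Omega.ML.LieRow.CRB.LieT
import Cfsg.Agent.Omega.CR.EndLie
import Cfsg.Agent.MinSimple.MinParabolic

/-!
# LEMMA CRW: the invariant subgroups contain all `T`-fixed vectors (helper178)

`H = K T`, `K` normal, simple, of Lie type in characteristic two, `T` a Sylow `2`-subgroup of `H`, `M` irreducible for `K`;
`x ≠ 1` a vector (usually fixed by `T`); `Y ≤ M`, `Y ≠ 1`, normalised by `N_H(T)` and by every `T`-minimal `P` which moves `x`.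
Then `C_M(T ⊓ K) ≤ Y`.

`P` fixing `x` : `P ⊓ K ≥ T ⊓ K` fixes `x`, so it centralises `C_M(T ⊓ K)` (`CRB.fix_splitAb`); so `N_H(T ⊓ K)` normalises
`Y ⊓ C_M(T ⊓ K)` (generation by the minimal parabolics), and Curtis-Richen (`CR.Bl.cr_lie`).

* `exists_fix` : a 2-group has fixed vectors;
* `fix_K` : `T ⊓ K ≤ R ≤ K`, `R` fixes `x ≠ 1`: `R` centralises `C_M(T ⊓ K)`;
* **`crw`**, **`crw_inX`**.
-/

set_option autoImplicit false

namespace Cfsg.Agent.Omega.ML.Ex.Crw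

open Subgroup Cfsg Cfsg.Agent.ZN Cfsg.Agent.ClassTwoFusion.Quad Cfsg.Agent.Omega.ML.Ex
open Cfsg.Agent.Omega.ML.LieRow.CRB (fix_splitAb HasSplitAb hasSplitAb_of_lie)
open Cfsg.Agent.MinSimple.MinParabolic (IsMinPar le_of_forall)
open Cfsg.Agent.Omega.ML.Final (MLK)

universe u v

/-- a 2-group normalising `Y ≠ 1` fixes a vector `≠ 1` of `Y` -/
theorem exists_fix {H : Type u} [Group H] {M : Type v} [Group M] [Finite M] [MulDistribMulAction H M]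
    (sq : ∀ m : M, m * m = 1) {U : Subgroup H} (hU : IsPGroup 2 U) {Y : Subgroup M} (hY : Y ≠ ⊥)
    (hn : ∀ g ∈ U, ∀ w ∈ Y, g • w ∈ Y) : ∃ w ∈ Y, w ≠ 1 ∧ ∀ g ∈ U, g • w = w := by
  classical
  have : Fact (Nat.Prime 2) := ⟨Nat.prime_two⟩
  let _ : MulAction U Y :=
    { smul := fun g w => ⟨(g : H) • (w : M), hn g g.2 w w.2⟩
      one_smul := fun w => Subtype.ext (one_smul H (w : M))
      mul_smul := fun a b w => Subtype.ext (mul_smul (a : H) (b : H) (w : M)) }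
  have hsm : ∀ (g : U) (w : Y), ((g • w : Y) : M) = (g : H) • (w : M) := fun _ _ => rfl
  have hdvd : 2 ∣ Nat.card Y := by
    obtain ⟨w, hw⟩ := (Subgroup.ne_bot_iff_exists_ne_one).1 hY
    have h1 : orderOf w = 2 := orderOf_eq_prime (by
      rw [pow_two]
      exact Subtype.ext (sq w)) hw
    rw [← h1]
    exact orderOf_dvd_natCard w
  obtain ⟨b, hb, h1⟩ := hU.exists_fixed_point_of_prime_dvd_card_of_fixed_point Y hdvd (a := 1) (fun g => Subtype.ext (by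
    rw [hsm]; exact smul_one _))
  refine ⟨b, b.2, fun h2 => h1 (Subtype.ext h2).symm, fun g hg => ?_⟩
  exact congrArg Subtype.val (hb ⟨g, hg⟩)

section

variable {H : Type u} [Group H] [Finite H] {M : Type v} [Group M] [Finite M] [MulDistribMulAction H M]
  {K T : Subgroup H}

/-- overgroups of `T ⊓ K` in `K` which fix one vector -/
theorem fix_K (norm : K.Normal) (simple : IsSimpleGroup K) (hl : IsLieTypeChar 2 K) (two : IsPGroup 2 T)
    (syl : ¬ 2 ∣ T.index) (sq : ∀ m : M, m * m = 1)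
    (irr : ∀ W : Subgroup M, (∀ k ∈ K, ∀ w ∈ W, k • w ∈ W) → W = ⊥ ∨ W = ⊤) {R : Subgroup H} (hR : T ⊓ K ≤ R)
    {x : M} (x1 : x ≠ 1) (hx : ∀ r ∈ R ⊓ K, r • x = x) :
    ∀ r ∈ R ⊓ K, ∀ m : M, (∀ s ∈ T ⊓ K, s • m = m) → r • m = m := by
  have : Fact (Nat.Prime 2) := ⟨Nat.prime_two⟩
  rintro r ⟨hrR, hrK⟩ m hm
  have hi : ¬ 2 ∣ (T.subgroupOf K).index := Lib.SylowNormalInf.not_dvd_relIndex (two.toSylow syl) K
  have hp : IsPGroup 2 (T.subgroupOf K) := two.comap_of_injective _ K.subtype_injective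
  have h0 : HasSplitAb 2 (⊤ : Subgroup K) := (hasSplitAb_of_lie simple hl).congr Subgroup.topEquiv.symm
  have h1 := fix_splitAb (H := K) (K := ⊤) (T := T.subgroupOf K) (R := R.subgroupOf K) (N := M) inferInstance h0
    hp hi (top_sup_eq _) sq (fun L hL => irr L fun k hk w hw => hL ⟨k, hk⟩ w hw)
    (fun t ht => mem_subgroupOf.2 (hR ⟨mem_subgroupOf.1 ht, t.2⟩)) (y := x) x1
    (fun r hr => hx r ⟨mem_subgroupOf.1 hr, r.2⟩) ⟨r, hrK⟩ (mem_subgroupOf.2 hrR) m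
    (fun t ht => hm t ⟨mem_subgroupOf.1 ht, t.2⟩)
  exact h1

omit [Finite M] in
/-- the subgroup `Y ⊓ C_M(T ⊓ K)` is normalised by `N_H(T ⊓ K)` -/
theorem norm_D (norm : K.Normal) (KT : K ⊔ T = ⊤) {x : M} {Y : Subgroup M}
    (NY : ∀ g ∈ normalizer (T : Set H), ∀ w ∈ Y, g • w ∈ Y)
    (PY : ∀ P : Subgroup H, IsMinPar T P → (∃ p ∈ P, p • x ≠ x) → ∀ p ∈ P, ∀ w ∈ Y, p • w ∈ Y)
    (hfix : ∀ P : Subgroup H, T ≤ P → (∀ p ∈ P, p • x = x) → ∀ k ∈ P, k ∈ K → ∀ m : M,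
      (∀ s ∈ T ⊓ K, s • m = m) → k • m = m) :
    ∀ n ∈ normalizer ((T ⊓ K : Subgroup H) : Set H), ∀ w ∈ Y ⊓ cv M ((T ⊓ K : Subgroup H) : Set H),
      n • w ∈ Y ⊓ cv M ((T ⊓ K : Subgroup H) : Set H) := by
  set CC : Subgroup M := cv M ((T ⊓ K : Subgroup H) : Set H) with hCC
  -- `N_H(T ⊓ K)` normalises `C_M(T ⊓ K)`
  have hNC : ∀ g ∈ normalizer ((T ⊓ K : Subgroup H) : Set H), ∀ w ∈ CC, g • w ∈ CC := by
    intro g hg w hw s hs
    have h1 : g⁻¹ * s * g ∈ T ⊓ K := by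
      have := (mem_normalizer_iff.1 ((normalizer ((T ⊓ K : Subgroup H) : Set H)).inv_mem hg) s).1 hs
      rwa [inv_inv] at this
    have h2 := hw _ h1
    rwa [mul_smul, mul_smul, inv_smul_eq_iff] at h2
  have hTN : T ≤ normalizer ((T ⊓ K : Subgroup H) : Set H) := by
    intro t ht
    rw [mem_normalizer_iff]
    intro s
    constructor
    · rintro ⟨h1, h2⟩
      exact ⟨T.mul_mem (T.mul_mem ht h1) (T.inv_mem ht), norm.conj_mem s h2 t⟩
    · rintro ⟨h1, h2⟩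
      have e : t⁻¹ * (t * s * t⁻¹) * t = s := by group
      refine ⟨?_, ?_⟩
      · have := T.mul_mem (T.mul_mem (T.inv_mem ht) h1) ht
        rwa [e] at this
      · have := norm.conj_mem _ h2 t⁻¹
        rw [inv_inv] at this
        rwa [e] at this
  let Sb : Subgroup H :=
    { carrier := {g | (∀ w ∈ Y ⊓ CC, g • w ∈ Y ⊓ CC) ∧ ∀ w ∈ Y ⊓ CC, g⁻¹ • w ∈ Y ⊓ CC}
      one_mem' := ⟨fun w hw => by rwa [one_smul], fun w hw => by rwa [inv_one, one_smul]⟩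
      mul_mem' := fun {a b} ha hb => ⟨fun w hw => by rw [mul_smul]; exact ha.1 _ (hb.1 _ hw),
        fun w hw => by rw [mul_inv_rev, mul_smul]; exact hb.2 _ (ha.2 _ hw)⟩
      inv_mem' := fun {a} ha => ⟨ha.2, fun w hw => by rw [inv_inv]; exact ha.1 _ hw⟩ }
  have hmem : ∀ {Q : Subgroup H}, (∀ q ∈ Q, ∀ w ∈ Y ⊓ CC, q • w ∈ Y ⊓ CC) → Q ≤ Sb := fun {Q} h q hq =>
    ⟨h q hq, h q⁻¹ (inv_mem hq)⟩
  have hNT : normalizer (T : Set H) ⊓ normalizer ((T ⊓ K : Subgroup H) : Set H) ≤ Sb :=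
    hmem fun q hq w hw => ⟨NY q hq.1 w hw.1, hNC q hq.2 w hw.2⟩
  have hTS : T ≤ Sb := (le_inf le_normalizer hTN).trans hNT
  have hB : normalizer ((T ⊓ K : Subgroup H) : Set H) ≤ Sb := by
    refine le_of_forall (S := T) hTN (fun g hg => hNT ⟨hg.2, hg.1⟩) ?_
    intro P hP hPB
    by_cases hmv : ∃ p ∈ P, p • x ≠ x
    · exact hmem fun p hp w hw => ⟨PY P hP hmv p hp w hw.1, hNC p (hPB hp) w hw.2⟩
    · push Not at hmv
      have h1 := hfix P hP.le hmv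
      intro p hp
      have hp1 : p ∈ K ⊔ T := by rw [KT]; trivial
      rw [Subgroup.mem_sup_of_normal_left] at hp1
      obtain ⟨k, hk, t, ht, rfl⟩ := hp1
      refine mul_mem ?_ (hTS ht)
      have hkP : k ∈ P := by
        have := mul_mem hp (inv_mem (hP.le ht))
        rwa [mul_inv_cancel_right] at this
      refine ⟨fun w hw => ?_, fun w hw => ?_⟩
      · rw [h1 k hkP hk w hw.2]
        exact hw
      · rw [h1 k⁻¹ (P.inv_mem hkP) (K.inv_mem hk) w hw.2]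
        exact hw
  exact fun n hn => (hB hn).1

/-- **LEMMA CRW** -/
theorem crw (norm : K.Normal) (simple : IsSimpleGroup K) (KT : K ⊔ T = ⊤) (hl : IsLieTypeChar 2 K)
    (two : IsPGroup 2 T) (syl : ¬ 2 ∣ T.index) (sq : ∀ m : M, m * m = 1)
    (irr : ∀ W : Subgroup M, (∀ k ∈ K, ∀ w ∈ W, k • w ∈ W) → W = ⊥ ∨ W = ⊤) {x : M} (x1 : x ≠ 1)
    {Y : Subgroup M} (hne : Y ≠ ⊥)
    (NY : ∀ g ∈ normalizer (T : Set H), ∀ w ∈ Y, g • w ∈ Y)
    (PY : ∀ P : Subgroup H, IsMinPar T P → (∃ p ∈ P, p • x ≠ x) → ∀ p ∈ P, ∀ w ∈ Y, p • w ∈ Y) :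
    ∀ m : M, (∀ s ∈ T ⊓ K, s • m = m) → m ∈ Y := by
  set CC : Subgroup M := cv M ((T ⊓ K : Subgroup H) : Set H) with hCC
  have hB := norm_D norm KT NY PY fun P hTP hPx k hkP hkK =>
    fix_K norm simple hl two syl sq irr (R := P) (inf_le_left.trans hTP) x1 (fun r hr => hPx r hr.1) k ⟨hkP, hkK⟩
  have hDne : Y ⊓ CC ≠ ⊥ := by
    obtain ⟨w, hw, hw1, hwf⟩ := exists_fix sq (two.to_le (inf_le_left (b := K))) hne fun g hg w hw =>
      NY g (le_normalizer hg.1) w hw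
    intro h1
    have h2 : w ∈ Y ⊓ CC := ⟨hw, fun s hs => hwf s hs⟩
    rw [h1, mem_bot] at h2
    exact hw1 h2
  intro m hm
  exact (CR.Bl.cr_lie norm simple hl two syl sq irr (W := Y ⊓ CC) (fun w hw s hs => hw.2 s hs)
    (fun n hn _ w hw => hB n hn w hw) hDne m hm).1

/-- **LEMMA CRW** for the rows -/
theorem crw_inX (ml : MLK.{u, v}) (hKG : IsKGroup H) {A : Subgroup H} (h : InX H M K T A) (hl : IsLieTypeChar 2 K)
    {x : M} (x1 : x ≠ 1) {Y : Subgroup M} (hne : Y ≠ ⊥)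
    (NY : ∀ g ∈ normalizer (T : Set H), ∀ w ∈ Y, g • w ∈ Y)
    (PY : ∀ P : Subgroup H, IsMinPar T P → (∃ p ∈ P, p • x ≠ x) → ∀ p ∈ P, ∀ w ∈ Y, p • w ∈ Y) :
    ∀ m : M, (∀ s ∈ T ⊓ K, s • m = m) → m ∈ Y :=
  crw h.norm h.simple h.gen hl h.two h.syl h.sq (h.irr_K ml hKG) x1 hne NY PY

end

end Cfsg.Agent.Omega.ML.Ex.Crw
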