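import Cfsg.Agent.Omega.ML.ExRow
import Cfsg.Agent.Omega.ML.Ratio

/-!
# THEOREM EX for exact atoms (helper772)

* `iSup_cj_comm` : in a flat 2-group the join of conjugates of an abelian atom is abelian;
* `Dat.false_eq` : in the situation `Dat H M G E Q n` there is no exact atom `A ≤ Q` with `|A| > 2`;
* `Dat.exists_tr` : if `A ≤ Q` is elementary abelian, `|A| > 2`, `f 1 ≤ f A`, then some `z ∈ A` is a transvection of `M`
  centralised by `G`, and `Q` is tight;
* `false_of_rec_eq` : the record `Rec` (in a quotient of `H` by a central subgroup of odd order) excludes the atom `A`.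
-/

set_option autoImplicit false

namespace Cfsg.Agent.Omega.ML.Ex.ExEq

open Subgroup Cfsg Cfsg.Agent.ClassTwoFusion.Quad Cfsg.Agent.Omega.NOThree.NoOver Cfsg.Agent.Omega.ML.CD
open Cfsg.Agent.ZN (o2)
open Cfsg.Agent.Omega.ML.Rows Cfsg.Agent.Omega.ML.ExCore Cfsg.Agent.Omega.ML.ExRec Cfsg.Agent.Omega.ML.ExRow
open Cfsg.Agent.Omega.ML.Ratio (Flat Tight Atom card_cj)

universe u v w

section

variable {H : Type u} [Group H] [Finite H] {M : Type v} [Group M] [Finite M] [MulDistribMulAction H M]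

/-- in a flat 2-group the join of conjugates of an abelian atom is abelian -/
theorem iSup_cj_comm {Q A : Subgroup H} {ι : Type*} (s : ι → H) (hQ : Flat (fab M 1 1) Q) (h2 : IsPGroup 2 Q)
    (hA : Atom (fab M 1 1) A) (hab : ∀ x ∈ A, ∀ y ∈ A, x * y = y * x) (hs : ∀ i, cj (s i) A ≤ Q) :
    ∀ x ∈ ⨆ i, cj (s i) A, ∀ y ∈ ⨆ i, cj (s i) A, x * y = y * x := by
  have hf := ls_fab (H := H) M 1 1
  -- the conjugates commute
  have h1 : ∀ i j, ∀ x ∈ cj (s i) A, ∀ y ∈ cj (s j) A, x * y = y * x := by
    intro i j x hx y hy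
    by_cases h : cj (s i) A = cj (s j) A
    · rw [← h] at hy
      obtain ⟨a, ha, rfl⟩ := hx
      obtain ⟨b, hb, rfl⟩ := hy
      have h3 : (MulAut.conj (s i)).toMonoidHom a * (MulAut.conj (s i)).toMonoidHom b =
        (MulAut.conj (s i)).toMonoidHom b * (MulAut.conj (s i)).toMonoidHom a := by
        rw [← map_mul, hab a ha b hb, map_mul]
      exact h3
    · exact Atom.comm one_ne_zero one_ne_zero hQ h2 (hA.conj hf (s i)) (hA.conj hf (s j)) (hs i) (hs j) h x hx y hy
  have h2' : ∀ i, ⨆ i, cj (s i) A ≤ centralizer (cj (s i) A : Set H) := by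
    intro j
    refine iSup_le fun i x hx => ?_
    rw [mem_centralizer_iff]
    intro y hy
    exact (h1 i j x hx y hy).symm
  have h3 : (⨆ i, cj (s i) A) ≤ centralizer ((⨆ i, cj (s i) A : Subgroup H) : Set H) := by
    refine iSup_le fun i x hx => ?_
    rw [mem_centralizer_iff]
    intro y hy
    exact (mem_centralizer_iff.1 (h2' i hy) x hx).symm
  intro x hx y hy
  exact (mem_centralizer_iff.1 (h3 hx) y hy).symm

omit [Finite H] in
/-- the join of the `G`-conjugates is `G`-invariant -/
theorem conj_mem_iSup {G A : Subgroup H} (l : G) {x : H}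
    (hx : x ∈ ⨆ g : G, cj (g : H) A) : (l : H) * x * (l : H)⁻¹ ∈ ⨆ g : G, cj (g : H) A := by
  have h3 : (⨆ g : G, cj (g : H) A) ≤ cj (l : H)⁻¹ (⨆ g : G, cj (g : H) A) := by
    refine iSup_le fun g => ?_
    have h4 : cj ((l * g : G) : H) A ≤ ⨆ g : G, cj (g : H) A := le_iSup (fun g : G => cj (g : H) A) (l * g)
    rw [Subgroup.coe_mul, ← cj_cj] at h4
    rwa [cj_le_iff] at h4
  have h5 := h3 hx
  rwa [mem_cj, inv_inv] at h5

/-- **THEOREM EX for exact atoms** -/
theorem _root_.Cfsg.Agent.Omega.ML.ExRow.Dat.false_eq {G E Q A : Subgroup H} {n : ℕ} (D : Dat.{u, v} H G E Q n)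
    (sq : ∀ m : M, m * m = 1) (faith : ∀ h : H, (∀ m : M, h • m = m) → h = 1)
    (hAQ : A ≤ Q) (hA : Atom (fab M 1 1) A) (hab : ∀ x ∈ A, ∀ y ∈ A, x * y = y * x) (h2 : 2 < Nat.card A) : False := by
  have hf := ls_fab (H := H) M 1 1
  have hGQ : G ≤ normalizer (Q : Set H) := by
    intro g hg
    rw [mem_normalizer_iff]
    intro x
    refine ⟨fun hx => D.nQ g hg x hx, fun hx => ?_⟩
    have h5 := D.nQ g⁻¹ (G.inv_mem hg) _ hx
    have h6 : g⁻¹ * (g * x * g⁻¹) * g⁻¹⁻¹ = x := by group
    rwa [h6] at h5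
  by_cases hfl : Flat (fab M 1 1) Q
  · -- the normal closure of `A` is abelian
    have hle : ∀ g : G, cj (g : H) A ≤ Q := by
      rintro g _ ⟨a, ha, rfl⟩
      exact D.nQ g g.2 a (hAQ ha)
    have hJQ : ⨆ g : G, cj (g : H) A ≤ Q := iSup_le hle
    have hAJ : A ≤ ⨆ g : G, cj (g : H) A := by
      have h1 : cj ((1 : G) : H) A ≤ ⨆ g : G, cj (g : H) A := le_iSup (fun g : G => cj (g : H) A) 1
      have h3 : cj ((1 : G) : H) A = A := cj_one A
      rwa [h3] at h1
    have hJ : (⨆ g : G, cj (g : H) A) = Q := by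
      refine (D.irr _ hJQ fun l hl x hx => ?_).resolve_left fun h6 => ?_
      · exact conj_mem_iSup (⟨l, D.EG hl⟩ : G) hx
      · have h7 := card_le_of_le hAJ
        omega
    obtain ⟨a, ha, b, hb, hne⟩ := D.nab
    apply hne
    have h3 := iSup_cj_comm (fun g : G => (g : H)) hfl D.two hA hab hle
    rw [hJ] at h3
    exact h3 a ha b hb
  · -- `Q` is strict
    have hne : lo (fab M 1 1) Q ≠ ⊥ := by
      intro h
      exact hfl ((lo_eq_bot_iff hf).1 h)
    have hst := hf.strict_lo Q
    have h5 := hGQ.trans (hf.normalizer_le_lo Q)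
    have hlo : lo (fab M 1 1) Q = Q := by
      refine (D.irr _ (hf.lo_le_self Q) fun l hl x hx => ?_).resolve_left fun h6 => ?_
      · exact (mem_normalizer_iff.1 (h5 (D.EG hl)) x).1 hx
      · -- a strict subgroup of order 2
        have h7 := hst ⊥ (bot_lt_iff_ne_bot.2 hne)
        rw [fab_lt_iff bot_le, pow_one, pow_one, relIndex_bot_left, cv_bot, relIndex_top_right] at h7
        have h8 : (cv M (lo (fab M 1 1) Q : Set H)).index < 2 := lt_of_lt_of_le h7 h6
        have h9 : (cv M (lo (fab M 1 1) Q : Set H)).index ≠ 0 := index_ne_zero_of_finite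
        have h10 : cv M (lo (fab M 1 1) Q : Set H) = ⊤ := index_eq_one.1 (by omega)
        apply hne
        rw [eq_bot_iff]
        intro x hx
        rw [mem_bot]
        apply faith
        intro m
        have h11 : m ∈ cv M (lo (fab M 1 1) Q : Set H) := h10 ▸ mem_top m
        exact h11 x hx
    rw [hlo] at hst
    exact D.false sq faith le_rfl hst (lt_of_lt_of_le h2 (card_le_of_le hAQ))

/-- **THEOREM EX for exact groups which are not atoms**: only the case that `Q` contains a transvection of `M` which is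
centralised by `G` is left (`InX` gives `f 1 ≤ f A`).  In this case `Q` is tight. -/
theorem _root_.Cfsg.Agent.Omega.ML.ExRow.Dat.exists_tr {G E Q A : Subgroup H} {n : ℕ} (D : Dat.{u, v} H G E Q n)
    (sq : ∀ m : M, m * m = 1) (faith : ∀ h : H, (∀ m : M, h • m = m) → h = 1)
    (hAQ : A ≤ Q) (hge : fab M 1 1 (⊥ : Subgroup H) ≤ fab M 1 1 A) (el : ∀ a ∈ A, a * a = 1) (h2 : 2 < Nat.card A) :
    ∃ z ∈ A, z ≠ 1 ∧ (∀ g ∈ G, g * z = z * g) ∧ (cv M ({z} : Set H)).index = 2 ∧ Tight (fab M 1 1) Q := by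
  have hf := ls_fab (H := H) M 1 1
  have hGQ : G ≤ normalizer (Q : Set H) := by
    intro g hg
    rw [mem_normalizer_iff]
    intro x
    refine ⟨fun hx => D.nQ g hg x hx, fun hx => ?_⟩
    have h5 := D.nQ g⁻¹ (G.inv_mem hg) _ hx
    have h6 : g⁻¹ * (g * x * g⁻¹) * g⁻¹⁻¹ = x := by group
    rwa [h6] at h5
  by_cases hfl : Flat (fab M 1 1) Q
  · have ht : Tight (fab M 1 1) A := le_antisymm (hfl A hAQ) hge
    have hne : A ≠ ⊥ := by
      rintro rfl
      rw [card_bot] at h2
      omega
    obtain ⟨B, hBA, hB⟩ := Ratio.exists_atom ht hne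
    have hBQ := hBA.trans hAQ
    have hBel : ∀ b ∈ B, b * b = 1 := fun b hb => el b (hBA hb)
    have hab : ∀ x ∈ B, ∀ y ∈ B, x * y = y * x := by
      intro x hx y hy
      have h1 := hBel _ (mul_mem hx hy)
      have h2 : x⁻¹ = x := inv_eq_of_mul_eq_one_right (hBel x hx)
      have h3 : y⁻¹ = y := inv_eq_of_mul_eq_one_right (hBel y hy)
      calc x * y = (x * y)⁻¹ := (inv_eq_of_mul_eq_one_right h1).symm
        _ = y⁻¹ * x⁻¹ := mul_inv_rev x y
        _ = y * x := by rw [h2, h3]
    have hle : ∀ g : G, cj (g : H) B ≤ Q := by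
      rintro g _ ⟨a, ha, rfl⟩
      exact D.nQ g g.2 a (hBQ ha)
    have hJQ : ⨆ g : G, cj (g : H) B ≤ Q := iSup_le hle
    have hBJ : B ≤ ⨆ g : G, cj (g : H) B := by
      have h1 : cj ((1 : G) : H) B ≤ ⨆ g : G, cj (g : H) B := le_iSup (fun g : G => cj (g : H) B) 1
      have h3 : cj ((1 : G) : H) B = B := cj_one B
      rwa [h3] at h1
    have hcomm := iSup_cj_comm (fun g : G => (g : H)) hfl D.two hB hab hle
    rcases D.irr _ hJQ fun l hl x hx => conj_mem_iSup (⟨l, D.EG hl⟩ : G) hx with h6 | h6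
    · -- `B` has order 2 and is normalised by `G`
      have h7 : 1 < Nat.card B := (one_lt_card_iff_ne_bot B).2 hB.ne_bot
      have h8 : Nat.card B ≤ Nat.card (⨆ g : G, cj (g : H) B : Subgroup H) := card_le_of_le hBJ
      have hB2 : Nat.card B = 2 := by omega
      have hJB : B = ⨆ g : G, cj (g : H) B := eq_of_le_of_card_ge hBJ (by omega)
      obtain ⟨z, hz, hz1⟩ := (Subgroup.bot_or_exists_ne_one B).resolve_left hB.ne_bot
      have hBz : ∀ b ∈ B, b = 1 ∨ b = z := by
        intro b hb
        have h9 : zpowers z ≤ B := by rwa [zpowers_le]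
        have h10 : Nat.card (zpowers z) = 2 := by
          rw [Nat.card_zpowers]
          exact orderOf_eq_prime (by rw [pow_two, hBel z hz]) hz1
        have h11 : zpowers z = B := eq_of_le_of_card_ge h9 (by omega)
        rw [← h11] at hb
        obtain ⟨k, rfl⟩ := mem_zpowers_iff.1 hb
        have h12 : z ^ (2 : ℤ) = 1 := by rw [zpow_two, hBel z hz]
        rcases Int.even_or_odd' k with ⟨c, rfl | rfl⟩
        · left
          rw [zpow_mul, h12, one_zpow]
        · right
          rw [zpow_add, zpow_mul, h12, one_zpow, one_mul, zpow_one]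
      refine ⟨z, hBA hz, hz1, fun g hg => ?_, ?_, ?_⟩
      · have h9 : g * z * g⁻¹ ∈ B := by
          have h10 := conj_mem_iSup (G := G) (A := B) ⟨g, hg⟩ (x := z) (hBJ hz)
          rwa [← hJB] at h10
        rcases hBz _ h9 with h10 | h10
        · exfalso
          apply hz1
          rw [mul_inv_eq_one] at h10
          calc z = g⁻¹ * (g * z) := by group
            _ = 1 := by rw [h10, inv_mul_cancel]
        · rw [mul_inv_eq_iff_eq_mul] at h10
          exact h10
      · have h9 : cv M ({z} : Set H) = cv M (B : Set H) := by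
          refine le_antisymm ?_ (cv_anti (by simpa using hz))
          intro v hv x hx
          rcases hBz x hx with rfl | rfl
          · exact one_smul _ _
          · exact hv _ rfl
        rw [h9]
        have h10 : fab M 1 1 B = fab M 1 1 (⊥ : Subgroup H) := hB.tight
        have h11 := card_mul_index (cv M (B : Set H))
        unfold fab at h10
        rw [cv_bot, card_bot, pow_one, pow_one, pow_one, pow_one, one_mul, card_top, ← h11, hB2, mul_comm] at h10
        exact (Nat.eq_of_mul_eq_mul_left Nat.card_pos h10).symm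
      · -- the largest tight subgroup is `Q`
        have h9 : A ≤ hi (fab M 1 1) Q := le_hi (hfl.best hAQ ht)
        have h10 := hGQ.trans (hf.normalizer_le_hi Q)
        have h11 : hi (fab M 1 1) Q = Q := by
          refine (D.irr _ (hf.hi_le_self Q) fun l hl x hx => ?_).resolve_left fun h12 => ?_
          · exact (mem_normalizer_iff.1 (h10 (D.EG hl)) x).1 hx
          · have h13 := card_le_of_le h9
            omega
        have h12 := hfl.tight (hf.best_hi Q)
        rwa [h11] at h12
    · exfalso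
      obtain ⟨a, ha, b, hb, hne⟩ := D.nab
      apply hne
      rw [h6] at hcomm
      exact hcomm a ha b hb
  · -- `Q` is strict
    exfalso
    have hne : lo (fab M 1 1) Q ≠ ⊥ := by
      intro h
      exact hfl ((lo_eq_bot_iff hf).1 h)
    have hst := hf.strict_lo Q
    have h5 := hGQ.trans (hf.normalizer_le_lo Q)
    have hlo : lo (fab M 1 1) Q = Q := by
      refine (D.irr _ (hf.lo_le_self Q) fun l hl x hx => ?_).resolve_left fun h6 => ?_
      · exact (mem_normalizer_iff.1 (h5 (D.EG hl)) x).1 hx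
      · have h7 := hst ⊥ (bot_lt_iff_ne_bot.2 hne)
        rw [fab_lt_iff bot_le, pow_one, pow_one, relIndex_bot_left, cv_bot, relIndex_top_right] at h7
        have h8 : (cv M (lo (fab M 1 1) Q : Set H)).index < 2 := lt_of_lt_of_le h7 h6
        have h9 : (cv M (lo (fab M 1 1) Q : Set H)).index ≠ 0 := index_ne_zero_of_finite
        have h10 : cv M (lo (fab M 1 1) Q : Set H) = ⊤ := index_eq_one.1 (by omega)
        apply hne
        rw [eq_bot_iff]
        intro x hx
        rw [mem_bot]
        apply faith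
        intro m
        have h11 : m ∈ cv M (lo (fab M 1 1) Q : Set H) := h10 ▸ mem_top m
        exact h11 x hx
    rw [hlo] at hst
    exact D.false sq faith le_rfl hst (lt_of_lt_of_le h2 (card_le_of_le hAQ))

end

/-! ### From the record -/

section record

variable {H : Type u} [Group H] [Finite H] {X : Type w} [Group X] {π : H →* X} {C P R : Subgroup X} {n : ℕ}

/-- **the record excludes the atom** -/
theorem false_of_rec_eq {M : Type v} [Group M] [Finite M] [MulDistribMulAction H M] {A : Subgroup H}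
    (sq : ∀ m : M, m * m = 1) (faith : ∀ h : H, (∀ m : M, h • m = m) → h = 1) (hA : Atom (fab M 1 1) A)
    (el : ∀ a ∈ A, a * a = 1) (hA2 : 2 < Nat.card A) (hf : Function.Surjective π) (hc : π.ker ≤ center H)
    (ho : Odd (Nat.card π.ker)) (h : Rec.{u, v, w} C P R n) {g : X} (hg : ∀ a ∈ A, g * π a * g⁻¹ ∈ R) : False := by
  have hR : IsPGroup 2 R := IsPGroup.of_card h.card
  have hX : Finite X := Finite.of_surjective π hf
  obtain ⟨g, rfl⟩ := hf g
  have hlf := ls_fab (H := H) M 1 1
  have el' : ∀ a ∈ cj g A, a * a = 1 := by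
    rintro _ ⟨a, ha, rfl⟩
    change g * a * g⁻¹ * (g * a * g⁻¹) = 1
    have h1 : g * a * g⁻¹ * (g * a * g⁻¹) = g * (a * a) * g⁻¹ := by group
    rw [h1, el a ha, mul_one, mul_inv_cancel]
  refine (dat_of_rec hf hc ho h).false_eq (A := cj g A) sq faith ?_ (hA.conj hlf g) ?_ ?_
  · rintro _ ⟨a, ha, rfl⟩
    rw [mem_lift2 hc hR]
    refine ⟨?_, 1, ?_⟩
    · change π (g * a * g⁻¹) ∈ R
      rw [map_mul, map_mul, map_inv]
      exact hg a ha
    · rw [pow_one, pow_two]
      exact el' _ ⟨a, ha, rfl⟩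
  · intro x hx y hy
    have h1 := el' _ (mul_mem hx hy)
    have h2 : x⁻¹ = x := inv_eq_of_mul_eq_one_right (el' x hx)
    have h3 : y⁻¹ = y := inv_eq_of_mul_eq_one_right (el' y hy)
    calc x * y = (x * y)⁻¹ := (inv_eq_of_mul_eq_one_right h1).symm
      _ = y⁻¹ * x⁻¹ := mul_inv_rev x y
      _ = y * x := by rw [h2, h3]
  · rw [card_cj]
    exact hA2

end record

end Cfsg.Agent.Omega.ML.Ex.ExEq
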