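import Cfsg.Agent.Omega.ML.Ex.Extra

/-!
# A 2-central involution `z` with an extraspecial-like centraliser is not a transvection (helper181); K-free

`H` acts faithfully on `M` (exponent 2), `z ∈ R` an involution, `R` nonabelian, `P ≤ C_H(z)` normalises `R` and every
`P`-invariant `B < R` is contained in `⟨z⟩`.

* **`false_of_tv`** : `z`, `u`, `z u` are not all transvections, `u ∈ R - ⟨z⟩`;
* `comm_z` : `u ∈ R - ⟨z⟩` has a conjugate `z u` under `R`;
* **`index_ne_two`** : if some conjugate of `z` is in `R - ⟨z⟩` then `|M : C_M(z)| ≠ 2`.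
-/

set_option autoImplicit false

namespace Cfsg.Agent.Omega.ML.Ex.NoTv

open Subgroup Cfsg.Agent.Omega.ML.Ex Cfsg.Agent.Omega.ML.Ex.Extra Cfsg.Agent.ClassTwoFusion.Quad

open scoped commutatorElement

universe u v

variable {H : Type u} [Group H] {M : Type v} [Group M] [MulDistribMulAction H M]

/-- the local situation -/
structure Loc (z : H) (P R : Subgroup H) : Prop where
  zz : z * z = 1
  z1 : z ≠ 1
  zR : z ∈ R
  cR : ∀ r ∈ R, r * z = z * r
  cP : ∀ p ∈ P, p * z = z * p
  nR : ∀ p ∈ P, ∀ r ∈ R, p * r * p⁻¹ ∈ R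
  irr : ∀ B ≤ R, (∀ p ∈ P, ∀ b ∈ B, p * b * p⁻¹ ∈ B) → (∀ b ∈ B, b = 1 ∨ b = z) ∨ B = R
  nab : ∃ a ∈ R, ∃ b ∈ R, a * b ≠ b * a

/-- `R` acts as an abelian group on `M`: impossible. -/
theorem Loc.false_of_comm {z : H} {P R : Subgroup H} (L : Loc z P R) (faith : ∀ h : H, (∀ m : M, h • m = m) → h = 1)
    (hc : ∀ a ∈ R, ∀ b ∈ R, ∀ m : M, (a * b) • m = (b * a) • m) : False := by
  obtain ⟨a, ha, b, hb, hab⟩ := L.nab
  apply hab
  have h7 : (b * a)⁻¹ * (a * b) = 1 := by
    refine faith _ fun m => ?_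
    rw [mul_smul, inv_smul_eq_iff]
    exact hc a ha b hb m
  exact (inv_mul_eq_one.1 h7).symm

/-- **`z`, `u`, `z u` are not all transvections.** -/
theorem Loc.false_of_tv [Finite M] {z : H} {P R : Subgroup H} (L : Loc z P R) (sq : ∀ m : M, m * m = 1)
    (faith : ∀ h : H, (∀ m : M, h • m = m) → h = 1) {u : H} (hu : u ∈ R) (hu1 : u ≠ 1) (huz : u ≠ z)
    (iz : (cv M ({z} : Set H)).index = 2) (iu : (cv M ({u} : Set H)).index = 2)
    (izu : (cv M ({z * u} : Set H)).index = 2) : False := by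
  have hM := comm_of_sq' sq
  have hinv : ∀ y : M, y⁻¹ = y := fun y => inv_eq_of_mul_eq_one_right (sq y)
  by_cases hne : cv M ({z} : Set H) = cv M ({u} : Set H)
  · -- the same axis
    have hax : ∀ c : H, c * z = z * c → ∀ m : M, z • m = m → z • c • m = c • m := by
      intro c hc m hm
      rw [← mul_smul, ← hc, mul_smul, hm]
    let D : Subgroup H :=
      { carrier := {r | r ∈ R ∧ ∀ m : M, z • m = m → r • m = m}
        one_mem' := ⟨R.one_mem, fun m _ => one_smul H m⟩
        mul_mem' := by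
          rintro a b ⟨ha, ha'⟩ ⟨hb, hb'⟩
          exact ⟨R.mul_mem ha hb, fun m hm => by rw [mul_smul, hb' m hm, ha' m hm]⟩
        inv_mem' := by
          rintro a ⟨ha, ha'⟩
          exact ⟨R.inv_mem ha, fun m hm => by rw [inv_smul_eq_iff, ha' m hm]⟩ }
    have hDm : ∀ r : H, r ∈ D ↔ r ∈ R ∧ ∀ m : M, z • m = m → r • m = m := fun r => Iff.rfl
    have huD : u ∈ D := ⟨hu, fun m hm => by
      have h1 : m ∈ cv M ({z} : Set H) := mem_cv_singleton.2 hm
      rw [hne] at h1
      exact mem_cv_singleton.1 h1⟩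
    rcases L.irr D (fun r hr => hr.1) (by
      rintro p hp r ⟨hr, hr'⟩
      refine ⟨L.nR p hp r hr, fun m hm => ?_⟩
      have h1 : p⁻¹ * z = z * p⁻¹ := by
        rw [inv_mul_eq_iff_eq_mul, ← mul_assoc, L.cP p hp, mul_inv_cancel_right]
      rw [mul_smul, mul_smul, hr' _ (hax _ h1 m hm), smul_inv_smul]) with h6 | h6
    · rcases h6 u huD with h7 | h7
      · exact hu1 h7
      · exact huz h7
    · refine L.false_of_comm faith fun a ha b hb m => ?_
      have ha' := ((hDm a).1 (h6.ge ha)).2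
      have hb' := ((hDm b).1 (h6.ge hb)).2
      -- `[m, c] ∈ C_M(z)` for all `c ∈ R`
      have key : ∀ c ∈ R, z • (c • m * m) = c • m * m := by
        intro c hc
        by_cases hm : z • m = m
        · rw [smul_mul', hax c (L.cR c hc) m hm, hm]
        · have h1 : z • c • m ≠ c • m := by
            intro h2
            apply hm
            rw [← mul_smul, ← L.cR c hc, mul_smul] at h2
            exact smul_left_cancel _ h2
          have h3 : c • m * m ∈ cv M ({z} : Set H) := by
            rw [mul_mem_iff_of_index_two iz]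
            exact ⟨fun h2 => absurd (mem_cv_singleton.1 h2) h1, fun h2 => absurd (mem_cv_singleton.1 h2) hm⟩
          exact mem_cv_singleton.1 h3
      have e1 : ∀ c ∈ R, (∀ m : M, z • m = m → c • m = m) → ∀ d ∈ R, (c * d) • m = (d • m * m) * (c • m * m) * m := by
        intro c _ hc' d hd
        calc (c * d) • m = c • ((d • m * m) * m) := by rw [mul_smul, mul_assoc, sq, mul_one]
          _ = (d • m * m) * c • m := by rw [smul_mul', hc' _ (key d hd)]
          _ = (d • m * m) * (c • m * (m * m)) := by rw [sq, mul_one]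
          _ = (d • m * m) * (c • m * m) * m := by simp only [mul_assoc]
      rw [e1 a ha ha' b hb, e1 b hb hb' a ha, hM (b • m * m) (a • m * m)]
  · obtain ⟨v, hv1, hv⟩ := tv sq iz
    have hvu := tv_eq sq (L.cR u hu).symm iz iu izu hne hv
    -- elements commuting with `z` fix `v`
    have hfix : ∀ c : H, c * z = z * c → c • v = v := by
      intro c hc
      obtain ⟨m, hm⟩ : ∃ m : M, z • m * m = v ∧ z • m ≠ m := by
        by_contra hcon
        push Not at hcon
        apply L.z1
        refine faith z fun m => ?_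
        rcases hv m with h6 | h6
        · exact h6.1
        · exact hcon m h6.2
      have h6 : z • (c • m) * (c • m) = c • v := by
        rw [← mul_smul, ← hc, mul_smul, ← smul_mul', hm.1]
      rcases hv (c • m) with h7 | h7
      · exfalso
        apply hv1
        rw [h7.2] at h6
        have h8 : v = c⁻¹ • (1 : M) := by rw [h6, inv_smul_smul]
        rw [h8, smul_one]
      · rw [← h6, h7.2]
    have hvv : ∀ {x y : M}, (x = 1 ∨ x = v) → (y = 1 ∨ y = v) → (x * y = 1 ∨ x * y = v) := by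
      rintro x y (rfl | rfl) (rfl | rfl)
      · exact Or.inl (mul_one _)
      · exact Or.inr (one_mul _)
      · exact Or.inr (mul_one _)
      · exact Or.inl (sq _)
    let D : Subgroup H :=
      { carrier := {r | r ∈ R ∧ ∀ m : M, r • m * m = 1 ∨ r • m * m = v}
        one_mem' := ⟨R.one_mem, fun m => Or.inl (by rw [one_smul, sq])⟩
        mul_mem' := by
          rintro a b ⟨ha, ha'⟩ ⟨hb, hb'⟩
          refine ⟨R.mul_mem ha hb, fun m => ?_⟩
          have h6 : (a * b) • m * m = a • (b • m * m) * (a • m * m) := by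
            rw [mul_smul, smul_mul', mul_assoc, ← mul_assoc (a • m), sq, one_mul]
          rw [h6]
          refine hvv ?_ (ha' m)
          rcases hb' m with h7 | h7
          · exact Or.inl (by rw [h7, smul_one])
          · exact Or.inr (by rw [h7, hfix a (L.cR a ha)])
        inv_mem' := by
          rintro a ⟨ha, ha'⟩
          refine ⟨R.inv_mem ha, fun m => ?_⟩
          have h6 := ha' (a⁻¹ • m)
          rw [smul_inv_smul, hM] at h6
          exact h6 }
    have hDm : ∀ r : H, r ∈ D ↔ r ∈ R ∧ ∀ m : M, r • m * m = 1 ∨ r • m * m = v := fun r => Iff.rfl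
    have huD : u ∈ D := ⟨hu, fun m => (hvu m).imp (fun h6 => h6.2) (fun h6 => h6.2)⟩
    rcases L.irr D (fun r hr => hr.1) (by
      rintro p hp r ⟨hr, hr'⟩
      refine ⟨L.nR p hp r hr, fun m => ?_⟩
      have h6 : (p * r * p⁻¹) • m * m = p • (r • (p⁻¹ • m) * (p⁻¹ • m)) := by
        rw [smul_mul', smul_inv_smul, ← mul_smul, ← mul_smul, mul_assoc]
      rw [h6]
      rcases hr' (p⁻¹ • m) with h7 | h7
      · exact Or.inl (by rw [h7, smul_one])
      · exact Or.inr (by rw [h7, hfix p (L.cP p hp)])) with h6 | h6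
    · rcases h6 u huD with h7 | h7
      · exact hu1 h7
      · exact huz h7
    · refine L.false_of_comm faith fun a ha b hb m => ?_
      have ha' := ((hDm a).1 (h6.ge ha)).2
      have hb' := ((hDm b).1 (h6.ge hb)).2
      have key : ∀ c ∈ R, (∀ m : M, c • m * m = 1 ∨ c • m * m = v) → ∀ d ∈ R,
          (∀ m : M, d • m * m = 1 ∨ d • m * m = v) → ∀ m : M, (c * d) • m = (c • m * m) * (d • m * m) * m := by
        intro c hc hc' d hd hd' m
        have h7 : c • (d • m * m) = d • m * m := by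
          rcases hd' m with h8 | h8
          · rw [h8, smul_one]
          · rw [h8, hfix c (L.cR c hc)]
        calc (c * d) • m = c • ((d • m * m) * m) := by rw [mul_smul, mul_assoc, sq, mul_one]
          _ = (d • m * m) * c • m := by rw [smul_mul', h7]
          _ = (d • m * m) * (c • m * (m * m)) := by rw [sq, mul_one]
          _ = (d • m * m) * (c • m * m) * m := by simp only [mul_assoc]
          _ = (c • m * m) * (d • m * m) * m := by rw [hM (d • m * m) (c • m * m)]
      rw [key a ha ha' b hb hb', key b hb hb' a ha ha', hM (a • m * m) (b • m * m)]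

/-- `u ∈ R - ⟨z⟩` is moved by `R`. -/
theorem Loc.exists_ne_comm {z : H} {P R : Subgroup H} (L : Loc z P R) {u : H} (hu : u ∈ R) (hu1 : u ≠ 1) (huz : u ≠ z) :
    ∃ r ∈ R, r * u ≠ u * r := by
  by_contra hcon
  push Not at hcon
  let D : Subgroup H := R ⊓ centralizer (R : Set H)
  rcases L.irr D inf_le_left (by
    intro p hp r hr
    refine mem_inf.2 ⟨L.nR p hp r (mem_inf.1 hr).1, mem_centralizer_iff.2 fun c hc => ?_⟩
    have h1 := L.nR p⁻¹ (P.inv_mem hp) c hc
    rw [inv_inv] at h1
    have h2 := mem_centralizer_iff.1 (mem_inf.1 hr).2 _ h1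
    calc c * (p * r * p⁻¹) = p * (p⁻¹ * c * p * r) * p⁻¹ := by group
      _ = p * (r * (p⁻¹ * c * p)) * p⁻¹ := by rw [h2]
      _ = p * r * p⁻¹ * c := by group) with h6 | h6
  · rcases h6 u (mem_inf.2 ⟨hu, mem_centralizer_iff.2 hcon⟩) with h7 | h7
    · exact hu1 h7
    · exact huz h7
  · obtain ⟨a, ha, b, hb, hab⟩ := L.nab
    exact hab (mem_centralizer_iff.1 (mem_inf.1 (h6.ge hb)).2 a ha)

/-- commutators of `R` are in `{1, z}` -/
theorem Loc.comm [Finite H] {z : H} {P R : Subgroup H} (L : Loc z P R) (h2 : IsPGroup 2 R) {a b : H} (ha : a ∈ R)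
    (hb : b ∈ R) : a * b * a⁻¹ * b⁻¹ = 1 ∨ a * b * a⁻¹ * b⁻¹ = z := by
  have hp : Fact (Nat.Prime 2) := ⟨Nat.prime_two⟩
  have hnil := h2.isNilpotent
  have hne : Nontrivial R := by
    obtain ⟨a, ha, b, hb, hab⟩ := L.nab
    refine ⟨⟨a, ha⟩, 1, fun h => hab ?_⟩
    have h1 : a = 1 := congrArg Subtype.val h
    rw [h1, one_mul, mul_one]
  have hlt := IsSolvable.commutator_lt_top_of_nontrivial R
  have hD : ⁅R, R⁆ ≤ R := commutator_le_self R
  have hmem : ⁅a, b⁆ ∈ ⁅R, R⁆ := commutator_mem_commutator ha hb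
  rcases L.irr ⁅R, R⁆ hD (by
    intro p hp r hr
    have h3 : (⁅R, R⁆).map (MulAut.conj p).toMonoidHom ≤ ⁅R, R⁆ := by
      rw [map_commutator]
      have h4 : R.map (MulAut.conj p).toMonoidHom ≤ R := by
        rintro _ ⟨r, hr, rfl⟩
        exact L.nR p hp r hr
      exact commutator_mono h4 h4
    exact h3 ⟨r, hr, rfl⟩) with h6 | h6
  · exact h6 _ hmem
  · exfalso
    apply hlt.ne
    have h7 : (_root_.commutator R).map R.subtype = ⁅R, R⁆ := by
      rw [_root_.commutator_def, map_commutator, ← MonoidHom.range_eq_map, range_subtype]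
    apply map_injective R.subtype_injective
    rw [h7, h6, ← MonoidHom.range_eq_map, range_subtype]

/-- `z u` is conjugate to `u` under `R`, `u ∈ R - ⟨z⟩`. -/
theorem Loc.exists_conj [Finite H] {z : H} {P R : Subgroup H} (L : Loc z P R) (h2 : IsPGroup 2 R) {u : H} (hu : u ∈ R)
    (hu1 : u ≠ 1) (huz : u ≠ z) : ∃ r ∈ R, r * u * r⁻¹ = z * u := by
  obtain ⟨r, hr, hru⟩ := L.exists_ne_comm hu hu1 huz
  refine ⟨r, hr, ?_⟩
  rcases L.comm h2 hr hu with h1 | h1
  · exfalso
    apply hru
    rw [mul_inv_eq_one, mul_inv_eq_iff_eq_mul] at h1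
    exact h1
  · rw [mul_inv_eq_iff_eq_mul] at h1
    exact h1

/-- conjugation does not change the index -/
theorem index_conj (k a : H) : (cv M ({k * a * k⁻¹} : Set H)).index = (cv M ({a} : Set H)).index := by
  have h7 : cv M ({k * a * k⁻¹} : Set H) = (cv M ({a} : Set H)).map (MulDistribMulAction.toMulEquiv M k).toMonoidHom := by
    ext m
    rw [mem_cv_singleton]
    constructor
    · intro h8
      refine ⟨k⁻¹ • m, ?_, ?_⟩
      · rw [SetLike.mem_coe, mem_cv_singleton, ← mul_smul]
        have h9 : a * k⁻¹ = k⁻¹ * (k * a * k⁻¹) := by group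
        rw [h9, mul_smul, h8]
      · exact smul_inv_smul k m
    · rintro ⟨n, hn, rfl⟩
      rw [SetLike.mem_coe, mem_cv_singleton] at hn
      change (k * a * k⁻¹) • k • n = k • n
      rw [← mul_smul, inv_mul_cancel_right, mul_smul, hn]
  rw [h7]
  exact index_map_equiv _ (MulDistribMulAction.toMulEquiv M k)

/-- **`z` is not a transvection if it has a conjugate in `R - ⟨z⟩`.** -/
theorem Loc.index_ne_two [Finite H] [Finite M] {z : H} {P R : Subgroup H} (L : Loc z P R) (h2 : IsPGroup 2 R)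
    (sq : ∀ m : M, m * m = 1) (faith : ∀ h : H, (∀ m : M, h • m = m) → h = 1) {k : H} (hk : k * z * k⁻¹ ∈ R)
    (hkz : k * z * k⁻¹ ≠ z) : (cv M ({z} : Set H)).index ≠ 2 := by
  intro iz
  have hu1 : k * z * k⁻¹ ≠ 1 := by
    intro h1
    apply L.z1
    have h3 : z = k⁻¹ * (k * z * k⁻¹) * k := by group
    rw [h3, h1]; group
  obtain ⟨r, hr, hru⟩ := L.exists_conj h2 hk hu1 hkz
  have iu : (cv M ({k * z * k⁻¹} : Set H)).index = 2 := by rw [index_conj, iz]
  exact L.false_of_tv sq faith hk hu1 hkz iz iu (by rw [← hru, index_conj, iu])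

end Cfsg.Agent.Omega.ML.Ex.NoTv
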