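import Cfsg.Agent.Omega.ML.ExCore

/-!
# An element of order 9 on modules of order at most 16 (row `3D_4(2)` of (ML), helper598)

* `cube_triv` : `l ^ 9` trivial on an elementary abelian 2-group `V`, `|V| ≤ 16`: `l ^ 3` is trivial on `V`;
* `trivOn_nine` : `TrivOn L ⟨(y³)^L⟩ 16` for `y ^ 9 = 1`.
-/

set_option autoImplicit false

namespace Cfsg.Agent.Omega.ML.Ex.TrivNine

open Subgroup Cfsg.Agent.Omega.ML.ExCore

universe u v

section

variable {L : Type u} [Group L] {V : Type v} [Group V] [MulDistribMulAction L V]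

/-- the orbit map of an element moved by `l ^ 3` is injective on `Fin 9` -/
theorem orb_inj {l : L} (h9 : ∀ x : V, l ^ 9 • x = x) {x : V} (hx : l ^ 3 • x ≠ x) {i j : ℕ} (hi : i < 9) (hj : j < 9)
    (h : l ^ i • x = l ^ j • x) : i = j := by
  -- `l ^ k` fixes `x`, `0 < k < 9`: then `l ^ 3` fixes `x`
  have key : ∀ k : ℕ, 0 < k → k < 9 → l ^ k • x ≠ x := by
    intro k hk0 hk9 hk
    apply hx
    have hm : ∀ n : ℕ, l ^ (k * n) • x = x := by
      intro n
      induction n with
      | zero => rw [mul_zero, pow_zero, one_smul]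
      | succ n ih => rw [mul_add, mul_one, add_comm, pow_add, mul_smul, ih, hk]
    have h9' : ∀ n : ℕ, ∀ y : V, l ^ (9 * n) • y = y := by
      intro n y
      induction n with
      | zero => rw [mul_zero, pow_zero, one_smul]
      | succ n ih => rw [mul_add, mul_one, add_comm, pow_add, mul_smul, ih, h9]
    -- `3 = k n - 9 m`
    obtain ⟨n, m, e⟩ : ∃ n m : ℕ, k * n = 3 + 9 * m := by
      interval_cases k
      · exact ⟨3, 0, rfl⟩
      · exact ⟨6, 1, rfl⟩
      · exact ⟨1, 0, rfl⟩
      · exact ⟨3, 1, rfl⟩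
      · exact ⟨6, 3, rfl⟩
      · exact ⟨2, 1, rfl⟩
      · exact ⟨3, 2, rfl⟩
      · exact ⟨6, 5, rfl⟩
    have h1 := hm n
    rwa [e, pow_add, mul_smul, h9'] at h1
  have aux : ∀ i j : ℕ, i < j → j < 9 → l ^ i • x ≠ l ^ j • x := by
    intro i j hij hj h
    refine key (j - i) (by omega) (by omega) ?_
    have e : l ^ j = l ^ i * l ^ (j - i) := by rw [← pow_add]; congr 1; omega
    rw [e, mul_smul] at h
    exact (smul_left_cancel _ h).symm
  rcases Nat.lt_trichotomy i j with h1 | h1 | h1
  · exact absurd h (aux i j h1 hj)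
  · exact h1
  · exact absurd h.symm (aux j i h1 hi)

variable [Finite V]

/-- **An element of order 9 on a module of order at most 16.** -/
theorem cube_triv (sq : ∀ x : V, x * x = 1) (hc : Nat.card V ≤ 16) {l : L} (h9 : ∀ x : V, l ^ 9 • x = x) (x : V) :
    l ^ 3 • x = x := by
  classical
  by_contra hx
  have hft : Fintype V := Fintype.ofFinite V
  -- the fixed points of `l ^ 3`
  let C : Subgroup V :=
    { carrier := {v | l ^ 3 • v = v}
      one_mem' := smul_one _
      mul_mem' := fun {a b} ha hb => by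
        change l ^ 3 • (a * b) = a * b
        rw [smul_mul', ha, hb]
      inv_mem' := fun {a} ha => by
        change l ^ 3 • a⁻¹ = a⁻¹
        rw [smul_inv', ha] }
  have hmC : ∀ v : V, v ∈ C ↔ l ^ 3 • v = v := fun v => Iff.rfl
  have horb : ∀ v : V, v ∉ C → ∀ i : ℕ, l ^ i • v ∉ C := by
    intro v hv i h
    apply hv
    rw [hmC] at h ⊢
    have e : l ^ 3 • l ^ i • v = l ^ i • l ^ 3 • v := by
      rw [smul_smul, smul_smul, ← pow_add, ← pow_add, add_comm]
    rw [e] at h
    exact smul_left_cancel _ h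
  let O : V → Finset V := fun v => (Finset.univ : Finset (Fin 9)).image fun i : Fin 9 => l ^ (i : ℕ) • v
  have hO : ∀ v : V, v ∉ C → (O v).card = 9 := by
    intro v hv
    rw [Finset.card_image_of_injective]
    · simp
    · intro i j h
      exact Fin.ext (orb_inj h9 hv i.2 j.2 h)
  let D : Finset V := Finset.univ.filter fun v => v ∉ C
  have hOD : ∀ v : V, v ∉ C → O v ⊆ D := by
    intro v hv w hw
    obtain ⟨i, -, rfl⟩ := Finset.mem_image.1 hw
    exact Finset.mem_filter.2 ⟨Finset.mem_univ _, horb v hv i⟩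
  have hcard : D.card + Nat.card C = Nat.card V := by
    have h1 := Finset.card_filter_add_card_filter_not (s := (Finset.univ : Finset V)) (fun v => v ∉ C)
    have h2 : (Finset.univ.filter fun v => ¬ v ∉ C).card = Nat.card C := by
      rw [Nat.card_eq_fintype_card, Fintype.card_subtype]
      congr 1
      ext v
      simp
    rw [h2, Finset.card_univ, ← Nat.card_eq_fintype_card] at h1
    exact h1
  -- `D` is one orbit
  have hDO : D = O x := by
    refine (Finset.Subset.antisymm ?_ (hOD x hx))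
    intro y hy
    by_contra hyO
    have hyC : y ∉ C := (Finset.mem_filter.1 hy).2
    have hdis : Disjoint (O x) (O y) := by
      rw [Finset.disjoint_left]
      intro z hz1 hz2
      obtain ⟨i, -, rfl⟩ := Finset.mem_image.1 hz1
      obtain ⟨j, -, e⟩ := Finset.mem_image.1 hz2
      apply hyO
      -- `y = l ^ (i + 9 - j) x`
      have h1 : y = l ^ ((i : ℕ) + (9 - j)) • x := by
        have h2 : l ^ (9 - (j : ℕ)) • l ^ (j : ℕ) • y = y := by
          rw [smul_smul, ← pow_add, Nat.sub_add_cancel j.2.le, h9]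
        rw [add_comm, pow_add, mul_smul]
        rw [← e, h2]
      rcases Nat.lt_or_ge ((i : ℕ) + (9 - j)) 9 with h3 | h3
      · rw [h1]
        exact Finset.mem_image.2 ⟨⟨_, h3⟩, Finset.mem_univ _, rfl⟩
      · have h4 : (i : ℕ) + (9 - j) - 9 < 9 := by omega
        refine Finset.mem_image.2 ⟨⟨_, h4⟩, Finset.mem_univ _, ?_⟩
        change l ^ ((i : ℕ) + (9 - j) - 9) • x = y
        rw [h1]
        conv_rhs => rw [← Nat.sub_add_cancel h3, pow_add, mul_smul, h9]
    have h1 : (O x ∪ O y).card ≤ D.card := Finset.card_le_card (Finset.union_subset (hOD x hx) (hOD y hyC))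
    rw [Finset.card_union_of_disjoint hdis, hO x hx, hO y hyC] at h1
    omega
  have hD9 : D.card = 9 := by rw [hDO, hO x hx]
  have h2 : IsPGroup 2 V := fun v => ⟨1, by rw [pow_one, pow_two, sq]⟩
  have hf : Fact (Nat.Prime 2) := ⟨Nat.prime_two⟩
  obtain ⟨n, hn⟩ := IsPGroup.iff_card.1 h2
  obtain ⟨m, hm⟩ := IsPGroup.iff_card.1 (h2.to_subgroup C)
  rw [hD9] at hcard
  rw [hm, hn] at hcard
  rw [hn] at hc
  have hn4 : n ≤ 4 := by
    by_contra h
    have h5 : 2 ^ 5 ≤ 2 ^ n := Nat.pow_le_pow_right (by norm_num) (by omega)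
    omega
  have hm4 : m < 4 := by
    by_contra h
    have h5 : 2 ^ 4 ≤ 2 ^ m := Nat.pow_le_pow_right (by norm_num) (by omega)
    omega
  interval_cases n <;> interval_cases m <;> omega

end

/-- **`TrivOn` for the normal closure of the cube of an element of order 9.** -/
theorem trivOn_nine {L : Type u} [Group L] {y : L} (h9 : y ^ 9 = 1) :
    TrivOn.{u, v} L (Subgroup.normalClosure {y ^ 3}) 16 := by
  intro V _ _ _ sq hc l hl x
  let N : Subgroup L :=
    { carrier := {l | ∀ x : V, l • x = x}
      one_mem' := fun x => one_smul _ x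
      mul_mem' := fun {a b} ha hb x => by rw [mul_smul, hb x, ha x]
      inv_mem' := fun {a} ha x => by rw [inv_smul_eq_iff, ha x] }
  have hN : N.Normal := ⟨fun n hn g x => by rw [mul_smul, mul_smul, hn, smul_inv_smul]⟩
  have h1 : Subgroup.normalClosure {y ^ 3} ≤ N := by
    refine Subgroup.normalClosure_le_normal ?_
    rintro _ rfl
    exact fun x => cube_triv sq hc (fun x => by rw [h9, one_smul]) x
  exact h1 hl x

end Cfsg.Agent.Omega.ML.Ex.TrivNine
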