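import Cfsg.Agent.Omega.ML.Ex.LocX
import Cfsg.Agent.Omega.ML.Ex.TIE

/-!
# Exact and low configurations: `C_M(x) = C_M(A)` for one `x ∈ A#` (helper322)

`F := C_M(A)`, `E := EE F = C_H(F) ∩ C_H(M / F)` (`TIE.EE`).  If `C_M(x) = F` for an `x ∈ A#`:

* `InX.le_EE` : `A ≤ E`;  `InX.EE_el` : `E` is elementary abelian;
* `InX.cent_le_EE` : `C_H(x) ≤ N_H(E)`;
* **`InX.false_of_no`** : impossible if no elementary abelian subgroup of `C_H(x)` which contains `A` is normalised by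
  `C_H(x)`.
-/

set_option autoImplicit false

namespace Cfsg.Agent.Omega.ML.Ex

open Subgroup Cfsg Cfsg.Agent.ZN Cfsg.Agent.Omega.ML.Ex.TIE
open Cfsg.Agent.Omega.NOThree.NoOver Cfsg.Agent.Omega.ML.CD Cfsg.Agent.ClassTwoFusion.Quad

universe u v

variable {H : Type u} [Group H] {M : Type v} [Group M] [MulDistribMulAction H M] {K T A : Subgroup H}

/-- `E` is of exponent 2 -/
theorem InX.EE_el (h : InX H M K T A) {F : Subgroup M} : ∀ e ∈ (EE F : Subgroup H), e * e = 1 :=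
  fun _ he => EE_sq h.sq h.faith he

theorem InX.EE_comm (h : InX H M K T A) {F : Subgroup M} {a b : H} (ha : a ∈ (EE F : Subgroup H))
    (hb : b ∈ (EE F : Subgroup H)) : a * b = b * a := by
  have h1 : ∀ z ∈ (EE F : Subgroup H), z⁻¹ = z := fun z hz => inv_eq_of_mul_eq_one_right (h.EE_el z hz)
  calc a * b = (a * b)⁻¹ := (h1 _ (mul_mem ha hb)).symm
    _ = b⁻¹ * a⁻¹ := mul_inv_rev _ _
    _ = b * a := by rw [h1 _ ha, h1 _ hb]

/-- **`A ≤ E`** -/
theorem InX.le_EE (h : InX H M K T A) {x : H} (hx : x ∈ A) (hcv : cv M ({x} : Set H) = cv M (A : Set H)) :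
    A ≤ (EE (cv M (A : Set H)) : Subgroup H) := by
  intro b hb
  refine ⟨fun m hm => hm b hb, fun m => ?_⟩
  have h1 : (x • m) * m⁻¹ ∈ cv M (A : Set H) := by
    rw [← hcv, mem_cv_singleton, smul_mul', ← mul_smul, h.el x hx, one_smul, smul_inv']
    have h3 : m⁻¹ = m := inv_eq_of_mul_eq_one_left (h.sq m)
    have h4 : (x • m)⁻¹ = x • m := inv_eq_of_mul_eq_one_left (h.sq _)
    rw [h3, h4, h.comm]
  have h2 : b • ((x • m) * m⁻¹) = (x • m) * m⁻¹ := h1 b hb
  rw [smul_mul', smul_inv', ← mul_smul, mul_inv_eq_iff_eq_mul] at h2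
  rw [← hcv, mem_cv_singleton, smul_mul', smul_inv', ← mul_smul, h.A_comm x hx b hb, h2]
  calc x • m * m⁻¹ * b • m * (x • m)⁻¹ = (x • m) * ((m⁻¹ * b • m) * (x • m)⁻¹) := by group
    _ = (x • m) * ((x • m)⁻¹ * (m⁻¹ * b • m)) := by rw [h.comm (m⁻¹ * b • m)]
    _ = m⁻¹ * b • m := by group
    _ = b • m * m⁻¹ := h.comm _ _

/-- **`C_H(x) ≤ N_H(E)`** -/
theorem InX.cent_le_EE (_h : InX H M K T A) {x : H} (hcv : cv M ({x} : Set H) = cv M (A : Set H)) :
    centralizer ({x} : Set H) ≤ normalizer ((EE (cv M (A : Set H)) : Subgroup H) : Set H) := by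
  have key : ∀ g ∈ centralizer ({x} : Set H), ∀ m, m ∈ cv M (A : Set H) → g • m ∈ cv M (A : Set H) := by
    intro g hg m hm
    rw [← hcv, mem_cv_singleton] at hm ⊢
    rw [← mul_smul, mem_centralizer_iff.1 hg x rfl, mul_smul, hm]
  have key2 : ∀ g ∈ centralizer ({x} : Set H), ∀ m, m ∈ cv M (A : Set H) ↔ g • m ∈ cv M (A : Set H) := by
    intro g hg m
    refine ⟨key g hg m, fun hm => ?_⟩
    have h1 := key g⁻¹ (inv_mem hg) _ hm
    rwa [inv_smul_smul] at h1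
  intro g hg
  rw [mem_normalizer_iff]
  refine fun y => ⟨fun hy => smul_mem_EE (key2 g hg) hy, fun hy => ?_⟩
  have h1 := smul_mem_EE (key2 g⁻¹ (inv_mem hg)) hy
  have h2 : g⁻¹ * (g * y * g⁻¹) * g⁻¹⁻¹ = y := by group
  rwa [h2] at h1

/-- **No normal elementary abelian subgroup of `C_H(x)` contains `A`.** -/
theorem InX.false_of_no (h : InX H M K T A) {x : H} (hx : x ∈ A)
    (hcv : cv M ({x} : Set H) = cv M (A : Set H))
    (hno : ∀ E : Subgroup H, A ≤ E → E ≤ centralizer ({x} : Set H) → (∀ e ∈ E, e * e = 1) →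
      (∀ g, g * x = x * g → ∀ e ∈ E, g * e * g⁻¹ ∈ E) → False) : False := by
  have hle := h.le_EE hx hcv
  refine hno _ hle ?_ h.EE_el fun g hg e he => ?_
  · intro e he
    exact mem_centralizer_singleton_iff.2 (h.EE_comm he (hle hx))
  · exact (mem_normalizer_iff.1 (h.cent_le_EE hcv (mem_centralizer_singleton_iff.2 hg)) e).1 he

end Cfsg.Agent.Omega.ML.Ex
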