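import Cfsg.Agent.Omega.ML.Ex.FourX
import Cfsg.Agent.Omega.ML.Ex.Gen

/-!
# The exact K-list: an involution of `K` with a large fixed space (helper842)

* **`ASx.exists_even`** : (K-free) `1 ≠ a ∈ A` : there is `k ∈ S` with `a · kak⁻¹` of even order
  [otherwise `a` centralises `R ∩ S` for `T ≤ R < X`, so `S` (`nmax`)];
* `InX.exists_inv` : there is an involution `y ∈ K` with `|M : C_M(y)| ≤ |M : C_M(a)|²`;
* `InX.exists_inv_four` : `|A| = 4` : there is an involution `y ∈ K` with `|M : C_M(y)| ≤ 16`;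
* `InX.card_le_of_four` : `|A| = 4`, `K` is generated by `m` conjugates of every involution: `|M| ≤ 16^m`.
-/

set_option autoImplicit false

namespace Cfsg.Agent.Omega.ML.Ex

open Subgroup Cfsg Cfsg.Agent.ZN Cfsg.Agent.ClassTwoFusion.Quad
open Cfsg.Agent.MinSimple.VModule (o2_isPGroup o2_le le_o2 le_normalizer_o2)

universe u v

section grp

variable {X : Type u} [Group X] {S T A : Subgroup X}

/-- `S` is generated by the `R ∩ S`, `T ≤ R < X`. -/
theorem ASx.le_of_forall [Finite X] (h : ASx S T A) {C : Subgroup X}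
    (hC : ∀ R : Subgroup X, T ≤ R → R ≠ ⊤ → R ⊓ S ≤ C) : S ≤ C := by
  have hS := h.norm
  let W : Subgroup X := ⨆ (R : Subgroup X) (_ : T ≤ R ∧ R ≠ ⊤), R ⊓ S
  have hWC : W ≤ C := iSup_le fun R => iSup_le fun hR => hC R hR.1 hR.2
  have hle : ∀ R : Subgroup X, T ≤ R → R ≠ ⊤ → R ⊓ S ≤ W := fun R h1 h2 =>
    le_iSup_of_le R (le_iSup_of_le ⟨h1, h2⟩ le_rfl)
  have hWS : W ≤ S := iSup_le fun R => iSup_le fun _ => inf_le_right
  -- `T` normalises `W`
  have hTW : T ≤ normalizer (W : Set X) := by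
    intro t ht
    rw [mem_normalizer_iff_map_conj_eq]
    have h1 : ∀ s ∈ T, W.map (MulAut.conj s).toMonoidHom ≤ W := by
      intro s hs
      rw [Subgroup.map_iSup]
      refine iSup_le fun R => ?_
      rw [Subgroup.map_iSup]
      refine iSup_le fun hR => ?_
      refine le_trans ?_ (hle R hR.1 hR.2)
      rintro _ ⟨r, hr, rfl⟩
      exact ⟨R.mul_mem (R.mul_mem (hR.1 hs) hr.1) (R.inv_mem (hR.1 hs)), hS.conj_mem r hr.2 s⟩
    refine le_antisymm (h1 t ht) ?_
    intro w hw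
    have h2 := h1 t⁻¹ (inv_mem ht) ⟨w, hw, rfl⟩
    refine ⟨_, h2, ?_⟩
    simp [mul_assoc]
  -- `W ⊔ T = ⊤`
  have htop : T ⊔ W = ⊤ := by
    by_contra hne
    refine h.nmax ⟨T ⊔ W, hne, fun R hTR hR r hr => ?_⟩
    have h3 : r ∈ S ⊔ T := by rw [h.gen]; exact mem_top r
    rw [mem_sup_of_normal_left] at h3
    obtain ⟨s, hs, t, ht, rfl⟩ := h3
    have h4 : s ∈ R := by
      have := R.mul_mem hr (R.inv_mem (hTR ht))
      rwa [mul_inv_cancel_right] at this
    exact mul_mem ((le_sup_right : W ≤ T ⊔ W) (hle R hTR hR ⟨h4, hs⟩)) ((le_sup_left : T ≤ T ⊔ W) ht)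
  intro s hs
  have h3 : s ∈ ((T ⊔ W : Subgroup X) : Set X) := by rw [htop]; exact mem_top s
  rw [coe_mul_of_left_le_normalizer_right _ _ hTW] at h3
  obtain ⟨t, ht, w, hw, rfl⟩ := h3
  have h4 : t ∈ S := by
    have := S.mul_mem hs (S.inv_mem (hWS hw))
    change t * w * w⁻¹ ∈ S at this
    rwa [mul_inv_cancel_right] at this
  exact C.mul_mem (hC T le_rfl h.ne_top ⟨ht, h4⟩) (hWC hw)

/-- **There is `k ∈ S` with `a · kak⁻¹` of even order.** -/
theorem ASx.exists_even [Finite X] (h : ASx S T A) {a : X} (ha : a ∈ A) (ha1 : a ≠ 1) :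
    ∃ k ∈ S, 2 ∣ orderOf (a * (k * a * k⁻¹)) := by
  by_contra hcon
  push Not at hcon
  have h1 : S ≤ centralizer ({a} : Set X) := by
    refine h.le_of_forall fun R hTR hR r hr => ?_
    have hN : R ≤ normalizer (o2 R : Set X) := le_normalizer_o2 R
    have h2 : a ∈ o2 R := h.low R hTR hR ha
    have h3 : r * a * r⁻¹ ∈ o2 R := ((mem_normalizer_iff.1 (hN hr.1)) a).1 h2
    have h4 : a * (r * a * r⁻¹) ∈ o2 R := mul_mem h2 h3
    obtain ⟨n, hn⟩ := (o2_isPGroup R) ⟨_, h4⟩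
    have h5 : (a * (r * a * r⁻¹)) ^ 2 ^ n = 1 := congrArg Subtype.val hn
    obtain ⟨k, -, hk⟩ := (Nat.dvd_prime_pow Nat.prime_two).1 (orderOf_dvd_of_pow_eq_one h5)
    have h6 : k = 0 := by
      by_contra h6
      exact hcon r hr.2 (by rw [hk]; exact dvd_pow_self 2 h6)
    rw [h6, pow_zero, orderOf_eq_one_iff] at hk
    have h7 : a * a = 1 := h.el a ha
    rw [mem_centralizer_singleton_iff]
    have h8 : r * a * r⁻¹ = a := by
      have h9 : a⁻¹ = a := inv_eq_of_mul_eq_one_right h7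
      calc r * a * r⁻¹ = a⁻¹ * (a * (r * a * r⁻¹)) := by group
        _ = a := by rw [hk, mul_one, h9]
    calc r * a = (r * a * r⁻¹) * r := by group
      _ = a * r := by rw [h8]
  have h2 : a ∈ centralizer (S : Set X) := by
    rw [mem_centralizer_iff]
    intro s hs
    exact mem_centralizer_singleton_iff.1 (h1 hs)
  rw [h.cen] at h2
  exact ha1 (mem_bot.1 h2)

/-- An involution of `S` in `⟨a, a^k⟩`. -/
theorem ASx.exists_inv_mem [Finite X] (h : ASx S T A) {a : X} (ha : a ∈ A) (ha1 : a ≠ 1) :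
    ∃ k ∈ S, ∃ y ∈ S, y ≠ 1 ∧ y * y = 1 ∧ y ∈ zpowers (a * (k * a * k⁻¹)) := by
  obtain ⟨k, hk, m, hm⟩ := h.exists_even ha ha1
  set u : X := a * (k * a * k⁻¹) with hu
  have hS := h.norm
  have h7 : a * a = 1 := h.el a ha
  have h9 : a⁻¹ = a := inv_eq_of_mul_eq_one_right h7
  have h0 : 0 < orderOf u := orderOf_pos u
  have hm0 : 0 < m := by omega
  have huS : u ∈ S := by
    have h1 : u = (a * k * a⁻¹) * k⁻¹ := by rw [hu, h9]; group
    rw [h1]
    exact S.mul_mem (hS.conj_mem k hk a) (S.inv_mem hk)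
  refine ⟨k, hk, u ^ m, S.pow_mem huS m, ?_, ?_, (zpowers u).pow_mem (mem_zpowers u) m⟩
  · intro h1
    have h2 := orderOf_dvd_of_pow_eq_one h1
    have h3 := Nat.le_of_dvd hm0 h2
    omega
  · rw [← pow_add, ← two_mul, ← hm, pow_orderOf_eq_one]

end grp

section module

variable {H : Type u} [Group H] {M : Type v} [Group M] [MulDistribMulAction H M] {K T A : Subgroup H}

theorem index_inf_le_mul [Finite M] (U W : Subgroup M) : (U ⊓ W).index ≤ U.index * W.index := by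
  exact Subgroup.index_inf_le

/-- **An involution `y ∈ K` with `|M : C_M(y)| ≤ |M : C_M(a)|²`.** -/
theorem InX.exists_inv [Finite H] [Finite M] (h : InX H M K T A) {a : H} (ha : a ∈ A) (ha1 : a ≠ 1) :
    ∃ y ∈ K, y ≠ 1 ∧ y * y = 1 ∧
      (cv M ({y} : Set H)).index ≤ (cv M ({a} : Set H)).index * (cv M ({a} : Set H)).index := by
  obtain ⟨k, hk, y, hy, hy1, hyy, hyu⟩ := h.asx.exists_inv_mem ha ha1
  refine ⟨y, hy, hy1, hyy, ?_⟩
  have h1 : cv M ({a} : Set H) ⊓ cv M ({k * a * k⁻¹} : Set H) ≤ cv M ({y} : Set H) := by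
    rintro m ⟨h2, h3⟩
    have h2 : a • m = m := mem_cv_singleton.1 h2
    have h3 : (k * a * k⁻¹) • m = m := mem_cv_singleton.1 h3
    rw [mem_cv_singleton]
    have h4 : zpowers (a * (k * a * k⁻¹)) ≤ MulAction.stabilizer H m := by
      rw [zpowers_le, MulAction.mem_stabilizer_iff, mul_smul, h3, h2]
    exact MulAction.mem_stabilizer_iff.1 (h4 hyu)
  calc (cv M ({y} : Set H)).index ≤ (cv M ({a} : Set H) ⊓ cv M ({k * a * k⁻¹} : Set H)).index :=
        Nat.le_of_dvd (Nat.pos_of_ne_zero Subgroup.index_ne_zero_of_finite) (Subgroup.index_dvd_of_le h1)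
    _ ≤ (cv M ({a} : Set H)).index * (cv M ({k * a * k⁻¹} : Set H)).index := index_inf_le_mul _ _
    _ = _ := by rw [cv_conj_index]

/-- **`|A| = 4`** : an involution `y ∈ K` with `|M : C_M(y)| ≤ 16`. -/
theorem InX.exists_inv_four [Finite H] [Finite M] (h : InX H M K T A) (h4 : Nat.card A = 4) :
    ∃ y ∈ K, y ≠ 1 ∧ y * y = 1 ∧ (cv M ({y} : Set H)).index ≤ 16 := by
  have hn : Nontrivial A := (Subgroup.one_lt_card_iff_ne_bot A).1 (by omega) |> fun h1 =>
    (Subgroup.nontrivial_iff_ne_bot A).2 h1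
  obtain ⟨a, ha⟩ := exists_ne (1 : A)
  obtain ⟨y, hy, hy1, hyy, hle⟩ := h.exists_inv a.2 (fun h1 => ha (Subtype.ext h1))
  refine ⟨y, hy, hy1, hyy, hle.trans ?_⟩
  have h5 := h.index_le_four h4 a.2
  exact (Nat.mul_le_mul h5 h5).trans (by norm_num)

/-- **`|A| = 4`**, `K` is generated by `m` conjugates of every involution: `|M| ≤ 16^m`. -/
theorem InX.card_le_of_four [Finite H] [Finite M] (h : InX H M K T A) (h4 : Nat.card A = 4) {m : ℕ}
    (hg : ∀ x : K, x ≠ 1 → x * x = 1 → ∃ l : Fin m → K, closure (Set.range fun i => l i * x * (l i)⁻¹) = ⊤) :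
    Nat.card M ≤ 16 ^ m := by
  obtain ⟨y, hy, hy1, hyy, hle⟩ := h.exists_inv_four h4
  obtain ⟨l, hl⟩ := hg ⟨y, hy⟩ (fun h1 => hy1 (congrArg Subtype.val h1)) (Subtype.ext hyy)
  have h3 : K ≤ closure (Set.range fun i => (l i : H) * y * (l i : H)⁻¹) := by
    have h3 := congrArg (Subgroup.map K.subtype) hl
    rw [MonoidHom.map_closure, ← Set.range_comp, ← MonoidHom.range_eq_map, range_subtype] at h3
    exact le_of_eq h3.symm
  exact (Gen.card_le_conj_index h y _ h3).trans (Nat.pow_le_pow_left hle m)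

end module

end Cfsg.Agent.Omega.ML.Ex
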