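import Cfsg.Agent.Omega.ML.ExRow

/-!
# The K-list for EXACT subgroups: THEOREM EX for exact atoms (helper10)

`Dat H M G E Q n` is the situation of `ExRow.lean` (`|Q| = 2^(2n+1)`, `Q` not abelian, `E ≤ G` acts irreducibly on `Q`
modulo its subgroup of order 2 and trivially on the `G`-modules of order at most `2^n`).

* `core_triv` : `Q` acts trivially on the `G`-modules of order at most `2^(2n)`;
* **`Dat.falseX`** : `n ≥ 2`: there is no exact atom `A ≤ Q`, `|A| ≥ 4` (a strict one is excluded by `Dat.false`).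
-/

set_option autoImplicit false

namespace Cfsg.Agent.Omega.ML.Ex.ExX

open Subgroup Cfsg Cfsg.Agent.ClassTwoFusion.Quad Cfsg.Agent.Omega.NOThree.NoOver Cfsg.Agent.Omega.ML.CD
open Cfsg.Agent.Omega.ML.ExCore Cfsg.Agent.Omega.ML.ExRow

universe u v

/-- if the product of two elements outside `I` lies in `I` then `|B : I| ≤ 2` -/
theorem index_le_two {B : Type*} [Group B] (I : Subgroup B) (h : ∀ a b : B, a ∉ I → b ∉ I → a * b ∈ I) :
    I.index ≤ 2 := by
  by_cases h1 : I = ⊤
  · rw [h1, index_top]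
    norm_num
  · obtain ⟨x, hx⟩ : ∃ x, x ∉ I := by
      by_contra hc
      push Not at hc
      exact h1 (by rw [eq_top_iff]; exact fun x _ => hc x)
    refine (index_eq_two_iff.2 ⟨x, fun b => ?_⟩).le
    by_cases hb : b ∈ I
    · right
      refine ⟨hb, fun hbx => hx ?_⟩
      have h2 := I.mul_mem (I.inv_mem hb) hbx
      rwa [inv_mul_cancel_left] at h2
    · left
      exact ⟨h b x hb hx, hb⟩

section

variable {H : Type u} [Group H] [Finite H] {G E Q : Subgroup H} {n : ℕ}

/-- `Q` acts trivially on the `G`-modules of order at most `2^(2n)`. -/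
theorem core_triv (D : Dat.{u, v} H G E Q n) : TrivOn.{u, v} G (Q.subgroupOf G) (2 ^ (2 * n)) := by
  intro N _ _ _ sq hN
  have hQn : (Q.subgroupOf G).Normal := ⟨fun q hq g => D.nQ g g.2 q hq⟩
  refine core (L := G) (N := N) sq (Q := Q.subgroupOf G) (E := E.subgroupOf G) hQn
    (D.two.comap_of_injective _ G.subtype_injective) hN (by
      intro B hB hBE
      have h1 : B.map G.subtype ≤ Q := by
        rintro _ ⟨b, hb, rfl⟩
        exact hB hb
      have h4 : B.relIndex (Q.subgroupOf G) = (B.map G.subtype).relIndex Q := by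
        have h5 : (Q.subgroupOf G).map G.subtype = Q := by rw [subgroupOf_map_subtype, inf_eq_left.2 D.QG]
        rw [← relIndex_map_map_of_injective B (Q.subgroupOf G) G.subtype_injective, h5]
      rcases D.irr _ h1 (by
        rintro l hl _ ⟨b, hb, rfl⟩
        exact ⟨⟨l, D.EG hl⟩ * b * ⟨l, D.EG hl⟩⁻¹, hBE ⟨l, D.EG hl⟩ hl b hb, rfl⟩) with h6 | h6
      · left
        rw [h4]
        exact D.le_relIndex h1 h6
      · right
        ext x
        rw [mem_subgroupOf, ← h6]
        constructor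
        · intro hx
          exact ⟨x, hx, rfl⟩
        · rintro ⟨y, hy, hyx⟩
          rwa [← Subtype.ext hyx]) D.triv

/-- the center of `Q`: an involution `z`, `G` centralises it, all commutators of `Q` are in `⟨z⟩` -/
theorem exists_z (D : Dat.{u, v} H G E Q n) : ∃ z ∈ Q, z ≠ 1 ∧ z * z = 1 ∧ (∀ q ∈ Q, q * z = z * q) ∧
    (∀ g ∈ G, g * z = z * g) ∧ (∀ x ∈ Q, (∀ q ∈ Q, q * x = x * q) → x = 1 ∨ x = z) ∧
    ∀ x ∈ Q, ∀ y ∈ Q, x * y * x⁻¹ * y⁻¹ = 1 ∨ x * y * x⁻¹ * y⁻¹ = z := by
  have hp : Fact (Nat.Prime 2) := ⟨Nat.prime_two⟩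
  have hEQ : ∀ e ∈ E, ∀ q ∈ Q, e * q * e⁻¹ ∈ Q := fun e he => D.nQ e (D.EG he)
  -- conjugation by elements of `G`
  have hcen : ∀ g ∈ G, ∀ x ∈ Q, (∀ q ∈ Q, q * x = x * q) → ∀ q ∈ Q, q * (g * x * g⁻¹) = (g * x * g⁻¹) * q := by
    intro g hg x hx hc q hq
    have h1 := hc (g⁻¹ * q * g) (by
      have h2 := D.nQ g⁻¹ (G.inv_mem hg) q hq
      rwa [inv_inv] at h2)
    calc q * (g * x * g⁻¹) = g * ((g⁻¹ * q * g) * x) * g⁻¹ := by group
      _ = g * (x * (g⁻¹ * q * g)) * g⁻¹ := by rw [h1]
      _ = _ := by group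
  let Zs : Subgroup H := Q ⊓ centralizer (Q : Set H)
  have hmem : ∀ {x : H}, x ∈ Zs ↔ x ∈ Q ∧ ∀ q ∈ Q, q * x = x * q := by
    intro x
    rw [mem_inf, mem_centralizer_iff]
    rfl
  have hZ2 : Nat.card Zs ≤ 2 := by
    refine (D.irr Zs inf_le_left fun e he x hx => ?_).resolve_right fun h1 => ?_
    · rw [hmem] at hx ⊢
      exact ⟨hEQ e he x hx.1, hcen e (D.EG he) x hx.1 hx.2⟩
    · obtain ⟨a, ha, b, hb, hab⟩ := D.nab
      have h2 : b ∈ Zs := h1 ▸ hb
      exact hab ((hmem.1 h2).2 a ha)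
  -- `Z(Q) ≠ 1`
  have hQne : Nontrivial Q := by
    obtain ⟨a, ha, b, hb, hab⟩ := D.nab
    refine ⟨⟨a, ha⟩, 1, fun h1 => hab ?_⟩
    have h2 : a = 1 := congrArg Subtype.val h1
    rw [h2, one_mul, mul_one]
  have hcn := D.two.center_nontrivial
  obtain ⟨⟨⟨z, hzQ⟩, hzc⟩, hz1⟩ := exists_ne (1 : center Q)
  have hz1' : z ≠ 1 := by
    intro h1
    apply hz1
    apply Subtype.ext
    apply Subtype.ext
    exact h1
  have hzc' : ∀ q ∈ Q, q * z = z * q := by
    intro q hq
    exact congrArg Subtype.val (mem_center_iff.1 hzc ⟨q, hq⟩)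
  have hzZ : z ∈ Zs := hmem.2 ⟨hzQ, hzc'⟩
  -- elements of a group of order at most two
  have two : ∀ (B : Subgroup H), Nat.card B ≤ 2 → ∀ x ∈ B, ∀ y ∈ B, x = 1 ∨ y = 1 ∨ x = y := by
    intro B hB x hx y hy
    by_contra hc
    push Not at hc
    obtain ⟨h1, h2, h3⟩ := hc
    have h4 : ({(1 : H), x, y} : Set H) ⊆ (B : Set H) := by
      rintro w (rfl | rfl | rfl)
      · exact B.one_mem
      · exact hx
      · exact hy
    have h5 := Set.ncard_le_ncard h4 (Set.toFinite _)
    have h6 : ({(1 : H), x, y} : Set H).ncard = 3 := by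
      rw [Set.ncard_eq_three]
      exact ⟨1, x, y, fun h => h1 h.symm, fun h => h2 h.symm, h3, rfl⟩
    rw [h6] at h5
    have h7 : (B : Set H).ncard = Nat.card B := rfl
    omega
  have huniq : ∀ x ∈ Q, (∀ q ∈ Q, q * x = x * q) → x = 1 ∨ x = z := by
    intro x hx hc
    rcases two Zs hZ2 x (hmem.2 ⟨hx, hc⟩) z hzZ with h1 | h1 | h1
    · exact Or.inl h1
    · exact absurd h1 hz1'
    · exact Or.inr h1
  refine ⟨z, hzQ, hz1', ?_, hzc', ?_, huniq, ?_⟩
  · rcases two Zs hZ2 (z * z) (Zs.mul_mem hzZ hzZ) z hzZ with h1 | h1 | h1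
    · exact h1
    · exact absurd h1 hz1'
    · exact absurd (mul_eq_left.1 h1) hz1'
  · intro g hg
    have h1 := huniq _ (D.nQ g hg z hzQ) (hcen g hg z hzQ hzc')
    rcases h1 with h1 | h1
    · exfalso
      apply hz1'
      have h2 : z = g⁻¹ * (g * z * g⁻¹) * g := by group
      rw [h2, h1]; group
    · rw [mul_inv_eq_iff_eq_mul] at h1
      exact h1
  · -- the derived group
    let C : Subgroup H := ⁅Q, Q⁆
    have hCQ : C ≤ Q := commutator_le_self Q
    have hC2 : Nat.card C ≤ 2 := by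
      refine (D.irr C hCQ fun e he x hx => ?_).resolve_right fun h1 => ?_
      · have h2 : C.map (MulAut.conj e).toMonoidHom = C := by
          have h3 : Q.map (MulAut.conj e).toMonoidHom = Q := by
            apply le_antisymm
            · rintro _ ⟨q, hq, rfl⟩
              exact hEQ e he q hq
            · intro q hq
              refine ⟨e⁻¹ * q * e, ?_, ?_⟩
              · have h4 := hEQ e⁻¹ (E.inv_mem he) q hq
                rwa [inv_inv] at h4
              · show e * (e⁻¹ * q * e) * e⁻¹ = q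
                group
          show (⁅Q, Q⁆).map (MulAut.conj e).toMonoidHom = ⁅Q, Q⁆
          rw [map_commutator, h3]
        have h3 : e * x * e⁻¹ ∈ C.map (MulAut.conj e).toMonoidHom := ⟨x, hx, rfl⟩
        rwa [h2] at h3
      · -- `Q` is nilpotent
        have hnil : Group.IsNilpotent Q := D.two.isNilpotent
        have hsol : Group.IsSolvable Q := inferInstance
        have h2 : _root_.commutator Q < ⊤ := Group.IsSolvable.commutator_lt_top_of_nontrivial Q
        apply h2.ne
        rw [eq_top_iff]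
        intro x _
        have h3 : (x : H) ∈ C := by
          rw [h1]
          exact x.2
        have h4 : (_root_.commutator Q).map Q.subtype = C := by
          rw [_root_.commutator_def, map_commutator, ← MonoidHom.range_eq_map, range_subtype]
        rw [← h4] at h3
        obtain ⟨y, hy, hyx⟩ := h3
        rwa [← Subtype.ext hyx]
    intro x hx y hy
    have h1 : x * y * x⁻¹ * y⁻¹ ∈ C := commutator_mem_commutator hx hy
    by_cases h2 : x * y * x⁻¹ * y⁻¹ = 1
    · exact Or.inl h2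
    · refine huniq _ (hCQ h1) fun q hq => ?_
      have h3 : q * (x * y * x⁻¹ * y⁻¹) * q⁻¹ ∈ C := by
        have h4 : q * (x * y * x⁻¹ * y⁻¹) * q⁻¹ * (x * y * x⁻¹ * y⁻¹)⁻¹ ∈ C :=
          commutator_mem_commutator hq (hCQ h1)
        have h5 := C.mul_mem h4 h1
        rwa [inv_mul_cancel_right] at h5
      rcases two C hC2 _ h3 _ h1 with h4 | h4 | h4
      · exfalso
        apply h2
        have h5 : x * y * x⁻¹ * y⁻¹ = q⁻¹ * (q * (x * y * x⁻¹ * y⁻¹) * q⁻¹) * q := by group
        rw [h5, h4]; group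
      · exact absurd h4 h2
      · rw [mul_inv_eq_iff_eq_mul] at h4
        exact h4

end

section

variable {H : Type u} [Group H] [Finite H] {M : Type v} [Group M] [Finite M] [MulDistribMulAction H M]
  {G E Q A : Subgroup H} {n : ℕ}

omit [Finite H] [Finite M] in
/-- a 2-group which acts trivially on `M / C_M(Q)` is abelian -/
theorem false_of_triv (D : Dat.{u, v} H G E Q n) (sq : ∀ m : M, m * m = 1)
    (faith : ∀ h : H, (∀ m : M, h • m = m) → h = 1)
    (hQF : ∀ q ∈ Q, ∀ m : M, q • m * m⁻¹ ∈ cv M (Q : Set H)) : False := by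
  have hcomm := ExCore.comm_of_sq (N := M) sq
  have hmF : ∀ {m : M}, m ∈ cv M (Q : Set H) → ∀ q ∈ Q, q • m = m := fun hm q hq => hm q hq
  obtain ⟨a, ha, b, hb, hab⟩ := D.nab
  apply hab
  have key : ∀ a ∈ Q, ∀ b ∈ Q, ∀ m : M, (a * b) • m = (b • m * m⁻¹) * ((a • m * m⁻¹) * m) := by
    intro a ha b hb m
    have h1 := hmF (hQF b hb m) a ha
    have h3 : b • m = (b • m * m⁻¹) * m := by rw [inv_mul_cancel_right]
    rw [mul_smul]
    conv_lhs => rw [h3, smul_mul', h1]
    rw [inv_mul_cancel_right]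
  have h1 : (b * a)⁻¹ * (a * b) = 1 := by
    apply faith
    intro m
    rw [mul_smul, inv_smul_eq_iff, key a ha b hb, key b hb a ha, ← mul_assoc (b • m * m⁻¹),
      hcomm (b • m * m⁻¹) (a • m * m⁻¹), mul_assoc]
  exact (inv_mul_eq_one.1 h1).symm

/-- no subgroup of `Q` over-offends -/
theorem fab_le (D : Dat.{u, v} H G E Q n) (sq : ∀ m : M, m * m = 1)
    (faith : ∀ h : H, (∀ m : M, h • m = m) → h = 1) {B : Subgroup H} (hB : B ≤ Q) :
    fab M 1 1 B ≤ Nat.card M := by
  have hf := ls_fab (H := H) M 1 1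
  by_contra hc
  rw [not_le] at hc
  have h1 := hf.le_lo Q B hB
  refine D.false sq faith (hf.lo_le_self Q) (hf.strict_lo Q) ?_
  by_contra h2
  rw [not_lt] at h2
  -- `|lo| ≤ 2`
  have h3 : Nat.card M < fab M 1 1 (lo (fab M 1 1) Q) := hc.trans_le h1
  by_cases h4 : lo (fab M 1 1) Q = ⊥
  · rw [h4, fab_bot, pow_one] at h3
    exact lt_irrefl _ h3
  · have h5 : cv M (lo (fab M 1 1) Q : Set H) ≠ ⊤ := by
      intro h6
      apply h4
      rw [eq_bot_iff]
      intro x hx
      rw [mem_bot]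
      apply faith
      intro m
      have h7 : m ∈ cv M (lo (fab M 1 1) Q : Set H) := by rw [h6]; exact mem_top m
      exact h7 x hx
    have h6 : 2 ≤ (cv M (lo (fab M 1 1) Q : Set H)).index := by
      have h7 : (cv M (lo (fab M 1 1) Q : Set H)).index ≠ 1 := fun h8 => h5 (index_eq_one.1 h8)
      have h8 : (cv M (lo (fab M 1 1) Q : Set H)).index ≠ 0 := index_ne_zero_of_finite
      omega
    have h7 := (cv M (lo (fab M 1 1) Q : Set H)).card_mul_index
    have h8 : fab M 1 1 (lo (fab M 1 1) Q) ≤ 2 * Nat.card (cv M (lo (fab M 1 1) Q : Set H)) := by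
      rw [fab, pow_one, pow_one]
      exact Nat.mul_le_mul_right _ h2
    have h9 : Nat.card (cv M (lo (fab M 1 1) Q : Set H)) * 2 ≤ Nat.card M := by
      rw [← h7]
      exact Nat.mul_le_mul_left _ h6
    omega

/-- **THEOREM EX for exact atoms.** -/
theorem Dat.falseX (D : Dat.{u, v} H G E Q n) (hn : 2 ≤ n) (sq : ∀ m : M, m * m = 1)
    (faith : ∀ h : H, (∀ m : M, h • m = m) → h = 1) (hAQ : A ≤ Q) (el : ∀ a ∈ A, a * a = 1)
    (four : 4 ≤ Nat.card A) (exact : (cv M (A : Set H)).index = Nat.card A)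
    (atom : ∀ C : Subgroup H, C ≤ A → C ≠ ⊥ → C ≠ A → Nat.card C < (cv M (C : Set H)).index) : False := by
  have hf := ls_fab (H := H) M 1 1
  have hcomm := ExCore.comm_of_sq (N := M) sq
  obtain ⟨z, hzQ, hz1, hz2, hzc, hzG, huniq, hder⟩ := exists_z D
  have hEQ : ∀ e ∈ E, ∀ q ∈ Q, e * q * e⁻¹ ∈ Q := fun e he => D.nQ e (D.EG he)
  have hle : ∀ B ≤ Q, fab M 1 1 B ≤ Nat.card M := fun B hB => fab_le D sq faith hB
  -- `A` is best
  have hcard : ∀ B : Subgroup H, fab M 1 1 B = Nat.card M → (cv M (B : Set H)).index = Nat.card B := by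
    intro B hB
    have h1 := (cv M (B : Set H)).card_mul_index
    rw [fab, pow_one, pow_one, ← h1, mul_comm] at hB
    exact (Nat.eq_of_mul_eq_mul_left Nat.card_pos hB).symm
  have hA : Best (fab M 1 1) Q A := by
    refine ⟨hAQ, fun B hB => (hle B hB).trans ?_⟩
    rw [fab, pow_one, pow_one, ← exact, mul_comm, card_mul_index]
  have hfA : fab M 1 1 A = Nat.card M := by
    rw [fab, pow_one, pow_one, ← exact, mul_comm, card_mul_index]
  have hbest : ∀ {B : Subgroup H}, Best (fab M 1 1) Q B → (cv M (B : Set H)).index = Nat.card B :=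
    fun hB => hcard _ ((hB.eq hA).trans hfA)
  -- `Q` is best
  have hQ : Best (fab M 1 1) Q Q := by
    have h1 : A ≤ hi (fab M 1 1) Q := le_hi hA
    have h4 : G ≤ normalizer (Q : Set H) := by
      intro g hg
      rw [mem_normalizer_iff]
      intro x
      refine ⟨fun hx => D.nQ g hg x hx, fun hx => ?_⟩
      have h5 := D.nQ g⁻¹ (G.inv_mem hg) _ hx
      have h6 : g⁻¹ * (g * x * g⁻¹) * g⁻¹⁻¹ = x := by group
      rwa [h6] at h5
    have h5 := h4.trans (hf.normalizer_le_hi Q)
    have h6 : hi (fab M 1 1) Q = Q := by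
      refine (D.irr _ (hf.hi_le_self Q) fun l hl x hx => ?_).resolve_left fun h6 => ?_
      · exact (mem_normalizer_iff.1 (h5 (D.EG hl)) x).1 hx
      · have h7 := card_le_of_le h1
        omega
    have h7 := hf.best_hi Q
    rwa [h6] at h7
  have hFidx : (cv M (Q : Set H)).index = 2 ^ (2 * n + 1) := by rw [hbest hQ, D.card]
  -- `z ∈ A`
  have hzA : z ∈ A := by
    by_contra hzA
    obtain ⟨a, haA, ha1⟩ : ∃ a ∈ A, a ≠ 1 := by
      by_contra hc
      push Not at hc
      have h1 : A = ⊥ := by rw [eq_bot_iff]; exact fun x hx => mem_bot.2 (hc x hx)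
      rw [h1, card_bot] at four
      omega
    obtain ⟨q, hq, hqa⟩ : ∃ q ∈ Q, q * a ≠ a * q := by
      by_contra hc
      push Not at hc
      rcases huniq a (hAQ haA) hc with h1 | h1
      · exact ha1 h1
      · exact hzA (h1 ▸ haA)
    have hqz : q * a * q⁻¹ * a⁻¹ = z := by
      rcases hder q hq a (hAQ haA) with h1 | h1
      · exfalso
        apply hqa
        rwa [mul_inv_eq_one, mul_inv_eq_iff_eq_mul] at h1
      · exact h1
    have hcj : cj q A ≤ Q := by
      rintro _ ⟨x, hx, rfl⟩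
      exact Q.mul_mem (Q.mul_mem hq (hAQ hx)) (Q.inv_mem hq)
    have hbc : Best (fab M 1 1) Q (cj q A) := hA.of_le hcj (hf.conj q A).ge
    have hbi := (hf.best_sup_inf hA hbc).2
    -- `A ∩ A^q ≠ A`
    have hne : A ⊓ cj q A ≠ A := by
      intro h1
      have h2 : A ≤ cj q A := inf_eq_left.1 h1
      have h3 : Nat.card (cj q A) = Nat.card A :=
        (Nat.card_congr (A.equivMapOfInjective _ (MulAut.conj q).injective).toEquiv).symm
      have h4 : A = cj q A := eq_of_le_of_card_ge h2 h3.le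
      have h5 : q * a * q⁻¹ ∈ A := by
        rw [h4]
        exact ⟨a, haA, rfl⟩
      apply hzA
      rw [← hqz]
      exact A.mul_mem h5 (A.inv_mem haA)
    -- `A ∩ A^q ≠ 1`
    have hmem : ∀ b ∈ A, q * b = b * q → b ∈ A ⊓ cj q A := by
      intro b hb hc
      refine ⟨hb, mem_cj.2 ?_⟩
      have h1 : q⁻¹ * b * q = b := by
        calc q⁻¹ * b * q = q⁻¹ * (b * q) := by group
          _ = q⁻¹ * (q * b) := by rw [hc]
          _ = b := by group
      rwa [h1]
    have hne' : A ⊓ cj q A ≠ ⊥ := by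
      intro h1
      obtain ⟨b, hbA, hb1, hba⟩ : ∃ b ∈ A, b ≠ 1 ∧ b ≠ a := by
        by_contra hc
        push Not at hc
        have h2 : (A : Set H) ⊆ {1, a} := by
          intro x hx
          by_cases h3 : x = 1
          · exact Or.inl h3
          · exact Or.inr (hc x hx h3)
        have h3 := Set.ncard_le_ncard h2 (Set.toFinite _)
        have h4 : ({1, a} : Set H).ncard ≤ 2 := (Set.ncard_insert_le _ _).trans (by rw [Set.ncard_singleton])
        have h5 : (A : Set H).ncard = Nat.card A := rfl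
        omega
      have hnc : q * b ≠ b * q := fun hc => hb1 (mem_bot.1 (h1 ▸ hmem b hbA hc))
      have hqb : q * b * q⁻¹ * b⁻¹ = z := by
        rcases hder q hq b (hAQ hbA) with h2 | h2
        · exfalso
          apply hnc
          rwa [mul_inv_eq_one, mul_inv_eq_iff_eq_mul] at h2
        · exact h2
      have h2 : q * a = z * a * q := by
        rw [← hqz]; group
      have h3 : q * b = z * b * q := by
        rw [← hqb]; group
      have h4 : q * (a * b) = a * b * q := by
        calc q * (a * b) = (q * a) * b := by group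
          _ = z * a * (q * b) := by rw [h2]; group
          _ = z * a * (z * b * q) := by rw [h3]
          _ = z * (a * z) * b * q := by group
          _ = z * (z * a) * b * q := by rw [hzc a (hAQ haA)]
          _ = (z * z) * (a * b * q) := by group
          _ = a * b * q := by rw [hz2, one_mul]
      have h5 := mem_bot.1 (h1 ▸ hmem (a * b) (A.mul_mem haA hbA) h4)
      have h6 : b = a := by
        calc b = (a * a) * b := by rw [el a haA, one_mul]
          _ = a * (a * b) := by group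
          _ = a := by rw [h5, mul_one]
      exact hba h6
    have h1 := atom _ inf_le_left hne' hne
    rw [hbest hbi] at h1
    exact lt_irrefl _ h1
  -- `C = C_M(z)`
  obtain ⟨C, hC⟩ : ∃ C : Subgroup M, C = cv M ((zpowers z : Subgroup H) : Set H) := ⟨_, rfl⟩
  have hmC : ∀ {m : M}, m ∈ C ↔ z • m = m := by
    intro m
    rw [hC]
    constructor
    · intro h
      exact h z (mem_zpowers z)
    · intro h x hx
      have h1 : zpowers z ≤ MulAction.stabilizer H m := by
        rw [zpowers_le]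
        exact MulAction.mem_stabilizer_iff.2 h
      exact MulAction.mem_stabilizer_iff.1 (h1 hx)
  have hCidx : 2 < C.index := by
    have h1 : Nat.card (zpowers z) = 2 := by
      rw [Nat.card_zpowers]
      exact orderOf_eq_prime (by rw [pow_two, hz2]) hz1
    have h2 := atom (zpowers z) (by rwa [zpowers_le]) (by rwa [Ne, zpowers_eq_bot]) (by
      intro h3
      rw [← h3, h1] at four
      omega)
    rwa [h1, ← hC] at h2
  obtain ⟨F, hF⟩ : ∃ F : Subgroup M, F = cv M (Q : Set H) := ⟨_, rfl⟩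
  have hmF : ∀ {m : M}, m ∈ F ↔ ∀ q ∈ Q, q • m = m := by
    intro m
    rw [hF]
    exact Iff.rfl
  have hFC : F ≤ C := fun m hm => hmC.2 (hmF.1 hm z hzQ)
  have hGF : ∀ g ∈ G, ∀ x ∈ F, g • x ∈ F := by
    intro g hg x hx
    rw [hmF] at hx ⊢
    intro q hq
    have h1 := D.nQ _ (G.inv_mem hg) q hq
    rw [inv_inv] at h1
    have h2 := hx _ h1
    rw [mul_smul, mul_smul, inv_smul_eq_iff] at h2
    exact h2
  have hGC : ∀ g ∈ G, ∀ x ∈ C, g • x ∈ C := by
    intro g hg x hx
    rw [hmC] at hx ⊢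
    rw [← mul_smul, ← hzG g hg, mul_smul, hx]
  have hQC : ∀ q ∈ Q, ∀ x ∈ C, q • x ∈ C := fun q hq => hGC q (D.QG hq)
  have hfin : ¬ ∀ q ∈ Q, ∀ m : M, q • m * m⁻¹ ∈ F := by
    intro h1
    rw [hF] at h1
    exact false_of_triv D sq faith h1
  -- `[M, z] ≤ F` if `[M, Q] ≤ C`
  -- indices
  have hmul : F.relIndex C * C.index = 2 ^ (2 * n + 1) := by
    rw [relIndex_mul_index hFC, hF, hFidx]
  have hpow : ∀ k : ℕ, k ∣ 2 ^ (2 * n + 1) → ∃ j, k = 2 ^ j := by
    intro k hk
    obtain ⟨j, -, hj⟩ := (Nat.dvd_prime_pow Nat.prime_two).1 hk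
    exact ⟨j, hj⟩
  obtain ⟨i, hi'⟩ := hpow _ (Dvd.intro _ hmul)
  obtain ⟨j, hj⟩ := hpow _ (Dvd.intro_left _ hmul)
  have hij : i + j = 2 * n + 1 := by
    rw [hi', hj, ← pow_add] at hmul
    exact Nat.pow_right_injective (le_refl 2) hmul
  have hj2 : 2 ≤ j := by
    rw [hj] at hCidx
    have h1 : 2 ^ 1 < 2 ^ j := by rwa [pow_one]
    exact (Nat.pow_lt_pow_iff_right (by norm_num)).1 h1
  -- trivial actions
  have hsecQ : ∀ {U V : Subgroup M}, (∀ g ∈ G, ∀ x ∈ U, g • x ∈ U) → (∀ g ∈ G, ∀ x ∈ V, g • x ∈ V) →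
      U.relIndex V ≤ 2 ^ (2 * n) → ∀ q ∈ Q, ∀ x ∈ V, q • x * x⁻¹ ∈ U := by
    intro U V hU hV hc q hq x hx
    exact (core_triv D).sec sq (fun l x hx => hU l l.2 x hx) (fun l x hx => hV l l.2 x hx) hc
      (l := ⟨q, D.QG hq⟩) hq hx
  have hsecE : ∀ {U V : Subgroup M}, (∀ g ∈ G, ∀ x ∈ U, g • x ∈ U) → (∀ g ∈ G, ∀ x ∈ V, g • x ∈ V) →
      U.relIndex V ≤ 2 ^ n → ∀ e ∈ E, ∀ x ∈ V, e • x * x⁻¹ ∈ U := by
    intro U V hU hV hc e he x hx
    exact D.triv.sec sq (fun l x hx => hU l l.2 x hx) (fun l x hx => hV l l.2 x hx) hc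
      (l := ⟨e, D.EG he⟩) he hx
  have hGT : ∀ g ∈ G, ∀ x ∈ (⊤ : Subgroup M), g • x ∈ (⊤ : Subgroup M) := fun _ _ _ _ => mem_top _
  rcases Nat.eq_zero_or_pos i with hi0 | hi0
  · -- `C = F`
    have hCF : C ≤ F := by
      rw [← relIndex_eq_one, hi', hi0, pow_zero]
    apply hfin
    intro q hq m
    -- first `[M, z] ≤ F`
    have h1 : z • m * m⁻¹ ∈ F := hCF (hmC.2 (by
      rw [smul_mul', ← mul_smul, hz2, one_smul, smul_inv', hcomm]
      have h2 : ∀ w : M, w⁻¹ = w := fun w => inv_eq_of_mul_eq_one_right (sq w)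
      rw [h2, h2 m]))
    apply hCF
    rw [hmC, smul_mul', smul_inv', ← mul_smul, ← hzc q hq, mul_smul]
    have h2 : z • m = (z • m * m⁻¹) * m := by rw [inv_mul_cancel_right]
    have h3 := hmF.1 h1 q hq
    rw [h2, smul_mul', h3, mul_inv_rev]
    rw [hcomm (z • m * m⁻¹) (q • m), mul_assoc, hcomm m⁻¹, ← mul_assoc (z • m * m⁻¹), mul_inv_cancel, one_mul]
  · have hMC : ∀ q ∈ Q, ∀ m : M, q • m * m⁻¹ ∈ C := by
      intro q hq m
      refine hsecQ hGC hGT ?_ q hq m (mem_top m)
      rw [relIndex_top_right, hj]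
      exact Nat.pow_le_pow_right (by norm_num) (by omega)
    have hCFQ : ∀ q ∈ Q, ∀ c ∈ C, q • c * c⁻¹ ∈ F := by
      refine hsecQ hGF hGC ?_
      rw [hi']
      exact Nat.pow_le_pow_right (by norm_num) (by omega)
    push Not at hfin
    obtain ⟨q, hq, m, hqm⟩ := hfin
    -- `D_m`
    have hFQ : ∀ q ∈ Q, ∀ x ∈ F, q • x ∈ F := fun q hq => hGF q (D.QG hq)
    have hDm : (dn Q F hFQ m).relIndex Q ≤ 2 ^ i := by
      rw [← hi']
      exact relIndex_dn_le sq hFQ (fun q hq => hMC q hq m) hCFQ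
    have hDQ : dn Q F hFQ m ≤ Q := fun x hx => hx.1
    rcases Nat.lt_or_ge n j with hjn | hjn
    · -- `E` is trivial on `C / F`
      have hEC : ∀ e ∈ E, ∀ c ∈ C, e • c * c⁻¹ ∈ F := by
        refine hsecE hGF hGC ?_
        rw [hi']
        exact Nat.pow_le_pow_right (by norm_num) (by omega)
      obtain ⟨c, hc⟩ : ∃ c : M, c = q • m * m⁻¹ := ⟨_, rfl⟩
      have hcC : c ∈ C := by rw [hc]; exact hMC q hq m
      have hcF : c ∉ F := by rw [hc]; exact hqm
      have hbQ : ∀ q ∈ Q, ∀ x ∈ (⊥ : Subgroup M), q • x ∈ (⊥ : Subgroup M) := by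
        intro q _ x hx
        rw [mem_bot] at hx ⊢
        rw [hx, smul_one]
      have hKmem : ∀ {x : H}, x ∈ dn Q (⊥ : Subgroup M) hbQ c ↔ x ∈ Q ∧ x • c = c := by
        intro x
        rw [mem_dn, mem_bot, mul_inv_eq_one]
      have hKQ : dn Q (⊥ : Subgroup M) hbQ c ≤ Q := fun x hx => hx.1
      have hK2 : Nat.card (dn Q (⊥ : Subgroup M) hbQ c) ≤ 2 := by
        refine (D.irr _ hKQ fun e he x hx => ?_).resolve_right fun h1 => ?_
        · rw [hKmem] at hx ⊢
          refine ⟨hEQ e he x hx.1, ?_⟩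
          have h1 := hEC e⁻¹ (E.inv_mem he) c hcC
          have h2 : e⁻¹ • c = (e⁻¹ • c * c⁻¹) * c := by rw [inv_mul_cancel_right]
          rw [mul_smul, mul_smul, h2, smul_mul', hmF.1 h1 x hx.1, hx.2, inv_mul_cancel_right, smul_inv_smul]
        · apply hcF
          rw [hmF]
          intro y hy
          rw [← h1] at hy
          exact (hKmem.1 hy).2
      -- an element of `D_m` which commutes with `q`
      have hidx : ((centralizer ({q} : Set H)).subgroupOf (dn Q F hFQ m)).index ≤ 2 := by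
        apply index_le_two
        intro a b ha hb
        rw [mem_subgroupOf, mem_centralizer_singleton_iff] at ha hb ⊢
        have key : ∀ x ∈ Q, x * q ≠ q * x → x * q = z * q * x := by
          intro x hx hne
          rcases hder x hx q hq with h1 | h1
          · exfalso
            apply hne
            rwa [mul_inv_eq_one, mul_inv_eq_iff_eq_mul] at h1
          · rw [← h1]; group
        have ha' := key a (hDQ a.2) ha
        have hb' := key b (hDQ b.2) hb
        show (a : H) * b * q = q * (a * b)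
        calc (a : H) * b * q = a * (b * q) := by group
          _ = (a * z) * (q * b) := by rw [hb']; group
          _ = (z * a) * (q * b) := by rw [hzc a (hDQ a.2)]
          _ = z * (a * q) * b := by group
          _ = (z * z) * (q * (a * b)) := by rw [ha']; group
          _ = _ := by rw [hz2, one_mul]
      have hDcard : 2 ^ (n + 1) ≤ Nat.card (dn Q F hFQ m) := by
        have h1 : Nat.card (dn Q F hFQ m) * (dn Q F hFQ m).relIndex Q = Nat.card Q := by
          rw [← relIndex_bot_left, ← relIndex_bot_left Q]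
          exact relIndex_mul_relIndex _ _ _ bot_le hDQ
        rw [D.card] at h1
        have h2 : (dn Q F hFQ m).relIndex Q ≤ 2 ^ n := hDm.trans (Nat.pow_le_pow_right (by norm_num) (by omega))
        by_contra h3
        rw [not_le] at h3
        have h4 : Nat.card (dn Q F hFQ m) * (dn Q F hFQ m).relIndex Q < 2 ^ (n + 1) * 2 ^ n :=
          lt_of_le_of_lt (Nat.mul_le_mul_left _ h2) (Nat.mul_lt_mul_of_pos_right h3 (by positivity))
        rw [h1, ← pow_add] at h4
        have h5 : n + 1 + n = 2 * n + 1 := by omega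
        rw [h5] at h4
        exact lt_irrefl _ h4
      obtain ⟨q', hq'D, hq'c, hq'K⟩ : ∃ q' ∈ dn Q F hFQ m, q' * q = q * q' ∧
          q' ∉ dn Q (⊥ : Subgroup M) hbQ c := by
        by_contra hcon
        push Not at hcon
        have h1 : (((centralizer ({q} : Set H)).subgroupOf (dn Q F hFQ m)).map (dn Q F hFQ m).subtype) ≤
            dn Q (⊥ : Subgroup M) hbQ c := by
          rintro _ ⟨x, hx, rfl⟩
          rw [SetLike.mem_coe, mem_subgroupOf, mem_centralizer_singleton_iff] at hx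
          exact hcon x x.2 hx
        have h2 := card_le_of_le h1
        rw [card_map_of_injective (dn Q F hFQ m).subtype_injective] at h2
        have h3 := ((centralizer ({q} : Set H)).subgroupOf (dn Q F hFQ m)).card_mul_index
        have h4 : Nat.card (dn Q F hFQ m) ≤ 2 * 2 := by
          rw [← h3]
          exact Nat.mul_le_mul (h2.trans hK2) hidx
        have h5 : 2 ^ 3 ≤ 2 ^ (n + 1) := Nat.pow_le_pow_right (by norm_num) (by omega)
        omega
      apply hq'K
      rw [hKmem]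
      refine ⟨hq'D.1, ?_⟩
      have h1 : q' • m = (q' • m * m⁻¹) * m := by rw [inv_mul_cancel_right]
      have h2 := hmF.1 hq'D.2 q hq
      calc q' • c = (q' * q) • m * (q' • m)⁻¹ := by rw [hc, smul_mul', smul_inv', mul_smul]
        _ = q • (q' • m) * (q' • m)⁻¹ := by rw [hq'c, mul_smul]
        _ = (q' • m * m⁻¹) * (q • m) * ((q' • m * m⁻¹) * m)⁻¹ := by
          conv_lhs => rw [h1, smul_mul', h2]
        _ = c := by
          rw [mul_inv_rev, hc, ← mul_assoc, mul_assoc (q' • m * m⁻¹), hcomm (q' • m * m⁻¹), mul_inv_cancel_right]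
    · -- `E` is trivial on `M / C`
      have hEM : ∀ e ∈ E, ∀ w : M, e • w * w⁻¹ ∈ C := by
        intro e he w
        refine hsecE hGC hGT ?_ e he w (mem_top w)
        rw [relIndex_top_right, hj]
        exact Nat.pow_le_pow_right (by norm_num) (by omega)
      rcases D.irr (dn Q F hFQ m) hDQ (fun e he x hx => by
        refine ⟨hEQ e he x hx.1, ?_⟩
        have h1 := hEM e⁻¹ (E.inv_mem he) m
        have h2 : e⁻¹ • m = (e⁻¹ • m * m⁻¹) * m := by rw [inv_mul_cancel_right]
        have h3 := hCFQ x hx.1 _ h1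
        have h4 : x • (e⁻¹ • m) * (e⁻¹ • m)⁻¹ ∈ F := by
          have h5 : x • (e⁻¹ • m) * (e⁻¹ • m)⁻¹ =
              (x • (e⁻¹ • m * m⁻¹) * (e⁻¹ • m * m⁻¹)⁻¹) * (x • m * m⁻¹) := by
            conv_lhs => rw [h2, smul_mul', mul_inv_rev]
            rw [mul_assoc, mul_assoc, hcomm (e⁻¹ • m * m⁻¹)⁻¹, mul_assoc]
          rw [h5]
          exact F.mul_mem h3 hx.2
        have h5 := hGF e (D.EG he) _ h4
        rwa [smul_mul', smul_inv', smul_inv_smul, ← mul_smul, ← mul_smul] at h5) with h1 | h1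
      · have h2 := (D.le_relIndex hDQ h1).trans hDm
        have h3 := (Nat.pow_le_pow_iff_right (by norm_num : 1 < 2)).1 h2
        omega
      · apply hqm
        have h2 : q ∈ dn Q F hFQ m := by rw [h1]; exact hq
        exact h2.2

end

end Cfsg.Agent.Omega.ML.Ex.ExX
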