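import Cfsg.Agent.Omega.ML.Ex.Def
import Cfsg.Agent.Omega.ML.Ex.TieX

/-!
# The dichotomy (D) of the exact K-list (helper441 #21600, helper269): `|M : C_M(x)| < |A|` or EQ(x)

* `quad_of_eq` : EQ(x), i.e. `C_M(x) = C_M(A)` for one `x ∈ A`, makes `A` quadratic (`A` abelian);
* `InX.quad` : an atom `A` is quadratic on `M`;
* `InX.eq_bot_of_normal` : `H` has no normal subgroup `≠ 1` of exponent 2;
* `InX.tie` : EQ(x), i.e. `C_M(x) = C_M(A)`, gives `TieX A (EE F) F x`, `F = C_M(A)`;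
* **`InX.lt_or_tie`** : `|M : C_M(x)| < |A|` or `TieX A (EE F) F x`, for `x ∈ A#`;
* `NoTie A x` : there is no elementary abelian `E` with `A ≤ E ⊴ C_H(x)`, `N_H(E) ≠ H`, `x^g ∈ E → g ∈ N_H(E)`;
* **`InX.index_lt`** : `NoTie A x → |M : C_M(x)| < |A|`;
* `InX.index_le_two` : `|A| = 4`, `NoTie A x` : `|M : C_M(x)| ≤ 2`;
* **`InX.false_of_four`** : `|A| = 4`, `A` an atom, `NoTie A x` for one `x ∈ A#` : impossible.
-/

set_option autoImplicit false

namespace Cfsg.Agent.Omega.ML.Ex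

open Subgroup Cfsg Cfsg.Agent.ZN Cfsg.Agent.ClassTwoFusion.Quad Cfsg.Agent.Omega.ML.Ex.TIE
  Cfsg.Agent.Omega.ML.Ex.TieX

universe u v

variable {H : Type u} [Group H] {M : Type v} [Group M] [MulDistribMulAction H M] {K T A : Subgroup H}

/-- EQ(x) makes an abelian `A` quadratic: `[M, x] ≤ C_M(x) = C_M(A)` and `M / C_M(x) ≅ [M, x]` over `A`. -/
theorem quad_of_eq (hM : ∀ m : M, m * m = 1) (hA : ∀ a ∈ A, ∀ b ∈ A, a * b = b * a) (hel : ∀ a ∈ A, a * a = 1)
    {x : H} (hx : x ∈ A) (eq : cv M ({x} : Set H) = cv M (A : Set H)) :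
    ∀ a ∈ A, ∀ b ∈ A, ∀ m : M, b • ((a • m) * m⁻¹) = (a • m) * m⁻¹ := by
  have hinv : ∀ z : M, z⁻¹ = z := fun z => inv_eq_of_mul_eq_one_right (hM z)
  have hcm : ∀ y z : M, y * z = z * y := by
    intro y z
    calc y * z = (y * z)⁻¹ := (hinv _).symm
      _ = z⁻¹ * y⁻¹ := mul_inv_rev _ _
      _ = z * y := by rw [hinv, hinv]
  have hxf : ∀ m : M, x • ((x • m) * m⁻¹) = (x • m) * m⁻¹ := by
    intro m
    rw [smul_mul', smul_inv', smul_smul, hel x hx, one_smul, hinv, hinv, hcm]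
  have hmem : ∀ m : M, x • m = m → ∀ b ∈ A, b • m = m := by
    intro m hm b hb
    have h1 : m ∈ cv M ({x} : Set H) := by
      intro y hy
      rw [Set.mem_singleton_iff.1 hy]
      exact hm
    rw [eq] at h1
    exact h1 b hb
  intro a ha b hb m
  refine hmem _ ?_ b hb
  have h2 := hmem _ (hxf m) a ha
  rw [smul_mul', smul_inv', smul_smul, hA a ha x hx, ← smul_smul, hinv, hinv] at h2
  -- `x a m * a m = x m * m`
  rw [smul_mul', smul_inv', hinv, hinv]
  calc x • a • m * x • m = (x • a • m * a • m) * (a • m * x • m) := by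
        rw [mul_assoc, ← mul_assoc (a • m) (a • m), hM, one_mul]
    _ = (x • m * m) * (a • m * x • m) := by rw [h2]
    _ = a • m * m := by
        rw [hcm (a • m), mul_assoc, ← mul_assoc m, hcm m, ← mul_assoc, ← mul_assoc, hM, one_mul, hcm]

namespace InX

/-- `|A| |C_M(A)| = |M|` -/
theorem card_eq_mul (h : InX H M K T A) : Nat.card A * Nat.card (cv M (A : Set H)) = Nat.card M := by
  rw [← h.exact, mul_comm]
  exact card_mul_index _

/-- An atom `A` is quadratic on `M`. -/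
theorem quad (h : InX H M K T A) (hat : Atm M A) [Finite H] [Finite M] :
    ∀ a ∈ A, ∀ b ∈ A, ∀ m : M, b • ((a • m) * m⁻¹) = (a • m) * m⁻¹ := by
  refine quad_of_atom h.sq h.A_comm h.A_ne_bot h.card_eq_mul.ge fun D hD hD1 => ?_
  rw [h.card_eq_mul, ← card_mul_index (cv M (D : Set H)), mul_comm]
  exact Nat.mul_lt_mul_of_pos_left (hat D hD.le hD1 hD.ne) Nat.card_pos

/-- no normal subgroup `≠ 1` of exponent 2 -/
theorem eq_bot_of_normal (h : InX H M K T A) {E : Subgroup H} (hE : E.Normal) (el : ∀ e ∈ E, e * e = 1) : E = ⊥ :=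
  normal_eq_bot h.norm h.simple h.cen hE el

/-- EQ(x) gives `TieX`. -/
theorem tie (h : InX H M K T A) [Finite H] [Finite M] {x : H} (hx : x ∈ A)
    (eq : cv M ({x} : Set H) = cv M (A : Set H)) :
    TieX A (EE (cv M (A : Set H)) : Subgroup H) (cv M (A : Set H)) x :=
  exists_tieX h.sq h.faith hx eq (quad_of_eq h.sq h.A_comm h.el hx eq)

/-- `N_H(E) ≠ H` -/
theorem normalizer_ne_top (h : InX H M K T A) {E : Subgroup H} (el : ∀ e ∈ E, e * e = 1) (hAE : A ≤ E) :
    normalizer (E : Set H) ≠ ⊤ := by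
  intro h1
  have h2 := h.eq_bot_of_normal (normalizer_eq_top_iff.1 h1) el
  rw [h2, le_bot_iff] at hAE
  exact h.A_ne_bot hAE

/-- **The dichotomy (D).** -/
theorem lt_or_tie (h : InX H M K T A) [Finite H] [Finite M] {x : H} (hx : x ∈ A) :
    (cv M ({x} : Set H)).index < Nat.card A ∨
      TieX A (EE (cv M (A : Set H)) : Subgroup H) (cv M (A : Set H)) x := by
  by_cases h1 : (cv M ({x} : Set H)).index < Nat.card A
  · exact Or.inl h1
  · right
    refine h.tie hx ?_
    have hle : cv M (A : Set H) ≤ cv M ({x} : Set H) := cv_anti (by simpa using hx)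
    refine (Subgroup.eq_of_le_of_card_ge hle ?_).symm
    have h2 := card_mul_index (cv M ({x} : Set H))
    have h3 := h.card_eq_mul
    have h4 : Nat.card (cv M ({x} : Set H)) * Nat.card A ≤ Nat.card A * Nat.card (cv M (A : Set H)) := by
      rw [h3, ← h2]
      exact Nat.mul_le_mul_left _ (not_lt.1 h1)
    rw [mul_comm] at h4
    exact Nat.le_of_mul_le_mul_left h4 Nat.card_pos

end InX

/-- There is no elementary abelian `E ⊴ C_H(x)` over `A` with `N_H(E) ≠ H` and `x^g ∈ E → g ∈ N_H(E)`. -/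
def NoTie (A : Subgroup H) (x : H) : Prop :=
  ∀ E : Subgroup H, (∀ e ∈ E, e * e = 1) → A ≤ E → x ∈ E → E ≤ centralizer {x} →
    centralizer {x} ≤ normalizer (E : Set H) → normalizer (E : Set H) ≠ ⊤ →
    (∀ g : H, g * x * g⁻¹ ∈ E → g ∈ normalizer (E : Set H)) → False

theorem NoTie.false (hn : ∀ x : H, NoTie A x) (h : InX H M K T A) [Finite H] [Finite M] {x : H}
    (ht : TieX A (EE (cv M (A : Set H)) : Subgroup H) (cv M (A : Set H)) x) : False :=
  hn x _ ht.el ht.le ht.mem ht.le_centralizer ht.cent (h.normalizer_ne_top ht.el ht.le) ht.ti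

/-- **`NoTie A x → |M : C_M(x)| < |A|`.** -/
theorem InX.index_lt (h : InX H M K T A) [Finite H] [Finite M] {x : H} (hx : x ∈ A) (hn : NoTie A x) :
    (cv M ({x} : Set H)).index < Nat.card A := by
  rcases h.lt_or_tie hx with h1 | ht
  · exact h1
  · exact (hn _ ht.el ht.le ht.mem ht.le_centralizer ht.cent (h.normalizer_ne_top ht.el ht.le) ht.ti).elim

/-- **`|A| = 4`** -/
theorem InX.index_le_two (h : InX H M K T A) [Finite H] [Finite M] (h4 : Nat.card A = 4) {x : H} (hx : x ∈ A)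
    (hn : NoTie A x) : (cv M ({x} : Set H)).index ≤ 2 := by
  have h1 := h.index_lt hx hn
  rw [h4] at h1
  obtain ⟨n, hn⟩ := IsPGroup.iff_card.1 h.M_two
  have h7 : (cv M ({x} : Set H)).index ∣ 2 ^ n := by
    rw [← hn]
    exact index_dvd_card _
  obtain ⟨k, -, hk⟩ := (Nat.dvd_prime_pow Nat.prime_two).1 h7
  rw [hk] at h1 ⊢
  match k, h1 with
  | 0, _ => simp
  | 1, _ => simp
  | k + 2, h1 => rw [pow_add] at h1; have := Nat.one_le_two_pow (n := k); omega

/-- **`|A| = 4`**, `A` an atom -/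
theorem InX.false_of_four (h : InX H M K T A) (hat : Atm M A) [Finite H] [Finite M] (h4 : Nat.card A = 4) {x : H}
    (hx : x ∈ A) (hx1 : x ≠ 1) (hn : NoTie A x) : False := by
  have h1 := h.index_lt hx hn
  rw [h.index_four hat h4 hx hx1, h4] at h1
  exact lt_irrefl _ h1

/-- `NoTie` from a bound on the normal elementary abelian subgroups of `C_H(x)` -/
theorem noTie_of_card {x : H} [Finite H]
    (hb : ∀ E : Subgroup H, (∀ e ∈ E, e * e = 1) → x ∈ E → E ≤ centralizer {x} →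
      centralizer {x} ≤ normalizer (E : Set H) → Nat.card E < Nat.card A) : NoTie A x :=
  fun E el hAE hx hle hn _ _ => absurd (card_le_of_le hAE) (not_le.2 (hb E el hx hle hn))

end Cfsg.Agent.Omega.ML.Ex
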