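import Cfsg.Agent.Omega.ML.Ex.Gen
import Cfsg.Agent.Omega.ML.Ex.Inv
import Cfsg.Agent.Omega.ML.Ex.TieIn

/-!
# The K-list for exact atoms: generation and inversion with the dichotomy (T6; helper448)

The exact form of `GenRow.lean` and `InvRow.lean`.  `InX H M K T A`, `|A| ≤ 2 ^ a`, `x ∈ A`:

* `index_le_or` : `|M : C_M(x)| ≤ 2 ^ (a - 1)`, or `|A| = 2 ^ a` and EQ(x) : `C_M(x) = C_M(A)`;
* `index_le_noTie` : the first one if `NoTie A x`;
* **`eq_of_lb`**, **`eq_of_prime`** : `K` is generated by `m` conjugates of `x`, `(a - 1) m < n`, `2 ^ n ≤ |M|` (`LB K n` or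
  an odd prime divisor `r` of `|K|` with `ord_r(2) ≥ n`) ⟹ `|A| = 2 ^ a` and EQ(x);
* `false_of_lb_noTie`, `false_of_prime_noTie`, `false_of_inv_noTie` : impossible with `NoTie A x`;
* `false_of_sub` : EQ(x) with `x ∈ K` is impossible if `|Out K| |E| < |A|` for the elementary abelian `E ∋ x` which are
  normal in `C_K(x)`;
* **`dead_gen`**, **`dead_gen_prime`** : rows.
-/

set_option autoImplicit false

namespace Cfsg.Agent.Omega.ML.Ex.GenX

open Subgroup Cfsg Cfsg.Agent.ZN Cfsg.Agent.Omega.NOThree.NoOver Cfsg.Agent.Omega.ML.CD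
open Cfsg.Agent.ClassTwoFusion.Quad Cfsg.Agent.Omega.Lie Cfsg.Agent.Omega.ML Cfsg.Agent.Omega.TwoF
open Cfsg.Agent.Omega.ML.InvChain

universe u v

variable {H : Type u} [Group H] {M : Type v} [Group M] [Finite M] [MulDistribMulAction H M] {K T A : Subgroup H}

/-- **`|M : C_M(x)| ≤ 2 ^ (a - 1)`, or `|A| = 2 ^ a` and EQ(x).** -/
theorem index_le_or (h : InX H M K T A) {a : ℕ} (ha : Nat.card A ≤ 2 ^ a) {x : H} (hx : x ∈ A) :
    (cv M ({x} : Set H)).index ≤ 2 ^ (a - 1) ∨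
      (Nat.card A = 2 ^ a ∧ cv M ({x} : Set H) = cv M (A : Set H)) := by
  obtain ⟨k, hk⟩ := InvFrob.index_pow h.sq (cv M ({x} : Set H))
  rcases Nat.lt_or_ge k a with h1 | h1
  · left
    rw [hk]
    exact Nat.pow_le_pow_right (by norm_num) (by omega)
  · right
    have h2 : 2 ^ a ≤ (cv M ({x} : Set H)).index := by
      rw [hk]
      exact Nat.pow_le_pow_right (by norm_num) h1
    exact ⟨le_antisymm ha (h2.trans (Gen.index_le_card h hx)), Inv.eq_of_le h.exact.le hx (ha.trans h2)⟩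

/-- `|M : C_M(x)| ≤ 2 ^ (a - 1)` if `NoTie A x` -/
theorem index_le_noTie [Finite H] (h : InX H M K T A) {a : ℕ} (ha : Nat.card A ≤ 2 ^ a) {x : H} (hx : x ∈ A)
    (hn : NoTie A x) : (cv M ({x} : Set H)).index ≤ 2 ^ (a - 1) := by
  rcases index_le_or h ha hx with h1 | ⟨h1, h2⟩
  · exact h1
  · have h3 := h.index_lt hx hn
    rw [h2, h.exact] at h3
    exact absurd h3 (lt_irrefl _)

/-- **Generation, `|M| ≥ 2 ^ n`** ⟹ `|A| = 2 ^ a` and EQ(x). -/
theorem eq_of_card (h : InX H M K T A) {n a m : ℕ} (hM : 2 ^ n ≤ Nat.card M) (ha : Nat.card A ≤ 2 ^ a) {x : H}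
    (hx : x ∈ A) (l : Fin m → H) (hgen : K ≤ closure (Set.range fun i => l i * x * (l i)⁻¹))
    (hn : (a - 1) * m < n) : Nat.card A = 2 ^ a ∧ cv M ({x} : Set H) = cv M (A : Set H) := by
  refine (index_le_or h ha hx).resolve_left fun h1 => ?_
  have h2 := (hM.trans (Gen.card_le_conj_index h x l hgen)).trans (Nat.pow_le_pow_left h1 m)
  rw [← pow_mul] at h2
  have h3 := (Nat.pow_le_pow_iff_right (by norm_num : 1 < 2)).1 h2
  omega

/-- **Generation, `LB`** ⟹ `|A| = 2 ^ a` and EQ(x). -/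
theorem eq_of_lb [Finite H] (h : InX H M K T A) {n a m : ℕ} (hl : Heis.LB.{u, u, v} K n)
    (ha : Nat.card A ≤ 2 ^ a) {x : H} (hx : x ∈ A) (l : Fin m → H)
    (hgen : K ≤ closure (Set.range fun i => l i * x * (l i)⁻¹)) (hn : (a - 1) * m < n) :
    Nat.card A = 2 ^ a ∧ cv M ({x} : Set H) = cv M (A : Set H) :=
  eq_of_card h (Gen.lb_le h hl) ha hx l hgen hn

/-- **Generation, a prime** ⟹ `|A| = 2 ^ a` and EQ(x). -/
theorem eq_of_prime [Finite H] (h : InX H M K T A) {r k a m : ℕ} (hp : r.Prime) (ho : Odd r)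
    (hr : r ∣ Nat.card K) (hk : ∀ n : ℕ, 0 < n → r ∣ 2 ^ n - 1 → k ≤ n) (ha : Nat.card A ≤ 2 ^ a) {x : H}
    (hx : x ∈ A) (l : Fin m → H) (hgen : K ≤ closure (Set.range fun i => l i * x * (l i)⁻¹))
    (hn : (a - 1) * m < k) : Nat.card A = 2 ^ a ∧ cv M ({x} : Set H) = cv M (A : Set H) :=
  eq_of_card h (Gen.pow_le_card h hp ho hr hk) ha hx l hgen hn

/-- EQ(x) and `NoTie A x` -/
theorem false_of_eq_noTie [Finite H] (h : InX H M K T A) {x : H} (hx : x ∈ A) (hn : NoTie A x)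
    (heq : cv M ({x} : Set H) = cv M (A : Set H)) : False := by
  have h3 := h.index_lt hx hn
  rw [heq, h.exact] at h3
  exact lt_irrefl _ h3

/-- **Kill by generation**, `LB`, `NoTie A x`. -/
theorem false_of_lb_noTie [Finite H] (h : InX H M K T A) {n a m : ℕ} (hl : Heis.LB.{u, u, v} K n)
    (ha : Nat.card A ≤ 2 ^ a) {x : H} (hx : x ∈ A) (ht : NoTie A x) (l : Fin m → H)
    (hgen : K ≤ closure (Set.range fun i => l i * x * (l i)⁻¹)) (hn : (a - 1) * m < n) : False :=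
  false_of_eq_noTie h hx ht (eq_of_lb h hl ha hx l hgen hn).2

/-- **Kill by generation**, a prime, `NoTie A x`. -/
theorem false_of_prime_noTie [Finite H] (h : InX H M K T A) {r k a m : ℕ} (hp : r.Prime) (ho : Odd r)
    (hr : r ∣ Nat.card K) (hk : ∀ n : ℕ, 0 < n → r ∣ 2 ^ n - 1 → k ≤ n) (ha : Nat.card A ≤ 2 ^ a) {x : H}
    (hx : x ∈ A) (ht : NoTie A x) (l : Fin m → H)
    (hgen : K ≤ closure (Set.range fun i => l i * x * (l i)⁻¹)) (hn : (a - 1) * m < k) : False :=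
  false_of_eq_noTie h hx ht (eq_of_prime h hp ho hr hk ha hx l hgen hn).2

/-- **Kill by one inverted element**, `NoTie A x` (`InvRow.false_of_inv` verbatim). -/
theorem false_of_inv_noTie [Finite H] (h : InX H M K T A) {n : ℕ} (hn : Nat.card A ≤ 2 ^ n) {x : H} (hx : x ∈ A)
    (ht : NoTie A x) (hi : InvAt x n) : False :=
  false_of_eq_noTie h hx ht (Inv.inv_eq h.sq h.faith h.exact.le h.el hx hn hi).2

omit [Finite M] in
/-- EQ(x) with `x ∈ K` is impossible if `|Out K| |E| < |A|` for the elementary abelian `E ∋ x`, `E ⊴ C_K(x)`. -/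
theorem false_of_sub [Finite H] (h : InX H M K T A) {x : K} (hxA : (x : H) ∈ A)
    (heq : cv M ({(x : H)} : Set H) = cv M (A : Set H))
    (hE : ∀ E : Subgroup K, x ∈ E → (∀ e ∈ E, e * e = 1) → (∀ g : K, g * x = x * g → ∀ e ∈ E, g * e * g⁻¹ ∈ E) →
      (MulAut.conj : K →* MulAut K).range.index * Nat.card E < Nat.card A) : False := by
  obtain ⟨E, h1, -, h2, h3, h4⟩ := Inv.inX_exists_sub h hxA heq
  exact absurd (hE E h1 h2 h3) (not_lt.2 h4)

/-- generation in `K` gives generation in `H` -/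
theorem le_closure {m : ℕ} {x : K} {l : Fin m → K} (hl : closure (Set.range fun i => l i * x * (l i)⁻¹) = ⊤) :
    K ≤ closure (Set.range fun i => (l i : H) * x * (l i : H)⁻¹) := by
  have h3 := congrArg (Subgroup.map K.subtype) hl
  rw [MonoidHom.map_closure, ← Set.range_comp, ← MonoidHom.range_eq_map, range_subtype] at h3
  exact le_of_eq h3.symm

/-- The common core of the rows. -/
theorem false_of_gen [Finite H] (h : InX H M K T A) {n a m : ℕ} (hM : 2 ^ n ≤ Nat.card M)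
    (hrk : RK K a) (hout : (MulAut.conj : K →* MulAut K).range.index < 4) (hn : (a - 1) * m < n)
    (hg : ∀ x : K, x * x = 1 → x ≠ 1 → (∃ l : Fin m → K, closure (Set.range fun i => l i * x * (l i)⁻¹) = ⊤) ∧
      ∀ E : Subgroup K, x ∈ E → (∀ e ∈ E, e * e = 1) → (∀ g : K, g * x = x * g → ∀ e ∈ E, g * e * g⁻¹ ∈ E) →
        (MulAut.conj : K →* MulAut K).range.index * Nat.card E < 2 ^ a) : False := by
  obtain ⟨x, hxA, hxK, hx1⟩ := Inv.asx_exists_mem h.asx (hout.trans_le h.four)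
  obtain ⟨⟨l, hl⟩, hE⟩ := hg ⟨x, hxK⟩ (Subtype.ext (h.el x hxA)) fun h3 => hx1 (congrArg Subtype.val h3)
  obtain ⟨h1, h2⟩ := eq_of_card h hM (Inv.asx_card_le h.asx hrk) (x := x) hxA (fun i => (l i : H))
    (le_closure (x := ⟨x, hxK⟩) hl) hn
  exact false_of_sub h (x := ⟨x, hxK⟩) hxA h2 fun E h3 h4 h5 => by rw [h1]; exact hE E h3 h4 h5

/-- **The row by generation, `LB`**: `RK S a`, `|Out S| < 4`, `LB S n`, `m` conjugates of every involution `x` generate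
`S`, `(a - 1) m < n`, and `|Out S| |E| < 2 ^ a` for the elementary abelian `E ∋ x` which are normal in `C_S(x)`. -/
theorem dead_gen {𝒮 : ∀ (S : Type u) [Group S], Prop} (h𝒮 : ∀ (S : Type u) [Group S] [Finite S], 𝒮 S →
    ∃ n a m, RK S a ∧ (MulAut.conj : S →* MulAut S).range.index < 4 ∧ Heis.LB.{u, u, v} S n ∧ (a - 1) * m < n ∧
      ∀ x : S, x * x = 1 → x ≠ 1 → (∃ l : Fin m → S, closure (Set.range fun i => l i * x * (l i)⁻¹) = ⊤) ∧
        ∀ E : Subgroup S, x ∈ E → (∀ e ∈ E, e * e = 1) → (∀ g : S, g * x = x * g → ∀ e ∈ E, g * e * g⁻¹ ∈ E) →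
          (MulAut.conj : S →* MulAut S).range.index * Nat.card E < 2 ^ a) : DeadX.{u, v} 𝒮 := by
  intro H _ _ M _ _ _ K T A h hS
  obtain ⟨n, a, m, h1, h2, h3, h4, h5⟩ := h𝒮 _ hS
  exact false_of_gen h (Gen.lb_le h h3) h1 h2 h4 h5

/-- **The row by generation, a prime** `r` divisor of `|S|`, `ord_r(2) ≥ n`. -/
theorem dead_gen_prime {𝒮 : ∀ (S : Type u) [Group S], Prop} (h𝒮 : ∀ (S : Type u) [Group S] [Finite S], 𝒮 S →
    ∃ n a m r, RK S a ∧ (MulAut.conj : S →* MulAut S).range.index < 4 ∧ (r.Prime ∧ Odd r ∧ r ∣ Nat.card S ∧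
      ∀ k : ℕ, 0 < k → r ∣ 2 ^ k - 1 → n ≤ k) ∧ (a - 1) * m < n ∧
      ∀ x : S, x * x = 1 → x ≠ 1 → (∃ l : Fin m → S, closure (Set.range fun i => l i * x * (l i)⁻¹) = ⊤) ∧
        ∀ E : Subgroup S, x ∈ E → (∀ e ∈ E, e * e = 1) → (∀ g : S, g * x = x * g → ∀ e ∈ E, g * e * g⁻¹ ∈ E) →
          (MulAut.conj : S →* MulAut S).range.index * Nat.card E < 2 ^ a) : DeadX.{u, v} 𝒮 := by
  intro H _ _ M _ _ _ K T A h hS
  obtain ⟨n, a, m, r, h1, h2, ⟨h3, h3', h3'', h3'''⟩, h4, h5⟩ := h𝒮 _ hS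
  exact false_of_gen h (Gen.pow_le_card h h3 h3' h3'' h3''') h1 h2 h4 h5

end Cfsg.Agent.Omega.ML.Ex.GenX
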