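import Cfsg.Agent.Omega.ML.Ex.Gen

/-!
# Exact atoms: every `a ∈ A#` is one half of an involution of `K` (helper912)

* `exists_half` : `a² = 1`, `a * a^r ≠ 1` a 2-element: there is `g` with `a * a^g` an involution, a power of `a * a^r`;
* **`ASx.exists_half`** : for `1 ≠ a ∈ A` there are `T ≤ R ≠ ⊤` and `g ∈ R ∩ S` with `a * a^g ∈ O₂(R) ∩ S` an involution;
* **`InX.exists_half`** : so there is an involution `x ∈ K ∩ T` with `|M : C_M(x)| ≤ |M : C_M(a)|² ≤ |A|²`;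
* `InX.exists_half_four` : `|A| = 4` : `|M : C_M(x)| ≤ 16`;
* `InX.card_le_half` : `K` is generated by `n` conjugates of every involution ⟹ `|M| ≤ |A|^(2n)`;
* `InX.false_of_half_lb`, `InX.false_of_half_prime`, `InX.false_of_half_index` : the kills.
-/

set_option autoImplicit false

namespace Cfsg.Agent.Omega.ML.Ex

open Subgroup Cfsg Cfsg.Agent.ZN Cfsg.Agent.Omega.NOThree.NoOver Cfsg.Agent.Omega.ML.CD
open Cfsg.Agent.ClassTwoFusion.Quad Cfsg.Agent.Omega.Lie Cfsg.Agent.Omega.ML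
open Cfsg.Agent.MinSimple.VModule (o2_isPGroup o2_le le_o2 le_normalizer_o2)

universe u v

/-- `a * a^r` is a 2-element, not 1: some `a * a^g` is an involution. -/
theorem exists_half {G : Type*} [Group G] {a : G} (haa : a * a = 1) (Q : Subgroup G) :
    ∀ (k : ℕ) (r : G), r ∈ Q → a * (r * a * r⁻¹) ∈ Q → a * (r * a * r⁻¹) ≠ 1 → (a * (r * a * r⁻¹)) ^ 2 ^ k = 1 →
      ∃ g ∈ Q, a * (g * a * g⁻¹) ≠ 1 ∧ (a * (g * a * g⁻¹)) * (a * (g * a * g⁻¹)) = 1 ∧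
        a * (g * a * g⁻¹) ∈ zpowers (a * (r * a * r⁻¹)) := by
  intro k
  induction k with
  | zero =>
    intro r _ _ h1 h2
    exact absurd (by simpa using h2) h1
  | succ k ih =>
    intro r hr hu h1 h2
    set u := a * (r * a * r⁻¹) with hudef
    have ha : a⁻¹ = a := inv_eq_of_mul_eq_one_left haa
    by_cases h3 : u * u = 1
    · exact ⟨r, hr, h1, h3, mem_zpowers _⟩
    -- `a * a^(u⁻¹) = u²`
    have h4 : a * (u⁻¹ * a * u⁻¹⁻¹) = u * u := by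
      have h5 : a * u⁻¹ * a = u := by
        rw [hudef, mul_inv_rev, mul_inv_rev, mul_inv_rev, inv_inv, ha]
        calc a * (r * (a * r⁻¹) * a) * a = a * (r * (a * r⁻¹)) * (a * a) := by group
          _ = a * (r * a * r⁻¹) := by rw [haa]; group
      calc a * (u⁻¹ * a * u⁻¹⁻¹) = (a * u⁻¹ * a) * u := by group
        _ = u * u := by rw [h5]
    obtain ⟨g, hg, hg1, hg2, hg3⟩ := ih u⁻¹ (inv_mem hu) (by rw [h4]; exact mul_mem hu hu) (by rw [h4]; exact h3)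
      (by rw [h4, ← pow_two, ← pow_mul, ← h2, pow_succ, mul_comm])
    refine ⟨g, hg, hg1, hg2, ?_⟩
    rw [h4] at hg3
    exact (zpowers_le.2 (mul_mem (mem_zpowers u) (mem_zpowers u)) : zpowers (u * u) ≤ zpowers u) hg3

section tools

variable {X : Type u} [Group X] {S T A : Subgroup X}

/-- `R = T (R ∩ S)` -/
theorem ASx.le_sup_inf (h : ASx S T A) {R : Subgroup X} (hT : T ≤ R) : R ≤ T ⊔ (R ⊓ S) := by
  have hn := h.norm
  intro r hr
  have h1 : r ∈ S ⊔ T := h.gen ▸ mem_top r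
  obtain ⟨s, hs, t, ht, rfl⟩ := mem_sup_of_normal_left.1 h1
  have h2 : s ∈ R := by
    have := mul_mem hr (inv_mem (hT ht))
    rwa [mul_inv_cancel_right] at this
  exact mul_mem (mem_sup_right ⟨h2, hs⟩) (mem_sup_left ht)

/-- **Every `a ∈ A#` is one half of an involution of `S`.** -/
theorem ASx.exists_half [Finite X] (h : ASx S T A) {a : X} (ha : a ∈ A) (ha1 : a ≠ 1) :
    ∃ R : Subgroup X, T ≤ R ∧ R ≠ ⊤ ∧ ∃ g ∈ R ⊓ S, a * (g * a * g⁻¹) ∈ o2 R ⊓ S ∧ a * (g * a * g⁻¹) ≠ 1 ∧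
      (a * (g * a * g⁻¹)) * (a * (g * a * g⁻¹)) = 1 := by
  have hn := h.norm
  have haa := h.el a ha
  have hainv : a⁻¹ = a := inv_eq_of_mul_eq_one_left haa
  by_contra hcon
  -- `R ∩ S` centralises `a`
  have h1 : ∀ R : Subgroup X, T ≤ R → R ≠ ⊤ → ∀ r ∈ R ⊓ S, r * a = a * r := by
    intro R hTR hR r hr
    by_contra h2
    have hle := le_normalizer_o2 R
    have haO := h.low R hTR hR ha
    have h3 : a * (r * a * r⁻¹) ∈ o2 R := mul_mem haO ((mem_normalizer_iff.1 (hle hr.1) a).1 haO)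
    have h4 : a * (r * a * r⁻¹) ∈ S := by
      have h5 : a * (r * a * r⁻¹) = (a * r * a⁻¹) * r⁻¹ := by rw [hainv]; group
      rw [h5]
      exact mul_mem (hn.conj_mem r hr.2 a) (inv_mem hr.2)
    have h5 : a * (r * a * r⁻¹) ≠ 1 := by
      intro h6
      apply h2
      have h7 : r * a * r⁻¹ = a⁻¹ := (inv_eq_of_mul_eq_one_right h6).symm
      rw [hainv, mul_inv_eq_iff_eq_mul] at h7
      exact h7
    obtain ⟨k, hk⟩ := o2_isPGroup R ⟨_, h3⟩
    obtain ⟨g, hg, hg1, hg2, hg3⟩ := Ex.exists_half haa (R ⊓ S) k r hr ⟨o2_le R h3, h4⟩ h5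
      (congrArg Subtype.val hk)
    exact hcon ⟨R, hTR, hR, g, hg,
      (zpowers_le.2 (⟨h3, h4⟩ : a * (r * a * r⁻¹) ∈ o2 R ⊓ S)) hg3, hg1, hg2⟩
  -- the largest `T`-invariant subgroup of `C_S(a)`
  let C : Subgroup X := S ⊓ centralizer {x | ∃ t ∈ T, x = t * a * t⁻¹}
  have hTC : T ≤ normalizer (C : Set X) := by
    have h2 : ∀ t ∈ T, ∀ c ∈ C, t * c * t⁻¹ ∈ C := by
      rintro t ht c ⟨hc, hc'⟩
      refine ⟨hn.conj_mem c hc t, mem_centralizer_iff.2 ?_⟩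
      rintro _ ⟨s, hs, rfl⟩
      have h3 := mem_centralizer_iff.1 hc' (t⁻¹ * s * a * (t⁻¹ * s)⁻¹) ⟨t⁻¹ * s, mul_mem (inv_mem ht) hs, rfl⟩
      have h4 : t * (t⁻¹ * s * a * (t⁻¹ * s)⁻¹ * c) * t⁻¹ = t * (c * (t⁻¹ * s * a * (t⁻¹ * s)⁻¹)) * t⁻¹ := by
        rw [h3]
      calc s * a * s⁻¹ * (t * c * t⁻¹) = t * (t⁻¹ * s * a * (t⁻¹ * s)⁻¹ * c) * t⁻¹ := by group
        _ = t * (c * (t⁻¹ * s * a * (t⁻¹ * s)⁻¹)) * t⁻¹ := h4
        _ = t * c * t⁻¹ * (s * a * s⁻¹) := by group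
    intro t ht
    refine mem_normalizer_iff.2 fun c => ⟨h2 t ht c, fun h3 => ?_⟩
    have h4 := h2 t⁻¹ (inv_mem ht) _ h3
    have h5 : t⁻¹ * (t * c * t⁻¹) * t⁻¹⁻¹ = c := by group
    rwa [h5] at h4
  have hRC : ∀ R : Subgroup X, T ≤ R → R ≠ ⊤ → R ⊓ S ≤ C := by
    rintro R hTR hR s hs
    refine ⟨hs.2, mem_centralizer_iff.2 ?_⟩
    rintro _ ⟨t, ht, rfl⟩
    have h2 := h1 R hTR hR (t⁻¹ * s * t) ⟨R.mul_mem (R.mul_mem (R.inv_mem (hTR ht)) hs.1) (hTR ht), by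
      have := hn.conj_mem s hs.2 t⁻¹
      rwa [inv_inv] at this⟩
    calc t * a * t⁻¹ * s = t * (a * (t⁻¹ * s * t)) * t⁻¹ := by group
      _ = t * (t⁻¹ * s * t * a) * t⁻¹ := by rw [h2]
      _ = s * (t * a * t⁻¹) := by group
  have hTt := h.ne_top
  have htop : T ⊔ C = ⊤ := by
    by_contra h2
    exact h.nmax ⟨T ⊔ C, h2, fun R hTR hR => (h.le_sup_inf hTR).trans (sup_le_sup_left (hRC R hTR hR) T)⟩
  have hCn : C.Normal := by
    rw [← normalizer_eq_top_iff, eq_top_iff, ← htop]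
    exact sup_le hTC le_normalizer
  have hsim := h.simple
  have hCS : (C.subgroupOf S).Normal := inferInstance
  rcases hsim.eq_bot_or_eq_top_of_normal _ hCS with h2 | h2
  · have h3 : C = ⊥ := by
      rw [subgroupOf_eq_bot, disjoint_iff] at h2
      rw [← h2]
      exact (inf_eq_left.2 inf_le_left).symm
    rw [h3, sup_bot_eq] at htop
    exact hTt htop
  · have h3 : S ≤ C := subgroupOf_eq_top.1 h2
    have h4 : a ∈ centralizer (S : Set X) := mem_centralizer_iff.2 fun s hs => by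
      have h5 := mem_centralizer_iff.1 (h3 hs).2 (1 * a * 1⁻¹) ⟨1, one_mem _, rfl⟩
      rw [one_mul, inv_one, mul_one] at h5
      exact h5.symm
    rw [h.cen] at h4
    exact ha1 (mem_bot.1 h4)

end tools

section module

variable {H : Type u} [Group H] {M : Type v} [Group M] [MulDistribMulAction H M] {K T A : Subgroup H}

/-- **For `a ∈ A#` there is an involution `x ∈ K ∩ T` with `|M : C_M(x)| ≤ |M : C_M(a)|²`.** -/
theorem InX.exists_half [Finite H] [Finite M] (h : InX H M K T A) {a : H} (ha : a ∈ A) (ha1 : a ≠ 1) :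
    ∃ R : Subgroup H, T ≤ R ∧ R ≠ ⊤ ∧ ∃ x ∈ o2 R ⊓ K, x ≠ 1 ∧ x * x = 1 ∧
      (cv M ({x} : Set H)).index ≤ (cv M ({a} : Set H)).index ^ 2 := by
  obtain ⟨R, hTR, hR, g, hg, h1, h2, h3⟩ := h.asx.exists_half ha ha1
  refine ⟨R, hTR, hR, _, h1, h2, h3, ?_⟩
  have h4 : cv M ({a} : Set H) ⊓ cv M ({g * a * g⁻¹} : Set H) ≤ cv M ({a * (g * a * g⁻¹)} : Set H) := by
    rintro m ⟨hm1, hm2⟩
    rintro x rfl
    have e1 : a • m = m := hm1 a rfl
    have e2 : (g * a * g⁻¹) • m = m := hm2 _ rfl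
    rw [mul_smul, e2, e1]
  have h5 := Nat.le_of_dvd (Nat.pos_of_ne_zero index_ne_zero_of_finite) (index_dvd_of_le h4)
  refine h5.trans (index_inf_le.trans ?_)
  rw [InvFrob.index_cv_conj (M := M) g a, pow_two]

/-- An involution `x ∈ K ∩ T` with `|M : C_M(x)| ≤ |A|²`. -/
theorem InX.exists_half' [Finite H] [Finite M] (h : InX H M K T A) :
    ∃ R : Subgroup H, T ≤ R ∧ R ≠ ⊤ ∧ ∃ x ∈ o2 R ⊓ K, x ≠ 1 ∧ x * x = 1 ∧
      (cv M ({x} : Set H)).index ≤ Nat.card A ^ 2 := by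
  obtain ⟨⟨a, ha⟩, ha2⟩ := ne_bot_iff_exists_ne_one.1 h.A_ne_bot
  have ha1 : a ≠ 1 := fun h1 => ha2 (Subtype.ext h1)
  obtain ⟨R, hTR, hR, x, hx, hx1, hxx, h1⟩ := h.exists_half ha ha1
  exact ⟨R, hTR, hR, x, hx, hx1, hxx, h1.trans (Nat.pow_le_pow_left (Gen.index_le_card h ha) 2)⟩

/-- **`|A| = 4`**: an involution `x ∈ K ∩ T` with `|M : C_M(x)| ≤ 16`. -/
theorem InX.exists_half_four [Finite H] [Finite M] (h : InX H M K T A) (h4 : Nat.card A ≤ 4) :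
    ∃ x ∈ K ⊓ T, x ≠ 1 ∧ x * x = 1 ∧ (cv M ({x} : Set H)).index ≤ 16 := by
  obtain ⟨R, hTR, hR, x, hx, hx1, hxx, h1⟩ := h.exists_half'
  refine ⟨x, ⟨hx.2, ?_⟩, hx1, hxx, h1.trans ((Nat.pow_le_pow_left h4 2).trans (by norm_num))⟩
  -- `O₂(R) ≤ T`
  have hp : Fact (Nat.Prime 2) := ⟨Nat.prime_two⟩
  have h2 : T ≤ normalizer (o2 R : Set H) := hTR.trans (le_normalizer_o2 R)
  have h3 : IsPGroup 2 (o2 R ⊔ T : Subgroup H) := (o2_isPGroup R).to_sup_of_normal_left' h.two h2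
  have h5 : ¬ 2 ∣ T.relIndex (o2 R ⊔ T) := fun h5 => h.syl (h5.trans (relIndex_dvd_index_of_le le_sup_right))
  obtain ⟨n, hn⟩ := (IsPGroup.iff_card.1 h3)
  have h6 : T.relIndex (o2 R ⊔ T) ∣ 2 ^ n := hn ▸ (T.subgroupOf (o2 R ⊔ T)).index_dvd_card
  obtain ⟨k, -, hk⟩ := (Nat.dvd_prime_pow Nat.prime_two).1 h6
  have h7 : k = 0 := by
    by_contra hk0
    exact h5 (hk ▸ dvd_pow_self 2 hk0)
  rw [h7, pow_zero] at hk
  exact relIndex_eq_one.1 hk (mem_sup_left hx.1)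

/-- **`K` is generated by `n` conjugates of every involution: `|M| ≤ |A|^(2n)`.** -/
theorem InX.card_le_half [Finite H] [Finite M] (h : InX H M K T A) {m : ℕ}
    (hg : ∀ x : K, x ≠ 1 → x * x = 1 → ∃ l : Fin m → K, closure (Set.range fun i => l i * x * (l i)⁻¹) = ⊤) :
    Nat.card M ≤ Nat.card A ^ (2 * m) := by
  obtain ⟨R, hTR, hR, x, hx, hx1, hxx, h1⟩ := h.exists_half'
  obtain ⟨l, hl⟩ := hg ⟨x, hx.2⟩ (fun h1 => hx1 (congrArg Subtype.val h1)) (Subtype.ext hxx)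
  have h3 : K ≤ closure (Set.range fun i => (l i : H) * x * (l i : H)⁻¹) := by
    have h3 := congrArg (Subgroup.map K.subtype) hl
    rw [MonoidHom.map_closure, ← Set.range_comp, ← MonoidHom.range_eq_map, range_subtype] at h3
    exact le_of_eq h3.symm
  refine (Gen.card_le_conj_index h x _ h3).trans ?_
  rw [pow_mul]
  exact Nat.pow_le_pow_left h1 m

/-- **Kill**: `LB`. -/
theorem InX.false_of_half_lb [Finite H] [Finite M] (h : InX H M K T A) {n a m : ℕ} (hl : Heis.LB.{u, u, v} K n)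
    (ha : Nat.card A ≤ 2 ^ a)
    (hg : ∀ x : K, x ≠ 1 → x * x = 1 → ∃ l : Fin m → K, closure (Set.range fun i => l i * x * (l i)⁻¹) = ⊤)
    (hn : 2 * a * m < n) : False := by
  have h1 := (Gen.lb_le h hl).trans ((h.card_le_half hg).trans (Nat.pow_le_pow_left ha _))
  rw [← pow_mul] at h1
  have h2 := (Nat.pow_le_pow_iff_right (by norm_num : 1 < 2)).1 h1
  have h3 : a * (2 * m) = 2 * a * m := by ring
  omega

/-- **Kill**: a prime. -/
theorem InX.false_of_half_prime [Finite H] [Finite M] (h : InX H M K T A) {r k a m : ℕ} (hp : r.Prime) (ho : Odd r)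
    (hr : r ∣ Nat.card K) (hk : ∀ n : ℕ, 0 < n → r ∣ 2 ^ n - 1 → k ≤ n) (ha : Nat.card A ≤ 2 ^ a)
    (hg : ∀ x : K, x ≠ 1 → x * x = 1 → ∃ l : Fin m → K, closure (Set.range fun i => l i * x * (l i)⁻¹) = ⊤)
    (hn : 2 * a * m < k) : False := by
  have h1 := (Gen.pow_le_card h hp ho hr hk).trans ((h.card_le_half hg).trans (Nat.pow_le_pow_left ha _))
  rw [← pow_mul] at h1
  have h2 := (Nat.pow_le_pow_iff_right (by norm_num : 1 < 2)).1 h1
  have h3 : a * (2 * m) = 2 * a * m := by ring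
  omega

/-- **Kill**: all involutions `x` of `K` have `|M : C_M(x)| > |A|²`. -/
theorem InX.false_of_half_index [Finite H] [Finite M] (h : InX H M K T A) {n : ℕ} (hA : Nat.card A ^ 2 ≤ n)
    (hi : ∀ x ∈ K, x ≠ 1 → x * x = 1 → n < (cv M ({x} : Set H)).index) : False := by
  obtain ⟨R, hTR, hR, x, hx, hx1, hxx, h1⟩ := h.exists_half'
  have := hi x hx.2 hx1 hxx
  omega

end module

end Cfsg.Agent.Omega.ML.Ex
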