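import Cfsg.Agent.Omega.ML.Ex.InA
import Cfsg.Agent.Omega.ML.Ex.DefN

/-!
# The K-list for EXACT subgroups: all forms of a row give `DeadN` (helper441)

* `InN.toA` : 995's `InN H N K T A` gives `InA H N K T A`;
* **`DeadA.deadN`**, **`Row.deadN`** : a row over `InA`, or over both modules, gives `DeadN` (995's `DeadX.deadN` is the
  third conversion);  `DeadN.mono'`.
-/

set_option autoImplicit false

namespace Cfsg.Agent.Omega.ML.Ex

open Subgroup Cfsg Cfsg.Agent.ZN Cfsg.Agent.Omega.NOThree.NoOver Cfsg.Agent.Omega.ML.CD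
open Cfsg.Agent.ClassTwoFusion.Quad Cfsg.Agent.Omega.ML.MinFrame

universe u v

theorem InN.toA {H : Type u} [Group H] {N : Type v} [Group N] [MulDistribMulAction H N] {K T A : Subgroup H}
    (h : InN H N K T A) : InA H N K T A where
  sq := h.sq
  faith := h.faith
  norm := h.norm
  simple := h.simple
  cen := h.cen
  gen := h.gen
  two := h.two
  syl := h.syl
  AT := h.AT
  el := h.el
  four := h.four
  exact := h.exact
  atom := h.atom
  low := h.low
  nmax := h.nmax

/-- **Rows over `InA` are rows for `InN`.** -/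
theorem DeadA.deadN {𝒮 : ∀ (S : Type u) [Group S], Prop} (hd : DeadA.{u, v} 𝒮) : DeadN.{u, v} 𝒮 :=
  fun H _ _ N _ _ _ K T A h hS => hd H N K T A h.toA hS

/-- **Rows over both modules are rows for `InN`.** -/
theorem Row.deadN {𝒮 : ∀ (S : Type u) [Group S], Prop} (hd : Row.{u, v} 𝒮) : DeadN.{u, v} 𝒮 := by
  intro H _ _ N _ _ _ K T A h hS
  have hnor := h.ck_normal
  let _ := modAct (H := H) (InN.ck N K) h.smul_mem_ck
  exact hd H (N ⧸ InN.ck N K) N K T A h.inX h.toA hS

/-- smaller classes -/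
theorem DeadN.mono' {𝒮 𝒮' : ∀ (S : Type u) [Group S], Prop} (h : DeadN.{u, v} 𝒮)
    (h' : ∀ (S : Type u) [Group S], 𝒮' S → 𝒮 S) : DeadN.{u, v} 𝒮' :=
  fun H _ _ N _ _ _ K T A hI hS => h H N K T A hI (h' _ hS)

end Cfsg.Agent.Omega.ML.Ex
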