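import Cfsg.Agent.Omega.ML.Ex.Def
import Cfsg.Agent.Omega.ML.Final
import Cfsg.Agent.Omega.ML.MinIrr

/-!
# THEOREM IRR (helper410 #22122 (A)), parts (a), (b)

`X = KT` is faithful and irreducible on `M`, `K` normal and simple, `C_X(K) = 1`, `1 ≠ A ≤ T` exact, sub-exact and low.

* `Dec H M K S M₁` : `S` is a simple `K`-submodule, all conjugates of `S` which are `≠ S` are in `M₁`, `S ∩ M₁ = 1`,
  `N_H(S)` normalises `M₁`;
* `Sit.inv` : a minimal exact `A` normalises `S`;  `Sit.le_relIndex` : `|A| ≤ |S : C_S(A)|`;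
* **`Sit.bot`**, **`Sit.eq_top`** : `M₁ = 1`, `S = M`;
* **`InX.eq_top_of_dec`** : the same for `InX` (a minimal exact subgroup of `A` is an atom).
-/

set_option autoImplicit false

namespace Cfsg.Agent.Omega.ML.Ex.IrrAB

open Subgroup Cfsg Cfsg.Agent.ClassTwoFusion.Quad Cfsg.Agent.Omega.NOThree.NoOver Cfsg.Agent.Omega.ML.CD
open Cfsg.Agent.Omega.ML.MinFrame Cfsg.Agent.Omega.ML.Final Cfsg.Agent.ZN Cfsg.Agent.MinSimple.VModule

universe u v

/-- A simple `K`-submodule `S` of `M` with all the other conjugates in `M₁`, `S ∩ M₁ = 1`. -/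
structure Dec (H : Type u) [Group H] (M : Type v) [Group M] [MulDistribMulAction H M] (K : Subgroup H)
    (S M₁ : Subgroup M) : Prop where
  ne : S ≠ ⊥
  inv : ∀ k ∈ K, ∀ s ∈ S, k • s ∈ S
  simple : ∀ W ≤ S, (∀ k ∈ K, ∀ w ∈ W, k • w ∈ W) → W = ⊥ ∨ W = S
  inf : S ⊓ M₁ = ⊥
  alt : ∀ x : H, (∀ s ∈ S, x • s ∈ S) ∨ (∀ s ∈ S, x • s ∈ M₁)
  inv₁ : ∀ x : H, (∀ s ∈ S, x • s ∈ S) → ∀ m ∈ M₁, x • m ∈ M₁

/-- The situation of THEOREM IRR, for an exact `A` which is an atom. -/
structure Sit (H : Type u) [Group H] (M : Type v) [Group M] [MulDistribMulAction H M] (K T A : Subgroup H) :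
    Prop where
  sq : ∀ m : M, m * m = 1
  faith : ∀ h : H, (∀ m : M, h • m = m) → h = 1
  irr : ∀ W : Subgroup M, (∀ h : H, ∀ w ∈ W, h • w ∈ W) → W = ⊥ ∨ W = ⊤
  norm : K.Normal
  simple : IsSimpleGroup K
  cen : centralizer (K : Set H) = ⊥
  gen : K ⊔ T = ⊤
  two : IsPGroup 2 T
  syl : ¬ 2 ∣ T.index
  AT : A ≤ T
  el : ∀ a ∈ A, a * a = 1
  ne : A ≠ ⊥
  exact : (cv M (A : Set H)).index = Nat.card A
  sub : ∀ C : Subgroup H, C ≤ A → Nat.card C ≤ (cv M (C : Set H)).index
  low : ∀ R : Subgroup H, T ≤ R → R ≠ ⊤ → A ≤ o2 R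
  atm : ∀ C : Subgroup H, C ≤ A → C ≠ ⊥ → C ≠ A → Nat.card C < (cv M (C : Set H)).index

variable {H : Type u} [Group H] [Finite H] {M : Type v} [Group M] [Finite M] [MulDistribMulAction H M]

/-- `N_H(S)` -/
def nrm (H : Type u) [Group H] [Finite H] {M : Type v} [Group M] [MulDistribMulAction H M] (S : Subgroup M) :
    Subgroup H where
  carrier := {x | ∀ s ∈ S, x • s ∈ S}
  one_mem' := fun s hs => by rwa [one_smul]
  mul_mem' := fun {x y} hx hy s hs => by
    rw [mul_smul]
    exact hx _ (hy s hs)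
  inv_mem' := fun {x} hx s hs => by
    have h1 : ∀ n : ℕ, ∀ s ∈ S, x ^ n • s ∈ S := by
      intro n
      induction n with
      | zero => intro s hs; rwa [pow_zero, one_smul]
      | succ n ih => intro s hs; rw [pow_succ, mul_smul]; exact ih _ (hx s hs)
    have h2 : x⁻¹ = x ^ (orderOf x - 1) := by
      rw [← mul_eq_one_iff_inv_eq, ← pow_succ']
      rw [Nat.sub_add_cancel (orderOf_pos x), pow_orderOf_eq_one]
    rw [h2]
    exact h1 _ s hs

omit [Finite M] in
theorem mem_nrm {S : Subgroup M} {x : H} : x ∈ nrm H S ↔ ∀ s ∈ S, x • s ∈ S := Iff.rfl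

namespace Dec

variable {K : Subgroup H} {S M₁ : Subgroup M}

omit [Finite M] in
theorem K_le (d : Dec H M K S M₁) : K ≤ nrm H S := fun k hk => d.inv k hk

omit [Finite M] in
theorem not_mem (d : Dec H M K S M₁) {x : H} (hx : x ∉ nrm H S) : ∀ s ∈ S, x • s ∈ M₁ :=
  (d.alt x).resolve_left hx

omit [Finite M] [Finite H] in
theorem eq_one (d : Dec H M K S M₁) {s : M} (hs : s ∈ S) (h1 : s ∈ M₁) : s = 1 := by
  have : s ∈ S ⊓ M₁ := ⟨hs, h1⟩
  rwa [d.inf, mem_bot] at this

omit [Finite M] [Finite H] in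
/-- uniqueness of the components -/
theorem uniq (d : Dec H M K S M₁) {s s' u u' : M} (hs : s ∈ S) (hs' : s' ∈ S) (hu : u ∈ M₁) (hu' : u' ∈ M₁)
    (h : s * u = s' * u') : s = s' ∧ u = u' := by
  have h1 : s'⁻¹ * s = u' * u⁻¹ := by
    rw [inv_mul_eq_iff_eq_mul, ← mul_assoc, ← h, mul_inv_cancel_right]
  have h2 := d.eq_one (s := s'⁻¹ * s) (mul_mem (inv_mem hs') hs) (h1 ▸ mul_mem hu' (inv_mem hu))
  have h3 : s = s' := (inv_mul_eq_one.1 h2).symm
  refine ⟨h3, ?_⟩
  rw [h3] at h
  exact mul_left_cancel h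

end Dec

namespace Sit

variable {K T A : Subgroup H} {S M₁ : Subgroup M}

omit [Finite H] [Finite M] in
theorem comm (h : Sit H M K T A) (x y : M) : x * y = y * x := comm_of_sq h.sq x y

omit [Finite H] [Finite M] in
theorem inv_eq (h : Sit H M K T A) (x : M) : x⁻¹ = x := inv_eq_of_mul_eq_one_right (h.sq x)

omit [Finite H] [Finite M] in
theorem K_ne (h : Sit H M K T A) : K ≠ ⊥ := by
  intro h1
  have hsim := h.simple
  obtain ⟨x, hx⟩ := exists_ne (1 : K)
  exact hx (Subtype.ext (mem_bot.1 (h1 ▸ x.2)))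

omit [Finite H] [Finite M] in
theorem normM (h : Sit H M K T A) (W : Subgroup M) : W.Normal :=
  ⟨fun x hx g => by rw [h.comm g x, mul_inv_cancel_right]; exact hx⟩

omit [Finite M] [Finite H] in
/-- `C_H(S) = 1` -/
theorem fxr_eq (h : Sit H M K T A) (d : Dec H M K S M₁) : fxr H S = ⊥ := by
  have hKn := h.norm
  have hsim := h.simple
  have hinvK : ∀ k ∈ K, ∀ f ∈ fxr H S, k * f * k⁻¹ ∈ fxr H S := fun k hk f hf =>
    conj_mem_fxr (R := K) (fun g hg m hm => d.inv g hg m hm) hk hf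
  have h1 : fxr H S ⊓ K = ⊥ := by
    have hn : ((fxr H S).subgroupOf K).Normal := by
      constructor
      intro f hf g
      exact hinvK g g.2 f hf
    rcases IsSimpleGroup.eq_bot_or_eq_top_of_normal _ hn with h2 | h2
    · exact (subgroupOf_eq_bot.1 h2).eq_bot
    · exfalso
      have h3 : K ≤ fxr H S := subgroupOf_eq_top.1 h2
      have h4 : cv M (K : Set H) = ⊤ := by
        refine (h.irr (cv M (K : Set H)) ?_).resolve_left fun h4 => d.ne (eq_bot_iff.2 fun s hs => ?_)
        · intro g m hm k hk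
          have h5 : g⁻¹ * k * g ∈ K := by
            have := hKn.conj_mem k hk g⁻¹
            rwa [inv_inv] at this
          have h6 := hm _ h5
          rw [mul_smul, mul_smul, inv_smul_eq_iff] at h6
          exact h6
        · rw [← h4]
          exact fun k hk => h3 hk s hs
      apply h.K_ne
      rw [eq_bot_iff]
      intro k hk
      rw [mem_bot]
      exact h.faith k fun m => (h4 ▸ mem_top m : m ∈ cv M (K : Set H)) k hk
  rw [eq_bot_iff, ← h.cen]
  intro f hf
  refine mem_centralizer_iff.2 fun k hk => ?_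
  have h2 : k * f * k⁻¹ * f⁻¹ ∈ fxr H S ⊓ K := by
    refine ⟨(fxr H S).mul_mem (hinvK k hk f hf) ((fxr H S).inv_mem hf), ?_⟩
    have h3 := hKn.conj_mem k⁻¹ (K.inv_mem hk) f
    have e : k * f * k⁻¹ * f⁻¹ = k * (f * k⁻¹ * f⁻¹) := by group
    rw [e]
    exact K.mul_mem hk h3
  rw [h1, mem_bot, mul_inv_eq_one, mul_inv_eq_iff_eq_mul] at h2
  exact h2

omit [Finite H] in
/-- `|S| > 2` -/
theorem two_lt (h : Sit H M K T A) (d : Dec H M K S M₁) : 2 < Nat.card S := by
  by_contra hc
  apply h.K_ne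
  rw [eq_bot_iff, ← h.fxr_eq d]
  intro k hk s hs
  by_cases h1 : s = 1
  · rw [h1, smul_one]
  by_contra h2
  have h3 : ({1, s, k • s} : Set M) ⊆ S := by
    rintro x (rfl | rfl | rfl)
    · exact one_mem _
    · exact hs
    · exact d.inv k hk s hs
  have h4 : ({1, s, k • s} : Set M).ncard = 3 := by
    rw [Set.ncard_eq_three]
    refine ⟨1, s, k • s, Ne.symm h1, fun h5 => h1 ?_, fun h5 => h2 h5.symm, rfl⟩
    rw [eq_comm, ← smul_one k] at h5
    exact smul_left_cancel k h5
  have h5 := Set.ncard_le_ncard h3 (Set.toFinite _)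
  rw [h4, ← Nat.card_coe_set_eq] at h5
  have h6 : Nat.card (S : Set M) = Nat.card S := rfl
  omega

omit [Finite M] [Finite H] in
theorem sup_eq (h : Sit H M K T A) (d : Dec H M K S M₁) : S ⊔ M₁ = ⊤ := by
  let J : Subgroup M := Subgroup.closure {m | ∃ x : H, ∃ s ∈ S, m = x • s}
  have h1 : J = ⊤ := by
    refine (h.irr J fun g w hw => ?_).resolve_left fun h2 => d.ne (eq_bot_iff.2 fun s hs => ?_)
    · have h2 : J ≤ J.comap (MulDistribMulAction.toMonoidHom M g) := by
        change Subgroup.closure _ ≤ _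
        rw [Subgroup.closure_le]
        rintro _ ⟨x, s, hs, rfl⟩
        exact Subgroup.subset_closure ⟨g * x, s, hs, (mul_smul _ _ _).symm⟩
      exact h2 hw
    · rw [← h2]
      exact Subgroup.subset_closure ⟨1, s, hs, (one_smul _ _).symm⟩
  rw [eq_top_iff, ← h1]
  change Subgroup.closure _ ≤ _
  rw [Subgroup.closure_le]
  rintro _ ⟨x, s, hs, rfl⟩
  rcases d.alt x with h2 | h2
  · exact mem_sup_left (h2 s hs)
  · exact mem_sup_right (h2 s hs)

omit [Finite M] [Finite H] in
theorem exists_comp (h : Sit H M K T A) (d : Dec H M K S M₁) (m : M) : ∃ s ∈ S, ∃ u ∈ M₁, m = s * u := by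
  have hn := h.normM M₁
  have h1 : m ∈ S ⊔ M₁ := by rw [h.sup_eq d]; exact mem_top m
  obtain ⟨s, hs, u, hu, h2⟩ := mem_sup_of_normal_right.1 h1
  exact ⟨s, hs, u, hu, h2.symm⟩

omit [Finite M] [Finite H] in
/-- a `T`-fixed vector `≠ 1` has a nontrivial component in `S` -/
theorem comp_ne (h : Sit H M K T A) (d : Dec H M K S M₁) {s u : M} (hs : s ∈ S) (hu : u ∈ M₁)
    (hT : ∀ t ∈ T, t • (s * u) = s * u) (h1 : s * u ≠ 1) : s ≠ 1 := by
  rintro rfl
  rw [one_mul] at hT h1
  let J : Subgroup M :=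
    { carrier := {m | ∀ x : H, x • m ∈ M₁}
      one_mem' := fun x => by rw [smul_one]; exact one_mem _
      mul_mem' := fun {a b} ha hb x => by rw [smul_mul']; exact mul_mem (ha x) (hb x)
      inv_mem' := fun {a} ha x => by rw [smul_inv']; exact inv_mem (ha x) }
  have hJ : J = ⊥ := by
    refine (h.irr J fun g w hw x => ?_).resolve_right fun h2 => d.ne (eq_bot_iff.2 fun s hs => ?_)
    · rw [← mul_smul]
      exact hw _
    · have h3 : s ∈ J := h2 ▸ mem_top s
      have h4 := h3 1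
      rw [one_smul] at h4
      exact mem_bot.2 (d.eq_one hs h4)
  apply h1
  rw [← mem_bot, ← hJ]
  intro x
  have hx : x ∈ K ⊔ T := by rw [h.gen]; exact mem_top x
  have hKn := h.norm
  obtain ⟨k, hk, t, ht, rfl⟩ := mem_sup_of_normal_left.1 hx
  rw [mul_smul, hT t ht]
  exact d.inv₁ k (d.inv k hk) u hu

/-! ### (a) `A` normalises `S` -/

omit [Finite H] in
/-- hyperplanes -/
theorem cv_eq (h : Sit H M K T A) {D : Subgroup H} (hD : D ≤ A) (h1 : D ≠ ⊥) (h2 : Nat.card A ≤ 2 * Nat.card D) :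
    cv M (D : Set H) = cv M (A : Set H) := by
  by_cases hDA : D = A
  · rw [hDA]
  have hle : cv M (A : Set H) ≤ cv M (D : Set H) := cv_anti (SetLike.coe_subset_coe.2 hD)
  refine le_antisymm ?_ hle
  rw [← relIndex_eq_one]
  have h3 := h.atm D hD h1 hDA
  have h4 : (cv M (A : Set H)).relIndex (cv M (D : Set H)) * (cv M (D : Set H)).index =
      (cv M (A : Set H)).index := relIndex_mul_index hle
  rw [h.exact] at h4
  have h5 : (cv M (A : Set H)).relIndex (cv M (D : Set H)) ≠ 0 := relIndex_ne _ _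
  by_contra h6
  have h7 : 2 ≤ (cv M (A : Set H)).relIndex (cv M (D : Set H)) := by omega
  have h8 : 2 * (cv M (D : Set H)).index ≤ Nat.card A := by
    rw [← h4]
    exact Nat.mul_le_mul_right _ h7
  omega

omit [Finite H] [Finite M] in
theorem A_comm (h : Sit H M K T A) {a b : H} (ha : a ∈ A) (hb : b ∈ A) : a * b = b * a := by
  have h1 : ∀ z ∈ A, z⁻¹ = z := fun z hz => inv_eq_of_mul_eq_one_right (h.el z hz)
  calc a * b = (a * b)⁻¹ := (h1 _ (A.mul_mem ha hb)).symm
    _ = b⁻¹ * a⁻¹ := mul_inv_rev _ _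
    _ = b * a := by rw [h1 _ ha, h1 _ hb]

omit [Finite M] in
/-- a hyperplane of `A` over `A₁ < A` -/
theorem exists_hyp (h : Sit H M K T A) {A₁ : Subgroup H} (h1 : A₁ < A) :
    ∃ D, A₁ ≤ D ∧ D < A ∧ Nat.card A ≤ 2 * Nat.card D := by
  obtain ⟨D, ⟨hD1, hD2⟩, hmax⟩ := Set.exists_max_image {D : Subgroup H | A₁ ≤ D ∧ D < A} (fun D => Nat.card D)
    (Set.toFinite _) ⟨A₁, le_rfl, h1⟩
  refine ⟨D, hD1, hD2, ?_⟩
  obtain ⟨a, ha, haD⟩ := SetLike.exists_of_lt hD2
  have hD3 : D < adj D a (h.el a ha) (fun b hb => h.A_comm ha (hD2.le hb)) := by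
    rw [SetLike.lt_iff_le_and_exists]
    refine ⟨fun b hb => mem_adj.2 (Or.inl hb), a, mem_adj.2 (Or.inr ?_), haD⟩
    rw [h.el a ha]
    exact one_mem _
  have hD4 : adj D a (h.el a ha) (fun b hb => h.A_comm ha (hD2.le hb)) ≤ A := by
    rintro x (hx | hx)
    · exact hD2.le hx
    · have h2 := A.mul_mem (hD2.le hx) ha
      rwa [mul_assoc, h.el a ha, mul_one] at h2
  have hD5 : adj D a (h.el a ha) (fun b hb => h.A_comm ha (hD2.le hb)) = A := by
    by_contra hc
    have h3 := hmax _ ⟨hD1.trans hD3.le, lt_of_le_of_ne hD4 hc⟩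
    have h4 := Set.ncard_lt_ncard (SetLike.coe_ssubset_coe.2 hD3) (Set.toFinite _)
    rw [← Nat.card_coe_set_eq, ← Nat.card_coe_set_eq] at h4
    exact absurd h4 (not_lt.2 h3)
  rw [← hD5]
  have h6 : ((adj D a (h.el a ha) (fun b hb => h.A_comm ha (hD2.le hb)) : Subgroup H) : Set H) ⊆
      (D : Set H) ∪ (fun x => x * a) '' (D : Set H) := by
    rintro x (hx | hx)
    · exact Or.inl hx
    · refine Or.inr ⟨x * a, hx, ?_⟩
      change x * a * a = x
      rw [mul_assoc, h.el a ha, mul_one]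
  have h7 := Set.ncard_le_ncard h6 (Set.toFinite _)
  have h8 := h7.trans (Set.ncard_union_le _ _)
  have h9 : ((fun x => x * a) '' (D : Set H)).ncard ≤ (D : Set H).ncard := Set.ncard_image_le (Set.toFinite _)
  rw [← Nat.card_coe_set_eq] at h8
  rw [← Nat.card_coe_set_eq (D : Set H)] at h8 h9
  have h10 : Nat.card (D : Set H) = Nat.card D := rfl
  change Nat.card (((adj D a (h.el a ha) (fun b hb => h.A_comm ha (hD2.le hb)) : Subgroup H) : Set H)) ≤ _
  omega

/-- **(a)** `A` normalises `S` -/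
theorem A_le (h : Sit H M K T A) (d : Dec H M K S M₁) : A ≤ nrm H S := by
  classical
  by_contra hc
  have hlt : A ⊓ nrm H S < A := lt_of_le_of_ne inf_le_left fun h1 => hc (inf_eq_left.1 h1)
  obtain ⟨D, hD1, hD2, hD3⟩ := h.exists_hyp hlt
  obtain ⟨a, ha, haD⟩ := SetLike.exists_of_lt hD2
  have haS : ∀ b ∈ A, b ∉ D → b ∉ nrm H S := fun b hb hbD hbS => hbD (hD1 ⟨hb, hbS⟩)
  by_cases hDb : D = ⊥
  · -- `|A| = 2`
    have h1 : Nat.card A ≤ 2 := by rwa [hDb, card_bot] at hD3
    have h2 : cv M (A : Set H) ⊓ S = ⊥ := by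
      rw [eq_bot_iff]
      rintro s ⟨hs1, hs2⟩
      have h3 := d.not_mem (haS a ha haD) s hs2
      rw [hs1 a ha] at h3
      exact mem_bot.2 (d.eq_one hs2 h3)
    have h3 : (cv M (A : Set H)).relIndex S = Nat.card S := by
      rw [← inf_relIndex_right, h2, relIndex_bot_left]
    have h4 : (cv M (A : Set H)).relIndex S ≤ (cv M (A : Set H)).index := by
      rw [← relIndex_top_right]
      exact relIndex_le_of_le_right le_top (relIndex_ne _ _)
    have h5 := h.two_lt d
    rw [h3, h.exact] at h4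
    omega
  · have hcv := h.cv_eq hD2.le hDb hD3
    -- a vector of `S` fixed by `N_A(S)`
    obtain ⟨s, hs, hs1, hsA⟩ := exists_fixed (H := H) h.sq (B := A ⊓ nrm H S) (h.two.to_le (inf_le_left.trans h.AT))
      d.ne (fun b hb x hx => hb.2 x hx)
    let _ : CommGroup M := { (inferInstance : Group M) with mul_comm := h.comm }
    let O := MulAction.orbit D s
    have : Fintype O := Fintype.ofFinite O
    have hsO : s ∈ O := MulAction.mem_orbit_self s
    have hO : ∀ x : O, x ≠ ⟨s, hsO⟩ → (x : M) ∈ M₁ := by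
      intro x hx
      obtain ⟨g, hg⟩ := x.2
      have hg' : (g : H) • s = (x : M) := hg
      rw [← hg']
      refine d.not_mem (fun h1 => hx (Subtype.ext ?_)) s hs
      rw [← hg']
      exact hsA g ⟨hD2.le g.2, h1⟩
    let p : M := ∏ x : O, (x : M)
    have hp1 : p = s * ∏ x ∈ Finset.univ.erase (⟨s, hsO⟩ : O), (x : M) :=
      (Finset.mul_prod_erase Finset.univ (fun x : O => (x : M)) (Finset.mem_univ (⟨s, hsO⟩ : O))).symm
    have hp2 : ∏ x ∈ Finset.univ.erase (⟨s, hsO⟩ : O), (x : M) ∈ M₁ :=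
      Subgroup.prod_mem _ fun x hx => hO x (Finset.ne_of_mem_erase hx)
    have hp3 : p ∈ cv M (D : Set H) := by
      intro g hg
      have h1 := map_prod (MulDistribMulAction.toMonoidHom M g) (fun x : O => (x : M)) Finset.univ
      have h2 : g • p = ∏ x : O, g • (x : M) := h1
      rw [h2]
      exact (Equiv.prod_comp (MulAction.toPerm (⟨g, hg⟩ : D) : Equiv.Perm O) fun x : O => (x : M))
    have hp4 : a • p ∈ M₁ := by
      have h1 := map_prod (MulDistribMulAction.toMonoidHom M a) (fun x : O => (x : M)) Finset.univ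
      have h2 : a • p = ∏ x : O, a • (x : M) := h1
      rw [h2]
      refine Subgroup.prod_mem _ fun x _ => ?_
      obtain ⟨g, hg⟩ := x.2
      have hg' : (g : H) • s = (x : M) := hg
      rw [← hg', ← mul_smul]
      refine d.not_mem (haS _ (A.mul_mem ha (hD2.le g.2)) fun h3 => haD ?_) s hs
      have h4 := D.mul_mem h3 (D.inv_mem g.2)
      rwa [mul_inv_cancel_right] at h4
    rw [hcv] at hp3
    rw [hp3 a ha, hp1] at hp4
    have h5 := M₁.mul_mem hp4 (M₁.inv_mem hp2)
    rw [mul_inv_cancel_right] at h5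
    exact hs1 (d.eq_one hs h5)

/-! ### (b) -/

omit [Finite M] in
/-- `T ∩ N_H(S)` is a Sylow 2-subgroup of `N_H(S)` -/
theorem odd_nrm (h : Sit H M K T A) (d : Dec H M K S M₁) : ¬ 2 ∣ (T ⊓ nrm H S).relIndex (nrm H S) := by
  have hKn := h.norm
  have h1 : T ⊓ nrm H S ⊔ K = nrm H S := by
    refine le_antisymm (sup_le inf_le_right d.K_le) fun x hx => ?_
    have h2 : x ∈ K ⊔ T := by rw [h.gen]; exact mem_top x
    obtain ⟨k, hk, t, ht, rfl⟩ := mem_sup_of_normal_left.1 h2
    refine Subgroup.mul_mem _ (mem_sup_right hk) (mem_sup_left ⟨ht, ?_⟩)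
    have h3 := (nrm H S).mul_mem ((nrm H S).inv_mem (d.K_le hk)) hx
    rwa [inv_mul_cancel_left] at h3
  have h2 : (T ⊓ nrm H S).relIndex K = T.relIndex K := by
    rw [← inf_relIndex_right, inf_assoc, inf_eq_right.2 d.K_le, inf_relIndex_right]
  have h3 : (T ⊓ nrm H S).relIndex (nrm H S) = T.index := by
    have h4 := Lib.SylowNormalInf.relIndex_sup_of_normal (T ⊓ nrm H S) K
    rw [h1, h2, ← Lib.SylowNormalInf.relIndex_sup_of_normal T K, sup_comm, h.gen, relIndex_top_right] at h4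
    exact h4
  rw [h3]
  exact h.syl

/-- **(b)** `|A| ≤ |S : C_S(A)|` -/
theorem le_relIndex (h : Sit H M K T A) (d : Dec H M K S M₁) (hK : IsKGroup H) (ml : MLK.{u, v}) :
    Nat.card A ≤ (cv M (A : Set H)).relIndex S := by
  have hKn := h.norm
  have hM1 := h.normM M₁
  have hAN := h.A_le d
  have hAcv : (cv M (A : Set H)).Normal := h.normM _
  -- a `T`-fixed vector
  have htop : (⊤ : Subgroup M) ≠ ⊥ := fun h1 => d.ne (le_bot_iff.1 (le_top.trans h1.le))
  obtain ⟨v, -, hv1, hvT⟩ := exists_fixed (H := H) h.sq h.two htop (fun _ _ _ _ => mem_top _)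
  obtain ⟨s, hs, u, hu, rfl⟩ := h.exists_comp d v
  have hs1 := h.comp_ne d hs hu hvT hv1
  have hsplit : ∀ x ∈ nrm H S, x • (s * u) = s * u → x • s = s := by
    intro x hx h1
    rw [smul_mul'] at h1
    exact (d.uniq (hx s hs) hs (d.inv₁ x hx u hu) hu h1).1
  set R : Subgroup H := nrm H S ⊓ MulAction.stabilizer H s with hRdef
  have hTR : T ⊓ nrm H S ≤ R := fun t ht => ⟨ht.2, hsplit t ht.2 (hvT t ht.1)⟩
  have hAT : A ≤ T ⊓ nrm H S := le_inf h.AT hAN
  have hoddR : ¬ 2 ∣ (T ⊓ nrm H S).relIndex R := fun h1 =>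
    h.odd_nrm d (h1.trans (Dvd.intro _ (relIndex_mul_relIndex _ _ _ hTR inf_le_left)))
  -- the stabiliser of `v`
  have hst : MulAction.stabilizer H (s * u) ≠ ⊤ := by
    intro h1
    have h2 : ∀ g : H, g • (s * u) = s * u := fun g => by
      have : g ∈ MulAction.stabilizer H (s * u) := by rw [h1]; exact mem_top g
      exact this
    have h3 : cv M (Set.univ : Set H) = ⊤ := by
      refine (h.irr (cv M (Set.univ : Set H)) ?_).resolve_left fun h3 => hv1 ?_
      · intro g w hw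
        rwa [hw g (Set.mem_univ g)]
      · rw [← mem_bot, ← h3]
        exact fun g _ => h2 g
    apply h.K_ne
    rw [eq_bot_iff]
    intro k _
    rw [mem_bot]
    exact h.faith k fun m => (h3 ▸ mem_top m : m ∈ cv M (Set.univ : Set H)) k (Set.mem_univ k)
  have hAo : A ≤ o2 (MulAction.stabilizer H (s * u)) := h.low _ (fun t ht => hvT t ht) hst
  -- (ML) for `R` and `v`
  have hrelR := rel_subgroup (M := M) R (ml R M (sec_KG.sub H hK R) h.sq)
  have hml1 := hrelR (T ⊓ nrm H S) (o2 (MulAction.stabilizer H (s * u)) ⊓ R) A (s * u) (mem_top _)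
    (h.two.to_le inf_le_left) hTR hoddR (fun t ht => hvT t ht.1) ((o2_isPGroup _).to_le inf_le_left) inf_le_right
    (fun q hq => o2_le _ hq.1)
    (fun g hg hgv q hq => ⟨conj_mem_of_le (le_normalizer_o2 _) hgv hq.1,
      R.mul_mem (R.mul_mem hg hq.2) (R.inv_mem hg)⟩)
    (le_inf hAo (hAT.trans hTR)) h.el False.elim
  set N := orb R (s * u) with hN
  set D := A ⊓ fxr H N with hD
  have hDA : D ≤ A := inf_le_left
  have hND : N ≤ cv M (D : Set H) := fun m hm x hx => hx.2 m hm
  have e1 : Nat.card D * (fxr H N).relIndex A = Nat.card A := by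
    rw [← inf_relIndex_right, inf_comm, ← relIndex_bot_left, ← relIndex_bot_left A]
    exact relIndex_mul_relIndex _ _ _ bot_le hDA
  have e2 : (cv M (A : Set H)).relIndex N ≤ (cv M (A : Set H)).relIndex (cv M (D : Set H)) :=
    relIndex_le_of_le_right hND (relIndex_ne _ _)
  have e3 : (cv M (A : Set H)).relIndex (cv M (D : Set H)) * (cv M (D : Set H)).index = Nat.card A := by
    rw [relIndex_mul_index (cv_anti (SetLike.coe_subset_coe.2 hDA)), h.exact]
  have e4 := h.sub D hDA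
  have hDpos : 0 < Nat.card D := Nat.card_pos
  have hpos : 0 < (cv M (D : Set H)).index := Nat.pos_of_ne_zero index_ne_zero_of_finite
  have hpos2 : 0 < (fxr H N).relIndex A := Nat.pos_of_ne_zero (relIndex_ne _ _)
  have hDeq : (cv M (D : Set H)).index = Nat.card D := by
    refine le_antisymm ?_ e4
    by_contra hc
    rw [not_le] at hc
    have h1 : Nat.card D * (fxr H N).relIndex A < (cv M (D : Set H)).index * (fxr H N).relIndex A :=
      Nat.mul_lt_mul_of_pos_right hc hpos2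
    have h2 : (cv M (D : Set H)).index * (fxr H N).relIndex A ≤
        (cv M (D : Set H)).index * (cv M (A : Set H)).relIndex (cv M (D : Set H)) :=
      Nat.mul_le_mul_left _ (hml1.trans e2)
    rw [e1] at h1
    rw [mul_comm _ ((cv M (A : Set H)).relIndex _), e3] at h2
    omega
  have hDalt : D = ⊥ ∨ D = A := by
    by_contra hc
    push Not at hc
    exact absurd (h.atm D hDA hc.1 hc.2) (by rw [hDeq]; exact lt_irrefl _)
  have hDA2 : D = A := by
    rcases hDalt with h1 | h1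
    · exfalso
      rw [h1, card_bot, one_mul] at e1
      -- `M = N C_M(A)`
      have h2 : (cv M (A : Set H)).relIndex N = (cv M (A : Set H)).index := by
        refine le_antisymm ?_ (by rw [h.exact, ← e1]; exact hml1)
        rw [← relIndex_top_right]
        exact relIndex_le_of_le_right le_top (relIndex_ne _ _)
      have h3 : cv M (A : Set H) ⊔ N = ⊤ := by
        have h4 : (cv M (A : Set H)).relIndex (cv M (A : Set H) ⊔ N) = (cv M (A : Set H)).relIndex N := by
          rw [sup_comm, relIndex_sup_right]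
        have h5 := relIndex_mul_index (le_sup_left : cv M (A : Set H) ≤ cv M (A : Set H) ⊔ N)
        rw [h4, h2] at h5
        have h6 : 0 < (cv M (A : Set H)).index := Nat.pos_of_ne_zero index_ne_zero_of_finite
        rw [← index_eq_one]
        exact Nat.eq_of_mul_eq_mul_left h6 (by rw [h5, mul_one])
      -- the `S`-component of `N`
      have h4 : N ≤ zpowers s ⊔ M₁ := by
        refine orb_le fun g hg => ?_
        rw [smul_mul']
        have hg2 : g • s = s := hg.2
        rw [hg2]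
        exact Subgroup.mul_mem _ (mem_sup_left (mem_zpowers s)) (mem_sup_right (d.inv₁ g hg.1 u hu))
      apply h.ne
      rw [eq_bot_iff, ← h.fxr_eq d]
      intro a ha x hx
      have h5 : x ∈ cv M (A : Set H) ⊔ N := by rw [h3]; exact mem_top x
      obtain ⟨c, hc, n, hn, hcn⟩ := mem_sup_of_normal_left.1 h5
      obtain ⟨z, hz, w, hw, hzw⟩ := mem_sup_of_normal_right.1 (h4 hn)
      obtain ⟨j, rfl⟩ := mem_zpowers_iff.1 hz
      have has : a • s = s := (hTR (hAT ha)).2
      have hsj : s ^ j ∈ S := zpow_mem hs j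
      have hasj : a • s ^ j = s ^ j := by rw [smul_zpow', has]
      -- `c = (x s^-j) w^-1`
      have h6 : c = (x * (s ^ j)⁻¹) * w⁻¹ := by
        rw [← hcn, ← hzw, h.comm (s ^ j) w]
        group
      have h7 : a • c = c := hc a ha
      rw [h6, smul_mul'] at h7
      have h8 := (d.uniq (hAN ha _ (S.mul_mem hx (S.inv_mem hsj))) (S.mul_mem hx (S.inv_mem hsj))
        (d.inv₁ a (hAN ha) _ (M₁.inv_mem hw)) (M₁.inv_mem hw) h7).1
      rw [smul_mul', smul_inv', hasj] at h8
      exact mul_right_cancel h8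
    · exact h1
  -- `A ≤ O₂(R)`
  have hAfx : A ≤ fxr H N := hDA2.ge.trans inf_le_right
  have hAR : A ≤ o2 R := by
    have hinv : ∀ g ∈ R, ∀ m ∈ N, g • m ∈ N := fun g hg m hm => smul_mem_orb hg hm
    have h2 : o2 (R ⊓ fxr H N) ≤ o2 R := o2_le_o2 inf_le_left fun g hg x hx =>
      ⟨R.mul_mem (R.mul_mem hg hx.1) (R.inv_mem hg), conj_mem_fxr hinv hg hx.2⟩
    refine le_trans ?_ h2
    have h3 : o2 (MulAction.stabilizer H (s * u)) ⊓ (R ⊓ fxr H N) ≤ o2 (R ⊓ fxr H N) := by
      refine le_o2 inf_le_right ((o2_isPGroup _).to_le inf_le_left) (le_normalizer_of fun g hg x hx => ⟨?_, ?_⟩)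
      · exact conj_mem_of_le (le_normalizer_o2 _) (hg.2 _ (mem_orb_self R (s * u))) hx.1
      · exact Subgroup.mul_mem _ (Subgroup.mul_mem _ hg hx.2) (Subgroup.inv_mem _ hg)
    exact le_trans (le_inf hAo (le_inf (hAT.trans hTR) hAfx)) h3
  -- (ML) for `N_H(S)` and `s`
  have hrelS := rel_subgroup (M := M) (nrm H S) (ml (nrm H S) M (sec_KG.sub H hK _) h.sq)
  have hml2 := hrelS (T ⊓ nrm H S) (o2 R) A s (mem_top _)
    (h.two.to_le inf_le_left) inf_le_right (h.odd_nrm d) (fun t ht => (hTR ht).2) (o2_isPGroup _)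
    ((o2_le _).trans inf_le_left) (fun q hq => (o2_le R hq).2)
    (fun g hg hgs q hq => conj_mem_of_le (le_normalizer_o2 R) (show g ∈ R from ⟨hg, hgs⟩) hq) hAR h.el False.elim
  have horb : orb (nrm H S) s = S := by
    have h0 : orb (nrm H S) s ≤ S := orb_le fun g hg => hg s hs
    refine (d.simple _ h0 fun k hk w hw => smul_mem_orb (d.K_le hk) hw).resolve_left fun h1 => hs1 ?_
    rw [← mem_bot, ← h1]
    exact mem_orb_self _ s
  rwa [horb, h.fxr_eq d, relIndex_bot_left] at hml2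

open Pointwise in
omit [Finite M] [Finite H] in
/-- the conjugates of `S` -/
theorem _root_.Cfsg.Agent.Omega.ML.Ex.IrrAB.Dec.smul (hKn : K.Normal) (d : Dec H M K S M₁) (x : H) :
    Dec H M K (x • S) (x • M₁) where
  ne := fun h1 => d.ne (by
    have h2 : x⁻¹ • (x • S) = x⁻¹ • (⊥ : Subgroup M) := by rw [h1]
    rwa [inv_smul_smul, Subgroup.smul_bot] at h2)
  inv := fun k hk s hs => by
    rw [Subgroup.mem_pointwise_smul_iff_inv_smul_mem] at hs ⊢
    have h1 : x⁻¹ * k * x ∈ K := by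
      have := hKn.conj_mem k hk x⁻¹
      rwa [inv_inv] at this
    have h2 := d.inv _ h1 _ hs
    rwa [← mul_smul, mul_inv_cancel_right, mul_smul] at h2
  simple := fun W hW hWK => by
    have h1 : x⁻¹ • W ≤ S := by
      intro m hm
      rw [Subgroup.mem_pointwise_smul_iff_inv_smul_mem, inv_inv] at hm
      have h2 := hW hm
      rwa [Subgroup.mem_pointwise_smul_iff_inv_smul_mem, inv_smul_smul] at h2
    rcases d.simple _ h1 (fun k hk w hw => by
      rw [Subgroup.mem_pointwise_smul_iff_inv_smul_mem, inv_inv] at hw ⊢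
      have h3 := hWK _ (hKn.conj_mem k hk x) _ hw
      rwa [← mul_smul, inv_mul_cancel_right, mul_smul] at h3) with h2 | h2
    · left
      rw [inv_smul_eq_iff, Subgroup.smul_bot] at h2
      exact h2
    · right
      rwa [inv_smul_eq_iff] at h2
  inf := by
    rw [← Subgroup.smul_inf, d.inf, Subgroup.smul_bot]
  alt := fun y => by
    rcases d.alt (x⁻¹ * y * x) with h1 | h1
    · left
      intro s hs
      rw [Subgroup.mem_pointwise_smul_iff_inv_smul_mem] at hs ⊢
      have h2 := h1 _ hs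
      rwa [← mul_smul, mul_inv_cancel_right, mul_smul] at h2
    · right
      intro s hs
      rw [Subgroup.mem_pointwise_smul_iff_inv_smul_mem] at hs ⊢
      have h2 := h1 _ hs
      rwa [← mul_smul, mul_inv_cancel_right, mul_smul] at h2
  inv₁ := fun y hy m hm => by
    rw [Subgroup.mem_pointwise_smul_iff_inv_smul_mem] at hm ⊢
    have h1 : ∀ s ∈ S, (x⁻¹ * y * x) • s ∈ S := by
      intro s hs
      have h2 := hy (x • s) (Subgroup.smul_mem_pointwise_smul s x S hs)
      rw [Subgroup.mem_pointwise_smul_iff_inv_smul_mem] at h2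
      rwa [mul_smul, mul_smul]
    have h2 := d.inv₁ _ h1 _ hm
    rwa [← mul_smul, mul_inv_cancel_right, mul_smul] at h2

open Pointwise in
/-- **(b)** `S = M` -/
theorem bot (h : Sit H M K T A) (d : Dec H M K S M₁) (hK : IsKGroup H) (ml : MLK.{u, v}) : M₁ = ⊥ := by
  by_contra hne
  have hAcv : (cv M (A : Set H)).Normal := h.normM _
  have hM1 := h.normM M₁
  obtain ⟨x, hx⟩ : ∃ x, x ∉ nrm H S := by
    by_contra hc
    push Not at hc
    rcases h.irr S fun g w hw => hc g w hw with h1 | h1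
    · exact d.ne h1
    · apply hne
      have h2 := d.inf
      rwa [h1, top_inf_eq] at h2
  have h1 := h.le_relIndex d hK ml
  have h2 := h.le_relIndex (d.smul h.norm x) hK ml
  have h3 : x • S ≤ M₁ := by
    intro m hm
    rw [Subgroup.mem_pointwise_smul_iff_inv_smul_mem] at hm
    have h4 := d.not_mem hx _ hm
    rwa [smul_inv_smul] at h4
  have h4 : Nat.card A ≤ (cv M (A : Set H)).relIndex M₁ := h2.trans (relIndex_le_of_le_right h3 (relIndex_ne _ _))
  -- the product
  have h5 : (cv M (A : Set H)).relIndex (cv M (A : Set H) ⊔ M₁) = (cv M (A : Set H)).relIndex M₁ := by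
    rw [sup_comm, relIndex_sup_right]
  have h6 := relIndex_mul_index (le_sup_left : cv M (A : Set H) ≤ cv M (A : Set H) ⊔ M₁)
  have h7 : (cv M (A : Set H) ⊔ M₁) ⊓ S ≤ cv M (A : Set H) := by
    rintro s ⟨hs1, hs2⟩ a ha
    obtain ⟨c, hc, w, hw, hcw⟩ := mem_sup_of_normal_left.1 hs1
    have haN := h.A_le d ha
    have e : c = s * w⁻¹ := by rw [← hcw, mul_inv_cancel_right]
    have h8 : a • c = c := hc a ha
    rw [e, smul_mul'] at h8
    exact (d.uniq (haN _ hs2) hs2 (d.inv₁ a haN _ (M₁.inv_mem hw)) (M₁.inv_mem hw) h8).1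
  have h8 : Nat.card A ≤ (cv M (A : Set H) ⊔ M₁).index := by
    refine h1.trans ?_
    have h9 : (cv M (A : Set H)).relIndex S ≤ (cv M (A : Set H) ⊔ M₁).relIndex S := by
      rw [← inf_relIndex_right (cv M (A : Set H) ⊔ M₁), ← inf_relIndex_right (cv M (A : Set H))]
      exact relIndex_le_of_le_left (le_inf h7 inf_le_right) (relIndex_ne _ _)
    refine h9.trans ?_
    rw [← relIndex_top_right]
    exact relIndex_le_of_le_right le_top (relIndex_ne _ _)
  rw [h5, h.exact] at h6
  have h9 : Nat.card A * Nat.card A ≤ Nat.card A := by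
    conv_rhs => rw [← h6]
    exact Nat.mul_le_mul h4 h8
  have h10 : 1 < Nat.card A := (Subgroup.one_lt_card_iff_ne_bot _).2 h.ne
  nlinarith

/-- **(b)** `M|_K` is simple -/
theorem eq_top (h : Sit H M K T A) (d : Dec H M K S M₁) (hK : IsKGroup H) (ml : MLK.{u, v}) : S = ⊤ := by
  have h1 := h.sup_eq d
  rwa [h.bot d hK ml, sup_bot_eq] at h1

end Sit

omit [Finite M] in
/-- a minimal exact subgroup `≠ 1` of `A` -/
theorem _root_.Cfsg.Agent.Omega.ML.Ex.InX.exists_sit {K T A : Subgroup H} (h : InX H M K T A) :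
    ∃ A' ≤ A, Sit H M K T A' := by
  obtain ⟨A', ⟨h1, h2, h3⟩, hmin⟩ := Set.exists_min_image {C : Subgroup H | C ≤ A ∧ C ≠ ⊥ ∧
    (cv M (C : Set H)).index = Nat.card C} (fun C => Nat.card C) (Set.toFinite _) ⟨A, le_rfl, h.A_ne_bot, h.exact⟩
  refine ⟨A', h1, ?_⟩
  exact
    { sq := h.sq
      faith := h.faith
      irr := h.irr
      norm := h.norm
      simple := h.simple
      cen := h.cen
      gen := h.gen
      two := h.two
      syl := h.syl
      AT := h1.trans h.AT
      el := fun a ha => h.el a (h1 ha)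
      ne := h2
      exact := h3
      sub := fun C hC => h.sub C (hC.trans h1)
      low := fun R hT hR => h1.trans (h.low R hT hR)
      atm := fun C hC hC1 hC2 => by
        refine lt_of_le_of_ne (h.sub C (hC.trans h1)) fun h4 => ?_
        have h5 := hmin C ⟨hC.trans h1, hC1, h4.symm⟩
        exact hC2 (eq_of_le_of_card_ge hC h5) }

/-- **THEOREM IRR** over a decomposition -/
theorem _root_.Cfsg.Agent.Omega.ML.Ex.InX.eq_top_of_dec {K T A : Subgroup H} (h : InX H M K T A) (hK : IsKGroup H)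
    (ml : MLK.{u, v}) {S M₁ : Subgroup M} (d : Dec H M K S M₁) : S = ⊤ := by
  obtain ⟨A', -, h1⟩ := h.exists_sit
  exact h1.eq_top d hK ml


end Cfsg.Agent.Omega.ML.Ex.IrrAB
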