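import Mathlib

/-!
# The parity lemma

`M` an elementary abelian 2-group, `K` a set of operators, `S₀ ≤ M` simple for `K`: the number of submodules of `M`
which are isomorphic to `S₀` is odd.

(`|Hom_K(S₀, M) \ 0|` is odd, and so is every fibre `|Hom_K(S₀, S) \ 0|` of `f ↦ f(S₀)`.)
-/

set_option autoImplicit false

namespace Cfsg.Agent.Omega.ML.Ex.IrrPar

open Subgroup

universe u v

variable {H : Type u} [Group H] {M : Type v} [Group M] [MulDistribMulAction H M]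

theorem comm_of_sq (sq : ∀ m : M, m * m = 1) (x y : M) : x * y = y * x := by
  have hinv : ∀ m : M, m⁻¹ = m := fun m => inv_eq_of_mul_eq_one_right (sq m)
  calc x * y = (x * y)⁻¹ := (hinv _).symm
    _ = y⁻¹ * x⁻¹ := mul_inv_rev _ _
    _ = y * x := by rw [hinv, hinv]

/-- `Hom_K(S₀, L)` -/
def HK (sq : ∀ m : M, m * m = 1) (K : Set H) (S₀ L : Subgroup M) : Subgroup (S₀ → M) where
  carrier := {f | (∀ s t, f (s * t) = f s * f t) ∧
    (∀ k ∈ K, ∀ s s' : S₀, (s' : M) = k • (s : M) → f s' = k • f s) ∧ ∀ s, f s ∈ L}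
  one_mem' := ⟨fun _ _ => (mul_one 1).symm, fun k _ _ _ _ => (smul_one k).symm, fun _ => L.one_mem⟩
  mul_mem' := by
    rintro f g ⟨f1, f2, f3⟩ ⟨g1, g2, g3⟩
    refine ⟨fun s t => ?_, fun k hk s s' h => ?_, fun s => L.mul_mem (f3 s) (g3 s)⟩
    · rw [Pi.mul_apply, Pi.mul_apply, Pi.mul_apply, f1, g1, mul_assoc, mul_assoc, ← mul_assoc (f t),
        ← mul_assoc (g s), comm_of_sq sq (f t) (g s)]
    · rw [Pi.mul_apply, Pi.mul_apply, f2 k hk s s' h, g2 k hk s s' h, smul_mul']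
  inv_mem' := by
    rintro f ⟨f1, f2, f3⟩
    refine ⟨fun s t => ?_, fun k hk s s' h => ?_, fun s => L.inv_mem (f3 s)⟩
    · rw [Pi.inv_apply, Pi.inv_apply, Pi.inv_apply, f1, mul_inv_rev, comm_of_sq sq]
    · rw [Pi.inv_apply, Pi.inv_apply, f2 k hk s s' h, smul_inv']

variable {sq : ∀ m : M, m * m = 1} {K : Set H} {S₀ L : Subgroup M}

theorem mem_HK {f : S₀ → M} : f ∈ HK sq K S₀ L ↔ (∀ s t, f (s * t) = f s * f t) ∧
    (∀ k ∈ K, ∀ s s' : S₀, (s' : M) = k • (s : M) → f s' = k • f s) ∧ ∀ s, f s ∈ L := Iff.rfl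

/-- the homomorphism -/
def toHom {f : S₀ → M} (hf : f ∈ HK sq K S₀ L) : S₀ →* M := MonoidHom.mk' f hf.1

theorem toHom_apply {f : S₀ → M} (hf : f ∈ HK sq K S₀ L) (s : S₀) : toHom hf s = f s := rfl

/-- nonzero homomorphisms are injective -/
theorem inj (inv : ∀ k ∈ K, ∀ s ∈ S₀, k • s ∈ S₀)
    (simple : ∀ W ≤ S₀, (∀ k ∈ K, ∀ w ∈ W, k • w ∈ W) → W = ⊥ ∨ W = S₀) {f : S₀ → M} (hf : f ∈ HK sq K S₀ L)
    (h1 : f ≠ 1) : Function.Injective f := by
  have h0 : ∀ k ∈ K, ∀ w ∈ (toHom hf).ker.map S₀.subtype, k • w ∈ (toHom hf).ker.map S₀.subtype := by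
    rintro k hk _ ⟨s, hs, rfl⟩
    refine ⟨⟨k • (s : M), inv k hk s s.2⟩, ?_, rfl⟩
    have h3 := hf.2.1 k hk s ⟨k • (s : M), inv k hk s s.2⟩ rfl
    have h4 : f s = 1 := hs
    rw [h4, smul_one] at h3
    exact h3
  have h2 : ((toHom hf).ker.map S₀.subtype) = ⊥ := by
    rcases simple ((toHom hf).ker.map S₀.subtype) (map_subtype_le _) h0 with h3 | h3
    · exact h3
    · exfalso
      apply h1
      funext s
      have h4 : (s : M) ∈ (toHom hf).ker.map S₀.subtype := by rw [h3]; exact s.2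
      obtain ⟨t, ht, hts⟩ := h4
      have h5 : t = s := Subtype.ext hts
      rw [← h5]
      exact ht
  have h3 : (toHom hf).ker = ⊥ := by
    rw [eq_bot_iff]
    intro s hs
    have h4 : (s : M) ∈ (toHom hf).ker.map S₀.subtype := ⟨s, hs, rfl⟩
    rw [h2, mem_bot] at h4
    exact mem_bot.2 (Subtype.ext h4)
  exact (MonoidHom.ker_eq_bot_iff _).1 h3

theorem range_eq {f : S₀ → M} (hf : f ∈ HK sq K S₀ L) : closure (Set.range f) = (toHom hf).range := by
  have h1 : Set.range f = ((toHom hf).range : Set M) := rfl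
  rw [h1, closure_eq]

theorem card_range (inv : ∀ k ∈ K, ∀ s ∈ S₀, k • s ∈ S₀)
    (simple : ∀ W ≤ S₀, (∀ k ∈ K, ∀ w ∈ W, k • w ∈ W) → W = ⊥ ∨ W = S₀) {f : S₀ → M} (hf : f ∈ HK sq K S₀ L)
    (h1 : f ≠ 1) : Nat.card (closure (Set.range f)) = Nat.card S₀ := by
  rw [range_eq hf]
  exact (Nat.card_congr (MonoidHom.ofInjective (f := toHom hf) (inj inv simple hf h1)).toEquiv).symm

/-- a group of exponent 2, not trivial -/
theorem even_card {G : Type*} [Group G] [Finite G] (sq : ∀ g : G, g * g = 1) {g : G} (hg : g ≠ 1) :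
    Even (Nat.card G) := by
  have h1 : orderOf g = 2 := orderOf_eq_prime (by rw [pow_two]; exact sq g) hg
  rw [even_iff_two_dvd, ← h1]
  exact orderOf_dvd_natCard g

open Classical in
/-- the nonzero homomorphisms: an odd number -/
theorem odd_ne_one [Finite M] {f : S₀ → M} (hf : f ∈ HK sq K S₀ L) (h1 : f ≠ 1) :
    Odd (Nat.card {g : S₀ → M // g ∈ HK sq K S₀ L ∧ g ≠ 1}) := by
  have h2 : Even (Nat.card (HK sq K S₀ L)) := by
    refine even_card (g := ⟨f, hf⟩) (fun g => ?_) fun h => h1 (congrArg Subtype.val h)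
    refine Subtype.ext (funext fun s => ?_)
    exact sq _
  have h3 : Nat.card {g : S₀ → M // g ∈ HK sq K S₀ L ∧ g ≠ 1} = Nat.card {g : HK sq K S₀ L // g ≠ 1} := by
    refine Nat.card_congr ⟨fun g => ⟨⟨g.1, g.2.1⟩, fun h => g.2.2 (congrArg Subtype.val h)⟩,
      fun g => ⟨g.1.1, g.1.2, fun h => g.2 (Subtype.ext h)⟩, fun _ => rfl, fun _ => rfl⟩
  have := Fintype.ofFinite (HK sq K S₀ L)
  have h4 : Nat.card {g : HK sq K S₀ L // g ≠ 1} = Nat.card (HK sq K S₀ L) - 1 := by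
    rw [Nat.card_eq_fintype_card, Nat.card_eq_fintype_card, Fintype.card_subtype_compl, Fintype.card_subtype_eq]
  rw [h3, h4]
  exact Nat.Even.sub_odd Nat.card_pos h2 odd_one

open Classical in
/-- **The parity lemma** -/
theorem odd_card [Finite M] (sq : ∀ m : M, m * m = 1) (K : Set H) {S₀ : Subgroup M} (ne : S₀ ≠ ⊥)
    (inv : ∀ k ∈ K, ∀ s ∈ S₀, k • s ∈ S₀)
    (simple : ∀ W ≤ S₀, (∀ k ∈ K, ∀ w ∈ W, k • w ∈ W) → W = ⊥ ∨ W = S₀) :
    Odd (Nat.card {S : Subgroup M // ∃ f : S₀ →* M, Function.Injective f ∧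
      (∀ k ∈ K, ∀ s s' : S₀, (s' : M) = k • (s : M) → f s' = k • f s) ∧ f.range = S}) := by
  have := Fintype.ofFinite (S₀ → M)
  let N : Finset (S₀ → M) := Finset.univ.filter fun f => f ∈ HK sq K S₀ ⊤ ∧ f ≠ 1
  let r : (S₀ → M) → Subgroup M := fun f => closure (Set.range f)
  have hmem : ∀ f : S₀ → M, f ∈ N ↔ f ∈ HK sq K S₀ ⊤ ∧ f ≠ 1 := fun f => by simp [N]
  -- the inclusion
  have h1 : S₀.subtype.toFun ∈ N := by
    rw [hmem]
    refine ⟨⟨fun _ _ => rfl, fun k _ s s' h => h, fun _ => mem_top _⟩, fun h => ne ?_⟩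
    rw [eq_bot_iff]
    intro s hs
    exact mem_bot.2 (congrFun h ⟨s, hs⟩)
  have hcard : ∀ (p : (S₀ → M) → Prop) [DecidablePred p], (Finset.univ.filter p).card = Nat.card {f // p f} :=
    fun p _ => by rw [Nat.card_eq_fintype_card, Fintype.card_subtype]
  have h2 : Odd N.card := by
    have h3 := odd_ne_one ((hmem _).1 h1).1 ((hmem _).1 h1).2
    rwa [← hcard] at h3
  rw [Finset.card_eq_sum_card_image r N, Finset.odd_sum_iff_odd_card_odd] at h2
  have h3 : (N.image r).filter (fun b => Odd (N.filter fun a => r a = b).card) = N.image r := by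
    rw [Finset.filter_eq_self]
    intro S hS
    obtain ⟨f, hf, hfS⟩ := Finset.mem_image.1 hS
    obtain ⟨hf1, hf2⟩ := (hmem f).1 hf
    have h4 : N.filter (fun a => r a = S) = Finset.univ.filter fun a => a ∈ HK sq K S₀ S ∧ a ≠ 1 := by
      ext a
      rw [Finset.mem_filter, hmem, Finset.mem_filter]
      constructor
      · rintro ⟨⟨ha1, ha2⟩, ha3⟩
        refine ⟨Finset.mem_univ _, ⟨ha1.1, ha1.2.1, fun s => ?_⟩, ha2⟩
        rw [← ha3]
        exact subset_closure ⟨s, rfl⟩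
      · rintro ⟨-, ha1, ha2⟩
        have ha3 : a ∈ HK sq K S₀ ⊤ := ⟨ha1.1, ha1.2.1, fun _ => mem_top _⟩
        refine ⟨⟨ha3, ha2⟩, ?_⟩
        refine eq_of_le_of_card_ge ((closure_le _).2 ?_) ?_
        · rintro _ ⟨s, rfl⟩
          exact ha1.2.2 s
        · rw [← hfS, card_range inv simple hf1 hf2]
          exact (card_range inv simple ha3 ha2).ge
    rw [h4, hcard]
    refine odd_ne_one (f := f) ⟨hf1.1, hf1.2.1, fun s => ?_⟩ hf2
    rw [← hfS]
    exact subset_closure ⟨s, rfl⟩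
  rw [h3] at h2
  have h5 : Nat.card {S : Subgroup M // ∃ f : S₀ →* M, Function.Injective f ∧
      (∀ k ∈ K, ∀ s s' : S₀, (s' : M) = k • (s : M) → f s' = k • f s) ∧ f.range = S} = (N.image r).card := by
    rw [← Fintype.card_coe, ← Nat.card_eq_fintype_card]
    refine Nat.card_congr (Equiv.subtypeEquivRight fun S => ?_)
    rw [Finset.mem_image]
    constructor
    · rintro ⟨f, hf1, hf2, rfl⟩
      have hf : (f : S₀ → M) ∈ HK sq K S₀ ⊤ := ⟨fun s t => map_mul f s t, hf2, fun _ => mem_top _⟩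
      refine ⟨f, (hmem _).2 ⟨hf, fun h => ne ?_⟩, ?_⟩
      · rw [eq_bot_iff]
        intro s hs
        have h6 : f ⟨s, hs⟩ = f 1 := by rw [map_one]; exact congrFun h ⟨s, hs⟩
        exact mem_bot.2 (congrArg Subtype.val (hf1 h6))
      · show closure (Set.range f) = f.range
        rw [← MonoidHom.coe_range, closure_eq]
    · rintro ⟨f, hf, rfl⟩
      obtain ⟨hf1, hf2⟩ := (hmem f).1 hf
      exact ⟨toHom hf1, inj inv simple hf1 hf2, hf1.2.1, (range_eq hf1).symm⟩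
  rw [h5]
  exact h2

end Cfsg.Agent.Omega.ML.Ex.IrrPar
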