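import Cfsg.Agent.Omega.ML.Ex.Def
import Cfsg.Agent.Omega.ML.RowLoc
import Cfsg.Agent.Omega.ML.InvRow

/-!
# Exact and low configurations: the local criterion of `RowLoc` and inverted elements (helper322)

* `ASx.exists_loc` : for `Loc z P` (`P ∈ Syl₂(S)`, `z` the only involution of `C_S(P)` and of the normal 2-subgroups of
  `C_S(z)`) there is `g ∈ X` with `T ≤ C_X(z^g)`, `A ∩ S ≤ ⟨z^g⟩`;
* `ASx.card_le_mul_of_loc`, `ASx.mem_of_loc` : `|A| ≤ 2 |X : S|`, and `z^g ∈ A` if `|X : S| < |A|`;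
* `InX.index_le_card_of_mem` : `|M : C_M(x)| ≤ |A|`, `x ∈ A`;
* **`InX.false_of_invAt`** : `InvAt x n`, `x ∈ A`, `|A| < 2 ^ n` is impossible;
* `deadX_of_loc` : the row with `Loc z P`, `|Out(S)| < 4` and `InvAt z n`, `2 |Out(S)| < 2 ^ n`.
-/

set_option autoImplicit false

namespace Cfsg.Agent.Omega.ML.Ex

open Subgroup Cfsg Cfsg.Agent.ZN Cfsg.Agent.Omega.ML.RowLoc Cfsg.Agent.Omega.ML.InvChain
open Cfsg.Agent.Omega.NOThree.NoOver Cfsg.Agent.Omega.ML.CD Cfsg.Agent.ClassTwoFusion.Quad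
open Cfsg.Agent.MinSimple.VModule (o2_isPGroup o2_le le_o2 le_normalizer_o2)

universe u v

section group

variable {X : Type u} [Group X] {S T A : Subgroup X}

/-- `|X : S|` divides `|Out(S)|` -/
theorem ASx.index_dvd (h : ASx S T A) {n : ℕ} (hn : (MulAut.conj : S →* MulAut S).range.index ∣ n) : S.index ∣ n := by
  have hSn := h.norm
  have h1 : (MulAut.conj : S →* MulAut S).range.comap (MulAut.conjNormal (H := S)) = S := by
    ext x
    constructor
    · rintro ⟨s, hs⟩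
      have h2 : (s : X)⁻¹ * x ∈ centralizer (S : Set X) := by
        refine mem_centralizer_iff.2 fun y hy => ?_
        have h3 := congrArg (fun α : MulAut S => ((α ⟨y, hy⟩ : S) : X)) hs
        have h4 : (s : X) * y * (s : X)⁻¹ = x * y * x⁻¹ := by
          simpa [MulAut.conj_apply, MulAut.conjNormal_apply] using h3
        calc y * ((s : X)⁻¹ * x) = (s : X)⁻¹ * (s * y * (s : X)⁻¹) * x := by group
          _ = (s : X)⁻¹ * (x * y * x⁻¹) * x := by rw [h4]
          _ = (s : X)⁻¹ * x * y := by group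
      rw [h.cen, mem_bot, inv_mul_eq_one] at h2
      rw [← h2]
      exact s.2
    · intro hx
      refine ⟨⟨x, hx⟩, ?_⟩
      ext y
      simp [MulAut.conj_apply, MulAut.conjNormal_apply]
  have hInn : (MulAut.conj : S →* MulAut S).range.Normal := by
    refine ⟨?_⟩
    rintro _ ⟨s, rfl⟩ α
    refine ⟨α s, ?_⟩
    ext y
    simp [MulAut.conj_apply, MulAut.mul_apply]
  rw [← h1, index_comap]
  exact (relIndex_dvd_index_of_normal _ _).trans hn

/-- **the local criterion** -/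
theorem ASx.exists_loc [Finite X] (h : ASx S T A) {z : S} {P : Subgroup S} (L : Loc z P) :
    ∃ g : X, T ≤ centralizer ({g * z * g⁻¹} : Set X) ∧ ∀ b ∈ A, b ∈ S → b = 1 ∨ b = g * z * g⁻¹ := by
  classical
  have : Fact (Nat.Prime 2) := ⟨Nat.prime_two⟩
  have hSn := h.norm
  -- a Sylow subgroup of `X` containing `P`, conjugate to `T`
  obtain ⟨Q0, hQ0⟩ := (L.pP.map S.subtype).exists_le_sylow
  have hTS : ∃ T0 : Sylow 2 X, (T0 : Subgroup X) = T := by
    refine ⟨h.two.toSylow h.syl, rfl⟩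
  obtain ⟨T0, hT0⟩ := hTS
  obtain ⟨g, hg⟩ := MulAction.exists_smul_eq X Q0 T0
  have hT : ∀ t, t ∈ T ↔ g⁻¹ * t * g ∈ (Q0 : Subgroup X) := by
    intro t
    rw [← hT0, ← hg, Sylow.coe_subgroup_smul, mem_pointwise_smul_iff_inv_smul_mem]
    simp [MulAut.smul_def, ← map_inv]
  -- `Q0 ∩ S = P`
  have hQS : ∀ x : S, (x : X) ∈ (Q0 : Subgroup X) → x ∈ P := by
    intro x hx
    set P0 : Sylow 2 S := L.pP.toSylow L.odd with hP0
    have h1 : (P : Subgroup S) ≤ (Q0 : Subgroup X).subgroupOf S := fun p hp => hQ0 ⟨p, hp, rfl⟩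
    have h2 : IsPGroup 2 ((Q0 : Subgroup X).subgroupOf S) :=
      Q0.isPGroup'.comap_of_injective _ S.subtype_injective
    have h3 : (Q0 : Subgroup X).subgroupOf S = P := P0.is_maximal' h2 h1
    rw [← h3]
    exact hx
  -- conjugation
  have hS : ∀ {x : X} (y : X), x ∈ S → y * x * y⁻¹ ∈ S := fun y hx => hSn.conj_mem _ hx y
  -- `Q0` centralises `z`
  have hz0 : ∀ u ∈ (Q0 : Subgroup X), u * (z : X) = z * u := by
    intro u hu
    have hu' : u⁻¹ ∈ (Q0 : Subgroup X) := inv_mem hu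
    have h1 := L.uniq ⟨u * z * u⁻¹, hS u z.2⟩ (fun p hp => ?_) ?_
    · rcases h1 with h1 | h1
      · exfalso
        apply L.z1
        have h2 : u * (z : X) * u⁻¹ = 1 := congrArg Subtype.val h1
        apply Subtype.ext
        calc (z : X) = u⁻¹ * (u * z * u⁻¹) * u := by group
          _ = 1 := by rw [h2]; group
      · exact mul_inv_eq_iff_eq_mul.1 (congrArg Subtype.val h1)
    · have hpQ : (p : X) ∈ (Q0 : Subgroup X) := hQ0 ⟨p, hp, rfl⟩
      have h2 : (⟨u⁻¹ * p * u⁻¹⁻¹, hS u⁻¹ p.2⟩ : S) ∈ P :=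
        hQS _ (mul_mem (mul_mem hu' hpQ) (inv_mem hu'))
      have h3 := congrArg Subtype.val (L.zc _ h2)
      have h4 : (z : X) * (u⁻¹ * p * u⁻¹⁻¹) = (u⁻¹ * p * u⁻¹⁻¹) * z := h3
      apply Subtype.ext
      show (u * (z : X) * u⁻¹) * p = p * (u * z * u⁻¹)
      calc (u * (z : X) * u⁻¹) * p = u * (z * (u⁻¹ * p * u⁻¹⁻¹)) * u⁻¹ := by group
        _ = u * ((u⁻¹ * p * u⁻¹⁻¹) * z) * u⁻¹ := by rw [h4]
        _ = p * (u * z * u⁻¹) := by group
    · apply Subtype.ext
      show (u * (z : X) * u⁻¹) * (u * z * u⁻¹) = 1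
      calc (u * (z : X) * u⁻¹) * (u * z * u⁻¹) = u * (z * z) * u⁻¹ := by group
        _ = 1 := by
            have h5 : (z : X) * z = 1 := congrArg Subtype.val L.zz
            rw [h5]; group
  -- `z' = g z g⁻¹`, `R = C(z')`
  set z' : X := g * z * g⁻¹ with hz'
  set R : Subgroup X := centralizer ({z'} : Set X) with hR
  have hRm : ∀ x, x ∈ R ↔ x * z' = z' * x := fun x => mem_centralizer_singleton_iff
  have hTR : T ≤ R := by
    intro t ht
    rw [hRm]
    have h1 := hz0 _ ((hT t).1 ht)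
    calc t * (g * z * g⁻¹) = g * ((g⁻¹ * t * g) * z) * g⁻¹ := by group
      _ = g * (z * (g⁻¹ * t * g)) * g⁻¹ := by rw [h1]
      _ = g * z * g⁻¹ * t := by group
  have hz'1 : z' ≠ 1 := by
    intro h1
    apply L.z1
    apply Subtype.ext
    calc (z : X) = g⁻¹ * z' * g := by rw [hz']; group
      _ = 1 := by rw [h1]; group
  have hRt : R ≠ ⊤ := by
    intro h1
    apply hz'1
    have h2 : z' ∈ centralizer (S : Set X) := by
      refine mem_centralizer_iff.2 fun y _ => ?_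
      exact (hRm y).1 (h1 ▸ mem_top y)
    rwa [h.cen, mem_bot] at h2
  have hAR := h.low R hTR hRt
  refine ⟨g, hTR, ?_⟩
  -- `A ∩ S ≤ ⟨z'⟩`
  intro b hb hbS
  let c : S →* X := (MulAut.conj g).toMonoidHom.comp S.subtype
  have hc : ∀ s : S, c s = g * s * g⁻¹ := fun s => rfl
  have hci : Function.Injective c := (MulAut.conj g).injective.comp S.subtype_injective
  have hb' : g⁻¹ * b * g ∈ S := by
    have := hS g⁻¹ hbS
    rwa [inv_inv] at this
  have a1 : ∀ n ∈ (o2 R).comap c, n * z = z * n := by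
    intro n hn
    have h1 := (hRm _).1 (o2_le R hn)
    rw [hc, hz'] at h1
    apply Subtype.ext
    show (n : X) * z = z * n
    calc (n : X) * z = g⁻¹ * (g * n * g⁻¹ * (g * z * g⁻¹)) * g := by group
      _ = g⁻¹ * (g * z * g⁻¹ * (g * n * g⁻¹)) * g := by rw [h1]
      _ = z * n := by group
  have a2 : ∀ k, k * z = z * k → ∀ n ∈ (o2 R).comap c, k * n * k⁻¹ ∈ (o2 R).comap c := by
    intro k hk n hn
    show c (k * n * k⁻¹) ∈ o2 R
    have hk' : (k : X) * z = z * k := congrArg Subtype.val hk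
    have hkR : c k ∈ R := by
      rw [hRm, hc, hz']
      calc g * k * g⁻¹ * (g * z * g⁻¹) = g * (k * z) * g⁻¹ := by group
        _ = g * (z * k) * g⁻¹ := by rw [hk']
        _ = g * z * g⁻¹ * (g * k * g⁻¹) := by group
    have h1 := (mem_normalizer_iff.1 (le_normalizer_o2 R hkR) (c n)).1 hn
    rwa [map_mul, map_mul, map_inv]
  have a3 : (⟨g⁻¹ * b * g, hb'⟩ : S) ∈ (o2 R).comap c := by
    show g * (g⁻¹ * b * g) * g⁻¹ ∈ o2 R
    have : g * (g⁻¹ * b * g) * g⁻¹ = b := by group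
    rw [this]
    exact hAR hb
  have a4 : (⟨g⁻¹ * b * g, hb'⟩ : S) * ⟨g⁻¹ * b * g, hb'⟩ = 1 := by
    apply Subtype.ext
    show (g⁻¹ * b * g) * (g⁻¹ * b * g) = 1
    calc (g⁻¹ * b * g) * (g⁻¹ * b * g) = g⁻¹ * (b * b) * g := by group
      _ = 1 := by rw [h.el b hb]; group
  rcases L.oo ((o2 R).comap c) ((o2_isPGroup R).comap_of_injective _ hci) a1 a2 _ a3 a4 with h1 | h1
  · left
    have h2 : g⁻¹ * b * g = 1 := congrArg Subtype.val h1
    calc b = g * (g⁻¹ * b * g) * g⁻¹ := by group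
      _ = 1 := by rw [h2]; group
  · right
    have h2 : g⁻¹ * b * g = z := congrArg Subtype.val h1
    calc b = g * (g⁻¹ * b * g) * g⁻¹ := by group
      _ = z' := by rw [h2]

/-- `|A| ≤ |A ∩ S| |X : S|` -/
theorem ASx.card_le_inf_mul [Finite X] (h : ASx S T A) : Nat.card A ≤ Nat.card (S.subgroupOf A) * S.index := by
  have hSn := h.norm
  have h4 : Nat.card (S.subgroupOf A) * (S.subgroupOf A).index = Nat.card A := card_mul_index _
  have h5 : (S.subgroupOf A).index ≤ S.index := by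
    have h6 : S.relIndex A ∣ S.index := relIndex_dvd_index_of_normal _ _
    exact Nat.le_of_dvd (Nat.pos_of_ne_zero index_ne_zero_of_finite) h6
  calc Nat.card A = Nat.card (S.subgroupOf A) * (S.subgroupOf A).index := h4.symm
    _ ≤ _ := Nat.mul_le_mul_left _ h5

/-- `|A ∩ S| ≤ 2` if `A ∩ S ≤ {1, y}` -/
theorem card_subgroupOf_le_two [Finite X] {y : X} (hy : ∀ b ∈ A, b ∈ S → b = 1 ∨ b = y) :
    Nat.card (S.subgroupOf A) ≤ 2 := by
  have h2 : ((S.subgroupOf A : Subgroup A) : Set A) ⊆ Subtype.val ⁻¹' ({1, y} : Set X) := by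
    intro b hb
    rcases hy b b.2 (mem_subgroupOf.1 hb) with e | e
    · left; exact e
    · right; exact e
  have h3 : Nat.card (S.subgroupOf A) = (((S.subgroupOf A : Subgroup A) : Set A)).ncard := rfl
  rw [h3, ← Set.ncard_image_of_injective _ (Subtype.val_injective (p := fun x => x ∈ A))]
  refine (Set.ncard_le_ncard (t := ({1, y} : Set X)) ?_ (Set.toFinite _)).trans ?_
  · rintro _ ⟨b, hb, rfl⟩
    exact h2 hb
  · exact (Set.ncard_insert_le _ _).trans (by rw [Set.ncard_singleton])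

/-- `|A| ≤ 2 |X : S|` -/
theorem ASx.card_le_mul_of_loc [Finite X] (h : ASx S T A) {z : S} {P : Subgroup S} (L : Loc z P) :
    Nat.card A ≤ 2 * S.index := by
  obtain ⟨g, -, hg⟩ := h.exists_loc L
  exact h.card_le_inf_mul.trans (Nat.mul_le_mul_right _ (card_subgroupOf_le_two hg))

/-- a conjugate of `z` is in `A` if `|X : S| < |A|` -/
theorem ASx.mem_of_loc [Finite X] (h : ASx S T A) {z : S} {P : Subgroup S} (L : Loc z P) (hi : S.index < Nat.card A) :
    ∃ g : X, g * z * g⁻¹ ∈ A := by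
  obtain ⟨g, -, hg⟩ := h.exists_loc L
  refine ⟨g, ?_⟩
  by_contra hc
  have h1 : S.subgroupOf A = ⊥ := by
    rw [eq_bot_iff]
    intro b hb
    rcases hg b b.2 (mem_subgroupOf.1 hb) with e | e
    · exact mem_bot.2 (Subtype.ext e)
    · exact absurd (e ▸ b.2) hc
  have h2 := h.card_le_inf_mul
  rw [h1, card_bot, one_mul] at h2
  omega

end group

section module

variable {H : Type u} [Group H] {M : Type v} [Group M] [MulDistribMulAction H M] {K T A : Subgroup H}

/-- `|M : C_M(x)| ≤ |A|`, `x ∈ A` -/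
theorem InX.index_le_card_of_mem [Finite M] (h : InX H M K T A) {x : H} (hx : x ∈ A) :
    (cv M ({x} : Set H)).index ≤ Nat.card A := by
  rw [← h.exact]
  exact Nat.le_of_dvd (Nat.pos_of_ne_zero index_ne_zero_of_finite)
    (index_dvd_of_le (cv_anti (Set.singleton_subset_iff.2 hx)))

/-- **an inverted element** -/
theorem InX.false_of_invAt [Finite M] (h : InX H M K T A) {x : H} (hx : x ∈ A) {n : ℕ} (hA : Nat.card A < 2 ^ n)
    (hi : InvAt x n) : False := by
  have h1 := InvRow.inv_big h.sq h.faith (h.el x hx) hi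
  have h2 := h.index_le_card_of_mem hx
  omega

/-- `cv{x} = cv A` if `|A| ≤ 2 ^ n` and `InvAt x n` -/
theorem InX.cv_eq_of_invAt [Finite M] (h : InX H M K T A) {x : H} (hx : x ∈ A) {n : ℕ} (hA : Nat.card A ≤ 2 ^ n)
    (hi : InvAt x n) : Nat.card A = 2 ^ n ∧ cv M ({x} : Set H) = cv M (A : Set H) := by
  have h1 := InvRow.inv_big h.sq h.faith (h.el x hx) hi
  have h2 := h.index_le_card_of_mem hx
  refine ⟨by omega, ?_⟩
  have h3 : cv M (A : Set H) ≤ cv M ({x} : Set H) := cv_anti (Set.singleton_subset_iff.2 hx)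
  refine (le_antisymm h3 ?_).symm
  rw [← relIndex_eq_one]
  have h4 : (cv M (A : Set H)).relIndex (cv M ({x} : Set H)) * (cv M ({x} : Set H)).index =
      (cv M (A : Set H)).index := relIndex_mul_index h3
  have h5 : (cv M (A : Set H)).index ≠ 0 := index_ne_zero_of_finite
  rw [h.exact] at h4 h5
  have h6 : (cv M ({x} : Set H)).index = Nat.card A := by omega
  rw [h6] at h4
  exact Nat.eq_of_mul_eq_mul_right (Nat.pos_of_ne_zero h5) (by rw [h4, one_mul])

/-- **The row with `Loc`**: `|Out(S)| < 4`, `InvAt z n`, `2 |Out(S)| < 2 ^ n`. -/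
theorem deadX_of_loc {𝒮 : ∀ (S : Type u) [Group S], Prop} (hs : ∀ (S : Type u) [Group S] [Finite S], 𝒮 S →
    ∃ (z : S) (P : Subgroup S) (n k : ℕ), Loc z P ∧ (MulAut.conj : S →* MulAut S).range.index ∣ k ∧ 0 < k ∧ k < 4 ∧
      2 * k < 2 ^ n ∧ InvAt z n) : DeadX.{u, v} 𝒮 := by
  intro H _ _ M _ _ _ K T A h hS
  obtain ⟨z, P, n, k, L, hk, hk0, hk4, hkn, hz⟩ := hs K hS
  have h1 : K.index ≤ k := Nat.le_of_dvd hk0 (h.asx.index_dvd hk)
  have h2 := h.four
  obtain ⟨g, hg⟩ := h.asx.mem_of_loc L (by omega)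
  have h3 := h.asx.card_le_mul_of_loc L
  refine h.false_of_invAt hg (n := n) (by omega) ?_
  exact (hz.map K.subtype K.subtype_injective).conj g

end module

end Cfsg.Agent.Omega.ML.Ex
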