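import Cfsg.Agent.Omega.ML.Ex.NoTv
import Cfsg.Agent.OddHalf.D8.JTwo.Sheet

/-!
# `z` is not a transvection, from a sheet `SheetX z P R` (helper181)

`K ≤ H`, `SheetX z P R` in `K`, some `K`-conjugate of `z` is in `R - ⟨z⟩`: `|M : C_M(z)| ≠ 2` on every faithful
`H`-module `M` of exponent 2.
-/

set_option autoImplicit false

namespace Cfsg.Agent.Omega.ML.Ex.NoTv

open Subgroup Cfsg.Agent.OddHalf.D8.Sheet Cfsg.Agent.OddHalf.D8.JTwo.Sheet Cfsg.Agent.ClassTwoFusion.Quad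

universe u v

variable {H : Type u} [Group H] {M : Type v} [Group M] [MulDistribMulAction H M]

/-- `Loc` in `H` from the sheet in `K`. -/
theorem loc_of_sheet {K : Subgroup H} {z : K} {P R : Subgroup K} (hz : SheetX z P R) :
    Loc (z : H) (P.map K.subtype) (R.map K.subtype) := by
  have hinj := K.subtype_injective
  have hmem : ∀ x : K, (x : H) ∈ R.map K.subtype ↔ x ∈ R := by
    intro x
    constructor
    · rintro ⟨r, hr, hrx⟩
      rwa [← hinj hrx]
    · exact fun hx => ⟨x, hx, rfl⟩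
  refine ⟨congrArg Subtype.val hz.zz, fun h1 => hz.z1 (Subtype.ext h1), (hmem z).2 hz.zR, ?_, ?_, ?_, ?_, ?_⟩
  · rintro _ ⟨r, hr, rfl⟩
    exact congrArg Subtype.val (hz.cen r (hz.RP hr))
  · rintro _ ⟨p, hp, rfl⟩
    exact congrArg Subtype.val (hz.cen p hp)
  · rintro _ ⟨p, hp, rfl⟩ _ ⟨r, hr, rfl⟩
    exact ⟨_, hz.Rn p hp r hr, by simp⟩
  · intro B hB hBP
    rcases hz.Rmin (B.comap K.subtype) (fun x hx => (hmem x).1 (hB hx)) (fun p hp b hb => by
      have h2 := hBP _ ⟨p, hp, rfl⟩ _ hb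
      rw [mem_comap, map_mul, map_mul, map_inv]
      exact h2) with h3 | h3
    · left
      intro b hb
      obtain ⟨r, hr, rfl⟩ := hB hb
      rcases h3 r hb with rfl | rfl
      · exact Or.inl rfl
      · exact Or.inr rfl
    · right
      rw [← h3]
      refine (map_comap_eq_self ?_).symm
      rw [range_subtype]
      exact hB.trans (map_subtype_le _)
  · obtain ⟨a, ha, b, hb, hab⟩ := hz.Rna
    exact ⟨_, ⟨a, ha, rfl⟩, _, ⟨b, hb, rfl⟩, fun h1 => hab (hinj (by rw [map_mul, map_mul]; exact h1))⟩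

/-- **`|M : C_M(z)| ≠ 2`** if `z` has a conjugate in `R - ⟨z⟩`. -/
theorem index_ne_two_of_sheet [Finite H] [Finite M] {K : Subgroup H} {z : K} {P R : Subgroup K} (hz : SheetX z P R)
    (sq : ∀ m : M, m * m = 1) (faith : ∀ h : H, (∀ m : M, h • m = m) → h = 1) {k : H}
    (hk : k * (z : H) * k⁻¹ ∈ R.map K.subtype) (hkz : k * (z : H) * k⁻¹ ≠ z) :
    (cv M ({(z : H)} : Set H)).index ≠ 2 :=
  (loc_of_sheet hz).index_ne_two (hz.R2.map _) sq faith hk hkz

end Cfsg.Agent.Omega.ML.Ex.NoTv
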