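import Cfsg.Agent.Omega.KL.Str

/-!
# Exact low groups: no normal subgroup of odd order (helper699)

`H` is faithful and irreducible on `M`, `T` is a Sylow 2-subgroup of `H` which is in at least two maximal subgroups,
`1 ≠ A ≤ T` is LOW (`A ≤ O₂(R)` for all `T ≤ R < H`).  (No exactness, no K-groups.)

* `Core T A (M)` : this situation, with a `T`-fixed vector `x ≠ 1`;
* `Core.o2_top` : `O₂(H) = 1`;  `Core.comm_of_ne` : `N ⊴ H`, `NT < H` ⟹ `[N,A] = 1`;  `Core.sup_closure` : `H = ⟨A^H⟩T`;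
* **`Core.comm_of_odd`** : a normal subgroup of odd order is centralised by `A`, hence by `⟨A^H⟩`;
* **`Core.odd_of`** : if `N_H(T)` fixes `x` or some vector `≠ 1`, and every `T`-minimal `P` which moves `x` fixes some
  vector `≠ 1`, then `H` has no normal subgroup `≠ 1` of odd order (#21261 (2), #22527 (7), #22713 (6)).
* `Core.inf_min`, `Core.inf_norm` : the two steps, for a normal subgroup `N` centralised by `A`.
-/

set_option autoImplicit false
set_option linter.unusedSectionVars false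

namespace Cfsg.Agent.Omega.ML.Ex.OddCore

open Subgroup Cfsg Cfsg.Agent.ZN Cfsg.Agent.ClassTwoFusion.Quad
open Cfsg.Agent.Omega.KL.Str (eq_bot_of_fix normal_of_sup dedekind le_o2_top)
open Cfsg.Agent.MinSimple.MinParabolic (IsMinPar le_of_forall)
open Cfsg.Agent.MinSimple.VModule (o2_isPGroup o2_le le_o2 le_normalizer_o2)

universe u v

/-- The situation. -/
structure Core {H : Type u} [Group H] {M : Type v} [Group M] [MulDistribMulAction H M] (T A : Subgroup H) (x : M) :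
    Prop where
  faith : ∀ h : H, (∀ m : M, h • m = m) → h = 1
  irr : ∀ W : Subgroup M, (∀ h : H, ∀ w ∈ W, h • w ∈ W) → W = ⊥ ∨ W = ⊤
  two : IsPGroup 2 T
  syl : ¬ 2 ∣ T.index
  x1 : x ≠ 1
  tx : ∀ t ∈ T, t • x = x
  AT : A ≤ T
  A1 : A ≠ ⊥
  low : ∀ R : Subgroup H, T ≤ R → R ≠ ⊤ → A ≤ o2 R
  nmax : ¬ ∃ N : Subgroup H, N ≠ ⊤ ∧ ∀ R : Subgroup H, T ≤ R → R ≠ ⊤ → R ≤ N

variable {H : Type u} [Group H] [Finite H] {M : Type v} [Group M] [MulDistribMulAction H M]
  {T A : Subgroup H} {x : M}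

namespace Core

variable (h : Core T A x)
include h

/-- `O₂(H) = 1` -/
theorem o2_top : o2 (⊤ : Subgroup H) = ⊥ := by
  have h1 : o2 (⊤ : Subgroup H) ≤ T := by
    have h2 : T ≤ normalizer (o2 (⊤ : Subgroup H) : Set H) := le_top.trans (le_normalizer_o2 _)
    have h3 : IsPGroup 2 (o2 (⊤ : Subgroup H) ⊔ T : Subgroup H) :=
      IsPGroup.to_sup_of_normal_left' (o2_isPGroup _) h.two h2
    have h4 := Subgroup.relIndex_mul_index (le_sup_right : T ≤ o2 (⊤ : Subgroup H) ⊔ T)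
    have h5 : T.relIndex (o2 (⊤ : Subgroup H) ⊔ T) = 1 := by
      obtain ⟨n, hn⟩ := IsPGroup.iff_card.1 h3
      have h6 : T.relIndex (o2 (⊤ : Subgroup H) ⊔ T) ∣ 2 ^ n := by
        rw [← hn]
        exact relIndex_dvd_card _ _
      obtain ⟨k, -, hk⟩ := (Nat.dvd_prime_pow Nat.prime_two).1 h6
      rcases Nat.eq_zero_or_pos k with h7 | h7
      · rw [hk, h7, pow_zero]
      · exfalso
        apply h.syl
        rw [← h4, hk]
        exact dvd_mul_of_dvd_left (dvd_pow_self 2 h7.ne') _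
    exact le_sup_left.trans (relIndex_eq_one.1 h5)
  refine eq_bot_of_fix h.faith h.irr ?_ h.x1 fun n hn => h.tx n (h1 hn)
  rw [← normalizer_eq_top_iff, eq_top_iff]
  exact le_normalizer_o2 _

/-- a normal subgroup has no normal 2-subgroup -/
theorem bot_of_norm {N Q : Subgroup H} (hN : N.Normal) (hQN : Q ≤ N) (hQ : IsPGroup 2 Q)
    (hn : N ≤ normalizer (Q : Set H)) : Q = ⊥ := by
  have h1 := le_o2_top hN hQN hQ hn
  rw [o2_top h] at h1
  exact le_bot_iff.1 h1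

theorem comm_sub {N : Subgroup H} (hN : N.Normal) (hA : A ≤ centralizer (N : Set H)) :
    N ≤ centralizer (normalClosure (A : Set H) : Set H) := by
  have h1 : normalClosure (A : Set H) ≤ centralizer (N : Set H) := by
    have : (centralizer (N : Set H)).Normal := inferInstance
    exact normalClosure_le_normal hA
  intro n hn
  rw [mem_centralizer_iff]
  intro k hk
  exact (mem_centralizer_iff.1 (h1 hk) n hn).symm

/-- `N ∩ O₂(R) = 1` for `N ⊴ H`, `N ≤ R` -/
theorem inf_o2 {N R : Subgroup H} (hN : N.Normal) (hNR : N ≤ R) : N ⊓ o2 R = ⊥ := by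
  refine bot_of_norm h hN inf_le_left ((o2_isPGroup _).to_le inf_le_right) ?_
  intro n hn
  have h3 := le_normalizer_o2 R (hNR hn)
  rw [mem_normalizer_iff] at h3 ⊢
  intro z
  constructor
  · rintro ⟨hz1, hz2⟩
    exact ⟨hN.conj_mem z hz1 n, (h3 z).1 hz2⟩
  · rintro ⟨hz1, hz2⟩
    refine ⟨?_, (h3 z).2 hz2⟩
    have := hN.conj_mem _ hz1 n⁻¹
    have h6 : n⁻¹ * (n * z * n⁻¹) * n⁻¹⁻¹ = z := by group
    rwa [h6] at this

/-- `[N, A] = 1` if `NT < H` -/
theorem comm_of_ne {N : Subgroup H} (hN : N.Normal) (hne : N ⊔ T ≠ ⊤) : A ≤ centralizer (N : Set H) := by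
  have h1 := h.low (N ⊔ T) le_sup_right hne
  have h2 : N ⊓ o2 (N ⊔ T) = ⊥ := inf_o2 h hN le_sup_left
  intro a ha
  rw [mem_centralizer_iff]
  intro n hn
  have h3 : n * a * n⁻¹ * a⁻¹ ∈ N ⊓ o2 (N ⊔ T) := by
    constructor
    · have h4 : a * n⁻¹ * a⁻¹ ∈ N := hN.conj_mem _ (inv_mem hn) a
      have h5 : n * a * n⁻¹ * a⁻¹ = n * (a * n⁻¹ * a⁻¹) := by group
      rw [h5]
      exact N.mul_mem hn h4
    · exact (o2 (N ⊔ T)).mul_mem ((mem_normalizer_iff.1 (le_normalizer_o2 (N ⊔ T) (mem_sup_left hn)) a).1 (h1 ha))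
        ((o2 (N ⊔ T)).inv_mem (h1 ha))
  rw [h2, mem_bot] at h3
  have h4 : n * a = (n * a * n⁻¹ * a⁻¹) * (a * n) := by group
  rw [h4, h3, one_mul]

/-- `H = ⟨A^H⟩T` -/
theorem sup_closure : normalClosure (A : Set H) ⊔ T = ⊤ := by
  by_contra hne
  have h2 := h.low _ le_sup_right hne
  have h3 : normalClosure (A : Set H) ⊓ o2 (normalClosure (A : Set H) ⊔ T) = ⊥ :=
    inf_o2 h inferInstance le_sup_left
  apply h.A1
  rw [eq_bot_iff, ← h3]
  exact le_inf subset_normalClosure h2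

/-- a subgroup of `N` which is normalised by `T` is normal in `H` if `N` is centralised by `A` -/
theorem normal_of {N Y : Subgroup H} (hN : N.Normal) (hA : A ≤ centralizer (N : Set H)) (hYN : Y ≤ N)
    (hT : ∀ t ∈ T, ∀ y ∈ Y, t * y * t⁻¹ ∈ Y) : Y.Normal := by
  have hc := comm_sub h hN hA
  refine normal_of_sup (sup_closure h) ?_ ?_
  · intro k hk
    rw [mem_normalizer_iff]
    intro z
    have h6 : ∀ z ∈ N, k * z * k⁻¹ = z := fun z hz => by
      rw [mem_centralizer_iff.1 (hc hz) k hk, mul_inv_cancel_right]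
    constructor
    · intro hz
      rwa [h6 z (hYN hz)]
    · intro hz
      have h7 : k * (k * z * k⁻¹) * k⁻¹ = k * z * k⁻¹ := h6 _ (hYN hz)
      have h8 : k * z * k⁻¹ = z := by
        have h9 := congrArg (fun w => k⁻¹ * w * k) h7
        simpa [mul_assoc] using h9
      rwa [h8] at hz
  · intro t ht
    rw [mem_normalizer_iff]
    intro z
    refine ⟨hT t ht z, fun hz => ?_⟩
    have h7 : t⁻¹ * (t * z * t⁻¹) * t⁻¹⁻¹ = z := by group
    rw [← h7]
    exact hT t⁻¹ (inv_mem ht) _ hz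

/-- a `T`-minimal `P ≤ NT` fixes no vector `≠ 1` if the normal subgroup `N` is centralised by `A` -/
theorem inf_min {N : Subgroup H} (hN : N.Normal) (hA : A ≤ centralizer (N : Set H)) {P : Subgroup H}
    (hP : IsMinPar T P) (hPN : P ≤ N ⊔ T) {v : M} (hv : v ≠ 1) : ∃ p ∈ P, p • v ≠ v := by
  by_contra hc
  push Not at hc
  have h5 : (P ⊓ N).Normal := by
    refine normal_of h hN hA inf_le_right fun t ht y hy => ?_
    exact ⟨P.mul_mem (P.mul_mem (hP.le ht) hy.1) (P.inv_mem (hP.le ht)), hN.conj_mem y hy.2 t⟩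
  have h6 : P ⊓ N = ⊥ := eq_bot_of_fix h.faith h.irr h5 hv fun n hn => hc n hn.1
  have h4 := dedekind hN hP.le hPN
  rw [h6, bot_sup_eq] at h4
  exact hP.ne h4

/-- `N ∩ N_H(T)` fixes no vector `≠ 1`, or is trivial -/
theorem inf_norm {N : Subgroup H} (hN : N.Normal) (hA : A ≤ centralizer (N : Set H)) {v : M} (hv : v ≠ 1)
    (hf : ∀ n ∈ N ⊓ normalizer (T : Set H), n • v = v) : N ⊓ normalizer (T : Set H) = ⊥ := by
  refine eq_bot_of_fix h.faith h.irr ?_ hv hf
  refine normal_of h hN hA inf_le_left fun t ht y hy => ?_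
  refine ⟨hN.conj_mem y hy.1 t, ?_⟩
  have h1 : t ∈ normalizer (T : Set H) := le_normalizer ht
  have h2 : y ∈ normalizer (T : Set H) := hy.2
  change t * y * t⁻¹ ∈ normalizer (T : Set H)
  exact mul_mem (mul_mem h1 h2) (inv_mem h1)

/-- **no non-trivial normal subgroup is centralised by `A`** -/
theorem bot_of_comm (nf : (∃ n ∈ normalizer (T : Set H), n • x ≠ x) → ∃ v : M, v ≠ 1 ∧
      ∀ n ∈ normalizer (T : Set H), n • v = v)
    (pf : ∀ P : Subgroup H, IsMinPar T P → (∃ p ∈ P, p • x ≠ x) → ∃ v : M, v ≠ 1 ∧ ∀ p ∈ P, p • v = v)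
    {N : Subgroup H} (hN : N.Normal) (hA : A ≤ centralizer (N : Set H)) : N = ⊥ := by
  by_cases hfix : ∀ n ∈ N, n • x = x
  · exact eq_bot_of_fix h.faith h.irr hN h.x1 hfix
  exfalso
  push Not at hfix
  obtain ⟨n, hn, hnx⟩ := hfix
  refine hnx (MulAction.mem_stabilizer_iff.1 ((?_ : N ⊔ T ≤ MulAction.stabilizer H x) (mem_sup_left hn)))
  refine le_of_forall (S := T) le_sup_right ?_ ?_
  · intro g hg
    have hg1 : g ∈ N ⊔ T := hg.1
    have hg2 : g ∈ normalizer (T : Set H) := hg.2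
    rw [MulAction.mem_stabilizer_iff]
    by_contra hgx
    obtain ⟨v, hv, hvf⟩ := nf ⟨g, hg2, hgx⟩
    have h1 := inf_norm h hN hA hv fun n hn => hvf n hn.2
    rw [mem_sup_of_normal_left] at hg1
    obtain ⟨a, ha, t, ht, rfl⟩ := hg1
    have h3 : t ∈ normalizer (T : Set H) := le_normalizer ht
    have h2 : a ∈ N ⊓ normalizer (T : Set H) := by
      refine ⟨ha, ?_⟩
      change a ∈ normalizer (T : Set H)
      have := mul_mem hg2 (inv_mem h3)
      rwa [mul_inv_cancel_right] at this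
    rw [h1, mem_bot] at h2
    apply hgx
    rw [h2, one_mul, h.tx t ht]
  · intro P hP hPN p hp
    rw [MulAction.mem_stabilizer_iff]
    by_contra hpx
    obtain ⟨v, hv, hvf⟩ := pf P hP ⟨p, hp, hpx⟩
    obtain ⟨q, hq, hqv⟩ := inf_min h hN hA hP hPN hv
    exact hqv (hvf q hq)

/-- **a normal subgroup of odd order is centralised by `A`** -/
theorem comm_of_odd {E : Subgroup H} (hE : E.Normal) (hodd : Odd (Nat.card E)) : A ≤ centralizer (E : Set H) := by
  by_cases hET : E ⊔ T = ⊤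
  swap
  · exact comm_of_ne h hE hET
  have htriv : ∀ z : H, z ∈ E → ∀ Q : Subgroup H, IsPGroup 2 Q → z ∈ Q → z = 1 := by
    intro z hz Q hQ hzQ
    obtain ⟨k, hk⟩ := hQ ⟨z, hzQ⟩
    have h1 : z ^ 2 ^ k = 1 := congrArg Subtype.val hk
    have h2 : orderOf z ∣ 2 ^ k := orderOf_dvd_of_pow_eq_one h1
    have h3 : orderOf z ∣ Nat.card E := by
      have h4 : orderOf (⟨z, hz⟩ : E) ∣ Nat.card E := orderOf_dvd_natCard _
      rwa [← orderOf_submonoid] at h4
    have h4 : Nat.Coprime (2 ^ k) (Nat.card E) := (Nat.coprime_two_left.2 hodd).pow_left k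
    rw [← orderOf_eq_one_iff]
    exact Nat.eq_one_of_dvd_coprimes h4 h2 h3
  -- the subgroup `D` of `E` centralised by all `T`-conjugates of `A`
  let D : Subgroup H := E ⊓ centralizer {z : H | ∃ t ∈ T, ∃ a ∈ A, z = t * a * t⁻¹}
  have hDT : ∀ s ∈ T, ∀ d ∈ D, s * d * s⁻¹ ∈ D := by
    intro s hs d hd
    refine ⟨hE.conj_mem d hd.1 s, mem_centralizer_iff.2 ?_⟩
    rintro _ ⟨t, ht, a, ha, rfl⟩
    have h1 := mem_centralizer_iff.1 hd.2 _ ⟨s⁻¹ * t, mul_mem (inv_mem hs) ht, a, ha, rfl⟩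
    have h2 := congrArg (fun w => s * w * s⁻¹) h1
    simp only [mul_inv_rev, inv_inv] at h2
    calc t * a * t⁻¹ * (s * d * s⁻¹) = s * (s⁻¹ * t * a * (t⁻¹ * s) * d) * s⁻¹ := by group
      _ = s * (d * (s⁻¹ * t * a * (t⁻¹ * s))) * s⁻¹ := h2
      _ = s * d * s⁻¹ * (t * a * t⁻¹) := by group
  have hDn : T ≤ normalizer (D : Set H) := by
    intro s hs
    rw [mem_normalizer_iff]
    intro z
    refine ⟨hDT s hs z, fun hz => ?_⟩
    have h1 := hDT s⁻¹ (inv_mem hs) _ hz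
    have h2 : s⁻¹ * (s * z * s⁻¹) * s⁻¹⁻¹ = z := by group
    rwa [h2] at h1
  have hDT' : D ⊔ T = ⊤ := by
    by_contra hne
    refine h.nmax ⟨D ⊔ T, hne, ?_⟩
    intro R hTR hR
    have h1 : R ⊓ E ⊔ T = R := dedekind hE hTR (by rw [hET]; exact le_top)
    rw [← h1]
    refine sup_le_sup_right ?_ T
    intro e he
    refine ⟨he.2, mem_centralizer_iff.2 ?_⟩
    rintro _ ⟨t, ht, a, ha, rfl⟩
    have h2 := h.low R hTR hR ha
    have h3 : t * a * t⁻¹ ∈ o2 R := (mem_normalizer_iff.1 (le_normalizer_o2 R (hTR ht)) a).1 h2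
    set b := t * a * t⁻¹ with hb
    have h4 : e * b * e⁻¹ ∈ o2 R := (mem_normalizer_iff.1 (le_normalizer_o2 R he.1) b).1 h3
    have h5 : e * b * e⁻¹ * b⁻¹ = 1 := by
      refine htriv _ ?_ (o2 R) (o2_isPGroup R) (mul_mem h4 (inv_mem h3))
      have h6 : b * e⁻¹ * b⁻¹ ∈ E := hE.conj_mem _ (inv_mem he.2) b
      have h7 : e * b * e⁻¹ * b⁻¹ = e * (b * e⁻¹ * b⁻¹) := by group
      rw [h7]
      exact mul_mem he.2 h6
    have h6 : e * b = (e * b * e⁻¹ * b⁻¹) * (b * e) := by group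
    rw [h6, h5, one_mul]
  intro a ha
  rw [mem_centralizer_iff]
  intro e he
  have h1 : e ∈ D ⊔ T := hDT' ▸ mem_top e
  have h2 : e ∈ ((D ⊔ T : Subgroup H) : Set H) := h1
  rw [coe_mul_of_right_le_normalizer_left D T hDn] at h2
  obtain ⟨d, hd, t, ht, rfl⟩ := h2
  have h3 : t ∈ E := by
    have := E.mul_mem (E.inv_mem hd.1) he
    simpa using this
  have h4 : t = 1 := htriv t h3 T h.two ht
  rw [h4]
  simp only [mul_one]
  have h5 := mem_centralizer_iff.1 hd.2 a ⟨1, one_mem T, a, ha, by group⟩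
  exact h5.symm

/-- **`H` has no normal subgroup `≠ 1` of odd order** -/
theorem odd_of (nf : (∃ n ∈ normalizer (T : Set H), n • x ≠ x) → ∃ v : M, v ≠ 1 ∧
      ∀ n ∈ normalizer (T : Set H), n • v = v)
    (pf : ∀ P : Subgroup H, IsMinPar T P → (∃ p ∈ P, p • x ≠ x) → ∃ v : M, v ≠ 1 ∧ ∀ p ∈ P, p • v = v) :
    ∀ N : Subgroup H, N.Normal → Odd (Nat.card N) → N = ⊥ :=
  fun _ hN hodd => bot_of_comm h nf pf hN (comm_of_odd h hN hodd)

end Core

end Cfsg.Agent.Omega.ML.Ex.OddCore
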