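import Cfsg.Agent.Omega.ML.Ex.Known
import Cfsg.Agent.Omega.ML.Ex.Gen
import Cfsg.Agent.Omega.ML.ExLow.XPsl
import Cfsg.Agent.Omega.ML.ExLow.XPsu
import Cfsg.Agent.Omega.ML.ExLow.XExc
import Cfsg.Agent.Omega.ML.Ex.RowL33X
import Cfsg.Agent.Omega.ML.Ex.RowReeX
import Cfsg.Agent.S0254

/-!
# The K-list for EXACT subgroups (EXL): Lie type in odd characteristic, part 1 (helper484)

* **`nx`** : helper102's numerical criterion `NX` over `InX`;
* `lTwo_of` : `L₂(9)` is `A₆` (excluded);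
* `psl_of`, `psu_of` : the linear and the unitary groups from the rows `L₂(q)`, `U₄(3)`;
* `chev_of`, `twisted` : the exceptional groups from the row `G₂(3)`;
* **`odd_of`** : the field `odd` of `RowsX`.
-/

set_option autoImplicit false

namespace Cfsg.Agent.Omega.ML.Ex.OddKnown

open Subgroup Cfsg Cfsg.Agent.Omega.KFacts Cfsg.Agent.Omega.ML.Rows Cfsg.Agent.Omega.ML.Known
  Cfsg.Agent.Omega.ML.CD Cfsg.Agent.Omega.NOThree.NoOver Cfsg.Agent.Omega.ML.ExLow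

universe u v

/-- `|M| = |A| |C_M(A)|` -/
theorem card_le_fo {H : Type u} [Group H] {M : Type v} [Group M] [MulDistribMulAction H M]
    {K T A : Subgroup H} (h : InX H M K T A) : Nat.card M ≤ fo M A := by
  rw [fo, ← h.exact, mul_comm]
  exact (card_mul_index _).ge

/-- `K` moves `M` -/
theorem mv {H : Type u} [Group H] [Finite H] {M : Type v} [Group M] [MulDistribMulAction H M]
    {K T A : Subgroup H} (h : InX H M K T A) : NumX.Mv K M := by
  by_contra hn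
  have hs := h.simple
  obtain ⟨x, hx⟩ := exists_ne (1 : K)
  exact hx (Subtype.ext (h.faith x fun m => NumX.not_mv hn x.2 m))

/-- **The numerical rows.** -/
theorem nx : DeadX.{u, v} fun S _ => NumX.NX.{u, v} S := by
  intro H _ _ M _ _ _ K T A hI hS
  exact NumX.false_of hI.norm hI.simple (Gen.perf hI) hI.cen hI.sq (mv hI) hI.el hI.A_ne_bot (card_le_fo hI) hS

/-- `PSL₂(q)`, `q` odd, not `A₆` -/
theorem lTwo_of (h2 : DeadX.{u, v} fun S _ => ∃ (F : Type) (_ : Field F) (_ : Fintype F), Odd (Fintype.card F) ∧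
      3 < Fintype.card F ∧ Fintype.card F ≠ 9 ∧ Nonempty (S ≃* Matrix.ProjectiveSpecialLinearGroup (Fin 2) F)) :
    DeadX.{u, v} fun S _ => (∃ (F : Type) (_ : Field F) (_ : Fintype F), Odd (Fintype.card F) ∧
      3 < Fintype.card F ∧ Nonempty (S ≃* Matrix.ProjectiveSpecialLinearGroup (Fin 2) F)) ∧ ¬ IsAlt6 S := by
  intro H _ _ M _ _ _ K T A hI ⟨hS, h6⟩
  obtain ⟨F, i, j, h3, h4, ⟨e⟩⟩ := hS
  by_cases h9 : Fintype.card F = 9
  · obtain ⟨f⟩ := S0254.result h9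
    exact h6 ⟨e.trans f⟩
  · exact h2 H M K T A hI ⟨F, i, j, h3, h4, h9, ⟨e⟩⟩

/-- `PSL_n(q)`, `q` odd, not `A₆` -/
theorem psl_of (h2 : DeadX.{u, v} fun S _ => ∃ (F : Type) (_ : Field F) (_ : Fintype F), Odd (Fintype.card F) ∧
      3 < Fintype.card F ∧ Fintype.card F ≠ 9 ∧ Nonempty (S ≃* Matrix.ProjectiveSpecialLinearGroup (Fin 2) F)) :
    DeadX.{u, v} fun S _ => OddChar @IsPSLChar S ∧ ¬ IsAlt6 S := by
  intro H _ _ M _ _ _ K T A hI ⟨hS, h6⟩
  rcases XPsl.psl.{u, v} hS with h | h | h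
  · exact lTwo_of h2 H M K T A hI ⟨h, h6⟩
  · exact RowL33X.deadEx H M K T A hI h
  · exact nx H M K T A hI h

/-- `PSU_n(q)`, `q` odd, not `U₃(3)` -/
theorem psu_of (h43 : DeadX.{u, v} @IsUFourThree) :
    DeadX.{u, v} fun S _ => OddChar @IsPSUChar S ∧ ¬ IsUThreeThree S := by
  intro H _ _ M _ _ _ K T A hI ⟨hS, h33⟩
  by_cases h : IsUFourThree K
  · exact h43 H M K T A hI h
  · refine nx H M K T A hI (XPsu.psu _ hS ?_ h)
    rintro ⟨F, iF, jF, hF, ⟨e⟩⟩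
    exact h33 ⟨F, iF, jF, by rw [hF]; norm_num, ⟨e⟩⟩

/-- the exceptional Chevalley groups, `q` odd -/
theorem chev_of (h3 : DeadX.{u, v} @IsGTwoThree) : DeadX.{u, v} fun S _ => OddChar @IsExceptionalChevChar S := by
  intro H _ _ M _ _ _ K T A hI hS
  rcases XExc.exceptional.{u, v} hS with h | h
  · exact h3 H M K T A hI h
  · exact nx H M K T A hI h

/-- `²E₆(q)`, `³D₄(q)`, `q` odd -/
theorem twisted : DeadX.{u, v} fun S _ => OddChar @IsTwistedE6D4Char S :=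
  nx.mono fun _ _ h => XExc.twisted h

/-- **The field `odd` of `RowsX`.** -/
theorem odd_of (hl : DeadX.{u, v} fun S _ => ∃ (F : Type) (_ : Field F) (_ : Fintype F), Odd (Fintype.card F) ∧
      3 < Fintype.card F ∧ Fintype.card F ≠ 9 ∧ Nonempty (S ≃* Matrix.ProjectiveSpecialLinearGroup (Fin 2) F))
    (h43 : DeadX.{u, v} @IsUFourThree) (hg3 : DeadX.{u, v} @IsGTwoThree)
    (hpsp : DeadX.{u, v} fun S _ => OddChar @IsPSpChar S ∧ ¬ IsLieTypeChar 2 S)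
    (hom1 : DeadX.{u, v} fun S _ => OddChar @IsPOmegaOddChar S)
    (hom2 : DeadX.{u, v} fun S _ => OddChar @IsPOmegaPlusChar S)
    (hom3 : DeadX.{u, v} fun S _ => OddChar @IsPOmegaMinusChar S) :
    DeadX.{u, v} fun S _ => OddLie S ∧ ¬ IsLieTypeChar 2 S ∧ ¬ IsUThreeThree S ∧ ¬ IsAlt6 S := by
  rintro H _ _ M _ _ _ K T A hI ⟨⟨p, hp, hp2, h⟩, hn, h33, h6⟩
  rcases h with h | h | h | h | h | h | h | h | h | h | h
  · exact psl_of hl H M K T A hI ⟨⟨p, hp, hp2, h⟩, h6⟩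
  · exact hpsp H M K T A hI ⟨⟨p, hp, hp2, h⟩, hn⟩
  · exact psu_of h43 H M K T A hI ⟨⟨p, hp, hp2, h⟩, h33⟩
  · exact hom1 H M K T A hI ⟨p, hp, hp2, h⟩
  · exact hom2 H M K T A hI ⟨p, hp, hp2, h⟩
  · exact hom3 H M K T A hI ⟨p, hp, hp2, h⟩
  · exact chev_of hg3 H M K T A hI ⟨p, hp, hp2, h⟩
  · exact twisted H M K T A hI ⟨p, hp, hp2, h⟩
  · exact absurd h.1 hp2
  · exact absurd h.1 hp2
  · exact RowReeX.dead H M K T A hI h.2

end Cfsg.Agent.Omega.ML.Ex.OddKnown
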