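import Cfsg.Agent.Omega.KL.Str

/-!
# `O(H) = 1` from (U) (helper690)

* `Low H M T A` : `H` faithful and irreducible on `M`, `T` a Sylow 2-subgroup in at least two maximal subgroups, `1 ≠ A ≤ T`,
  `A ≤ O₂(R)` for all `T ≤ R < H`;
* `Low.comm_odd` : `A` centralises the normal subgroups of odd order;  `Low.sup_closure` : `H = ⟨A^H⟩ T`;
* **`Low.odd_of_uni`** : `O(H) = 1` if `N_H(T)` fixes `x` and every `T`-minimal `P` which moves `x` fixes the vector
  `y ≠ 1`.
-/

set_option autoImplicit false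
set_option linter.unusedSectionVars false

namespace Cfsg.Agent.Omega.ML.Ex.OddU

open Subgroup Cfsg Cfsg.Agent.ZN Cfsg.Agent.ClassTwoFusion.Quad Cfsg.Agent.Omega.ML.MinFrame
open Cfsg.Agent.Omega.KL.Str (eq_bot_of_fix normal_of_sup dedekind le_o2_top)
open Cfsg.Agent.MinSimple.MinParabolic (IsMinPar le_of_forall)
open Cfsg.Agent.MinSimple.VModule (o2_isPGroup o2_le le_o2 le_normalizer_o2)

universe u v

/-- the data -/
structure Low (H : Type u) [Group H] (M : Type v) [Group M] [MulDistribMulAction H M] (T A : Subgroup H) : Prop where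
  faith : ∀ h : H, (∀ m : M, h • m = m) → h = 1
  irr : ∀ W : Subgroup M, (∀ h : H, ∀ w ∈ W, h • w ∈ W) → W = ⊥ ∨ W = ⊤
  two : IsPGroup 2 T
  syl : ¬ 2 ∣ T.index
  AT : A ≤ T
  A1 : A ≠ ⊥
  low : ∀ R : Subgroup H, T ≤ R → R ≠ ⊤ → A ≤ o2 R
  nmax : ¬ ∃ N : Subgroup H, N ≠ ⊤ ∧ ∀ R : Subgroup H, T ≤ R → R ≠ ⊤ → R ≤ N

variable {H : Type u} [Group H] [Finite H] {M : Type v} [Group M] [MulDistribMulAction H M]
  {T A : Subgroup H} {x y : M}

namespace Low

variable (h : Low H M T A)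
include h

theorem o2_top (hx1 : x ≠ 1) (hx : ∀ t ∈ T, t • x = x) : o2 (⊤ : Subgroup H) = ⊥ := by
  have h1 : o2 (⊤ : Subgroup H) ≤ T := by
    have h2 : T ≤ normalizer (o2 (⊤ : Subgroup H) : Set H) := le_top.trans (le_normalizer_o2 _)
    have h3 : IsPGroup 2 (o2 (⊤ : Subgroup H) ⊔ T : Subgroup H) :=
      IsPGroup.to_sup_of_normal_left' (o2_isPGroup _) h.two h2
    have h4 := Subgroup.relIndex_mul_index (le_sup_right : T ≤ o2 (⊤ : Subgroup H) ⊔ T)
    have h5 : T.relIndex (o2 (⊤ : Subgroup H) ⊔ T) = 1 := by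
      obtain ⟨n, hn⟩ := IsPGroup.iff_card.1 h3
      have h6 : T.relIndex (o2 (⊤ : Subgroup H) ⊔ T) ∣ 2 ^ n := by
        rw [← hn]
        exact relIndex_dvd_card _ _
      obtain ⟨k, -, hk⟩ := (Nat.dvd_prime_pow Nat.prime_two).1 h6
      rcases Nat.eq_zero_or_pos k with h7 | h7
      · rw [hk, h7, pow_zero]
      · exfalso
        apply h.syl
        rw [← h4, hk]
        exact dvd_mul_of_dvd_left (dvd_pow_self 2 h7.ne') _
    exact le_sup_left.trans (relIndex_eq_one.1 h5)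
  refine eq_bot_of_fix h.faith h.irr ?_ hx1 fun n hn => hx n (h1 hn)
  rw [← normalizer_eq_top_iff, eq_top_iff]
  exact le_normalizer_o2 _

theorem bot_of_norm (hx1 : x ≠ 1) (hx : ∀ t ∈ T, t • x = x) {N Q : Subgroup H} (hN : N.Normal) (hQN : Q ≤ N)
    (hQ : IsPGroup 2 Q) (hn : N ≤ normalizer (Q : Set H)) : Q = ⊥ := by
  have h1 := le_o2_top hN hQN hQ hn
  rw [o2_top h hx1 hx] at h1
  exact le_bot_iff.1 h1

/-- `H = ⟨A^H⟩ T` -/
theorem sup_closure (hx1 : x ≠ 1) (hx : ∀ t ∈ T, t • x = x) : normalClosure (A : Set H) ⊔ T = ⊤ := by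
  by_contra hne
  have h2 := h.low _ le_sup_right hne
  have hN : (normalClosure (A : Set H)).Normal := inferInstance
  have h3 : normalClosure (A : Set H) ⊓ o2 (normalClosure (A : Set H) ⊔ T) = ⊥ := by
    refine bot_of_norm h hx1 hx hN inf_le_left ((o2_isPGroup _).to_le inf_le_right) ?_
    intro n hn
    have h3 := le_normalizer_o2 (normalClosure (A : Set H) ⊔ T) (mem_sup_left hn)
    rw [mem_normalizer_iff] at h3 ⊢
    intro z
    constructor
    · rintro ⟨hz1, hz2⟩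
      exact ⟨hN.conj_mem z hz1 n, (h3 z).1 hz2⟩
    · rintro ⟨hz1, hz2⟩
      refine ⟨?_, (h3 z).2 hz2⟩
      have := hN.conj_mem _ hz1 n⁻¹
      have h6 : n⁻¹ * (n * z * n⁻¹) * n⁻¹⁻¹ = z := by group
      rwa [h6] at this
  apply h.A1
  rw [eq_bot_iff, ← h3]
  exact le_inf subset_normalClosure h2

/-- `A` centralises `R ∩ N` for a normal subgroup `N` of odd order and `T ≤ R < H` -/
theorem comm_inf {N : Subgroup H} (hN : N.Normal) (ho : Odd (Nat.card N)) {R : Subgroup H} (hTR : T ≤ R)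
    (hR : R ≠ ⊤) : R ⊓ N ≤ centralizer (A : Set H) := by
  intro n hn
  rw [mem_centralizer_iff]
  intro a ha
  have ha2 := h.low R hTR hR ha
  have h1 : a * n * a⁻¹ * n⁻¹ ∈ N := N.mul_mem (hN.conj_mem n hn.2 a) (N.inv_mem hn.2)
  have h2 : a * n * a⁻¹ * n⁻¹ ∈ o2 R := by
    have h3 : n * a⁻¹ * n⁻¹ ∈ o2 R :=
      (mem_normalizer_iff.1 (le_normalizer_o2 R hn.1) a⁻¹).1 ((o2 R).inv_mem ha2)
    have h4 : a * n * a⁻¹ * n⁻¹ = a * (n * a⁻¹ * n⁻¹) := by group
    rw [h4]
    exact (o2 R).mul_mem ha2 h3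
  have h3 : N ⊓ o2 R = ⊥ := by
    rw [← card_eq_one]
    have h4 : Nat.card (N ⊓ o2 R : Subgroup H) ∣ Nat.card N := card_dvd_of_le inf_le_left
    have h5 : IsPGroup 2 (N ⊓ o2 R : Subgroup H) := (o2_isPGroup R).to_le inf_le_right
    obtain ⟨k, hk⟩ := IsPGroup.iff_card.1 h5
    rcases Nat.eq_zero_or_pos k with h6 | h6
    · rw [hk, h6, pow_zero]
    · exfalso
      rw [hk] at h4
      have h7 : 2 ∣ Nat.card N := (dvd_pow_self 2 h6.ne').trans h4
      exact (Nat.not_even_iff_odd.2 ho) (even_iff_two_dvd.2 h7)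
  have h4 : a * n * a⁻¹ * n⁻¹ = 1 := by
    rw [← mem_bot, ← h3]
    exact ⟨h1, h2⟩
  calc a * n = (a * n * a⁻¹ * n⁻¹) * (n * a) := by group
    _ = n * a := by rw [h4, one_mul]

/-- **`A` centralises the normal subgroups of odd order.** -/
theorem comm_odd {N : Subgroup H} (hN : N.Normal) (ho : Odd (Nat.card N)) : N ≤ centralizer (A : Set H) := by
  have hNT : N ⊓ T = ⊥ := by
    rw [← card_eq_one]
    have h4 : Nat.card (N ⊓ T : Subgroup H) ∣ Nat.card N := card_dvd_of_le inf_le_left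
    obtain ⟨k, hk⟩ := IsPGroup.iff_card.1 (h.two.to_le (inf_le_right : N ⊓ T ≤ T))
    rcases Nat.eq_zero_or_pos k with h6 | h6
    · rw [hk, h6, pow_zero]
    · exfalso
      rw [hk] at h4
      have h7 : 2 ∣ Nat.card N := (dvd_pow_self 2 h6.ne').trans h4
      exact (Nat.not_even_iff_odd.2 ho) (even_iff_two_dvd.2 h7)
  by_cases hne : N ⊔ T = ⊤
  · -- `N = ⟨R ∩ N : T ≤ R < H⟩`
    let N' : Subgroup H := ⨆ R : {R : Subgroup H // T ≤ R ∧ R ≠ ⊤}, (R : Subgroup H) ⊓ N
    have h1 : N' ≤ N := iSup_le fun R => inf_le_right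
    have h2 : N' ≤ centralizer (A : Set H) := iSup_le fun R => comm_inf h hN ho R.2.1 R.2.2
    have h3 : T ≤ normalizer (N' : Set H) := by
      have h4 : ∀ t ∈ T, ∀ z ∈ N', t * z * t⁻¹ ∈ N' := by
        intro t ht z hz
        have h5 : N' ≤ N'.comap (MulAut.conj t).toMonoidHom := by
          refine iSup_le fun R => ?_
          intro w hw
          have h6 : t * w * t⁻¹ ∈ (R : Subgroup H) ⊓ N :=
            ⟨(R : Subgroup H).mul_mem ((R : Subgroup H).mul_mem (R.2.1 ht) hw.1) ((R : Subgroup H).inv_mem (R.2.1 ht)),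
              hN.conj_mem w hw.2 t⟩
          exact mem_comap.2 (le_iSup (fun R : {R : Subgroup H // T ≤ R ∧ R ≠ ⊤} => (R : Subgroup H) ⊓ N) R h6)
        exact h5 hz
      intro t ht
      rw [mem_normalizer_iff]
      intro z
      refine ⟨h4 t ht z, fun hz => ?_⟩
      have h5 := h4 t⁻¹ (inv_mem ht) _ hz
      have h6 : t⁻¹ * (t * z * t⁻¹) * t⁻¹⁻¹ = z := by group
      rwa [h6] at h5
    have h4 : N' ⊔ T = ⊤ := by
      by_contra hc
      refine h.nmax ⟨N' ⊔ T, hc, fun R hTR hR => ?_⟩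
      rw [← dedekind hN hTR (hne ▸ le_top)]
      exact sup_le_sup_right (le_iSup (fun R : {R : Subgroup H // T ≤ R ∧ R ≠ ⊤} => (R : Subgroup H) ⊓ N) ⟨R, hTR, hR⟩) T
    intro n hn
    have h5 : n ∈ N' ⊔ T := h4 ▸ mem_top n
    have h6 : N' ≤ normalizer (N' : Set H) := le_normalizer
    have hN'n : N'.Normal := normal_of_sup h4 h6 h3
    rw [mem_sup_of_normal_left] at h5
    obtain ⟨m, hm, t, ht, rfl⟩ := h5
    have h7 : t ∈ N ⊓ T := by
      refine ⟨?_, ht⟩
      have := N.mul_mem (N.inv_mem (h1 hm)) hn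
      rwa [inv_mul_cancel_left] at this
    rw [hNT, mem_bot] at h7
    rw [h7, mul_one]
    exact h2 hm
  · exact fun n hn => comm_inf h hN ho le_sup_right hne ⟨mem_sup_left hn, hn⟩

/-- **`O(H) = 1`** -/
theorem odd_of_uni (hx1 : x ≠ 1) (hy1 : y ≠ 1) (hnx : ∀ g ∈ normalizer (T : Set H), g • x = x)
    (huni : ∀ P : Subgroup H, IsMinPar T P → (∃ p ∈ P, p • x ≠ x) → ∀ p ∈ P, p • y = y)
    {N : Subgroup H} (hN : N.Normal) (ho : Odd (Nat.card N)) : N = ⊥ := by
  have hx : ∀ t ∈ T, t • x = x := fun t ht => hnx t (le_normalizer ht)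
  have hK : (centralizer (normalClosure (A : Set H) : Set H)).Normal := inferInstance
  have hNK : N ≤ centralizer (normalClosure (A : Set H) : Set H) := by
    have h1 : normalClosure (A : Set H) ≤ centralizer (N : Set H) := by
      have : (centralizer (N : Set H)).Normal := inferInstance
      refine normalClosure_le_normal fun a ha => ?_
      rw [SetLike.mem_coe, mem_centralizer_iff]
      intro n hn
      exact (mem_centralizer_iff.1 (comm_odd h hN ho hn) a ha).symm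
    intro n hn
    rw [mem_centralizer_iff]
    intro k hk
    exact (mem_centralizer_iff.1 (h1 hk) n hn).symm
  set K := normalClosure (A : Set H) with hKdef
  by_cases hfix : ∀ n ∈ N, n • x = x
  · exact eq_bot_of_fix h.faith h.irr hN hx1 hfix
  exfalso
  push Not at hfix
  obtain ⟨n, hn, hnx'⟩ := hfix
  have h1 : ∃ P : Subgroup H, IsMinPar T P ∧ P ≤ N ⊔ T ∧ ¬ P ≤ MulAction.stabilizer H x := by
    by_contra hc
    push Not at hc
    have h2 : N ⊔ T ≤ MulAction.stabilizer H x :=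
      le_of_forall le_sup_right (fun g hg => MulAction.mem_stabilizer_iff.2 (hnx g hg.2)) hc
    exact hnx' (MulAction.mem_stabilizer_iff.1 (h2 (mem_sup_left hn)))
  obtain ⟨P, hP, hPZ, hPx⟩ := h1
  have h2 : ∃ p ∈ P, p • x ≠ x := by
    by_contra hc
    push Not at hc
    exact hPx fun p hp => MulAction.mem_stabilizer_iff.2 (hc p hp)
  have h3 := huni P hP h2
  have h4 := dedekind hN hP.le hPZ
  have h5 : (P ⊓ N).Normal := by
    refine normal_of_sup (sup_closure h hx1 hx) ?_ ?_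
    · intro k hk
      rw [mem_normalizer_iff]
      intro z
      have h6 : ∀ z ∈ N, k * z * k⁻¹ = z := fun z hz => by
        rw [mem_centralizer_iff.1 (hNK hz) k hk, mul_inv_cancel_right]
      constructor
      · rintro ⟨hz1, hz2⟩
        rw [h6 z hz2]
        exact ⟨hz1, hz2⟩
      · rintro ⟨hz1, hz2⟩
        have h7 : k * (k * z * k⁻¹) * k⁻¹ = k * z * k⁻¹ := h6 _ hz2
        have h8 : k * z * k⁻¹ = z := by
          have h9 := congrArg (fun w => k⁻¹ * w * k) h7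
          simpa [mul_assoc] using h9
        rw [h8] at hz1 hz2
        exact ⟨hz1, hz2⟩
    · intro t ht
      rw [mem_normalizer_iff]
      intro z
      constructor
      · rintro ⟨hz1, hz2⟩
        exact ⟨P.mul_mem (P.mul_mem (hP.le ht) hz1) (P.inv_mem (hP.le ht)), hN.conj_mem z hz2 t⟩
      · rintro ⟨hz1, hz2⟩
        have h7 : t⁻¹ * (t * z * t⁻¹) * t⁻¹⁻¹ = z := by group
        refine ⟨?_, ?_⟩
        · rw [← h7]
          exact P.mul_mem (P.mul_mem (P.inv_mem (hP.le ht)) hz1) (P.inv_mem (P.inv_mem (hP.le ht)))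
        · rw [← h7]
          exact hN.conj_mem _ hz2 t⁻¹
  have h6 : P ⊓ N = ⊥ := eq_bot_of_fix h.faith h.irr h5 hy1 fun n hn => h3 n hn.1
  rw [h6, bot_sup_eq] at h4
  exact hP.ne h4

end Low

end Cfsg.Agent.Omega.ML.Ex.OddU
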