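import Cfsg.Agent.Omega.ML.Ex.Def
import Cfsg.Agent.Omega.ML.InvFrob

/-!
# The K-list for EXACT subgroups: small involutions of `K` (helper815)

* **`ASx.exists_comm`** : `1 ≠ a ∈ A` : there are `T ≤ R < X` and `k ∈ R ∩ S` with `1 ≠ [a, k] ∈ O₂(R) ∩ S`
  (otherwise `a` centralises `R ∩ S` for all overgroups `R` of `T`; the join of these groups is normal);
* **`InX.exists_inv`** : `1 ≠ a ∈ A` : `K` has an involution `x` with `|M : C_M(x)| ≤ |M : C_M(a)|²`.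
  So `A ∩ K = 1` is impossible if `|M : C_M(x)| > |A|²` for the involutions of `K`.
-/

set_option autoImplicit false

namespace Cfsg.Agent.Omega.ML.Ex.OutX

open Subgroup Cfsg Cfsg.Agent.ZN Cfsg.Agent.Omega.NOThree.NoOver Cfsg.Agent.Omega.ML.CD
open Cfsg.Agent.ClassTwoFusion.Quad
open Cfsg.Agent.MinSimple.VModule (o2_isPGroup o2_le le_o2 le_normalizer_o2)

universe u v

theorem exists_comm {X : Type u} [Group X] {S T A : Subgroup X} (h : ASx S T A) {a : X} (ha : a ∈ A)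
    (ha1 : a ≠ 1) :
    ∃ R : Subgroup X, T ≤ R ∧ R ≠ ⊤ ∧ ∃ k ∈ R, k ∈ S ∧ a * k * a⁻¹ * k⁻¹ ≠ 1 ∧
      a * k * a⁻¹ * k⁻¹ ∈ o2 R ∧ a * k * a⁻¹ * k⁻¹ ∈ S := by
  by_contra hc
  push Not at hc
  have hSn := h.norm
  -- `a` centralises `R ∩ S`
  have h1 : ∀ R : Subgroup X, T ≤ R → R ≠ ⊤ → ∀ k ∈ R, k ∈ S → k * a = a * k := by
    intro R hTR hR k hk hkS
    have haR : a ∈ o2 R := h.low R hTR hR ha
    have h2 : a * k * a⁻¹ * k⁻¹ ∈ o2 R := by
      have h3 : k * a⁻¹ * k⁻¹ ∈ o2 R := (mem_normalizer_iff.1 (le_normalizer_o2 R hk) a⁻¹).1 (inv_mem haR)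
      have := mul_mem haR h3
      simpa only [mul_assoc] using this
    have h4 : a * k * a⁻¹ * k⁻¹ ∈ S := mul_mem (hSn.conj_mem k hkS a) (inv_mem hkS)
    have h5 : a * k * a⁻¹ * k⁻¹ = 1 := by
      by_contra h6
      exact hc R hTR hR k hk hkS h6 h2 h4
    have h6 : a * k * a⁻¹ = k := mul_inv_eq_one.1 h5
    exact (mul_inv_eq_iff_eq_mul.1 h6).symm
  -- the join
  let 𝒬 : Set (Subgroup X) := {Q | ∃ R : Subgroup X, T ≤ R ∧ R ≠ ⊤ ∧ Q = R ⊓ S}
  let N : Subgroup X := sSup 𝒬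
  have hNS : N ≤ S := sSup_le fun Q ⟨R, _, _, hQ⟩ => hQ ▸ inf_le_right
  have hNa : N ≤ centralizer ({a} : Set X) := sSup_le fun Q ⟨R, hTR, hR, hQ⟩ => by
    rw [hQ]
    intro k hk
    exact mem_centralizer_singleton_iff.2 (h1 R hTR hR k hk.1 hk.2)
  have hTN : T ≤ normalizer (N : Set X) := by
    intro t ht
    have h2 : N.map (MulAut.conj t).toMonoidHom ≤ N := by
      rw [map_le_iff_le_comap]
      refine sSup_le ?_
      rintro Q ⟨R, hTR, hR, rfl⟩ k hk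
      exact (le_sSup (⟨R, hTR, hR, rfl⟩ : R ⊓ S ∈ 𝒬) : R ⊓ S ≤ N)
        ⟨R.mul_mem (R.mul_mem (hTR ht) hk.1) (R.inv_mem (hTR ht)), hSn.conj_mem k hk.2 t⟩
    have h2' : N.map (MulAut.conj t⁻¹).toMonoidHom ≤ N := by
      rw [map_le_iff_le_comap]
      refine sSup_le ?_
      rintro Q ⟨R, hTR, hR, rfl⟩ k hk
      exact (le_sSup (⟨R, hTR, hR, rfl⟩ : R ⊓ S ∈ 𝒬) : R ⊓ S ≤ N)
        ⟨R.mul_mem (R.mul_mem (hTR (inv_mem ht)) hk.1) (R.inv_mem (hTR (inv_mem ht))), hSn.conj_mem k hk.2 t⁻¹⟩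
    rw [mem_normalizer_iff]
    intro g
    constructor
    · intro hg
      exact h2 ⟨g, hg, rfl⟩
    · intro hg
      have h3 := h2' ⟨_, hg, rfl⟩
      have h4 : (MulAut.conj t⁻¹).toMonoidHom (t * g * t⁻¹) = g := by
        show t⁻¹ * (t * g * t⁻¹) * t⁻¹⁻¹ = g
        group
      rwa [h4] at h3
  have hle : ∀ R : Subgroup X, T ≤ R → R ≠ ⊤ → R ≤ N ⊔ T := by
    intro R hTR hR r hr
    have h2 : r ∈ S ⊔ T := h.gen ▸ mem_top r
    obtain ⟨s, hs, t, ht, rfl⟩ := mem_sup_of_normal_left.1 h2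
    have h3 : s ∈ R := by
      have := mul_mem hr (inv_mem (hTR ht))
      rwa [mul_inv_cancel_right] at this
    have h4 : s ∈ N := (le_sSup (⟨R, hTR, hR, rfl⟩ : R ⊓ S ∈ 𝒬) : R ⊓ S ≤ N) ⟨h3, hs⟩
    exact mul_mem (mem_sup_left h4) (mem_sup_right ht)
  have htop : N ⊔ T = ⊤ := by
    by_contra h2
    exact h.nmax ⟨N ⊔ T, h2, hle⟩
  have hNn : N.Normal := by
    rw [← normalizer_eq_top_iff, eq_top_iff, ← htop]
    exact sup_le le_normalizer hTN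
  have hsim := h.simple
  rcases hsim.eq_bot_or_eq_top_of_normal (N.subgroupOf S) inferInstance with h2 | h2
  · have h3 : N = ⊥ := by
      rw [subgroupOf_eq_bot] at h2
      exact h2.eq_bot_of_le hNS
    rw [h3, bot_sup_eq] at htop
    exact h.ne_top htop
  · have h3 : S ≤ N := subgroupOf_eq_top.1 h2
    have h4 : a ∈ centralizer (S : Set X) := by
      rw [mem_centralizer_iff]
      intro s hs
      exact mem_centralizer_singleton_iff.1 (hNa (h3 hs))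
    rw [h.cen] at h4
    exact ha1 (mem_bot.1 h4)

section module

variable {H : Type u} [Group H] {M : Type v} [Group M] [MulDistribMulAction H M] {K T A : Subgroup H}

theorem index_comm_le [Finite M] (a k : H) :
    (cv M ({a * k * a⁻¹ * k⁻¹} : Set H)).index ≤ (cv M ({a} : Set H)).index ^ 2 := by
  have h1 : cv M ({a} : Set H) ⊓ cv M ({k * a * k⁻¹} : Set H) ≤ cv M ({a * k * a⁻¹ * k⁻¹} : Set H) := by
    intro m hm
    have h2 := mem_cv_singleton.1 hm.1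
    have h3 := mem_cv_singleton.1 hm.2
    rw [mem_cv_singleton]
    have h4 : (k * a * k⁻¹)⁻¹ • m = m := by rw [inv_smul_eq_iff, h3]
    have h5 : a * k * a⁻¹ * k⁻¹ = a * (k * a * k⁻¹)⁻¹ := by group
    rw [h5, mul_smul, h4, h2]
  calc (cv M ({a * k * a⁻¹ * k⁻¹} : Set H)).index
      ≤ (cv M ({a} : Set H) ⊓ cv M ({k * a * k⁻¹} : Set H)).index :=
        Nat.le_of_dvd (Nat.pos_of_ne_zero index_ne_zero_of_finite) (index_dvd_of_le h1)
    _ ≤ (cv M ({a} : Set H)).index * (cv M ({k * a * k⁻¹} : Set H)).index := Subgroup.index_inf_le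
    _ = (cv M ({a} : Set H)).index ^ 2 := by rw [InvFrob.index_cv_conj, pow_two]

/-- **A small involution of `K`.** -/
theorem exists_inv [Finite H] [Finite M] (h : InX H M K T A) {a : H} (ha : a ∈ A) (ha1 : a ≠ 1) :
    ∃ x ∈ K, x ≠ 1 ∧ x * x = 1 ∧ (cv M ({x} : Set H)).index ≤ (cv M ({a} : Set H)).index ^ 2 := by
  obtain ⟨R, -, -, k, -, -, h1, h2, h3⟩ := exists_comm h.asx ha ha1
  set w := a * k * a⁻¹ * k⁻¹ with hw
  obtain ⟨n, hn⟩ : ∃ n, orderOf w = 2 ^ n := by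
    obtain ⟨n, hn⟩ := (IsPGroup.iff_orderOf.1 (o2_isPGroup R)) ⟨w, h2⟩
    exact ⟨n, by rw [← hn, orderOf_mk]⟩
  have hn0 : n ≠ 0 := by
    rintro rfl
    rw [pow_zero, orderOf_eq_one_iff] at hn
    exact h1 hn
  obtain ⟨l, rfl⟩ := Nat.exists_eq_succ_of_ne_zero hn0
  have hx2 : orderOf (w ^ 2 ^ l) = 2 := by
    rw [orderOf_pow_of_dvd (by positivity) (by rw [hn]; exact pow_dvd_pow 2 (Nat.le_succ l)), hn, pow_succ,
      Nat.mul_div_cancel_left _ (by positivity)]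
  refine ⟨w ^ 2 ^ l, pow_mem h3 _, ?_, ?_, ?_⟩
  · intro h4
    rw [h4, orderOf_one] at hx2
    norm_num at hx2
  · rw [← pow_two]
    exact orderOf_dvd_iff_pow_eq_one.1 hx2.dvd
  · refine le_trans ?_ (index_comm_le (M := M) a k)
    refine Nat.le_of_dvd (Nat.pos_of_ne_zero index_ne_zero_of_finite) (index_dvd_of_le ?_)
    intro m hm
    rw [mem_cv_singleton] at hm ⊢
    have h4 : zpowers w ≤ MulAction.stabilizer H m := by
      rw [zpowers_le]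
      exact MulAction.mem_stabilizer_iff.2 hm
    exact MulAction.mem_stabilizer_iff.1 (h4 (npow_mem_zpowers w _))

/-- `|M : C_M(x)| ≤ |A|²` for some involution `x` of `K`. -/
theorem exists_inv_card [Finite H] [Finite M] (h : InX H M K T A) :
    ∃ x ∈ K, x ≠ 1 ∧ x * x = 1 ∧ (cv M ({x} : Set H)).index ≤ Nat.card A ^ 2 := by
  obtain ⟨a, ha, ha1⟩ : ∃ a ∈ A, a ≠ 1 := by
    by_contra hc
    push Not at hc
    exact h.A_ne_bot ((eq_bot_iff_forall A).2 hc)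
  obtain ⟨x, h1, h2, h3, h4⟩ := exists_inv h ha ha1
  refine ⟨x, h1, h2, h3, h4.trans (Nat.pow_le_pow_left ?_ 2)⟩
  rw [← h.exact]
  exact Nat.le_of_dvd (Nat.pos_of_ne_zero index_ne_zero_of_finite)
    (index_dvd_of_le (cv_anti (Set.singleton_subset_iff.2 ha)))

/-- **`|A| = 4`** : `|M : C_M(x)| ≤ 16` for some involution `x` of `K`. -/
theorem exists_inv_four [Finite H] [Finite M] (h : InX H M K T A) (h4 : Nat.card A = 4) :
    ∃ x ∈ K, x ≠ 1 ∧ x * x = 1 ∧ (cv M ({x} : Set H)).index ≤ 2 ^ 4 := by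
  obtain ⟨x, h1, h2, h3, h5⟩ := exists_inv_card h
  exact ⟨x, h1, h2, h3, by rw [h4] at h5; exact h5⟩

/-- **`A ∩ K ≠ 1`** if `|A|² < |M : C_M(x)|` for the involutions of `K` is excluded otherwise: an involution `x ∈ K` with
`|M : C_M(x)| ≤ |A|` or `A ∩ K = 1` and `|M : C_M(x)| ≤ |A|²`. -/
theorem exists_inv_or [Finite H] [Finite M] (h : InX H M K T A) :
    (∃ x ∈ A, x ∈ K ∧ x ≠ 1) ∨
      (K ⊓ A = ⊥ ∧ ∃ x ∈ K, x ≠ 1 ∧ x * x = 1 ∧ (cv M ({x} : Set H)).index ≤ Nat.card A ^ 2) := by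
  by_cases hc : ∃ x ∈ A, x ∈ K ∧ x ≠ 1
  · exact Or.inl hc
  · push Not at hc
    refine Or.inr ⟨?_, exists_inv_card h⟩
    rw [eq_bot_iff]
    rintro x ⟨hx1, hx2⟩
    exact hc x hx2 hx1

end module

end Cfsg.Agent.Omega.ML.Ex.OutX
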