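import Cfsg.Agent.Omega.ML.Ex.Def
import Cfsg.Agent.Omega.ML.Ex.DefN
import Cfsg.Agent.Omega.ML.Ex.ExEq
import Cfsg.Agent.Omega.ML.Ex.Prod

/-!
# The normal closure of an exact atom in a 2-group (helper772)

`InX H M K T A` (the situation of the exact rows), `f = fab M 1 1`.

* `InX.rat` : if `A` is an atom (`Atm M A`) it is an atom of `f` in the sense of `Ratio.lean`; `InX.tight`, `InX.off`;
* `principle_atom` : `A` an exact ATOM, `A ≤ Q`, `Q` a 2-group, `R ≤ N_H(Q)`.  Then either there is a STRICT `R`-invariant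
  `L ≤ Q` with `|L| ≥ 4`, or `D = ⟨A^R⟩` is ELEMENTARY ABELIAN, `|M : C_M(D)| = |D|`, `|B| ≤ |M : C_M(B)|` for `B ≤ D`;
* `principle_tight`, `principle` (over `InX`), `principle_o2` (`Q = O₂(R)`, `T ≤ R < H`) : for any exact sub-exact `A`:
  either a STRICT `R`-invariant `L ≤ Q`, `|L| ≥ 4`, or: `|B| ≤ |M : C_M(B)|` for all `B ≤ Q`, an `R`-invariant elementary
  abelian exact `D = ⟨B^R⟩ ≠ 1` (`B ≤ A` an atom), and an `R`-invariant exact `N` with `A ≤ N ≤ Q`;
* over 995's `InN` (`A` an atom of the module `N`): `InN.rat`, `InN.off`, `principleN`, `principleN_o2`, `exists_strictN`,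
  `false_of_dat`;
* `exists_strict` : if `Q` has no nontrivial elementary abelian `R`-invariant exact subgroup, there is a strict one.
-/

set_option autoImplicit false

namespace Cfsg.Agent.Omega.ML.Ex.Prin

open Subgroup Cfsg Cfsg.Agent.ZN Cfsg.Agent.ClassTwoFusion.Quad Cfsg.Agent.Omega.NOThree.NoOver Cfsg.Agent.Omega.ML.CD
open Cfsg.Agent.Omega.ML.Ratio (Flat Tight Atom card_cj)
open Cfsg.Agent.Omega.ML.Ex.ExEq Cfsg.Agent.Omega.ML.Ex.Prod
open Cfsg.Agent.MinSimple.VModule (o2_isPGroup o2_le le_o2 le_normalizer_o2)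

universe u v

section

variable {H : Type u} [Group H] [Finite H] {M : Type v} [Group M] [Finite M] [MulDistribMulAction H M]

omit [Finite H] [Finite M] in
theorem fab_one_eq (B : Subgroup H) : fab M 1 1 B * (cv M (B : Set H)).index = Nat.card B * Nat.card M := by
  have h1 := card_mul_index (cv M (B : Set H))
  unfold fab
  rw [pow_one, pow_one, mul_assoc, h1]

omit [Finite H] [Finite M] in
theorem fab_bot : fab M 1 1 (⊥ : Subgroup H) = Nat.card M := by
  unfold fab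
  rw [cv_bot, card_bot, pow_one, pow_one, one_mul, card_top]

omit [Finite H] in
/-- `f B ≤ f 1` means `|B| ≤ |M : C_M(B)|` -/
theorem fab_le_iff {B : Subgroup H} :
    fab M 1 1 B ≤ fab M 1 1 (⊥ : Subgroup H) ↔ Nat.card B ≤ (cv M (B : Set H)).index := by
  have h1 := fab_one_eq (M := M) B
  rw [fab_bot]
  have hM : 0 < Nat.card M := Nat.card_pos
  have hi : 0 < (cv M (B : Set H)).index := Nat.pos_of_ne_zero index_ne_zero_of_finite
  constructor
  · intro h
    by_contra hc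
    rw [not_le] at hc
    have h2 : fab M 1 1 B * (cv M (B : Set H)).index ≤ Nat.card M * (cv M (B : Set H)).index :=
      Nat.mul_le_mul_right _ h
    have h3 : (cv M (B : Set H)).index * Nat.card M < Nat.card B * Nat.card M := Nat.mul_lt_mul_of_pos_right hc hM
    rw [h1, mul_comm (Nat.card M)] at h2
    omega
  · intro h
    refine Nat.le_of_mul_le_mul_right ?_ hi
    rw [h1, mul_comm (Nat.card M)]
    exact Nat.mul_le_mul_right _ h

omit [Finite H] in
/-- `f B = f 1` means `|B| = |M : C_M(B)|` -/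
theorem tight_iff {B : Subgroup H} :
    Tight (fab M 1 1) B ↔ (cv M (B : Set H)).index = Nat.card B := by
  have h1 := fab_one_eq (M := M) B
  unfold Tight
  rw [fab_bot]
  have hM : 0 < Nat.card M := Nat.card_pos
  have hi : 0 < (cv M (B : Set H)).index := Nat.pos_of_ne_zero index_ne_zero_of_finite
  constructor
  · intro h
    rw [h, mul_comm] at h1
    exact Nat.eq_of_mul_eq_mul_right hM h1
  · intro h
    rw [← h, mul_comm _ (Nat.card M)] at h1
    exact Nat.eq_of_mul_eq_mul_right hi h1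

variable {K T A : Subgroup H}

omit [Finite H] in
/-- an atom in the sense of `Def.lean` is an atom in the sense of `Ratio.lean` -/
theorem _root_.Cfsg.Agent.Omega.ML.Ex.InX.rat (h : InX H M K T A) (hat : Atm M A) : Atom (fab M 1 1) A where
  ne_bot := h.A_ne_bot
  tight := tight_iff.2 h.exact
  min := by
    intro D hD ht
    by_contra hc
    rw [not_or] at hc
    have h1 := hat D hD hc.1 hc.2
    rw [tight_iff.1 ht] at h1
    exact lt_irrefl _ h1

omit [Finite H] in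
theorem _root_.Cfsg.Agent.Omega.ML.Ex.InX.tight (h : InX H M K T A) : Tight (fab M 1 1) A := tight_iff.2 h.exact

omit [Finite H] in
theorem _root_.Cfsg.Agent.Omega.ML.Ex.InX.off (h : InX H M K T A) : Off (fab M 1 1) A :=
  Off.of_exact h.exact h.sub

omit [Finite H] in
/-- over `InN` (`A` is an atom of the module `N`) -/
theorem _root_.Cfsg.Agent.Omega.ML.Ex.InN.rat (h : InN H M K T A) : Atom (fab M 1 1) A where
  ne_bot := h.A_ne_bot
  tight := tight_iff.2 h.exact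
  min := by
    intro D hD ht
    by_contra hc
    rw [not_or] at hc
    have h1 := h.atom D hD hc.1 hc.2
    rw [tight_iff.1 ht] at h1
    exact lt_irrefl _ h1

omit [Finite H] in
theorem _root_.Cfsg.Agent.Omega.ML.Ex.InN.off (h : InN H M K T A) : Off (fab M 1 1) A :=
  Off.of_exact h.exact fun _ hC => h.le_index hC

/-- `A` contains an atom -/
theorem _root_.Cfsg.Agent.Omega.ML.Ex.InX.exists_rat (h : InX H M K T A) : ∃ B ≤ A, Atom (fab M 1 1) B :=
  Ratio.exists_atom h.tight h.A_ne_bot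

/-- a strict nontrivial subgroup of a 2-group has order at least 4 -/
theorem four_le_of_strict {L : Subgroup H} (faith : ∀ h : H, (∀ m : M, h • m = m) → h = 1) (hL : Strict (fab M 1 1) L)
    (h2 : IsPGroup 2 L) (hne : L ≠ ⊥) : 4 ≤ Nat.card L := by
  have : Fact (Nat.Prime 2) := ⟨Nat.prime_two⟩
  obtain ⟨k, hk⟩ := IsPGroup.iff_card.1 h2
  have h7 := hL ⊥ (bot_lt_iff_ne_bot.2 hne)
  rw [fab_lt_iff bot_le, pow_one, pow_one, relIndex_bot_left, cv_bot, relIndex_top_right] at h7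
  have h9 : (cv M (L : Set H)).index ≠ 0 := index_ne_zero_of_finite
  have h10 : (cv M (L : Set H)).index ≠ 1 := by
    intro h10
    have h11 : cv M (L : Set H) = ⊤ := index_eq_one.1 h10
    apply hne
    rw [eq_bot_iff]
    intro x hx
    rw [mem_bot]
    apply faith
    intro m
    have h11 : m ∈ cv M (L : Set H) := h11 ▸ mem_top m
    exact h11 x hx
  rw [hk] at h7 ⊢
  match k, h7 with
  | 0, h7 => rw [pow_zero] at h7; omega
  | 1, h7 => rw [pow_one] at h7; omega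
  | k + 2, _ =>
    have := Nat.one_le_two_pow (n := k)
    rw [pow_add]
    omega

/-- **PRINCIPLE** (any exact atom) -/
theorem principle_atom {A : Subgroup H} (faith : ∀ h : H, (∀ m : M, h • m = m) → h = 1) (hA : Atom (fab M 1 1) A)
    (hoff : Off (fab M 1 1) A) (el : ∀ a ∈ A, a * a = 1) {R Q : Subgroup H}
    (h2 : IsPGroup 2 Q) (hn : R ≤ normalizer (Q : Set H)) (hAQ : A ≤ Q) :
    (∃ L ≤ Q, R ≤ normalizer (L : Set H) ∧ Strict (fab M 1 1) L ∧ 4 ≤ Nat.card L) ∨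
    (∃ D ≤ Q, A ≤ D ∧ R ≤ normalizer (D : Set H) ∧ (∀ x ∈ D, x * x = 1) ∧
      (∀ x ∈ D, ∀ y ∈ D, x * y = y * x) ∧ (cv M (D : Set H)).index = Nat.card D ∧
      (∀ B ≤ D, Nat.card B ≤ (cv M (B : Set H)).index) ∧ D = ⨆ g : R, cj (g : H) A) := by
  have hf := ls_fab (H := H) M 1 1
  have hab : ∀ x ∈ A, ∀ y ∈ A, x * y = y * x := by
    intro x hx y hy
    have h1 := el _ (mul_mem hx hy)
    have h2 : x⁻¹ = x := inv_eq_of_mul_eq_one_right (el x hx)
    have h3 : y⁻¹ = y := inv_eq_of_mul_eq_one_right (el y hy)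
    calc x * y = (x * y)⁻¹ := (inv_eq_of_mul_eq_one_right h1).symm
      _ = y⁻¹ * x⁻¹ := mul_inv_rev x y
      _ = y * x := by rw [h2, h3]
  by_cases hfl : Flat (fab M 1 1) Q
  · right
    have hle : ∀ g : R, cj (g : H) A ≤ Q := by
      intro g
      have h1 := (Subgroup.mem_normalizer_iff_map_conj_eq.1 (hn g.2) : cj (g : H) Q = Q)
      rw [← h1]
      exact cj_mono hAQ
    have hcomm := iSup_cj_comm (fun g : R => (g : H)) hfl h2 hA hab hle
    have hDQ : (⨆ g : R, cj (g : H) A) ≤ Q := iSup_le hle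
    refine ⟨⨆ g : R, cj (g : H) A, hDQ, ?_, ?_, ?_, hcomm, ?_, ?_, rfl⟩
    · have h1 : cj ((1 : R) : H) A ≤ ⨆ g : R, cj (g : H) A := le_iSup (fun g : R => cj (g : H) A) 1
      have h3 : cj ((1 : R) : H) A = A := cj_one A
      rwa [h3] at h1
    · intro g hg
      rw [mem_normalizer_iff]
      intro x
      refine ⟨fun hx => conj_mem_iSup (⟨g, hg⟩ : R) hx, fun hx => ?_⟩
      have h5 := conj_mem_iSup (⟨g, hg⟩⁻¹ : R) hx
      have h6 : (((⟨g, hg⟩⁻¹ : R) : H)) * (g * x * g⁻¹) * (((⟨g, hg⟩⁻¹ : R) : H))⁻¹ = x := by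
        change g⁻¹ * (g * x * g⁻¹) * g⁻¹⁻¹ = x
        group
      rwa [h6] at h5
    · -- elementary abelian
      intro x hx
      refine Subgroup.iSup_induction' (fun g : R => cj (g : H) A) (C := fun x _ => x * x = 1) ?_ (mul_one 1) ?_ hx
      · intro g y hy
        obtain ⟨a, ha, rfl⟩ := hy
        rw [← map_mul, el a ha, map_one]
      · intro x y hx hy h1 h2
        calc x * y * (x * y) = x * (y * x) * y := by group
          _ = x * (x * y) * y := by rw [hcomm y hy x hx]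
          _ = (x * x) * (y * y) := by group
          _ = 1 := by rw [h1, h2, mul_one]
    · have h1 : fab M 1 1 (⨆ g : R, cj (g : H) A) = fab M 1 1 (⊥ : Subgroup H) :=
        le_antisymm (hfl _ hDQ) (Off.iSup hf fun g : R => hoff.cj hf (g : H))
      exact tight_iff.1 h1
    · intro B hB
      exact fab_le_iff.1 (hfl B (hB.trans hDQ))
  · left
    have hne : lo (fab M 1 1) Q ≠ ⊥ := by
      intro h
      exact hfl ((lo_eq_bot_iff hf).1 h)
    have hst := hf.strict_lo Q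
    exact ⟨lo (fab M 1 1) Q, hf.lo_le_self Q, hn.trans (hf.normalizer_le_lo Q), hst,
      four_le_of_strict faith hst (h2.to_le (hf.lo_le_self Q)) hne⟩

/-- **PRINCIPLE** over `InN` -/
theorem principleN (h : InN H M K T A) {R Q : Subgroup H} (h2 : IsPGroup 2 Q) (hn : R ≤ normalizer (Q : Set H))
    (hAQ : A ≤ Q) :
    (∃ L ≤ Q, R ≤ normalizer (L : Set H) ∧ Strict (fab M 1 1) L ∧ 4 ≤ Nat.card L) ∨
    (∃ D ≤ Q, A ≤ D ∧ R ≤ normalizer (D : Set H) ∧ (∀ x ∈ D, x * x = 1) ∧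
      (∀ x ∈ D, ∀ y ∈ D, x * y = y * x) ∧ (cv M (D : Set H)).index = Nat.card D ∧
      (∀ B ≤ D, Nat.card B ≤ (cv M (B : Set H)).index) ∧ D = ⨆ g : R, cj (g : H) A) :=
  principle_atom h.faith h.rat h.off h.el h2 hn hAQ

/-- **PRINCIPLE** over `InN` for an overgroup `R` of `T` -/
theorem principleN_o2 (h : InN H M K T A) {R : Subgroup H} (hT : T ≤ R) (hR : R ≠ ⊤) :
    (∃ L ≤ o2 R, R ≤ normalizer (L : Set H) ∧ Strict (fab M 1 1) L ∧ 4 ≤ Nat.card L) ∨
    (∃ D ≤ o2 R, A ≤ D ∧ R ≤ normalizer (D : Set H) ∧ (∀ x ∈ D, x * x = 1) ∧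
      (∀ x ∈ D, ∀ y ∈ D, x * y = y * x) ∧ (cv M (D : Set H)).index = Nat.card D ∧
      (∀ B ≤ D, Nat.card B ≤ (cv M (B : Set H)).index) ∧ D = ⨆ g : R, cj (g : H) A) :=
  principleN h (o2_isPGroup R) (le_normalizer_o2 R) (h.low R hT hR)

/-- if the elementary abelian `R`-invariant subgroups of `Q` are smaller than `A`, there is a strict `R`-invariant group -/
theorem exists_strictN (h : InN H M K T A) {R Q : Subgroup H} (h2 : IsPGroup 2 Q) (hn : R ≤ normalizer (Q : Set H))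
    (hAQ : A ≤ Q) (hel : ∀ D ≤ Q, R ≤ normalizer (D : Set H) → (∀ x ∈ D, x * x = 1) → Nat.card D < Nat.card A) :
    ∃ L ≤ Q, R ≤ normalizer (L : Set H) ∧ Strict (fab M 1 1) L ∧ 4 ≤ Nat.card L := by
  rcases principleN h h2 hn hAQ with h1 | ⟨D, h1, h3, h4, h5, -⟩
  · exact h1
  · have h6 := hel D h1 h4 h5
    have h7 := card_le_of_le h3
    omega

/-- **THEOREM EX over `InN`** : `Dat.false_eq` -/
theorem false_of_dat (h : InN H M K T A) {G E Q : Subgroup H} {n : ℕ}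
    (D : Cfsg.Agent.Omega.ML.ExRow.Dat.{u, v} H G E Q n) (hAQ : A ≤ Q) : False :=
  D.false_eq h.sq h.faith hAQ h.rat h.A_comm (lt_of_lt_of_le (by norm_num) h.four)

/-- **PRINCIPLE** for any exact `A ≠ 1` with `|C| ≤ |M : C_M(C)|` for `C ≤ A` -/
theorem principle_tight {A : Subgroup H} (faith : ∀ h : H, (∀ m : M, h • m = m) → h = 1) (hA : Tight (fab M 1 1) A)
    (hoff : Off (fab M 1 1) A) (hne : A ≠ ⊥) (el : ∀ a ∈ A, a * a = 1) {R Q : Subgroup H}
    (h2 : IsPGroup 2 Q) (hn : R ≤ normalizer (Q : Set H)) (hAQ : A ≤ Q) :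
    (∃ L ≤ Q, R ≤ normalizer (L : Set H) ∧ Strict (fab M 1 1) L ∧ 4 ≤ Nat.card L) ∨
    ((∀ B ≤ Q, Nat.card B ≤ (cv M (B : Set H)).index) ∧
      (∃ D ≤ Q, R ≤ normalizer (D : Set H) ∧ (∀ x ∈ D, x * x = 1) ∧ (∀ x ∈ D, ∀ y ∈ D, x * y = y * x) ∧
        (cv M (D : Set H)).index = Nat.card D ∧ ∃ B ≤ A, Atom (fab M 1 1) B ∧ B ≤ D ∧ D = ⨆ g : R, cj (g : H) B) ∧
      ∃ N ≤ Q, A ≤ N ∧ R ≤ normalizer (N : Set H) ∧ (cv M (N : Set H)).index = Nat.card N) := by
  have hf := ls_fab (H := H) M 1 1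
  by_cases hfl : Flat (fab M 1 1) Q
  · obtain ⟨B, hBA, hB⟩ := Ratio.exists_atom hA hne
    have hoffB : Off (fab M 1 1) B := ⟨hB.tight.ge, fun C hC => hoff.sub C (hC.trans hBA)⟩
    rcases principle_atom faith hB hoffB (fun a ha => el a (hBA ha)) h2 hn (hBA.trans hAQ) with
      h1 | ⟨D, h1, h3, h4, h5, h6, h7, h8, h9⟩
    · exact Or.inl h1
    · refine Or.inr ⟨fun B hB => fab_le_iff.1 (hfl B hB), ⟨D, h1, h4, h5, h6, h7, B, hBA, hB, h3, h9⟩,
        hi (fab M 1 1) Q, hf.hi_le_self Q, le_hi (hfl.best hAQ hA), hn.trans (hf.normalizer_le_hi Q), ?_⟩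
      exact tight_iff.1 (hfl.tight (hf.best_hi Q))
  · left
    have hne : lo (fab M 1 1) Q ≠ ⊥ := by
      intro h
      exact hfl ((lo_eq_bot_iff hf).1 h)
    have hst := hf.strict_lo Q
    exact ⟨lo (fab M 1 1) Q, hf.lo_le_self Q, hn.trans (hf.normalizer_le_lo Q), hst,
      four_le_of_strict faith hst (h2.to_le (hf.lo_le_self Q)) hne⟩

/-- **PRINCIPLE** over `InX` -/
theorem principle (h : InX H M K T A) {R Q : Subgroup H} (h2 : IsPGroup 2 Q) (hn : R ≤ normalizer (Q : Set H))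
    (hAQ : A ≤ Q) :
    (∃ L ≤ Q, R ≤ normalizer (L : Set H) ∧ Strict (fab M 1 1) L ∧ 4 ≤ Nat.card L) ∨
    ((∀ B ≤ Q, Nat.card B ≤ (cv M (B : Set H)).index) ∧
      (∃ D ≤ Q, R ≤ normalizer (D : Set H) ∧ (∀ x ∈ D, x * x = 1) ∧ (∀ x ∈ D, ∀ y ∈ D, x * y = y * x) ∧
        (cv M (D : Set H)).index = Nat.card D ∧ ∃ B ≤ A, Atom (fab M 1 1) B ∧ B ≤ D ∧ D = ⨆ g : R, cj (g : H) B) ∧
      ∃ N ≤ Q, A ≤ N ∧ R ≤ normalizer (N : Set H) ∧ (cv M (N : Set H)).index = Nat.card N) :=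
  principle_tight h.faith h.tight h.off h.A_ne_bot h.el h2 hn hAQ

/-- **PRINCIPLE** for an overgroup `R` of `T` -/
theorem principle_o2 (h : InX H M K T A) {R : Subgroup H} (hT : T ≤ R) (hR : R ≠ ⊤) :
    (∃ L ≤ o2 R, R ≤ normalizer (L : Set H) ∧ Strict (fab M 1 1) L ∧ 4 ≤ Nat.card L) ∨
    ((∀ B ≤ o2 R, Nat.card B ≤ (cv M (B : Set H)).index) ∧
      (∃ D ≤ o2 R, R ≤ normalizer (D : Set H) ∧ (∀ x ∈ D, x * x = 1) ∧ (∀ x ∈ D, ∀ y ∈ D, x * y = y * x) ∧
        (cv M (D : Set H)).index = Nat.card D ∧ ∃ B ≤ A, Atom (fab M 1 1) B ∧ B ≤ D ∧ D = ⨆ g : R, cj (g : H) B) ∧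
      ∃ N ≤ o2 R, A ≤ N ∧ R ≤ normalizer (N : Set H) ∧ (cv M (N : Set H)).index = Nat.card N) :=
  principle h (o2_isPGroup R) (le_normalizer_o2 R) (h.low R hT hR)

/-- if the only elementary abelian `R`-invariant subgroup of `Q` is trivial, there is a strict `R`-invariant group -/
theorem exists_strict (h : InX H M K T A) {R Q : Subgroup H} (h2 : IsPGroup 2 Q) (hn : R ≤ normalizer (Q : Set H))
    (hAQ : A ≤ Q) (hel : ∀ D ≤ Q, R ≤ normalizer (D : Set H) → (∀ x ∈ D, x * x = 1) →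
      (cv M (D : Set H)).index = Nat.card D → D = ⊥) :
    ∃ L ≤ Q, R ≤ normalizer (L : Set H) ∧ Strict (fab M 1 1) L ∧ 4 ≤ Nat.card L := by
  rcases principle h h2 hn hAQ with h1 | ⟨-, ⟨D, h1, h4, h5, -, h6, B, -, hB, hBD, -⟩, -⟩
  · exact h1
  · exact absurd (le_bot_iff.1 (hBD.trans (hel D h1 h4 h5 h6).le)) hB.ne_bot

end

end Cfsg.Agent.Omega.ML.Ex.Prin
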