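import Cfsg.Agent.Omega.ML.Ex.Red1

/-!
# THEOREM RED, steps (U), (2), (4), (5): the module `N = [M,E]` (helper995)

* `Mn.alt` (U): `|B : C_B(U)| ≤ |U : C_U(B)|` implies `[U,B] = 1`, or `C_B(U) = 1` and `M = U C_M(B)`;
* `Cmp.le_of_normal` : `K` is in every normal subgroup `≠ 1`;  `Cmp.fix_of_mod` : `K` perfect;
* **`Cmp.sub`** (2): every `X`-submodule of `M` is centralised by `K` or contains `[M,K]`;
* **`Cmp.toM`** : `CmpM T B K E lam`.
-/

set_option autoImplicit false

namespace Cfsg.Agent.Omega.ML.Ex.Red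

open Subgroup Cfsg Cfsg.Agent.ZN Cfsg.Agent.Omega.NOThree.NoOver Cfsg.Agent.Omega.ML.CD
open Cfsg.Agent.ClassTwoFusion.Quad Cfsg.Agent.Omega.ML.MinFrame
open Cfsg.Agent.MinSimple.VModule (o2_isPGroup o2_le le_o2 le_normalizer_o2 o2_le_of_sylow)

universe u v

variable {X : Type u} [Group X] [Finite X] {M : Type v} [Group M] [Finite M] [MulDistribMulAction X M]
  {T B K E : Subgroup X} {lam : M}

omit [Finite X] [Finite M] in
theorem smul_mul_self_iff (sq : ∀ m : M, m * m = 1) {x : X} {m : M} : x • m * m = 1 ↔ x • m = m := by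
  constructor
  · intro h1
    have h2 := congrArg (· * m) h1
    simpa [mul_assoc, sq] using h2
  · intro h1
    rw [h1, sq]

omit [Finite M] in
/-- `|M : C_M(B)|` against a supplement -/
theorem relIndex_of_sup (comm : ∀ x y : M, x * y = y * x) {U C : Subgroup M} (h : U ⊔ C = ⊤) :
    C.relIndex U = C.index := by
  have hn : C.Normal := ⟨fun x hx g => by rw [comm g x, mul_inv_cancel_right]; exact hx⟩
  rw [← relIndex_sup_right, h, relIndex_top_right]

namespace Mn

/-- **(U)** -/
theorem alt (h : Mn T B lam) {U : Subgroup M}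
    (hU : (fxr X U).relIndex B ≤ (cv M (B : Set X)).relIndex U) :
    B ≤ fxr X U ∨ (B ⊓ fxr X U = ⊥ ∧ U ⊔ cv M (B : Set X) = ⊤) := by
  set D : Subgroup X := B ⊓ fxr X U with hD
  have hDB : D ≤ B := inf_le_left
  have hUD : U ≤ cv M (D : Set X) := cv_inf_eq_iff.2 inf_le_right
  have h1 : (fxr X U).relIndex B = D.relIndex B := by rw [hD, inf_comm, inf_relIndex_right]
  have h2 : Nat.card B = D.relIndex B * Nat.card D := card_eq_relIndex_mul hDB
  have h3 : (cv M (B : Set X)).relIndex U ≤ (cv M (B : Set X)).relIndex (cv M (D : Set X)) :=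
    relIndex_le_of_le_right hUD (relIndex_ne _ _)
  have hle : cv M (B : Set X) ≤ cv M (D : Set X) := cv_anti (SetLike.coe_subset_coe.2 hDB)
  have h4 : (cv M (B : Set X)).relIndex (cv M (D : Set X)) * (cv M (D : Set X)).index = Nat.card B := by
    rw [relIndex_mul_index hle, h.exact]
  have hpos : 0 < D.relIndex B := Nat.pos_of_ne_zero (relIndex_ne _ _)
  have h5 : (cv M (D : Set X)).index ≤ Nat.card D := by
    have h6 : D.relIndex B * (cv M (D : Set X)).index ≤ D.relIndex B * Nat.card D := by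
      rw [← h2, ← h4]
      exact Nat.mul_le_mul_right _ ((h1 ▸ hU).trans h3)
    exact Nat.le_of_mul_le_mul_left h6 hpos
  by_cases hb : D = ⊥
  · right
    refine ⟨hb, ?_⟩
    have hn : (cv M (B : Set X)).Normal := ⟨fun x hx g => by rw [h.comm g x, mul_inv_cancel_right]; exact hx⟩
    have h6 : Nat.card B ≤ (cv M (B : Set X)).relIndex U := by
      rw [h1, hb, relIndex_bot_left] at hU
      exact hU
    have h7 : (cv M (B : Set X)).relIndex (U ⊔ cv M (B : Set X)) * (U ⊔ cv M (B : Set X)).index = Nat.card B := by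
      rw [relIndex_mul_index le_sup_right, h.exact]
    rw [relIndex_sup_right] at h7
    have h8 : (U ⊔ cv M (B : Set X)).index ≠ 0 := index_ne_zero_of_finite
    have h9 : (U ⊔ cv M (B : Set X)).index = 1 := by
      have hBpos : 0 < Nat.card B := Nat.card_pos
      by_contra h10
      have h11 : 2 ≤ (U ⊔ cv M (B : Set X)).index := by omega
      have h12 : Nat.card B * 2 ≤ Nat.card B := by
        calc Nat.card B * 2 ≤ (cv M (B : Set X)).relIndex U * (U ⊔ cv M (B : Set X)).index := Nat.mul_le_mul h6 h11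
          _ = Nat.card B := h7
      omega
    exact index_eq_one.1 h9
  · left
    by_cases hBD : D = B
    · exact hBD ▸ inf_le_right
    · exact absurd (h.atom D hDB hb hBD) (not_lt.2 h5)

end Mn

namespace Cmp

section

omit [Finite X] [Finite M]

theorem ne_bot (h : Cmp T B K E lam) : ∃ x ∈ E, x ≠ 1 := by
  have hs := h.simple
  obtain ⟨x, hx⟩ := exists_ne (1 : E)
  exact ⟨x, x.2, fun h1 => hx (Subtype.ext h1)⟩

/-- `E` is perfect -/
theorem hom_eq_one (h : Cmp T B K E lam) {P : Type*} [CommGroup P] (f : E →* P) (k : E) : f k = 1 := by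
  have hs := h.simple
  rcases (MonoidHom.normal_ker f).eq_bot_or_eq_top with h1 | h1
  · exfalso
    apply h.nc
    intro x hx
    rw [mem_centralizer_iff]
    intro y hy
    have h2 : (⟨y, hy⟩ : E) * ⟨x, hx⟩ = ⟨x, hx⟩ * ⟨y, hy⟩ :=
      (MonoidHom.ker_eq_bot_iff f).1 h1 (by rw [map_mul, map_mul, mul_comm])
    exact congrArg Subtype.val h2
  · have h2 : k ∈ f.ker := h1 ▸ mem_top k
    exact h2

/-- a vector which `E` fixes modulo `W` is in `W'`, if `e • m * m` is `E`-fixed modulo `W` -/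
theorem mem_of_mod (h : Cmp T B K E lam) {W : Subgroup M} {m : M}
    (hm : ∀ e ∈ E, ∀ e' ∈ E, e' • (e • m * m) * (e • m * m) ∈ W) : ∀ e ∈ E, e • m * m ∈ W := by
  have hc := h.mn.comm
  have hsq := h.mn.sq
  have hn : W.Normal := ⟨fun x hx g => by rw [hc g x, mul_inv_cancel_right]; exact hx⟩
  let _ : CommGroup (M ⧸ W) := { (inferInstance : Group (M ⧸ W)) with
    mul_comm := fun x y => by
      obtain ⟨x, rfl⟩ := QuotientGroup.mk_surjective x
      obtain ⟨y, rfl⟩ := QuotientGroup.mk_surjective y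
      rw [← QuotientGroup.mk_mul, hc, QuotientGroup.mk_mul] }
  let f : E →* M ⧸ W :=
    { toFun := fun e => QuotientGroup.mk ((e : X) • m * m)
      map_one' := by
        change (QuotientGroup.mk ((1 : X) • m * m) : M ⧸ W) = 1
        rw [one_smul, hsq]
        rfl
      map_mul' := fun k l => by
        change (QuotientGroup.mk (((k : X) * (l : X)) • m * m) : M ⧸ W) =
          QuotientGroup.mk ((k : X) • m * m) * QuotientGroup.mk ((l : X) • m * m)
        rw [← QuotientGroup.mk_mul, QuotientGroup.eq]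
        have h1 := hm l l.2 k k.2
        have e : (((k : X) * (l : X)) • m * m)⁻¹ * ((k : X) • m * m * ((l : X) • m * m)) =
            (k : X) • ((l : X) • m * m) * ((l : X) • m * m) := by
          rw [inv_eq_of_mul_eq_one_right (hsq _), smul_mul', mul_smul]
          calc (k : X) • (l : X) • m * m * ((k : X) • m * m * ((l : X) • m * m))
              = (k : X) • (l : X) • m * ((m * (k : X) • m) * m) * ((l : X) • m * m) := by simp only [mul_assoc]
            _ = (k : X) • (l : X) • m * (((k : X) • m * m) * m) * ((l : X) • m * m) := by rw [hc m ((k : X) • m)]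
            _ = (k : X) • (l : X) • m * ((k : X) • m) * ((l : X) • m * m) := by
                rw [mul_assoc ((k : X) • m) m m, hsq, mul_one]
        rw [e]
        exact h1 }
  intro e he
  have h1 : f ⟨e, he⟩ = 1 := h.hom_eq_one f _
  exact (QuotientGroup.eq_one_iff _).1 h1

/-- conjugates of `E` fixing `m`: from `K = ⟨E^T⟩` -/
theorem K_le (h : Cmp T B K E lam) {L : Subgroup X} (hL : ∀ t ∈ T, ∀ e ∈ E, t * e * t⁻¹ ∈ L) : K ≤ L :=
  h.tcl.trans (tcl_le fun t ht => by
    rintro _ ⟨e, he, rfl⟩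
    exact hL t ht e he)

/-- `K` is perfect: a vector fixed modulo `C_M(K)` is fixed -/
theorem fix_of_mod (h : Cmp T B K E lam) {m : M} (hm : ∀ k ∈ K, k • m * m ∈ cv M (K : Set X)) :
    m ∈ cv M (K : Set X) := by
  have hc := h.mn.comm
  have hsq := h.mn.sq
  have h1 : K ≤ MulAction.stabilizer X m := by
    refine h.K_le fun t ht e he => ?_
    -- `E^t` fixes `m` iff `E` fixes `t⁻¹ m`
    have h2 : ∀ e ∈ E, e • (t⁻¹ • m) * (t⁻¹ • m) ∈ (⊥ : Subgroup M) := by
      refine h.mem_of_mod fun e he e' he' => ?_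
      have h3 : t * e * t⁻¹ ∈ K := h.normK.conj_mem e (h.EK he) t
      have h4 : t * e' * t⁻¹ ∈ K := h.normK.conj_mem e' (h.EK he') t
      have h5 := hm _ h3 _ h4
      have e1 : e • (t⁻¹ • m) * (t⁻¹ • m) = t⁻¹ • ((t * e * t⁻¹) • m * m) := by
        rw [smul_mul', ← mul_smul, ← mul_smul]
        congr 2
        group
      rw [mem_bot, e1, ← mul_smul]
      have e2 : e' * t⁻¹ = t⁻¹ * (t * e' * t⁻¹) := by group
      rw [e2, mul_smul, h5, hsq]
    have h3 := mem_bot.1 (h2 e he)
    rw [smul_mul_self_iff hsq] at h3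
    rw [MulAction.mem_stabilizer_iff, mul_smul, mul_smul, h3, smul_inv_smul]
  exact fun k hk => h1 hk

theorem smul_mem_cvK (h : Cmp T B K E lam) (g : X) {m : M} (hm : m ∈ cv M (K : Set X)) :
    g • m ∈ cv M (K : Set X) := by
  intro k hk
  have h1 : g⁻¹ * k * g ∈ K := by
    have := h.normK.conj_mem k hk g⁻¹
    rwa [inv_inv] at this
  have h2 := hm _ h1
  rw [mul_smul, mul_smul, inv_smul_eq_iff] at h2
  exact h2

/-- `K` normalises `E` -/
theorem K_le_normalizer (h : Cmp T B K E lam) : K ≤ normalizer (E : Set X) := by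
  conv_lhs => rw [← h.sup]
  exact sup_le le_normalizer (inf_le_right.trans (centralizer_le_normalizer _))

/-- **`K` is in every normal subgroup `≠ 1`.** -/
theorem le_of_normal (h : Cmp T B K E lam) {N : Subgroup X} (hN : N.Normal) (hne : N ≠ ⊥) : K ≤ N := by
  have hs := h.simple
  have hKn := h.normK
  -- `N ∩ K` does not centralise `E`
  have hnc : ¬ N ⊓ K ≤ centralizer (E : Set X) := by
    intro h1
    have hNK : (N ⊓ K).Normal := normal_inf_normal _ _
    have h2 : K ≤ centralizer ((N ⊓ K : Subgroup X) : Set X) := by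
      refine h.K_le fun t _ e he => ?_
      rw [mem_centralizer_iff]
      intro x hx
      have h3 : t⁻¹ * x * t ∈ N ⊓ K := by
        have := hNK.conj_mem x hx t⁻¹
        rwa [inv_inv] at this
      have h4 := mem_centralizer_iff.1 (h1 h3) e he
      calc x * (t * e * t⁻¹) = t * (t⁻¹ * x * t * e) * t⁻¹ := by group
        _ = t * (e * (t⁻¹ * x * t)) * t⁻¹ := by rw [← h4]
        _ = t * e * t⁻¹ * x := by group
    have h3 : N ⊓ K = ⊥ := by
      have h4 := le_centralizer_iff.1 h2
      rw [h.cenK] at h4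
      exact le_bot_iff.1 h4
    apply hne
    rw [eq_bot_iff, ← h.cenK]
    intro x hx
    rw [mem_centralizer_iff]
    intro k hk
    have h4 : x * k * x⁻¹ * k⁻¹ ∈ N ⊓ K := by
      refine ⟨?_, K.mul_mem (hKn.conj_mem k hk x) (K.inv_mem hk)⟩
      have h5 := N.mul_mem hx (hN.conj_mem _ (N.inv_mem hx) k)
      have e : x * (k * x⁻¹ * k⁻¹) = x * k * x⁻¹ * k⁻¹ := by group
      rwa [e] at h5
    rw [h3, mem_bot, mul_inv_eq_one, mul_inv_eq_iff_eq_mul] at h4
    exact h4.symm
  -- so `E ≤ N`
  have hEN : E ≤ N := by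
    have h1 : (N.subgroupOf E).Normal := hN.subgroupOf E
    rcases h1.eq_bot_or_eq_top with h2 | h2
    · exfalso
      apply hnc
      rw [subgroupOf_eq_bot, disjoint_iff] at h2
      intro x hx
      rw [mem_centralizer_iff]
      intro e he
      have h3 : x * e * x⁻¹ * e⁻¹ ∈ N ⊓ E := by
        refine ⟨?_, E.mul_mem ((mem_normalizer_iff.1 (h.K_le_normalizer hx.2) e).1 he) (E.inv_mem he)⟩
        have h5 := N.mul_mem hx.1 (hN.conj_mem _ (N.inv_mem hx.1) e)
        have e1 : x * (e * x⁻¹ * e⁻¹) = x * e * x⁻¹ * e⁻¹ := by group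
        rwa [e1] at h5
      rw [h2, mem_bot, mul_inv_eq_one, mul_inv_eq_iff_eq_mul] at h3
      exact h3.symm
    · rwa [subgroupOf_eq_top] at h2
  exact h.K_le fun t _ e he => hN.conj_mem e (hEN he) t

end

/-- **(2)**: an `X`-submodule of `M` is centralised by `K` or contains `[M,K]`. -/
theorem sub (h : Cmp T B K E lam) (hML : Final.MLK.{u, v}) (hKG : IsKGroup X) {U : Subgroup M}
    (hU : ∀ g : X, ∀ u ∈ U, g • u ∈ U) : (∀ k ∈ K, ∀ u ∈ U, k • u = u) ∨ cm M K ≤ U := by
  have hc := h.mn.comm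
  have hsq := h.mn.sq
  by_cases hKU : U ≤ cv M (K : Set X)
  · exact Or.inl fun k hk u hu => hKU hu k hk
  right
  set U' : Subgroup M := U ⊓ cv M (K : Set X) with hU'def
  have hU'i : ∀ g : X, ∀ u ∈ U', g • u ∈ U' := fun g u hu => ⟨hU g u hu.1, h.smul_mem_cvK g hu.2⟩
  have hn : U'.Normal := ⟨fun x hx g => by rw [hc g x, mul_inv_cancel_right]; exact hx⟩
  let _ := modAct (H := X) U' hU'i
  have hinv : ∀ x : M, x⁻¹ = x := fun x => inv_eq_of_mul_eq_one_right (hsq x)
  have hsm : ∀ (g : X) (x : M), g • (QuotientGroup.mk x : M ⧸ U') = QuotientGroup.mk (g • x) := fun _ _ => rfl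
  have hmk : ∀ x y : M, (QuotientGroup.mk x : M ⧸ U') = QuotientGroup.mk y ↔ x * y ∈ U' := by
    intro x y
    rw [QuotientGroup.eq, hinv]
  have hsq' : ∀ x : M ⧸ U', x * x = 1 := fun x => by
    obtain ⟨y, rfl⟩ := QuotientGroup.mk_surjective x
    rw [← QuotientGroup.mk_mul, hsq]
    rfl
  have hne : U.map (QuotientGroup.mk' U') ≠ ⊥ := by
    rw [Ne, Subgroup.map_eq_bot_iff, QuotientGroup.ker_mk']
    exact fun h1 => hKU (h1.trans inf_le_right)
  obtain ⟨z, hzU, hz1, hzT⟩ := exists_fixed hsq' h.mn.two hne (by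
    rintro t _ _ ⟨u, hu, rfl⟩
    exact ⟨t • u, hU t u hu, rfl⟩)
  obtain ⟨u, hu, huz⟩ := hzU
  have huz' : (QuotientGroup.mk u : M ⧸ U') = z := huz
  set R : Subgroup X := MulAction.stabilizer X z with hR
  have hmemR : ∀ g : X, g ∈ R ↔ g • u * u ∈ U' := by
    intro g
    rw [hR, MulAction.mem_stabilizer_iff, ← huz', hsm, hmk]
  -- `K` does not fix `z`
  have hKz : ¬ K ≤ R := by
    intro h1
    have h2 : u ∈ cv M (K : Set X) := h.fix_of_mod fun k hk => ((hmemR k).1 (h1 hk)).2
    apply hz1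
    rw [← huz']
    exact (QuotientGroup.eq_one_iff u).2 ⟨hu, h2⟩
  have hTR : T ≤ R := fun t ht => hzT t ht
  have hRne : R ≠ ⊤ := fun h1 => hKz (h1 ▸ le_top)
  have hlow := h.mn.low R hTR hRne
  have key := hML.act (C := X) (V := M ⧸ U') hKG (T := T) (Q := o2 R) (A := B) (z := z)
    { sq := hsq'
      two := h.mn.two
      odd := h.mn.syl
      fixT := hzT
      Q2 := fun q hq => by
        obtain ⟨n, hn⟩ := o2_isPGroup R ⟨q, hq⟩
        refine ⟨n, fun v => ?_⟩
        have h1 : q ^ 2 ^ n = 1 := congrArg Subtype.val hn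
        rw [h1, one_smul]
      fixQ := fun q hq => o2_le R hq
      nrmQ := fun g hg q hq => ⟨g * q * g⁻¹, conj_mem_of_le (le_normalizer_o2 R) hg hq, fun _ => rfl⟩
      AQ := fun a ha => ⟨a, hlow ha, fun _ => rfl⟩
      Asq := fun a ha v => by rw [← mul_smul, h.mn.el a ha, one_smul] }
  have hF : fxr X (orb (⊤ : Subgroup X) z) = ⊥ := by
    by_contra h1
    have h2 : (fxr X (orb (⊤ : Subgroup X) z)).Normal := fxr_normal fun g u hu => smul_mem_orb (mem_top g) hu
    exact hKz fun k hk => h.le_of_normal h2 h1 hk z (mem_orb_self _ z)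
  rw [hF, relIndex_bot_left] at key
  set Uu : Subgroup M := (orb (⊤ : Subgroup X) z).comap (QuotientGroup.mk' U') with hUu
  have hmap : Uu.map (QuotientGroup.mk' U') = orb (⊤ : Subgroup X) z :=
    Subgroup.map_comap_eq_self_of_surjective (QuotientGroup.mk'_surjective U') _
  have h1 : Nat.card B ≤ (cv M (B : Set X)).relIndex Uu := by
    refine key.trans ?_
    rw [← hmap, ← relIndex_comap]
    refine relIndex_le_of_le_left ?_ (relIndex_ne _ _)
    intro x hx b hb
    change b • (QuotientGroup.mk x : M ⧸ U') = QuotientGroup.mk x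
    rw [hsm, hx b hb]
  have h2 : (fxr X Uu).relIndex B ≤ Nat.card B := Nat.le_of_dvd Nat.card_pos (relIndex_dvd_card _ _)
  have hUuU : Uu ≤ U := by
    intro x hx
    have h3 : orb (⊤ : Subgroup X) z ≤ U.map (QuotientGroup.mk' U') := by
      refine orb_le fun g _ => ?_
      rw [← huz', hsm]
      exact ⟨g • u, hU g u hu, rfl⟩
    obtain ⟨y, hy, hyx⟩ := h3 hx
    have h4 : (QuotientGroup.mk y : M ⧸ U') = QuotientGroup.mk x := hyx
    rw [hmk] at h4
    have h5 := U.mul_mem hy h4.1
    rwa [← mul_assoc, hsq, one_mul] at h5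
  rcases h.mn.alt (h2.trans h1) with h3 | ⟨-, h3⟩
  · exfalso
    have h4 : (cv M (B : Set X)).relIndex Uu = 1 := relIndex_eq_one.2 (cv_inf_eq_iff.2 h3)
    have := h.mn.four
    omega
  · let L : Subgroup X :=
      { carrier := {x | ∀ m : M, x • m * m ∈ U}
        one_mem' := fun m => by
          rw [one_smul, hsq]
          exact one_mem _
        mul_mem' := fun {x y} hx hy m => by
          have e : (x * y) • m * m = (x • y • m * (y • m)) * (y • m * m) := by
            rw [mul_smul, mul_assoc, ← mul_assoc (y • m) (y • m), hsq, one_mul]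
          rw [e]
          exact mul_mem (hx _) (hy m)
        inv_mem' := fun {x} hx m => by
          have h1 := hx (x⁻¹ • m)
          rw [smul_inv_smul, hc] at h1
          exact h1 }
    have hLn : L.Normal := ⟨fun x hx y m => by
      have h1 := hU y _ (hx (y⁻¹ • m))
      rw [smul_mul', smul_inv_smul, ← mul_smul, ← mul_smul] at h1
      exact h1⟩
    have hBL : B ≤ L := by
      intro b hb m
      have h5 : m ∈ Uu ⊔ cv M (B : Set X) := h3 ▸ mem_top m
      have hcn : (cv M (B : Set X)).Normal := ⟨fun x hx g => by rw [hc g x, mul_inv_cancel_right]; exact hx⟩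
      obtain ⟨y, hy, c, hcc, rfl⟩ := mem_sup_of_normal_right.1 h5
      have e : b • (y * c) * (y * c) = b • y * y := by
        rw [smul_mul', hcc b hb, hc y c, mul_assoc, ← mul_assoc c c, hsq, one_mul]
      rw [e]
      exact U.mul_mem (hU b y (hUuU hy)) (hUuU hy)
    have hKL : K ≤ L := h.le_of_normal hLn fun h4 => h.mn.B_ne_bot (le_bot_iff.1 (h4 ▸ hBL))
    exact cm_le fun k hk m => hKL hk m

end Cmp

end Cfsg.Agent.Omega.ML.Ex.Red
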