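import Cfsg.Agent.Omega.ML.Ex.SecLow

/-!
# Passage to one component: the quotient `X₁` of `E N_T(E)` (#21158 (7); helper844)

`a : E T₁ → X₁` onto, injective on `E` (`T₁ := N_T(E)`); `K₁`, `T₂`, `B₁` : the images of `E`, `T₁`, `B`.

* `Quo` : this situation;  `normal`, `sup_eq_top`, `simple₁`, `two₁`, `syl₁` : `K₁ ⊴ X₁ = K₁ T₂`, `K₁` simple, `T₂ ∈ Syl₂(X₁)`;
* **`low₁`**, **`nmax₁`** : they are inherited by `X₁`;  `cen_isPGroup` : `C_{X₁}(K₁)` is a 2-group.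
-/

set_option autoImplicit false
set_option linter.style.haveILetI false
set_option linter.unusedVariables false

namespace Cfsg.Agent.Omega.ML.Ex.SecLow

open Subgroup Cfsg Cfsg.Agent.ZN
open Cfsg.Agent.MinSimple.VModule (o2_isPGroup o2_le le_o2 le_normalizer_o2)

variable {X : Type*} [Group X] {X₁ : Type*} [Group X₁]

/-- `E N_T(E)` -/
abbrev YY (T E : Subgroup X) : Subgroup X := E ⊔ T1 T E

theorem E_le_YY {T E : Subgroup X} : E ≤ YY T E := le_sup_left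

theorem T1_le_YY {T E : Subgroup X} : T1 T E ≤ YY T E := le_sup_right

/-- the image of `L ∩ Y` -/
def im {Y : Subgroup X} (a : Y →* X₁) (L : Subgroup X) : Subgroup X₁ := (L.subgroupOf Y).map a

theorem mem_im {Y : Subgroup X} {a : Y →* X₁} {L : Subgroup X} {x : X₁} : x ∈ im a L ↔ ∃ y : Y, (y : X) ∈ L ∧ a y = x :=
  Iff.rfl

theorem apply_mem_im {Y : Subgroup X} {a : Y →* X₁} {L : Subgroup X} {y : Y} (hy : (y : X) ∈ L) : a y ∈ im a L :=
  ⟨y, hy, rfl⟩

theorem im_mono {Y : Subgroup X} {a : Y →* X₁} {L L' : Subgroup X} (h : L ≤ L') : im a L ≤ im a L' := by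
  rintro _ ⟨y, hy, rfl⟩
  exact ⟨y, h hy, rfl⟩

/-- `|X : T| = |K : T ∩ K|` if `X = K T`, `K` normal. -/
theorem index_eq_of_sup {G : Type*} [Group G] [Finite G] {K T : Subgroup G} [K.Normal] (h : K ⊔ T = ⊤) :
    T.index = T.relIndex K := by
  have h1 : K.relIndex T = K.index := by
    rw [← relIndex_top_right, ← h, relIndex_sup_left]
  have h2 := card_mul_index T
  have h3 := card_mul_index K
  have h4 := card_mul_index (K.subgroupOf T)
  have h5 := card_mul_index (T.subgroupOf K)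
  have h6 : Nat.card (K.subgroupOf T) = Nat.card (T.subgroupOf K) := by
    have e1 : Nat.card (K.subgroupOf T) = Nat.card ((K ⊓ T : Subgroup G)) := by
      rw [← subgroupOf_map_subtype, card_map_of_injective T.subtype_injective]
    have e2 : Nat.card (T.subgroupOf K) = Nat.card ((T ⊓ K : Subgroup G)) := by
      rw [← subgroupOf_map_subtype, card_map_of_injective K.subtype_injective]
    rw [e1, e2, inf_comm]
  have h7 : (K.subgroupOf T).index = K.index := h1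
  have h8 : T.relIndex K = (T.subgroupOf K).index := rfl
  rw [h8]
  have hpos : 0 < Nat.card (T.subgroupOf K) * K.index :=
    Nat.mul_pos Nat.card_pos (Nat.pos_of_ne_zero index_ne_zero_of_finite)
  apply Nat.eq_of_mul_eq_mul_left hpos
  calc Nat.card (T.subgroupOf K) * K.index * T.index = Nat.card T * T.index := by rw [← h4, h6, h7]
    _ = Nat.card K * K.index := by rw [h2, h3]
    _ = Nat.card (T.subgroupOf K) * K.index * (T.subgroupOf K).index := by rw [← h5]; ring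

/-- The situation. -/
structure Quo (T K E F : Subgroup X) (a : YY T E →* X₁) : Prop extends Cp T K E F where
  surj : Function.Surjective a
  inj : ∀ y : YY T E, (y : X) ∈ E → a y = 1 → y = 1

namespace Quo

variable {T K E F : Subgroup X} {a : YY T E →* X₁}

theorem YY_conj (_h : Quo T K E F a) {y e : X} (hy : y ∈ YY T E) (he : e ∈ E) : y * e * y⁻¹ ∈ E := by
  have h1 : YY T E ≤ normalizer (E : Set X) := sup_le le_normalizer inf_le_right
  exact (mem_normalizer_iff.1 (h1 hy) e).1 he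

/-- `x = e t` -/
theorem exists_mul (_h : Quo T K E F a) {y : X} (hy : y ∈ YY T E) : ∃ e ∈ E, ∃ t ∈ T1 T E, y = e * t := by
  have h1 := coe_mul_of_right_le_normalizer_left E (T1 T E) inf_le_right
  have h0 : y ∈ ((E ⊔ T1 T E : Subgroup X) : Set X) := hy
  rw [h1] at h0
  obtain ⟨e, he, t, ht, rfl⟩ := h0
  exact ⟨e, he, t, ht, rfl⟩

theorem exists_mul' (h : Quo T K E F a) (x : X₁) : ∃ e t : YY T E, (e : X) ∈ E ∧ (t : X) ∈ T1 T E ∧ x = a e * a t := by
  obtain ⟨y, rfl⟩ := h.surj x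
  obtain ⟨e, he, t, ht, h1⟩ := h.exists_mul y.2
  refine ⟨⟨e, E_le_YY he⟩, ⟨t, T1_le_YY ht⟩, he, ht, ?_⟩
  rw [← map_mul]
  exact congrArg a (Subtype.ext h1)

theorem normal (h : Quo T K E F a) : (im a E).Normal := by
  refine ⟨?_⟩
  rintro _ ⟨e, he, rfl⟩ x
  obtain ⟨y, rfl⟩ := h.surj x
  refine ⟨y * e * y⁻¹, h.YY_conj y.2 he, ?_⟩
  rw [map_mul, map_mul, map_inv]

theorem sup_eq_top (h : Quo T K E F a) : im a E ⊔ im a (T1 T E) = ⊤ := by
  rw [eq_top_iff]
  intro x _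
  obtain ⟨e, t, he, ht, rfl⟩ := h.exists_mul' x
  exact mul_mem (mem_sup_left (apply_mem_im he)) (mem_sup_right (apply_mem_im ht))

/-- `E ≃ K₁` -/
noncomputable def equiv (h : Quo T K E F a) : E ≃* im a E := by
  refine MulEquiv.ofBijective
    ((a.comp (inclusion (E_le_YY (T := T) (E := E)))).codRestrict (im a E) fun e => apply_mem_im e.2) ⟨?_, ?_⟩
  · rw [injective_iff_map_eq_one]
    intro e he
    have h1 := h.inj (inclusion E_le_YY e) e.2 (congrArg Subtype.val he)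
    exact Subtype.ext (show (e : X) = 1 from congrArg Subtype.val h1)
  · rintro ⟨_, ⟨y, hy, rfl⟩⟩
    exact ⟨⟨y, hy⟩, rfl⟩

theorem equiv_apply (h : Quo T K E F a) (e : E) : ((h.equiv e : im a E) : X₁) = a (inclusion E_le_YY e) := rfl

theorem simple₁ (h : Quo T K E F a) : IsSimpleGroup (im a E) := by
  have := h.toCp.simple
  exact h.equiv.symm.isSimpleGroup

theorem two₁ (h : Quo T K E F a) : IsPGroup 2 (im a (T1 T E)) :=
  IsPGroup.map ((h.two.to_le inf_le_left).comap_of_injective _ (Subtype.val_injective)) a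

/-- an element of `E` whose image is in `a(T₁)` lies in `T ∩ E` -/
theorem mem_T_of (h : Quo T K E F a) [Finite X] {e : YY T E} (he : (e : X) ∈ E) (h1 : a e ∈ im a (T1 T E)) :
    (e : X) ∈ T ⊓ E := by
  let P : Subgroup E := (im a (T1 T E)).comap (a.comp (inclusion (E_le_YY (T := T) (E := E))))
  have hP : IsPGroup 2 P := by
    apply h.two₁.comap_of_injective
    rw [injective_iff_map_eq_one]
    intro e he
    have h1 := h.inj (inclusion E_le_YY e) e.2 he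
    exact Subtype.ext (show (e : X) = 1 from congrArg Subtype.val h1)
  have hle : (T ⊓ E).subgroupOf E ≤ P := by
    intro x hx
    refine apply_mem_im (L := T1 T E) ?_
    exact ⟨hx.1, le_normalizer x.2⟩
  have h2 : ¬ 2 ∣ ((T ⊓ E).subgroupOf E).relIndex P := fun h3 => h.sylE (h3.trans (by
    have h4 : ((T ⊓ E).subgroupOf E).relIndex P * P.index = ((T ⊓ E).subgroupOf E).index := relIndex_mul_index hle
    exact ⟨_, h4.symm⟩))
  obtain ⟨n, hn⟩ := hP.exists_card_eq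
  have h3 : ((T ⊓ E).subgroupOf E).relIndex P ∣ 2 ^ n := by
    rw [← hn]
    exact relIndex_dvd_card _ _
  obtain ⟨k, -, hk⟩ := (Nat.dvd_prime_pow Nat.prime_two).1 h3
  have h4 : P ≤ (T ⊓ E).subgroupOf E := by
    rw [← relIndex_eq_one]
    rcases Nat.eq_zero_or_pos k with rfl | hk0
    · exact hk
    · exact absurd (hk ▸ dvd_pow_self 2 hk0.ne') h2
  exact h4 (x := ⟨e, he⟩) h1

/-- `T₂` is a Sylow 2-subgroup of `X₁` -/
theorem syl₁ (h : Quo T K E F a) [Finite X] : ¬ 2 ∣ (im a (T1 T E)).index := by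
  intro h1
  have hn := h.normal
  haveI : Finite X₁ := Finite.of_surjective a h.surj
  -- the index divides the index of `T ∩ E` in `E`
  have h2 : (im a (T1 T E)).index = (im a (T1 T E)).relIndex (im a E) :=
    index_eq_of_sup (h.sup_eq_top)
  rw [h2] at h1
  have h3 : (im a (T1 T E)).relIndex (im a E) ∣ (T ⊓ E).relIndex E := by
    have h4 : (im a (T1 T E)).relIndex (im a E) = ((im a (T1 T E)).subgroupOf (im a E)).index := rfl
    have h5 : ((im a (T1 T E)).subgroupOf (im a E)).index =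
        (((im a (T1 T E)).subgroupOf (im a E)).comap h.equiv.toMonoidHom).index :=
      (index_comap_of_surjective _ h.equiv.surjective).symm
    rw [h4, h5]
    apply index_dvd_of_le
    intro x hx
    refine apply_mem_im (L := T1 T E) ?_
    exact ⟨hx.1, le_normalizer x.2⟩
  exact h.sylE (h1.trans h3)

/-- the preimage of `R` -/
def pre (a : YY T E →* X₁) (R : Subgroup X₁) : Subgroup X := (R.comap a).map (YY T E).subtype

theorem mem_pre {R : Subgroup X₁} {y : YY T E} : (y : X) ∈ pre a R ↔ a y ∈ R := by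
  constructor
  · rintro ⟨z, hz, h1⟩
    have h2 : z = y := Subtype.ext h1
    exact h2 ▸ hz
  · intro hy
    exact ⟨y, hy, rfl⟩

theorem pre_le {R : Subgroup X₁} : pre a R ≤ YY T E := map_subtype_le _

theorem T1_le_pre {R : Subgroup X₁} (hR : im a (T1 T E) ≤ R) : T1 T E ≤ pre a R := fun t ht =>
  (mem_pre (y := ⟨t, T1_le_YY ht⟩)).2 (hR (apply_mem_im (y := ⟨t, T1_le_YY ht⟩) ht))

theorem inf_ne (h : Quo T K E F a) {R : Subgroup X₁} (hR : im a (T1 T E) ≤ R) (hRt : R ≠ ⊤) : pre a R ⊓ E ≠ E := by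
  intro h1
  apply hRt
  rw [eq_top_iff, ← h.sup_eq_top]
  refine sup_le ?_ hR
  rintro _ ⟨e, he, rfl⟩
  have h2 : (e : X) ∈ pre a R := by
    have : (e : X) ∈ pre a R ⊓ E := h1.symm ▸ he
    exact this.1
  exact mem_pre.1 h2

theorem T_inf_le {R : Subgroup X₁} (hR : im a (T1 T E) ≤ R) : T ⊓ E ≤ pre a R ⊓ E := fun x hx =>
  ⟨T1_le_pre hR ⟨hx.1, le_normalizer hx.2⟩, hx.2⟩

theorem inf_conj {R : Subgroup X₁} (hR : im a (T1 T E) ≤ R) :
    ∀ t ∈ T1 T E, ∀ x ∈ pre a R ⊓ E, t * x * t⁻¹ ∈ pre a R ⊓ E := fun t ht x hx =>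
  ⟨(pre a R).mul_mem ((pre a R).mul_mem (T1_le_pre hR ht) hx.1) ((pre a R).inv_mem (T1_le_pre hR ht)),
    T1_conj ht hx.2⟩

theorem pre_eq (h : Quo T K E F a) {R : Subgroup X₁} (hR : im a (T1 T E) ≤ R) :
    pre a R ≤ (pre a R ⊓ E) ⊔ T1 T E := by
  intro x hx
  obtain ⟨e, he, t, ht, rfl⟩ := h.exists_mul (pre_le hx)
  have h1 : e ∈ pre a R := by
    have := (pre a R).mul_mem hx ((pre a R).inv_mem (T1_le_pre hR ht))
    rwa [mul_inv_cancel_right] at this
  exact mul_mem (mem_sup_left ⟨h1, he⟩) (mem_sup_right ht)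

/-- **(low)** -/
theorem low₁ (h : Quo T K E F a) [Finite X] {B : Subgroup X} (hB : B ≤ T1 T E)
    (low : ∀ R : Subgroup X, T ≤ R → R ≠ ⊤ → B ≤ o2 R) {R : Subgroup X₁} (hR : im a (T1 T E) ≤ R) (hRt : R ≠ ⊤) :
    im a B ≤ o2 R := by
  have h1 := h.toCp.low_of hB low (inf_le_right : pre a R ⊓ E ≤ E) (T_inf_le hR) (inf_conj hR) (h.inf_ne hR hRt)
  have h2 : (pre a R ⊓ E) ⊔ T1 T E = pre a R := le_antisymm (sup_le inf_le_left (T1_le_pre hR)) (h.pre_eq hR)
  rw [h2] at h1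
  have h3 : im a (o2 (pre a R)) ≤ o2 R := by
    refine le_o2 ?_ ?_ ?_
    · rintro _ ⟨y, hy, rfl⟩
      exact mem_pre.1 (o2_le _ hy)
    · exact IsPGroup.map ((o2_isPGroup _).comap_of_injective _ (Subtype.val_injective)) a
    · have key : ∀ g ∈ R, ∀ x ∈ im a (o2 (pre a R)), g * x * g⁻¹ ∈ im a (o2 (pre a R)) := by
        rintro g hg _ ⟨x, hx, rfl⟩
        obtain ⟨y, rfl⟩ := h.surj g
        have h4 : (y : X) ∈ pre a R := mem_pre.2 hg
        refine ⟨y * x * y⁻¹, (mem_normalizer_iff.1 (le_normalizer_o2 _ h4) _).1 hx, ?_⟩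
        rw [map_mul, map_mul, map_inv]
      intro g hg
      rw [mem_normalizer_iff]
      intro x
      refine ⟨key g hg x, fun hx => ?_⟩
      have h5 := key g⁻¹ (R.inv_mem hg) _ hx
      have h6 : g⁻¹ * (g * x * g⁻¹) * g⁻¹⁻¹ = x := by group
      rwa [h6] at h5
  exact (im_mono h1).trans h3

/-- `K₁ ≰ T₂` -/
theorem not_le (h : Quo T K E F a) [Finite X] (hE : ¬ E ≤ T) : im a (T1 T E) ≠ ⊤ := by
  intro h1
  apply hE
  intro e he
  exact (h.mem_T_of (e := ⟨e, E_le_YY he⟩) he (h1 ▸ mem_top _)).1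

/-- **(nmax)** -/
theorem nmax₁ (h : Quo T K E F a) [Finite X] (hE : ¬ E ≤ T)
    (nmax : ¬ ∃ N : Subgroup X, N ≠ ⊤ ∧ ∀ R : Subgroup X, T ≤ R → R ≠ ⊤ → R ≤ N) :
    ¬ ∃ N : Subgroup X₁, N ≠ ⊤ ∧ ∀ R : Subgroup X₁, im a (T1 T E) ≤ R → R ≠ ⊤ → R ≤ N := by
  rintro ⟨N, hN, hmax⟩
  have hT : im a (T1 T E) ≤ N := hmax _ le_rfl (h.not_le hE)
  apply nmax
  refine h.toCp.exists_max (inf_le_right : pre a N ⊓ E ≤ E) (T_inf_le hT) (h.inf_ne hT hN) ?_
  intro A hA hTA hAc hAE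
  have h1 : im a (A ⊔ T1 T E) ≠ ⊤ := by
    intro h1
    apply hAE
    refine le_antisymm hA fun e he => ?_
    have h2 : a ⟨e, E_le_YY he⟩ ∈ im a (A ⊔ T1 T E) := h1 ▸ mem_top _
    obtain ⟨y, hy, h3⟩ := h2
    have h4 : T1 T E ≤ normalizer (A : Set X) := by
      intro t ht
      rw [mem_normalizer_iff]
      intro x
      refine ⟨fun hx => hAc t ht x hx, fun hx => ?_⟩
      have h5 := hAc t⁻¹ (inv_mem ht) _ hx
      have h6 : t⁻¹ * (t * x * t⁻¹) * t⁻¹⁻¹ = x := by group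
      rwa [h6] at h5
    have h5 := coe_mul_of_right_le_normalizer_left A (T1 T E) h4
    have h0 : (y : X) ∈ ((A ⊔ T1 T E : Subgroup X) : Set X) := hy
    rw [h5] at h0
    obtain ⟨x, hx, t, ht, hxt⟩ := h0
    have h6 : (x⁻¹ * e : X) ∈ E := mul_mem (inv_mem (hA hx)) he
    have h7 : a ⟨x⁻¹ * e, E_le_YY h6⟩ = a ⟨t, T1_le_YY ht⟩ := by
      have h8 : (⟨x⁻¹ * e, E_le_YY h6⟩ : YY T E) = (⟨x, E_le_YY (hA hx)⟩ : YY T E)⁻¹ * ⟨e, E_le_YY he⟩ := Subtype.ext rfl
      have h9 : y = (⟨x, E_le_YY (hA hx)⟩ : YY T E) * ⟨t, T1_le_YY ht⟩ := Subtype.ext hxt.symm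
      rw [h8, map_mul, map_inv, ← h3, h9, map_mul, inv_mul_cancel_left]
    have h8 := h.mem_T_of (e := ⟨x⁻¹ * e, E_le_YY h6⟩) h6 (h7 ▸ apply_mem_im (y := ⟨t, T1_le_YY ht⟩) ht)
    have h9 := A.mul_mem hx (hTA h8)
    have h10 : x * (x⁻¹ * e) = e := by group
    rw [← h10]
    exact h9
  have h2 := hmax _ (im_mono le_sup_right) h1
  intro x hx
  exact ⟨(mem_pre (y := ⟨x, E_le_YY (hA hx)⟩)).2 (h2 (apply_mem_im (y := ⟨x, E_le_YY (hA hx)⟩) (mem_sup_left hx))),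
    hA hx⟩

/-- `C_{X₁}(K₁)` is a 2-group if `E` is not abelian -/
theorem cen_isPGroup (h : Quo T K E F a) [Finite X] (hab : ∀ e ∈ E, (∀ f ∈ E, e * f = f * e) → e = 1) :
    IsPGroup 2 (centralizer (im a E : Set X₁)) := by
  have hn := h.normal
  rintro ⟨c, hc⟩
  -- modulo `K₁` the group is a 2-group
  obtain ⟨e, t, he, ht, h1⟩ := h.exists_mul' c
  obtain ⟨k, hk⟩ := h.two₁ ⟨a t, apply_mem_im ht⟩
  have hk' : (a t) ^ (2 ^ k) = 1 := congrArg Subtype.val hk
  refine ⟨k, Subtype.ext ?_⟩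
  show c ^ (2 ^ k) = 1
  -- `c ^ (2 ^ k) ∈ K₁ ∩ C(K₁)`
  have h2 : c ^ (2 ^ k) ∈ im a E := by
    have h3 : (QuotientGroup.mk' (im a E)) (c ^ (2 ^ k)) = 1 := by
      have h0 : (QuotientGroup.mk' (im a E)) (a e) = 1 := (QuotientGroup.eq_one_iff _).2 (apply_mem_im he)
      rw [map_pow, h1, map_mul, h0, one_mul, ← map_pow, hk', map_one]
    exact (QuotientGroup.eq_one_iff _).1 h3
  obtain ⟨f, hf, h3⟩ := h2
  have h4 : ∀ g ∈ E, (f : X) * g = g * f := by
    intro g hg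
    have h5 : (g : X) * f * g⁻¹ * (f : X)⁻¹ ∈ E := mul_mem (mul_mem (mul_mem hg hf) (inv_mem hg)) (inv_mem hf)
    have h6 := h.inj ((⟨g, E_le_YY hg⟩ : YY T E) * f * (⟨g, E_le_YY hg⟩ : YY T E)⁻¹ * f⁻¹) h5 (by
      have h7 := mem_centralizer_iff.1 (pow_mem hc (2 ^ k)) (a ⟨g, E_le_YY hg⟩) (apply_mem_im (y := ⟨g, E_le_YY hg⟩) hg)
      rw [map_mul, map_mul, map_mul, map_inv, map_inv, h3, h7, mul_inv_cancel_right, mul_inv_cancel])
    have h7 := congrArg Subtype.val h6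
    have h8 : (g : X) * f * g⁻¹ * (f : X)⁻¹ = 1 := h7
    rw [mul_inv_eq_one, mul_inv_eq_iff_eq_mul] at h8
    exact h8.symm
  have h5 : f = 1 := Subtype.ext (hab f hf h4)
  rw [← h3, h5, map_one]

end Quo

end Cfsg.Agent.Omega.ML.Ex.SecLow
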