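import Cfsg.Agent.Omega.ML.Ex.RedDef
import Cfsg.Agent.Omega.ML.Ex.SecQuo

/-!
# THEOREM RED: the group theory of one component (helper844)

* `le_of_normal_two` : a normal 2-subgroup lies in `T`;
* `Cmp.cp` : the situation `Cp T K E C_K(E)` of `SecLow`;  `Cmp.nt` : `T ∩ E ≠ 1`;
* `Cmp.perfE`, `Cmp.perfF` : `E`, `C_K(E)` are perfect;  `Cmp.B_le` : `B ≤ N_T(E)`.
-/

set_option autoImplicit false

namespace Cfsg.Agent.Omega.ML.Ex.Red

open Subgroup Cfsg Cfsg.Agent.ZN Cfsg.Agent.Omega.NOThree.NoOver Cfsg.Agent.Omega.ML.CD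
open Cfsg.Agent.ClassTwoFusion.Quad Cfsg.Agent.Omega.ML.MinFrame Cfsg.Agent.Omega.ML.Ex.SecLow
open Cfsg.Agent.MinSimple.VModule (o2_isPGroup o2_le le_o2 le_normalizer_o2)

universe u v

variable {X : Type u} [Group X]

/-- a normal 2-subgroup lies in the Sylow 2-subgroup `T` -/
theorem le_of_normal_two [Finite X] {T N : Subgroup X} (hT : IsPGroup 2 T) (hTi : ¬ 2 ∣ T.index) (hN : N.Normal)
    (h2 : IsPGroup 2 N) : N ≤ T := by
  have : Fact (Nat.Prime 2) := ⟨Nat.prime_two⟩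
  have h1 : IsPGroup 2 (N ⊔ T : Subgroup X) := h2.to_sup_of_normal_left hT
  have h3 := (hT.toSylow hTi).is_maximal' h1 (le_sup_right : T ≤ N ⊔ T)
  have h4 : N ⊔ T = T := h3
  exact le_sup_left.trans h4.le

theorem comm_le_self (F : Subgroup X) : ⁅F, F⁆ ≤ F := by
  rw [commutator_le]
  intro x hx y hy
  exact F.mul_mem (F.mul_mem (F.mul_mem hx hy) (F.inv_mem hx)) (F.inv_mem hy)

/-- a simple 2-group is abelian -/
theorem comm_of_two {E : Subgroup X} [Finite X] (hs : IsSimpleGroup E) (h2 : IsPGroup 2 E) :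
    E ≤ centralizer (E : Set X) := by
  have : Fact (Nat.Prime 2) := ⟨Nat.prime_two⟩
  have h1 := h2.center_nontrivial
  rcases hs.eq_bot_or_eq_top_of_normal (center E) inferInstance with h3 | h3
  · rw [h3] at h1
    exact absurd h1 (not_nontrivial _)
  · intro x hx
    rw [mem_centralizer_iff]
    intro y hy
    have h4 : (⟨x, hx⟩ : E) ∈ center E := h3 ▸ mem_top _
    exact congrArg Subtype.val (mem_center_iff.1 h4 ⟨y, hy⟩)

variable {M : Type v} [Group M] [MulDistribMulAction X M] {T B K E : Subgroup X} {lam : M}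

namespace Cmp

theorem K_le' (h : Cmp T B K E lam) : K ≤ normalizer (E : Set X) := by
  rw [← h.sup]
  exact sup_le le_normalizer (inf_le_right.trans (centralizer_le_normalizer _))

theorem subnormal (h : Cmp T B K E lam) : E.IsSubnormal :=
  IsSubnormal.trans h.EK ((normal_subgroupOf_iff_le_normalizer h.EK).2 h.K_le').isSubnormal h.normK.isSubnormal

theorem sylE (h : Cmp T B K E lam) [Finite X] : ¬ 2 ∣ (T ⊓ E).relIndex E := by
  rw [inf_relIndex_right]
  exact not_dvd_relIndex_of_subnormal h.mn.two h.mn.syl h.subnormal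

theorem sylK (h : Cmp T B K E lam) [Finite X] : ¬ 2 ∣ (T ⊓ K).relIndex K := by
  rw [inf_relIndex_right]
  exact not_dvd_relIndex_of_subnormal h.mn.two h.mn.syl h.normK.isSubnormal

theorem KEF (h : Cmp T B K E lam) : ∀ k ∈ K, ∃ e ∈ E, ∃ f ∈ K ⊓ centralizer (E : Set X), k = e * f := by
  intro k hk
  rw [← h.sup] at hk
  exact sup_eq_mul (inf_le_right.trans (centralizer_le_normalizer _)) hk

theorem cEF (_h : Cmp T B K E lam) : ∀ e ∈ E, ∀ f ∈ K ⊓ centralizer (E : Set X), e * f = f * e := fun e he _ hf =>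
  mem_centralizer_iff.1 hf.2 e he

theorem iEF (h : Cmp T B K E lam) : ∀ e ∈ E, e ∈ K ⊓ centralizer (E : Set X) → e = 1 := fun e he hf =>
  mem_bot.1 (h.inf ▸ (⟨he, hf.2⟩ : e ∈ E ⊓ centralizer (E : Set X)))

theorem mem_centralizer_singleton {x g : X} : g ∈ centralizer ({x} : Set X) ↔ x * g = g * x := by
  rw [mem_centralizer_iff]
  exact ⟨fun h => h x rfl, by rintro h _ rfl; exact h⟩

/-- `T ∩ E ≠ 1` -/
theorem nt (h : Cmp T B K E lam) [Finite X] : T ⊓ E ≠ ⊥ := by
  intro h1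
  have hs := h.simple
  have hE : Odd (Nat.card E) := odd_of_relIndex
    (not_dvd_relIndex_of_subnormal h.mn.two h.mn.syl h.subnormal) h1
  -- `T ∩ K ≤ C(E)`
  have h2 : ∀ x ∈ T, x ∈ K → x ∈ centralizer (E : Set X) := by
    intro x hx hxK
    obtain ⟨e, he, f, hf, rfl⟩ := h.KEF x hxK
    obtain ⟨k, hk⟩ := h.mn.two ⟨e * f, hx⟩
    have h3 : (e * f) ^ (2 ^ k) = 1 := congrArg Subtype.val hk
    have hc : Commute e f := h.cEF e he f hf
    rw [hc.mul_pow] at h3
    have h4 : e ^ (2 ^ k) ∈ K ⊓ centralizer (E : Set X) := by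
      rw [eq_inv_of_mul_eq_one_left h3]
      exact inv_mem (pow_mem hf _)
    have h5 := h.iEF _ (pow_mem he _) h4
    have h6 : e ^ Nat.card E = 1 := congrArg Subtype.val (pow_card_eq_one' (x := (⟨e, he⟩ : E)))
    have h7 : e = 1 := by
      have h8 : e ∈ (⊥ : Subgroup X) := mem_of_pow_mem (m := 2 ^ k) (n := Nat.card E)
        (Nat.Coprime.pow_left _ (Nat.coprime_two_left.2 hE)) (mem_bot.2 h5) (mem_bot.2 h6)
      exact mem_bot.1 h8
    rw [h7, one_mul]
    exact hf.2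
  -- `T ∩ K ≤ C(K) = 1`
  have h3 : T ⊓ K = ⊥ := by
    rw [eq_bot_iff, ← h.cenK]
    rintro x ⟨hx, hxK⟩
    have h4 : MinFrame.tcl T E ≤ centralizer ({x} : Set X) := by
      refine tcl_le fun t ht => ?_
      rintro _ ⟨e, he, rfl⟩
      rw [mem_centralizer_singleton]
      have h5 := mem_centralizer_iff.1 (h2 (t⁻¹ * x * t) (T.mul_mem (T.mul_mem (T.inv_mem ht) hx) ht) (by
        have := h.normK.conj_mem x hxK t⁻¹
        rwa [inv_inv] at this)) e he
      change x * (t * e * t⁻¹) = t * e * t⁻¹ * x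
      symm
      calc t * e * t⁻¹ * x = t * (e * (t⁻¹ * x * t)) * t⁻¹ := by group
        _ = t * ((t⁻¹ * x * t) * e) * t⁻¹ := by rw [h5]
        _ = x * (t * e * t⁻¹) := by group
    rw [mem_centralizer_iff]
    intro k hk
    exact (mem_centralizer_singleton.1 (h4 (h.tcl hk))).symm
  have h4 := h.mn.odd K h.normK (odd_of_relIndex
    (not_dvd_relIndex_of_subnormal h.mn.two h.mn.syl h.normK.isSubnormal) h3)
  obtain ⟨x, hx⟩ := exists_ne (1 : E)
  exact hx (Subtype.ext (mem_bot.1 (h4 ▸ h.EK x.2)))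

/-- **the situation of `SecLow`** -/
theorem cp (h : Cmp T B K E lam) [Finite X] : Cp T K E (K ⊓ centralizer (E : Set X)) where
  two := h.mn.two
  Kn := h.normK
  gen := h.gen
  sylE := h.sylE
  EK := h.EK
  FK := inf_le_left
  KEF := h.KEF
  cEF := h.cEF
  iEF := h.iEF
  cF := fun x hx hc => ⟨hx, mem_centralizer_iff.2 fun e he => (hc e he).symm⟩
  conj := fun t ht => by
    by_cases h1 : t ∈ normalizer (E : Set X)
    · exact Or.inl fun e he => (mem_normalizer_iff.1 h1 e).1 he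
    · exact Or.inr fun e he => ⟨h.normK.conj_mem e (h.EK he) t, h.conj t ht h1 ⟨e, he, rfl⟩⟩
  KE := h.tcl.trans (tcl_le fun t ht => by
    rintro _ ⟨e, he, rfl⟩
    exact subset_closure ⟨t, ht, e, he, rfl⟩)
  simple := h.simple
  nt := h.nt

/-- `E ≰ T` -/
theorem not_le (h : Cmp T B K E lam) [Finite X] : ¬ E ≤ T := fun h1 =>
  h.nc (comm_of_two h.simple (h.mn.two.to_le h1))

theorem T_ne_top (h : Cmp T B K E lam) [Finite X] : T ≠ ⊤ := fun h1 => h.not_le (h1 ▸ le_top)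

/-- `B ≤ N_T(E)` -/
theorem B_le (h : Cmp T B K E lam) [Finite X] : B ≤ T1 T E :=
  le_inf ((h.mn.low T le_rfl h.T_ne_top).trans (o2_le T)) h.BE

/-- `E` is perfect -/
theorem perfE (h : Cmp T B K E lam) : ⁅E, E⁆ = E := by
  have hs := h.simple
  rcases hs.eq_bot_or_eq_top_of_normal (commutator E) inferInstance with h1 | h1
  · exfalso
    apply h.nc
    rw [commutator_eq_bot_iff_center_eq_top] at h1
    intro x hx
    rw [mem_centralizer_iff]
    intro y hy
    have h4 : (⟨x, hx⟩ : E) ∈ center E := h1 ▸ mem_top _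
    exact congrArg Subtype.val (mem_center_iff.1 h4 ⟨y, hy⟩)
  · have h2 : (commutator E).map E.subtype = ⁅E, E⁆ := by
      rw [commutator_def, map_commutator, ← MonoidHom.range_eq_map, range_subtype]
    rw [← h2, h1, ← MonoidHom.range_eq_map, range_subtype]

/-- an element of `E` commuting with `E` is trivial -/
theorem eq_one_of_comm (h : Cmp T B K E lam) {e : X} (he : e ∈ E) (hc : ∀ f ∈ E, e * f = f * e) : e = 1 :=
  mem_bot.1 (h.inf ▸ (⟨he, mem_centralizer_iff.2 fun f hf => (hc f hf).symm⟩ : e ∈ E ⊓ centralizer (E : Set X)))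

/-- `K` is perfect -/
theorem perfK (h : Cmp T B K E lam) : K ≤ ⁅K, K⁆ := by
  refine h.tcl.trans (tcl_le fun t _ => ?_)
  have h1 : E.map (MulAut.conj t).toMonoidHom = ⁅E.map (MulAut.conj t).toMonoidHom, E.map (MulAut.conj t).toMonoidHom⁆ := by
    conv_lhs => rw [← h.perfE, map_commutator]
  have h2 : E.map (MulAut.conj t).toMonoidHom ≤ K := by
    rintro _ ⟨e, he, rfl⟩
    exact h.normK.conj_mem e (h.EK he) t
  rw [h1]
  exact commutator_mono h2 h2

/-- `C_K(E)` is perfect -/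
theorem perfF (h : Cmp T B K E lam) :
    ⁅K ⊓ centralizer (E : Set X), K ⊓ centralizer (E : Set X)⁆ = K ⊓ centralizer (E : Set X) := by
  obtain ⟨F, hF⟩ : ∃ F, F = K ⊓ centralizer (E : Set X) := ⟨_, rfl⟩
  have hc : ∀ (e : E) (f : F), Commute (E.subtype e) (F.subtype f) := fun e f =>
    h.cEF e e.2 f (hF ▸ f.2)
  have h1 : ⁅K, K⁆ ≤ E ⊔ ⁅F, F⁆ := by
    rw [commutator_le]
    intro x hx y hy
    obtain ⟨e, he, f, hf, rfl⟩ := h.KEF x hx
    obtain ⟨e', he', f', hf', rfl⟩ := h.KEF y hy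
    rw [← hF] at hf hf'
    have h2 := map_commutatorElement (MonoidHom.noncommCoprod E.subtype F.subtype hc)
      ((⟨e, he⟩ : E), (⟨f, hf⟩ : F)) ((⟨e', he'⟩ : E), (⟨f', hf'⟩ : F))
    have h3 : (MonoidHom.noncommCoprod E.subtype F.subtype hc) ((⟨e, he⟩ : E), (⟨f, hf⟩ : F)) = e * f := rfl
    have h4 : (MonoidHom.noncommCoprod E.subtype F.subtype hc) ((⟨e', he'⟩ : E), (⟨f', hf'⟩ : F)) = e' * f' := rfl
    rw [h3, h4] at h2
    rw [← h2]
    exact mul_mem (mem_sup_left ((⟨e, he⟩ : E) * (⟨e', he'⟩ : E) * (⟨e, he⟩ : E)⁻¹ * (⟨e', he'⟩ : E)⁻¹).2)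
      (mem_sup_right (commutator_mem_commutator hf hf'))
  rw [← hF]
  refine le_antisymm (comm_le_self F) fun f hf => ?_
  have hfK : f ∈ K := by
    rw [hF] at hf
    exact hf.1
  have hn : ⁅F, F⁆ ≤ normalizer (E : Set X) := (comm_le_self F).trans (by
    rw [hF]
    exact inf_le_right.trans (centralizer_le_normalizer _))
  obtain ⟨e, he, g, hg, rfl⟩ := sup_eq_mul hn (h1 (h.perfK hfK))
  have hg' : g ∈ F := comm_le_self F hg
  have h2 : e ∈ F := by
    have := F.mul_mem hf (F.inv_mem hg')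
    rwa [mul_inv_cancel_right] at this
  rw [h.iEF e he (hF ▸ h2), one_mul]
  exact hg

end Cmp

end Cfsg.Agent.Omega.ML.Ex.Red
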