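import Cfsg.Agent.Omega.ML.Ex.SecQuo
import Cfsg.Agent.Omega.ML.Ex.LA

/-!
# (LA) through RED (#23238; helper451)

The situation of `SecLow.Quo` : `K = E F` normal in `X = K T`, `F = C_K(E)`, `T₁ = N_T(E)`, `Y = E T₁`, `a : Y → X₁` onto,
injective on `E`; `X` acts on `M` (exponent 2), `N ≤ M` is invariant under `N_X(E)`, centralised by `F`, `[M,B] ≤ N`,
`[lam,E] ≤ N`; `q : N → M₁` with kernel `C_N(E)`.

* `Sit` : this situation;
* `stab` : `{x : [lam,x] ∈ C_M(K)} = C_X(lam)`;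
* `exists_n` : `lam = n c` with `n ∈ N`, `c ∈ C_M(E)`;
* `cF` : an element of `Y` with `[M,y] ≤ N` centralises `F`;
* `cj_le` : a `Y`-conjugate `C` of `B` with `a(C) ≤ O₂(C_{X₁}(m₁))` lies in `O₂(C_X(lam))`;
* **`la`** : `LA X M T B lam → LA X₁ M₁ (im a T₁) (im a B) (q n)`.
-/

set_option autoImplicit false
set_option linter.style.haveILetI false
set_option linter.unusedVariables false

namespace Cfsg.Agent.Omega.ML.Ex.RedLA

open Subgroup Cfsg Cfsg.Agent.ZN Cfsg.Agent.Omega.NOThree.NoOver Cfsg.Agent.Omega.ML.Ex.SecLow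
open Cfsg.Agent.ClassTwoFusion.Quad
open Cfsg.Agent.MinSimple.VModule (o2_isPGroup o2_le le_o2 le_normalizer_o2 o2_le_of_sylow)

variable {X : Type*} [Group X] {M : Type*} [CommGroup M] [MulDistribMulAction X M]

/-- **The situation.** -/
structure Sit (T B K E F : Subgroup X) (lam : M) (N : Subgroup M) : Prop extends Cp T K E F where
  sq : ∀ m : M, m * m = 1
  faith : ∀ x : X, (∀ m : M, x • m = m) → x = 1
  cen : centralizer (K : Set X) = ⊥
  core : ∀ L : Subgroup X, L.Normal → IsPGroup 2 L → L = ⊥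
  syl : ¬ 2 ∣ T.index
  fixT : ∀ t ∈ T, t • lam = lam
  ne : MulAction.stabilizer X lam ≠ ⊤
  /-- `N` is `N(E)`-invariant -/
  NN : ∀ x : X, (∀ e ∈ E, x * e * x⁻¹ ∈ E) → ∀ n ∈ N, x • n ∈ N
  FN : ∀ f ∈ F, ∀ n ∈ N, f • n = n
  BE : ∀ b ∈ B, b ∈ T1 T E
  MB : ∀ b ∈ B, ∀ m : M, (b • m) * m⁻¹ ∈ N
  lamE : ∀ e ∈ E, (e • lam) * lam⁻¹ ∈ N

/-- the elements of `N(E)` with `[M,x] ≤ N` -/
def QN (E : Subgroup X) (N : Subgroup M) (hN : ∀ x : X, (∀ e ∈ E, x * e * x⁻¹ ∈ E) → ∀ n ∈ N, x • n ∈ N) :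
    Subgroup X where
  carrier := {x | (∀ e, e ∈ E ↔ x * e * x⁻¹ ∈ E) ∧ ∀ m : M, (x • m) * m⁻¹ ∈ N}
  one_mem' := ⟨fun e => by rw [one_mul, inv_one, mul_one], fun m => by rw [one_smul, mul_inv_cancel]; exact one_mem _⟩
  mul_mem' := by
    rintro x y ⟨hx, hx'⟩ ⟨hy, hy'⟩
    refine ⟨fun e => ?_, fun m => ?_⟩
    · rw [hy, hx]
      have h1 : x * (y * e * y⁻¹) * x⁻¹ = x * y * e * (x * y)⁻¹ := by group
      rw [h1]
    · have h1 : ((x * y) • m) * m⁻¹ = ((x • y • m) * (y • m)⁻¹) * ((y • m) * m⁻¹) := by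
        rw [mul_smul]
        group
      rw [h1]
      exact mul_mem (hx' _) (hy' _)
  inv_mem' := by
    rintro x ⟨hx, hx'⟩
    have hi : ∀ e, e ∈ E ↔ x⁻¹ * e * x⁻¹⁻¹ ∈ E := by
      intro e
      rw [hx (x⁻¹ * e * x⁻¹⁻¹)]
      have h1 : x * (x⁻¹ * e * x⁻¹⁻¹) * x⁻¹ = e := by group
      rw [h1]
    refine ⟨hi, fun m => ?_⟩
    have h1 : (x⁻¹ • m) * m⁻¹ = (x⁻¹ • ((x • m) * m⁻¹))⁻¹ := by
      rw [smul_mul', inv_smul_smul, smul_inv', mul_inv, inv_inv, mul_comm]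
    rw [h1]
    exact inv_mem (hN _ (fun e he => (hi e).1 he) _ (hx' m))

theorem mem_QN {E : Subgroup X} {N : Subgroup M} {hN : ∀ x : X, (∀ e ∈ E, x * e * x⁻¹ ∈ E) → ∀ n ∈ N, x • n ∈ N}
    {x : X} : x ∈ QN E N hN ↔ (∀ e, e ∈ E ↔ x * e * x⁻¹ ∈ E) ∧ ∀ m : M, (x • m) * m⁻¹ ∈ N := Iff.rfl

namespace Sit

variable {T B K E F : Subgroup X} {lam : M} {N : Subgroup M}

theorem T1_iff {T E : Subgroup X} {t : X} (ht : t ∈ T1 T E) (e : X) : e ∈ E ↔ t * e * t⁻¹ ∈ E := mem_normalizer_iff.1 ht.2 e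

theorem YY_iff {T E : Subgroup X} {y : X} (hy : y ∈ YY T E) (e : X) : e ∈ E ↔ y * e * y⁻¹ ∈ E := by
  have h1 : YY T E ≤ normalizer (E : Set X) := sup_le le_normalizer inf_le_right
  exact mem_normalizer_iff.1 (h1 hy) e

/-- `F ⊴ K` -/
theorem F_normalK (h : Sit T B K E F lam N) {k f : X} (hk : k ∈ K) (hf : f ∈ F) : k * f * k⁻¹ ∈ F := by
  obtain ⟨e, he, g, hg, rfl⟩ := h.KEF k hk
  have h1 : e * g * f * (e * g)⁻¹ = g * f * g⁻¹ := by
    have h2 : g * f * g⁻¹ ∈ F := mul_mem (mul_mem hg hf) (inv_mem hg)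
    calc e * g * f * (e * g)⁻¹ = e * (g * f * g⁻¹) * e⁻¹ := by group
      _ = (g * f * g⁻¹) * e * e⁻¹ := by rw [h.cEF e he _ h2]
      _ = _ := by group
  rw [h1]
  exact mul_mem (mul_mem hg hf) (inv_mem hg)

/-- an element which normalises `E` normalises `F` -/
theorem F_conj' (h : Sit T B K E F lam N) {x f : X} (hx : ∀ e, e ∈ E ↔ x * e * x⁻¹ ∈ E) (hf : f ∈ F) :
    x * f * x⁻¹ ∈ F := by
  refine h.cF _ (h.Kn.conj_mem f (h.FK hf) x) ?_
  intro e he
  have h1 : x⁻¹ * e * x ∈ E := by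
    rw [hx]
    have : x * (x⁻¹ * e * x) * x⁻¹ = e := by group
    rwa [this]
  calc x * f * x⁻¹ * e = x * (f * (x⁻¹ * e * x)) * x⁻¹ := by group
    _ = x * ((x⁻¹ * e * x) * f) * x⁻¹ := by rw [h.cEF _ h1 f hf]
    _ = e * (x * f * x⁻¹) := by group

/-- `F ∩ {x : [M,x] ≤ N} = 1` -/
theorem inf_F [Finite X] (h : Sit T B K E F lam N) : QN E N h.NN ⊓ F = ⊥ := by
  have hsq : ∀ x ∈ QN E N h.NN ⊓ F, x * x = 1 := by
    rintro x ⟨hx, hxF⟩
    apply h.faith
    intro m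
    have h1 := h.FN x hxF _ ((mem_QN.1 hx).2 m)
    rw [smul_mul', smul_inv'] at h1
    -- `x x m (x m)⁻¹ = x m m⁻¹`
    rw [mul_smul]
    have h2 : x • x • m = ((x • m) * m⁻¹) * (x • m) := by
      rw [← h1]
      group
    have h3 : (x • m) * (x • m) = 1 := h.sq _
    have h4 : m⁻¹ = m := inv_eq_of_mul_eq_one_right (h.sq m)
    rw [h2, mul_assoc, mul_comm m⁻¹, ← mul_assoc, h3, one_mul, h4]
  have hp : IsPGroup 2 (QN E N h.NN ⊓ F : Subgroup X) := by
    rintro ⟨x, hx⟩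
    refine ⟨1, Subtype.ext ?_⟩
    show x ^ (2 ^ 1) = 1
    rw [pow_one, pow_two]
    exact hsq x hx
  have hn : K ≤ normalizer ((QN E N h.NN ⊓ F : Subgroup X) : Set X) := by
    have key : ∀ k ∈ K, ∀ x ∈ QN E N h.NN ⊓ F, k * x * k⁻¹ ∈ QN E N h.NN ⊓ F := by
      rintro k hk x ⟨hx, hxF⟩
      refine ⟨?_, h.F_normalK hk hxF⟩
      obtain ⟨e, he, g, hg, rfl⟩ := h.KEF k hk
      have h1 : e * g * x * (e * g)⁻¹ = g * x * g⁻¹ := by
        have h2 : g * x * g⁻¹ ∈ F := mul_mem (mul_mem hg hxF) (inv_mem hg)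
        calc e * g * x * (e * g)⁻¹ = e * (g * x * g⁻¹) * e⁻¹ := by group
          _ = (g * x * g⁻¹) * e * e⁻¹ := by rw [h.cEF e he _ h2]
          _ = _ := by group
      rw [h1]
      have hgx : g * x * g⁻¹ ∈ F := mul_mem (mul_mem hg hxF) (inv_mem hg)
      refine mem_QN.2 ⟨fun e => ?_, fun m => ?_⟩
      · constructor
        · intro he
          rw [← h.cEF e he _ hgx, mul_inv_cancel_right]
          exact he
        · intro he
          have h3 := h.cEF _ he _ hgx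
          have h4 : e = (g * x * g⁻¹) * e * (g * x * g⁻¹)⁻¹ := by
            have h5 : (g * x * g⁻¹) * e * (g * x * g⁻¹)⁻¹ * (g * x * g⁻¹) =
                (g * x * g⁻¹) * ((g * x * g⁻¹) * e * (g * x * g⁻¹)⁻¹) := h3
            rw [inv_mul_cancel_right] at h5
            exact mul_left_cancel h5
          rw [h4]
          exact he
      · have h3 := h.NN g (fun e he => by rw [← h.cEF e he g hg, mul_inv_cancel_right]; exact he) _
          ((mem_QN.1 hx).2 (g⁻¹ • m))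
        rw [smul_mul', smul_inv', smul_inv_smul] at h3
        rwa [mul_smul, mul_smul]
    intro k hk
    rw [mem_normalizer_iff]
    intro x
    refine ⟨key k hk x, fun hx => ?_⟩
    have h5 := key k⁻¹ (K.inv_mem hk) _ hx
    have h6 : k⁻¹ * (k * x * k⁻¹) * k⁻¹⁻¹ = x := by group
    rwa [h6] at h5
  have h1 : QN E N h.NN ⊓ F ≤ o2 K := le_o2 (inf_le_right.trans h.FK) hp hn
  have hKn := h.Kn
  have h2 : (o2 K).Normal := by
    refine ⟨fun x hx g => ?_⟩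
    have h3 : cj g (o2 K) ≤ o2 K := by
      refine le_o2 ?_ ((o2_isPGroup K).map _) ?_
      · intro y hy
        have h4 := h.Kn.conj_mem _ (o2_le K (mem_cj.1 hy)) g
        have h5 : g * (g⁻¹ * y * g) * g⁻¹ = y := by group
        rwa [h5] at h4
      · rw [normalizer_cj]
        intro k hk
        rw [mem_cj]
        refine le_normalizer_o2 K ?_
        have h4 := h.Kn.conj_mem k hk g⁻¹
        rwa [inv_inv] at h4
    refine h3 (mem_cj.2 ?_)
    have h5 : g⁻¹ * (g * x * g⁻¹) * g = x := by group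
    rwa [h5]
  rw [eq_bot_iff, ← h.core _ h2 (o2_isPGroup K)]
  exact h1

/-- an element `x` of `N(E)` with `[M,x] ≤ N` centralises `F` -/
theorem comm_F [Finite X] (h : Sit T B K E F lam N) {x f : X} (hx : x ∈ QN E N h.NN) (hf : f ∈ F) :
    x * f = f * x := by
  have hfE : ∀ e, e ∈ E ↔ f * e * f⁻¹ ∈ E := by
    intro e
    constructor
    · intro he
      rw [← h.cEF e he f hf, mul_inv_cancel_right]
      exact he
    · intro he
      have h3 := h.cEF _ he f hf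
      rw [inv_mul_cancel_right] at h3
      have h4 : e = f * e * f⁻¹ := mul_left_cancel h3
      rw [h4]
      exact he
  have hfQ : f * x⁻¹ * f⁻¹ ∈ QN E N h.NN := by
    have hx' := mem_QN.1 (inv_mem hx)
    refine mem_QN.2 ⟨fun e => ?_, fun m => ?_⟩
    · have e1 : f * x⁻¹ * f⁻¹ * e * (f * x⁻¹ * f⁻¹)⁻¹ = f * (x⁻¹ * (f⁻¹ * e * f) * x⁻¹⁻¹) * f⁻¹ := by group
      have e2 : f * (f⁻¹ * e * f) * f⁻¹ = e := by group
      rw [e1, ← hfE, ← hx'.1, hfE (f⁻¹ * e * f), e2]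
    · have h3 := h.NN f (fun e he => (hfE e).1 he) _ (hx'.2 (f⁻¹ • m))
      rw [smul_mul', smul_inv', smul_inv_smul] at h3
      rwa [mul_smul, mul_smul]
  have h1 : x * (f * x⁻¹ * f⁻¹) ∈ QN E N h.NN ⊓ F := by
    refine ⟨mul_mem hx hfQ, ?_⟩
    have h2 := mul_mem (h.F_conj' (mem_QN.1 hx).1 hf) (inv_mem hf)
    have e1 : x * f * x⁻¹ * f⁻¹ = x * (f * x⁻¹ * f⁻¹) := by group
    rwa [e1] at h2
  rw [h.inf_F, mem_bot] at h1
  have e1 : x * (f * x⁻¹ * f⁻¹) = x * f * x⁻¹ * f⁻¹ := by group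
  rw [e1, mul_inv_eq_one, mul_inv_eq_iff_eq_mul] at h1
  exact h1

/-- **`{x : [lam,x] ∈ C_M(K)} = C_X(lam)`** -/
theorem stab [Finite X] (h : Sit T B K E F lam N) {x : X}
    (hx : ∀ k ∈ K, k • ((x • lam) * lam⁻¹) = (x • lam) * lam⁻¹) : x • lam = lam := by
  have hKn := h.Kn
  let St : Subgroup X :=
    { carrier := {k | k ∈ K ∧ ∀ l ∈ K, l • ((k • lam) * lam⁻¹) = (k • lam) * lam⁻¹}
      one_mem' := ⟨one_mem _, fun l _ => by rw [one_smul, mul_inv_cancel, smul_one]⟩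
      mul_mem' := by
        rintro k l ⟨hk, hk'⟩ ⟨hl, hl'⟩
        refine ⟨mul_mem hk hl, fun m hm => ?_⟩
        have e1 : ((k * l) • lam) * lam⁻¹ = (k • ((l • lam) * lam⁻¹)) * ((k • lam) * lam⁻¹) := by
          rw [smul_mul', mul_smul, smul_inv']
          group
        rw [e1, hl' k hk, smul_mul', hl' m hm, hk' m hm]
      inv_mem' := by
        rintro k ⟨hk, hk'⟩
        refine ⟨inv_mem hk, fun m hm => ?_⟩
        have e1 : (k⁻¹ • lam) * lam⁻¹ = (k⁻¹ • ((k • lam) * lam⁻¹))⁻¹ := by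
          rw [smul_mul', inv_smul_smul, smul_inv', mul_inv, inv_inv, mul_comm]
        rw [e1, hk' _ (inv_mem hk), smul_inv', hk' m hm] }
  let f : St →* M :=
    { toFun := fun k => ((k : X) • lam) * lam⁻¹
      map_one' := by
        show ((1 : X) • lam) * lam⁻¹ = 1
        rw [one_smul, mul_inv_cancel]
      map_mul' := fun k l => by
        show (((k : X) * (l : X)) • lam) * lam⁻¹ = (((k : X) • lam) * lam⁻¹) * (((l : X) • lam) * lam⁻¹)
        have e1 : (((k : X) * (l : X)) • lam) * lam⁻¹ = ((k : X) • (((l : X) • lam) * lam⁻¹)) * (((k : X) • lam) * lam⁻¹) := by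
          rw [smul_mul', mul_smul, smul_inv']
          group
        rw [e1, l.2.2 k k.2.1, mul_comm] }
  have hf : ∀ k : St, f k = 1 := by
    intro k
    by_contra hne
    have h1 : (T ⊓ K).subgroupOf St ≤ f.ker := by
      intro t ht
      rw [MonoidHom.mem_ker]
      show ((t : X) • lam) * lam⁻¹ = 1
      have h0 : (t : X) • lam = lam := h.fixT _ (mem_subgroupOf.1 ht).1
      rw [h0, mul_inv_cancel]
    have h2 : orderOf (⟨f k, k, rfl⟩ : f.range) = 2 := by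
      rw [orderOf_eq_prime_iff]
      refine ⟨Subtype.ext ?_, fun h0 => hne (congrArg Subtype.val h0)⟩
      show f k ^ 2 = 1
      rw [pow_two]
      exact h.sq _
    have h3 : 2 ∣ f.ker.index := by
      rw [Subgroup.index_ker]
      have := orderOf_dvd_natCard (⟨f k, k, rfl⟩ : f.range)
      rwa [h2] at this
    have h4 : f.ker.index ∣ ((T ⊓ K).subgroupOf St).index := index_dvd_of_le h1
    have h5 : (T ⊓ K).relIndex St ∣ (T ⊓ K).relIndex K := by
      by_cases hle : T ⊓ K ≤ St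
      · exact ⟨_, (relIndex_mul_relIndex (T ⊓ K) St K hle fun k hk => hk.1).symm⟩
      · exfalso
        apply hle
        rintro t ⟨htT, htK⟩
        refine ⟨htK, fun l _ => ?_⟩
        rw [h.fixT t htT, mul_inv_cancel, smul_one]
    have h6 : (T ⊓ K).relIndex K = T.index := by
      rw [inf_relIndex_right]
      exact (index_eq_of_sup h.gen).symm
    exact h.syl (h6 ▸ (h3.trans h4).trans h5)
  obtain ⟨k, hk, t, ht, rfl⟩ := mem_sup_of_normal_left.1 (h.gen ▸ mem_top x : x ∈ K ⊔ T)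
  have e1 : (k * t) • lam = k • lam := by rw [mul_smul, h.fixT t ht]
  rw [e1] at hx ⊢
  have h1 := hf ⟨k, hk, hx⟩
  exact mul_inv_eq_one.1 h1

/-- **`lam = n c` with `n ∈ N`, `c ∈ C_M(E)`** -/
theorem exists_n [Finite X] [Finite M] (h : Sit T B K E F lam N) :
    ∃ n ∈ N, ∀ e ∈ E, e • (n * lam⁻¹) = n * lam⁻¹ := by
  classical
  let O : Set M := MulAction.orbit E lam
  let S : Finset M := (Set.toFinite O).toFinset
  have hS : ∀ v, v ∈ S ↔ ∃ e ∈ E, v = e • lam := by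
    intro v
    rw [Set.Finite.mem_toFinset]
    constructor
    · rintro ⟨e, rfl⟩
      exact ⟨e, e.2, rfl⟩
    · rintro ⟨e, he, rfl⟩
      exact ⟨⟨e, he⟩, rfl⟩
  -- the orbit is odd
  have hcard : S.card = (MulAction.stabilizer E lam).index := by
    rw [MulAction.index_stabilizer, ← Set.ncard_eq_toFinset_card O (Set.toFinite O)]
  have hodd : Odd S.card := by
    rw [← Nat.not_even_iff_odd, even_iff_two_dvd, hcard]
    intro h1
    apply h.sylE
    have h2 : (T ⊓ E).subgroupOf E ≤ MulAction.stabilizer E lam := fun t ht => h.fixT _ ht.1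
    exact h1.trans (index_dvd_of_le h2)
  let c : M := ∏ v ∈ S, v
  have hc : ∀ e ∈ E, e • c = c := by
    intro e he
    show e • (∏ v ∈ S, v) = ∏ v ∈ S, v
    rw [Finset.smul_prod']
    refine Finset.prod_bij (fun v _ => e • v) ?_ ?_ ?_ ?_
    · intro v hv
      obtain ⟨g, hg, rfl⟩ := (hS v).1 hv
      exact (hS _).2 ⟨e * g, mul_mem he hg, by rw [mul_smul]⟩
    · intro v _ w _ hvw
      exact smul_left_cancel e hvw
    · intro v hv
      obtain ⟨g, hg, rfl⟩ := (hS v).1 hv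
      exact ⟨e⁻¹ • g • lam, (hS _).2 ⟨e⁻¹ * g, mul_mem (inv_mem he) hg, by rw [mul_smul]⟩, by rw [smul_inv_smul]⟩
    · intro v _
      rfl
  have hcN : c * lam⁻¹ ∈ N := by
    have h1 : ∏ v ∈ S, (v * lam⁻¹) ∈ N := by
      refine Subgroup.prod_mem _ fun v hv => ?_
      obtain ⟨g, hg, rfl⟩ := (hS v).1 hv
      exact h.lamE g hg
    rw [Finset.prod_mul_distrib, Finset.prod_const] at h1
    obtain ⟨k, hk⟩ := hodd
    have h2 : lam⁻¹ ^ S.card = lam⁻¹ := by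
      rw [hk, pow_succ, pow_mul, pow_two, h.sq, one_pow, one_mul]
    rwa [h2] at h1
  refine ⟨c * lam⁻¹, hcN, fun e he => ?_⟩
  have h3 : c * lam⁻¹ * lam⁻¹ = c := by rw [mul_assoc, h.sq, mul_one]
  rw [h3]
  exact hc e he

/-- `z ∈ N(E)` or `E^z ≤ F` -/
theorem dich [Finite X] (h : Sit T B K E F lam N) (z : X) :
    (∀ e, e ∈ E ↔ z * e * z⁻¹ ∈ E) ∨ ∀ e ∈ E, z * e * z⁻¹ ∈ F := by
  have hKn := h.Kn
  obtain ⟨k, hk, t, ht, rfl⟩ := mem_sup_of_normal_left.1 (h.gen ▸ mem_top z : z ∈ K ⊔ T)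
  have e1 : ∀ e, k * t * e * (k * t)⁻¹ = k * (t * e * t⁻¹) * k⁻¹ := fun e => by group
  have hKE : ∀ k ∈ K, ∀ e ∈ E, k * e * k⁻¹ ∈ E := by
    intro k hk e he
    obtain ⟨g, hg, f, hf, rfl⟩ := h.KEF k hk
    have h1 : g * f * e * (g * f)⁻¹ = g * e * g⁻¹ := by
      calc g * f * e * (g * f)⁻¹ = g * (f * e) * f⁻¹ * g⁻¹ := by group
        _ = g * (e * f) * f⁻¹ * g⁻¹ := by rw [h.cEF e he f hf]
        _ = _ := by group
    rw [h1]
    exact mul_mem (mul_mem hg he) (inv_mem hg)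
  rcases h.conj t ht with h1 | h1
  · left
    intro e
    rw [e1, T1_iff (h.mem_T1 ht h1) e]
    refine ⟨fun he => hKE k hk _ he, fun he => ?_⟩
    have h2 := hKE k⁻¹ (inv_mem hk) _ he
    have h3 : k⁻¹ * (k * (t * e * t⁻¹) * k⁻¹) * k⁻¹⁻¹ = t * e * t⁻¹ := by group
    rwa [h3] at h2
  · right
    intro e he
    rw [e1]
    exact h.F_normalK hk (h1 e he)

/-- two elements which centralise `F`, resp. `E` and normalise `E` -/
theorem comm_of [Finite X] (h : Sit T B K E F lam N) {d d' : X} (hd : d ∈ QN E N h.NN)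
    (hd' : ∀ e ∈ E, d' * e = e * d') : d * d' = d' * d := by
  have hd2 := (mem_QN.1 hd).1
  have hdF : ∀ f ∈ F, d * f = f * d := fun f hf => h.comm_F hd hf
  have hE' : ∀ e, e ∈ E ↔ d' * e * d'⁻¹ ∈ E := by
    intro e
    constructor
    · intro he
      rw [hd' e he, mul_inv_cancel_right]
      exact he
    · intro he
      have h1 := hd' _ he
      have h2 : e = d' * e * d'⁻¹ := by
        have h3 : d' * (d' * e * d'⁻¹) = d' * e := by rw [h1]; group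
        exact (mul_left_cancel h3).symm
      rw [h2]
      exact he
  have hc : (d' * d)⁻¹ * (d * d') ∈ centralizer (K : Set X) := by
    have hE : ∀ e ∈ E, (d' * d)⁻¹ * (d * d') * e = e * ((d' * d)⁻¹ * (d * d')) := by
      intro e he
      have h1 := hd' e he
      have h2 := hd' _ ((hd2 e).1 he)
      have h3 : d * d' * e * (d * d')⁻¹ = d' * d * e * (d' * d)⁻¹ := by
        calc d * d' * e * (d * d')⁻¹ = d * (d' * e) * d'⁻¹ * d⁻¹ := by group
          _ = d * (e * d') * d'⁻¹ * d⁻¹ := by rw [h1]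
          _ = (d * e * d⁻¹) * d' * d'⁻¹ := by group
          _ = d' * (d * e * d⁻¹) * d'⁻¹ := by rw [← h2]
          _ = _ := by group
      calc (d' * d)⁻¹ * (d * d') * e = (d' * d)⁻¹ * (d * d' * e * (d * d')⁻¹) * (d * d') := by group
        _ = (d' * d)⁻¹ * (d' * d * e * (d' * d)⁻¹) * (d * d') := by rw [h3]
        _ = _ := by group
    have hF : ∀ f ∈ F, (d' * d)⁻¹ * (d * d') * f = f * ((d' * d)⁻¹ * (d * d')) := by
      intro f hf
      have h1 := hdF f hf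
      have h2 := hdF _ (h.F_conj' hE' hf)
      have h3 : d * d' * f * (d * d')⁻¹ = d' * d * f * (d' * d)⁻¹ := by
        calc d * d' * f * (d * d')⁻¹ = d * (d' * f * d'⁻¹) * d⁻¹ := by group
          _ = (d' * f * d'⁻¹) * d * d⁻¹ := by rw [h2]
          _ = d' * (f * d) * d⁻¹ * d'⁻¹ := by group
          _ = d' * (d * f) * d⁻¹ * d'⁻¹ := by rw [h1]
          _ = _ := by group
      calc (d' * d)⁻¹ * (d * d') * f = (d' * d)⁻¹ * (d * d' * f * (d * d')⁻¹) * (d * d') := by group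
        _ = (d' * d)⁻¹ * (d' * d * f * (d' * d)⁻¹) * (d * d') := by rw [h3]
        _ = _ := by group
    rw [mem_centralizer_iff]
    intro k hk
    obtain ⟨e, he, f, hf, rfl⟩ := h.KEF k hk
    rw [mul_assoc e f, ← hF f hf, ← mul_assoc, ← hE e he, mul_assoc]
  rw [h.cen, mem_bot, inv_mul_eq_one] at hc
  exact hc.symm

end Sit

section quo

variable {T B K E F : Subgroup X} {lam : M} {N : Subgroup M} {X₁ : Type*} [Group X₁] {M₁ : Type*} [Group M₁]
  [MulDistribMulAction X₁ M₁] {a : YY T E →* X₁} {q : N →* M₁}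

/-- the kernel of `a` is a 2-group -/
theorem ker_two [Finite X] (hQ : Quo T K E F a) {y : YY T E} (hy : a y = 1) : ∃ k : ℕ, y ^ (2 ^ k) = 1 := by
  obtain ⟨e, he, t, ht, h1⟩ := hQ.exists_mul y.2
  have hEn : (E.subgroupOf (YY T E)).Normal := ⟨fun x hx g => by
    rw [mem_subgroupOf] at hx ⊢
    exact hQ.YY_conj g.2 hx⟩
  obtain ⟨k, hk⟩ := hQ.two ⟨t, ht.1⟩
  have hk' : t ^ (2 ^ k) = 1 := congrArg Subtype.val hk
  refine ⟨k, hQ.inj _ ?_ (by rw [map_pow, hy, one_pow])⟩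
  have h3 : (QuotientGroup.mk' (E.subgroupOf (YY T E))) (y ^ (2 ^ k)) = 1 := by
    have h0 : (QuotientGroup.mk' (E.subgroupOf (YY T E))) ⟨e, E_le_YY he⟩ = 1 :=
      (QuotientGroup.eq_one_iff _).2 (mem_subgroupOf.2 he)
    have h4 : y = ⟨e, E_le_YY he⟩ * ⟨t, T1_le_YY ht⟩ := Subtype.ext h1
    have h5 : (⟨t, T1_le_YY ht⟩ : YY T E) ^ (2 ^ k) = 1 := Subtype.ext hk'
    rw [map_pow, h4, map_mul, h0, one_mul, ← map_pow, h5, map_one]
  exact mem_subgroupOf.1 ((QuotientGroup.eq_one_iff _).1 h3)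

/-- the module data of the quotient -/
structure QDat (T K E F : Subgroup X) (a : YY T E →* X₁) (N : Subgroup M) (q : N →* M₁) : Prop extends Quo T K E F a where
  aq : ∀ (y : YY T E) (n n' : N), (n' : M) = (y : X) • (n : M) → q n' = a y • q n
  qker : ∀ n : N, q n = 1 ↔ ∀ e ∈ E, e • (n : M) = n

theorem mk_eq_iff (hQ : QDat T K E F a N q) {n n' : N} :
    q n' = q n ↔ ∀ e ∈ E, e • ((n' : M) * (n : M)⁻¹) = (n' : M) * (n : M)⁻¹ := by
  rw [← mul_inv_eq_one, ← map_inv, ← map_mul, hQ.qker]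
  rfl

/-- an element of `Y` which fixes `q n` and has `[M,y] ≤ N` fixes `lam` -/
theorem fix_lam [Finite X] (h : Sit T B K E F lam N) (hQ : QDat T K E F a N q) {n : N}
    (hc : ∀ e ∈ E, e • ((n : M) * lam⁻¹) = (n : M) * lam⁻¹) {y : YY T E} (hy : (y : X) ∈ QN E N h.NN)
    (hyn : a y • q n = q n) : (y : X) • lam = lam := by
  apply h.stab
  have hN : ((y : X) • lam) * lam⁻¹ ∈ N := (mem_QN.1 hy).2 lam
  have hyE := (mem_QN.1 hy).1
  have hn' : (y : X) • (n : M) ∈ N := h.NN _ (fun e he => (hyE e).1 he) _ n.2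
  have h1 := hQ.aq y n ⟨_, hn'⟩ rfl
  rw [hyn, mk_eq_iff hQ] at h1
  have h2 : ∀ e ∈ E, e • (((y : X) • lam) * lam⁻¹) = ((y : X) • lam) * lam⁻¹ := by
    intro e he
    have h3 := h1 e he
    have h4 : e • ((y : X) • ((n : M) * lam⁻¹)) = (y : X) • ((n : M) * lam⁻¹) := by
      have h5 : (y : X)⁻¹ * e * y ∈ E := by
        rw [hyE]
        have : (y : X) * ((y : X)⁻¹ * e * y) * (y : X)⁻¹ = e := by group
        rwa [this]
      have h6 := hc _ h5
      have h7 : e • ((y : X) • ((n : M) * lam⁻¹)) = (y : X) • (((y : X)⁻¹ * e * y) • ((n : M) * lam⁻¹)) := by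
        rw [← mul_smul, ← mul_smul]
        congr 1
        group
      rw [h7, h6]
    -- `y lam lam⁻¹ = (y n n⁻¹) (y c)⁻¹ c`
    have e1 : ((y : X) • lam) * lam⁻¹ =
        (((y : X) • (n : M)) * (n : M)⁻¹) * ((y : X) • ((n : M) * lam⁻¹))⁻¹ * ((n : M) * lam⁻¹) := by
      rw [smul_mul', smul_inv', mul_inv, inv_inv]
      have : ((y : X) • (n : M)) * (n : M)⁻¹ * (((y : X) • (n : M))⁻¹ * (y : X) • lam) * ((n : M) * lam⁻¹) =
          (((y : X) • (n : M)) * ((y : X) • (n : M))⁻¹) * ((n : M)⁻¹ * (n : M)) * (((y : X) • lam) * lam⁻¹) := by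
        ac_rfl
      rw [this, mul_inv_cancel, inv_mul_cancel, one_mul, one_mul]
    rw [e1, smul_mul', smul_mul', smul_inv', h4, hc e he]
    congr 2
  intro k hk
  obtain ⟨e, he, f, hf, rfl⟩ := h.KEF k hk
  rw [mul_smul, h.FN f hf _ hN, h2 e he]

/-- `x n n⁻¹ ∈ C_M(E)` for `x ∈ C_X(lam) ∩ N(E)` -/
theorem fix_n (h : Sit T B K E F lam N) {n : N} (hc : ∀ e ∈ E, e • ((n : M) * lam⁻¹) = (n : M) * lam⁻¹) {x : X}
    (hx : x • lam = lam) (hxE : ∀ e, e ∈ E ↔ x * e * x⁻¹ ∈ E) :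
    ∀ e ∈ E, e • ((x • (n : M)) * (n : M)⁻¹) = (x • (n : M)) * (n : M)⁻¹ := by
  intro e he
  have h4 : e • (x • ((n : M) * lam⁻¹)) = x • ((n : M) * lam⁻¹) := by
    have h5 : x⁻¹ * e * x ∈ E := by
      rw [hxE]
      have : x * (x⁻¹ * e * x) * x⁻¹ = e := by group
      rwa [this]
    have h6 := hc _ h5
    have h7 : e • (x • ((n : M) * lam⁻¹)) = x • ((x⁻¹ * e * x) • ((n : M) * lam⁻¹)) := by
      rw [← mul_smul, ← mul_smul]
      congr 1
      group
    rw [h7, h6]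
  have e1 : (x • (n : M)) * (n : M)⁻¹ = (x • ((n : M) * lam⁻¹)) * ((n : M) * lam⁻¹)⁻¹ := by
    rw [smul_mul', smul_inv', hx, mul_inv, inv_inv]
    have : (x • (n : M)) * lam⁻¹ * ((n : M)⁻¹ * lam) = ((x • (n : M)) * (n : M)⁻¹) * (lam⁻¹ * lam) := by ac_rfl
    rw [this, inv_mul_cancel, mul_one]
  rw [e1, smul_mul', smul_inv', h4, hc e he]

/-- `C_X(lam) ∩ N(E) ≤ F (Y ∩ a⁻¹(C(q n)))` -/
theorem exists_fy [Finite X] (h : Sit T B K E F lam N) (hQ : QDat T K E F a N q) {n : N}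
    (hc : ∀ e ∈ E, e • ((n : M) * lam⁻¹) = (n : M) * lam⁻¹) {x : X} (hx : x • lam = lam)
    (hxE : ∀ e, e ∈ E ↔ x * e * x⁻¹ ∈ E) : ∃ f ∈ F, ∃ y : YY T E, x = f * y ∧ a y • q n = q n := by
  have hKn := h.Kn
  obtain ⟨k, hk, t, ht, rfl⟩ := mem_sup_of_normal_left.1 (h.gen ▸ mem_top x : x ∈ K ⊔ T)
  obtain ⟨e, he, f, hf, rfl⟩ := h.KEF k hk
  have ht1 : t ∈ T1 T E := by
    rcases h.conj t ht with h1 | h1
    · exact h.mem_T1 ht h1
    · exfalso
      have hs := h.simple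
      obtain ⟨g, hg⟩ := exists_ne (1 : E)
      apply hg
      have h2 : e * f * t * g * (e * f * t)⁻¹ ∈ F := by
        have h3 : e * f * t * g * (e * f * t)⁻¹ = (e * f) * (t * g * t⁻¹) * (e * f)⁻¹ := by group
        rw [h3]
        exact h.F_normalK hk (h1 g g.2)
      have h3 := h.iEF _ ((hxE g).1 g.2) h2
      have h4 : (g : X) = 1 := by
        rw [mul_inv_eq_one] at h3
        exact mul_eq_left.1 h3
      exact Subtype.ext h4
  refine ⟨f, hf, ⟨e * t, mul_mem (E_le_YY he) (T1_le_YY ht1)⟩, ?_, ?_⟩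
  · show e * f * t = f * (e * t)
    rw [h.cEF e he f hf, mul_assoc]
  · have hn' : (e * t) • (n : M) ∈ N :=
      h.NN _ (fun g hg => (Sit.YY_iff (mul_mem (E_le_YY he) (T1_le_YY ht1)) g).1 hg) _ n.2
    rw [← hQ.aq ⟨e * t, mul_mem (E_le_YY he) (T1_le_YY ht1)⟩ n ⟨_, hn'⟩ rfl, mk_eq_iff hQ]
    have h1 := fix_n h hc hx hxE
    have h2 : (e * f * t) • (n : M) = (e * t) • (n : M) := by
      rw [h.cEF e he f hf, mul_assoc, mul_smul, h.FN f hf _ hn']
    rw [h2] at h1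
    exact h1

/-- **the elements `y` of `Y` with `[M,y] ≤ N` and `a y ∈ O₂(C_{X₁}(m₁))`** -/
def PP (hN : ∀ x : X, (∀ e ∈ E, x * e * x⁻¹ ∈ E) → ∀ n ∈ N, x • n ∈ N) (a : YY T E →* X₁) (m₁ : M₁) : Subgroup X :=
  QN E N hN ⊓ Quo.pre a (o2 (MulAction.stabilizer X₁ m₁))

theorem mem_PP {hN : ∀ x : X, (∀ e ∈ E, x * e * x⁻¹ ∈ E) → ∀ n ∈ N, x • n ∈ N} {m₁ : M₁} {x : X} :
    x ∈ PP hN a m₁ ↔ x ∈ QN E N hN ∧ ∃ y : YY T E, (y : X) = x ∧ a y ∈ o2 (MulAction.stabilizer X₁ m₁) := by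
  constructor
  · rintro ⟨hx, y, hy, rfl⟩
    exact ⟨hx, y, rfl, hy⟩
  · rintro ⟨hx, y, rfl, hy⟩
    exact ⟨hx, y, hy, rfl⟩

theorem PP_two [Finite X] (hQ : Quo T K E F a) {hN : ∀ x : X, (∀ e ∈ E, x * e * x⁻¹ ∈ E) → ∀ n ∈ N, x • n ∈ N}
    {m₁ : M₁} : IsPGroup 2 (PP hN a m₁) := by
  rintro ⟨x, hx⟩
  obtain ⟨-, y, rfl, hy⟩ := mem_PP.1 hx
  obtain ⟨k, hk⟩ := o2_isPGroup (MulAction.stabilizer X₁ m₁) ⟨a y, hy⟩
  have hk' : (a y) ^ (2 ^ k) = 1 := congrArg Subtype.val hk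
  rw [← map_pow] at hk'
  obtain ⟨l, hl⟩ := ker_two hQ hk'
  refine ⟨k + l, Subtype.ext ?_⟩
  show (y : X) ^ (2 ^ (k + l)) = 1
  rw [pow_add, pow_mul]
  exact congrArg Subtype.val hl

/-- `C_X(lam) ∩ N(E)` normalises `PP` -/
theorem PP_conj [Finite X] (h : Sit T B K E F lam N) (hQ : QDat T K E F a N q) {n : N}
    (hc : ∀ e ∈ E, e • ((n : M) * lam⁻¹) = (n : M) * lam⁻¹) {z : X} (hz : z • lam = lam)
    (hzE : ∀ e, e ∈ E ↔ z * e * z⁻¹ ∈ E) {x : X} (hx : x ∈ PP h.NN a (q n)) :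
    z * x * z⁻¹ ∈ PP h.NN a (q n) := by
  obtain ⟨f, hf, y, rfl, hy⟩ := exists_fy h hQ hc hz hzE
  obtain ⟨hx1, w, rfl, hw⟩ := mem_PP.1 hx
  have h1 : (y : X) * w * (y : X)⁻¹ ∈ QN E N h.NN := by
    have hyE := Sit.YY_iff y.2
    have hwE := (mem_QN.1 hx1).1
    refine mem_QN.2 ⟨fun e => ?_, fun m => ?_⟩
    · have e1 : (y : X) * w * (y : X)⁻¹ * e * ((y : X) * w * (y : X)⁻¹)⁻¹ =
          (y : X) * (w * ((y : X)⁻¹ * e * y) * (w : X)⁻¹) * (y : X)⁻¹ := by group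
      have e2 : (y : X) * ((y : X)⁻¹ * e * y) * (y : X)⁻¹ = e := by group
      rw [e1, ← hyE, ← hwE, hyE ((y : X)⁻¹ * e * y), e2]
    · have h3 := h.NN (y : X) (fun e he => (hyE e).1 he) _ ((mem_QN.1 hx1).2 ((y : X)⁻¹ • m))
      rw [smul_mul', smul_inv', smul_inv_smul] at h3
      rwa [mul_smul, mul_smul]
  have h2 : f * (y : X) * w * (f * (y : X))⁻¹ = (y : X) * w * (y : X)⁻¹ := by
    have h3 := h.comm_F h1 hf
    calc f * (y : X) * w * (f * (y : X))⁻¹ = f * ((y : X) * w * (y : X)⁻¹) * f⁻¹ := by group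
      _ = ((y : X) * w * (y : X)⁻¹) * f * f⁻¹ := by rw [h3]
      _ = _ := by group
  rw [h2]
  refine mem_PP.2 ⟨h1, y * w * y⁻¹, rfl, ?_⟩
  rw [map_mul, map_mul, map_inv]
  exact (mem_normalizer_iff.1 (le_normalizer_o2 _ (show a y ∈ MulAction.stabilizer X₁ (q n) from hy)) _).1 hw

theorem PP_fix [Finite X] (h : Sit T B K E F lam N) (hQ : QDat T K E F a N q) {n : N}
    (hc : ∀ e ∈ E, e • ((n : M) * lam⁻¹) = (n : M) * lam⁻¹) : PP h.NN a (q n) ≤ MulAction.stabilizer X lam := by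
  intro x hx
  obtain ⟨hx1, w, rfl, hw⟩ := mem_PP.1 hx
  exact fix_lam h hQ hc hx1 (o2_le _ hw)

/-- **`PP ≤ O₂(C_X(lam))`** -/
theorem PP_le [Finite X] (h : Sit T B K E F lam N) (hQ : QDat T K E F a N q) {n : N}
    (hc : ∀ e ∈ E, e • ((n : M) * lam⁻¹) = (n : M) * lam⁻¹) :
    PP h.NN a (q n) ≤ o2 (MulAction.stabilizer X lam) := by
  obtain ⟨Z, hZ⟩ : ∃ Z, Z = MulAction.stabilizer X lam := ⟨_, rfl⟩
  have hZm : ∀ z, z ∈ Z ↔ z • lam = lam := fun z => by rw [hZ]; rfl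
  obtain ⟨P, hP⟩ : ∃ P : Subgroup X, P = PP h.NN a (q n) := ⟨_, rfl⟩
  rw [← hZ, ← hP]
  have hPZ : P ≤ Z := by rw [hP, hZ]; exact PP_fix h hQ hc
  have hP2 : IsPGroup 2 P := by rw [hP]; exact PP_two hQ.toQuo
  -- two conjugates
  have hnorm1 : ∀ z ∈ Z, ∀ x ∈ cj z P, x ∈ normalizer (P : Set X) := by
    intro z hz x hx
    rcases h.dich z with h1 | h1
    · refine le_normalizer ?_
      have hx1 := mem_cj.1 hx
      rw [hP] at hx1 ⊢
      have h2 := PP_conj h hQ hc ((hZm z).1 hz) h1 hx1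
      have h3 : z * (z⁻¹ * x * z) * z⁻¹ = x := by group
      rwa [h3] at h2
    · -- `z⁻¹` moves `E` into `F`, too
      have h1' : ∀ e ∈ E, z⁻¹ * e * z ∈ F := by
        rcases h.dich z⁻¹ with h2 | h2
        · exfalso
          have hs := h.simple
          obtain ⟨g, hg⟩ := exists_ne (1 : E)
          apply hg
          have h3 := h1 g g.2
          have h4 : z * g * z⁻¹ ∈ E := by
            rw [h2]
            have : z⁻¹ * (z * g * z⁻¹) * z⁻¹⁻¹ = g := by group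
            rw [this]
            exact g.2
          have h5 := h.iEF _ h4 h3
          rw [mul_inv_eq_one] at h5
          exact Subtype.ext (mul_eq_left.1 h5)
        · intro e he
          have := h2 e he
          rwa [inv_inv] at this
      have hx1 := mem_cj.1 hx
      rw [hP] at hx1
      have hx2 := (mem_PP.1 hx1).1
      -- `x` centralises `E`
      have hxE : ∀ e ∈ E, x * e = e * x := by
        intro e he
        have h3 := h.comm_F hx2 (h1' e he)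
        calc x * e = z * ((z⁻¹ * x * z) * (z⁻¹ * e * z)) * z⁻¹ := by group
          _ = z * ((z⁻¹ * e * z) * (z⁻¹ * x * z)) * z⁻¹ := by rw [h3]
          _ = _ := by group
      have hcen : ∀ d ∈ P, d * x = x * d := by
        intro d hd
        rw [hP] at hd
        exact h.comm_of (mem_PP.1 hd).1 hxE
      rw [mem_normalizer_iff]
      intro d
      constructor
      · intro hd
        rw [← hcen d hd, mul_inv_cancel_right]
        exact hd
      · intro hd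
        have h3 := hcen _ hd
        have h4 : d = x * d * x⁻¹ := by
          have h5 : x * (x * d * x⁻¹) = x * d := by rw [← h3]; group
          exact (mul_left_cancel h5).symm
        rw [h4]
        exact hd
  have hnorm : ∀ z ∈ Z, ∀ z' ∈ Z, cj z' P ≤ normalizer (cj z P : Set X) := by
    intro z hz z' hz' x hx
    rw [normalizer_cj, mem_cj]
    apply hnorm1 (z⁻¹ * z') (mul_mem (inv_mem hz) hz')
    rw [mem_cj] at hx ⊢
    have : (z⁻¹ * z')⁻¹ * (z⁻¹ * x * z) * (z⁻¹ * z') = z'⁻¹ * x * z' := by group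
    rwa [this]
  let R : Subgroup X := ⨆ z : Z, cj (z : X) P
  have hRZ : R ≤ Z := by
    refine iSup_le fun z => ?_
    intro x hx
    have h1 := hPZ (mem_cj.1 hx)
    have h2 := mul_mem (mul_mem z.2 h1) (inv_mem z.2)
    have h3 : (z : X) * ((z : X)⁻¹ * x * z) * (z : X)⁻¹ = x := by group
    rwa [h3] at h2
  have hle : ∀ z : Z, cj (z : X) P ≤ R := fun z => le_iSup (fun z : Z => cj (z : X) P) z
  have hR2 : R ≤ o2 R := by
    refine iSup_le fun z => le_o2 (hle z) (hP2.map _) ?_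
    exact iSup_le fun z' => hnorm z z.2 z' z'.2
  have hRp : IsPGroup 2 R := (o2_isPGroup R).to_le hR2
  have hRn : Z ≤ normalizer (R : Set X) := by
    have key : ∀ z ∈ Z, R ≤ cj z⁻¹ R := by
      intro z hz
      refine iSup_le fun w => ?_
      rw [← cj_le_iff, cj_cj]
      exact hle ⟨z * w, mul_mem hz w.2⟩
    intro z hz
    rw [mem_normalizer_iff]
    intro x
    constructor
    · intro hx
      have h1 := mem_cj.1 (key z hz hx)
      rwa [inv_inv] at h1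
    · intro hx
      have h1 := mem_cj.1 (key z⁻¹ (inv_mem hz) hx)
      have h2 : z⁻¹⁻¹⁻¹ * (z * x * z⁻¹) * z⁻¹⁻¹ = x := by group
      rwa [h2] at h1
  have h1 : R ≤ o2 Z := le_o2 hRZ hRp hRn
  have h2 := (hle ⟨1, one_mem _⟩).trans h1
  rw [show ((⟨1, one_mem _⟩ : Z) : X) = 1 from rfl, cj_one] at h2
  exact h2

theorem im_cj {g : YY T E} (B : Subgroup X) : im a (cj (g : X) B) = cj (a g) (im a B) := by
  ext x
  rw [mem_im, mem_cj, mem_im]
  constructor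
  · rintro ⟨y, hy, rfl⟩
    refine ⟨g⁻¹ * y * g, mem_cj.1 hy, ?_⟩
    rw [map_mul, map_mul, map_inv]
  · rintro ⟨y, hy, h1⟩
    refine ⟨g * y * g⁻¹, ?_, ?_⟩
    · rw [mem_cj]
      have : (g : X)⁻¹ * ((g * y * g⁻¹ : YY T E) : X) * g = y := by
        rw [Subgroup.coe_mul, Subgroup.coe_mul, Subgroup.coe_inv]
        group
      rwa [this]
    · rw [map_mul, map_mul, map_inv, h1]
      group

/-- **a `Y`-conjugate `C` of `B` with `a(C) ≤ O₂(C_{X₁}(m₁))` lies in `O₂(C_X(lam))`** -/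
theorem cj_le [Finite X] (h : Sit T B K E F lam N) (hQ : QDat T K E F a N q) {n : N}
    (hc : ∀ e ∈ E, e • ((n : M) * lam⁻¹) = (n : M) * lam⁻¹) {g : YY T E}
    (hg : cj (a g) (im a B) ≤ o2 (MulAction.stabilizer X₁ (q n))) :
    cj (g : X) B ≤ o2 (MulAction.stabilizer X lam) := by
  refine le_trans ?_ (PP_le h hQ hc)
  intro x hx
  have hb := mem_cj.1 hx
  have hgE := Sit.YY_iff g.2
  have hbY : (g : X)⁻¹ * x * g ∈ YY T E := T1_le_YY (h.BE _ hb)
  have hxY : x ∈ YY T E := by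
    have h1 := mul_mem (mul_mem g.2 hbY) (inv_mem g.2)
    have h2 : (g : X) * ((g : X)⁻¹ * x * g) * (g : X)⁻¹ = x := by group
    rwa [h2] at h1
  refine mem_PP.2 ⟨mem_QN.2 ⟨Sit.YY_iff hxY, fun m => ?_⟩, ⟨x, hxY⟩, rfl, ?_⟩
  · have h3 := h.NN (g : X) (fun e he => (hgE e).1 he) _ (h.MB _ hb ((g : X)⁻¹ • m))
    rw [smul_mul', smul_inv', smul_inv_smul, ← mul_smul, ← mul_smul] at h3
    have h4 : (g : X) * ((g : X)⁻¹ * x * g) * (g : X)⁻¹ = x := by group
    rwa [h4] at h3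
  · apply hg
    rw [← im_cj]
    exact apply_mem_im (y := ⟨x, hxY⟩) hx

/-- **(LA) through RED.** -/
theorem la [Finite X] [Finite M] (h : Sit T B K E F lam N) (hQ : QDat T K E F a N q) (hla : LA X M T B lam) :
    ∃ (n : M) (hn : n ∈ N), (∀ e ∈ E, e • (n * lam⁻¹) = n * lam⁻¹) ∧
      LA X₁ M₁ (im a (T1 T E)) (im a B) (q ⟨n, hn⟩) := by
  have hKn := h.Kn
  obtain ⟨n, hn, hc⟩ := h.exists_n
  refine ⟨n, hn, hc, ?_, ?_, ?_⟩
  · rintro _ ⟨t, ht, rfl⟩
    have hn' : (t : X) • n ∈ N := h.NN _ (fun e he => (Sit.T1_iff ht e).1 he) _ hn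
    rw [← hQ.aq t ⟨n, hn⟩ ⟨_, hn'⟩ rfl, mk_eq_iff hQ]
    exact fix_n (n := ⟨n, hn⟩) h hc (h.fixT _ ht.1) (Sit.T1_iff ht)
  · intro h1
    have h2 := (hQ.qker _).1 h1
    have h3 : ∀ e ∈ E, e • lam = lam := by
      intro e he
      have h4 := hc e he
      rw [smul_mul', h2 e he, smul_inv', mul_right_inj, inv_inj] at h4
      exact h4
    apply h.ne
    have h4 : K ≤ MulAction.stabilizer X lam := h.KE.trans (by
      rw [closure_le]
      rintro _ ⟨t, ht, e, he, rfl⟩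
      show (t * e * t⁻¹) • lam = lam
      rw [mul_smul, mul_smul, h.fixT _ (inv_mem ht), h3 e he, h.fixT _ ht])
    rw [eq_top_iff, ← h.gen]
    exact sup_le h4 h.fixT
  · intro g₁ hg R hR hRt
    obtain ⟨g, rfl⟩ := hQ.surj g₁
    have h1 := cj_le (n := ⟨n, hn⟩) h hQ hc hg
    have h2 := hla.low g h1
    have hTs : T ≤ MulAction.stabilizer X lam := h.fixT
    have h3 : o2 (MulAction.stabilizer X lam) ≤ T := o2_le_of_sylow h.two fun h4 => h.syl (h4.trans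
      ⟨_, (relIndex_mul_index hTs).symm⟩)
    have h4 : cj (g : X) B ≤ T1 T E := by
      intro x hx
      refine ⟨h3 (h1 hx), ?_⟩
      have hb := mem_cj.1 hx
      have hbY : (g : X)⁻¹ * x * g ∈ YY T E := T1_le_YY (h.BE _ hb)
      have hxY : x ∈ YY T E := by
        have h1 := mul_mem (mul_mem g.2 hbY) (inv_mem g.2)
        have h2 : (g : X) * ((g : X)⁻¹ * x * g) * (g : X)⁻¹ = x := by group
        rwa [h2] at h1
      exact mem_normalizer_iff.2 (Sit.YY_iff hxY)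
    rw [← im_cj]
    exact hQ.low₁ h4 h2 hR hRt

end quo

end Cfsg.Agent.Omega.ML.Ex.RedLA
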