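import Cfsg.Agent.Omega.ML.Ex.RedFin

/-!
# `PsRed` (helper451, helper844)

`Cfsg.Agent.Omega.ML.Ex.psRed : MLK → PsRed` is in `RedFin.lean` (it uses `Red.Sc.la` of `RedLASc.lean`).
-/
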