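import Cfsg.Agent.Omega.ML.Ex.RedDef

/-!
# THEOREM RED (#21158), part (3): `B` normalises the components (helper592)

* `CmpG T K E` : the group theory of one component (the fields of `Cmp` without `Mn` and `BE`);
* `CmpG.wr` : for `T ∩ E ≤ P < E`, `P` invariant under `N_T(E)`: `W = ⋂ (P C_K(E))^t` and `WT < X`;
* **`CmpG.le_normalizer`** : low, `T` in two maximal subgroups ⟹ `B ≤ N(E)`.
-/

set_option autoImplicit false

namespace Cfsg.Agent.Omega.ML.Ex.Red

open Subgroup Cfsg Cfsg.Agent.Omega.NOThree.NoOver Cfsg.Agent.Omega.ML.CD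
open Cfsg.Agent.ZN (o2)
open Cfsg.Agent.ClassTwoFusion.Quad Cfsg.Agent.Omega.ML.MinFrame
open Cfsg.Agent.MinSimple.VModule (o2_isPGroup o2_le le_o2 le_normalizer_o2)

universe u v

/-- The group theory of one component. -/
structure CmpG {X : Type u} [Group X] (T K E : Subgroup X) : Prop where
  two : IsPGroup 2 T
  syl : ¬ 2 ∣ T.index
  odd : ∀ N : Subgroup X, N.Normal → Odd (Nat.card N) → N = ⊥
  normK : K.Normal
  cenK : centralizer (K : Set X) = ⊥
  gen : K ⊔ T = ⊤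
  EK : E ≤ K
  simple : IsSimpleGroup E
  nc : ¬ E ≤ centralizer (E : Set X)
  tcl : K ≤ tcl T E
  sup : E ⊔ (K ⊓ centralizer (E : Set X)) = K
  inf : E ⊓ centralizer (E : Set X) = ⊥
  conj : ∀ t ∈ T, t ∉ normalizer (E : Set X) → E.map (MulAut.conj t).toMonoidHom ≤ centralizer (E : Set X)

namespace CmpG

variable {X : Type u} [Group X] {T K E : Subgroup X}

/-- `C_K(E)` -/
abbrev F (K E : Subgroup X) : Subgroup X := K ⊓ centralizer (E : Set X)

theorem FK : F K E ≤ K := inf_le_left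

theorem comm {e f : X} (he : e ∈ E) (hf : f ∈ F K E) : e * f = f * e := mem_centralizer_iff.1 hf.2 e he

/-- `E ≤ N(F)` etc. -/
theorem mem_EF (h : CmpG T K E) {k : X} (hk : k ∈ K) : ∃ e ∈ E, ∃ f ∈ F K E, k = e * f := by
  rw [← h.sup] at hk
  refine sup_eq_mul ?_ hk
  intro f hf
  exact centralizer_le_normalizer _ hf.2

/-- the decomposition is unique -/
theorem unique (h : CmpG T K E) {e e' f f' : X} (he : e ∈ E) (he' : e' ∈ E) (hf : f ∈ F K E) (hf' : f' ∈ F K E)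
    (heq : e * f = e' * f') : e = e' ∧ f = f' := by
  have h1 : e'⁻¹ * e = f' * f⁻¹ := by
    have h2 : e'⁻¹ * (e * f) * f⁻¹ = e'⁻¹ * (e' * f') * f⁻¹ := by rw [heq]
    calc e'⁻¹ * e = e'⁻¹ * (e * f) * f⁻¹ := by group
      _ = e'⁻¹ * (e' * f') * f⁻¹ := h2
      _ = f' * f⁻¹ := by group
  have h2 : e'⁻¹ * e ∈ E ⊓ centralizer (E : Set X) :=
    ⟨E.mul_mem (E.inv_mem he') he, h1 ▸ Subgroup.mul_mem _ hf'.2 (Subgroup.inv_mem _ hf.2)⟩
  rw [h.inf, mem_bot] at h2
  have h3 : e = e' := (inv_mul_eq_one.1 h2).symm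
  refine ⟨h3, ?_⟩
  rw [h3] at heq
  exact mul_left_cancel heq

/-- `P C_K(E)` for `P ≤ E` -/
def PF (K E P : Subgroup X) : Subgroup X := P ⊔ F K E

theorem mem_PF {P : Subgroup X} (hP : P ≤ E) {k : X} : k ∈ PF K E P ↔ ∃ e ∈ P, ∃ f ∈ F K E, k = e * f := by
  constructor
  · intro hk
    refine sup_eq_mul ?_ hk
    intro f hf
    exact centralizer_le_normalizer _ (centralizer_le (SetLike.coe_subset_coe.2 hP) hf.2)
  · rintro ⟨e, he, f, hf, rfl⟩
    exact Subgroup.mul_mem _ (mem_sup_left he) (mem_sup_right hf)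

theorem PF_le (h : CmpG T K E) {P : Subgroup X} (hP : P ≤ E) : PF K E P ≤ K :=
  sup_le (hP.trans h.EK) FK

/-- `⋂ (P C_K(E))^t` -/
def W (T K E P : Subgroup X) : Subgroup X := ⨅ t : T, (PF K E P).map (MulAut.conj (t : X)).toMonoidHom

theorem W_le (P : Subgroup X) : W T K E P ≤ PF K E P := by
  refine (iInf_le _ (1 : T)).trans ?_
  rintro _ ⟨x, hx, rfl⟩
  simpa using hx

theorem mem_W {P : Subgroup X} {x : X} : x ∈ W T K E P ↔ ∀ t ∈ T, t⁻¹ * x * t ∈ PF K E P := by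
  constructor
  · intro hx t ht
    obtain ⟨y, hy, hyx⟩ := (mem_iInf.1 hx) ⟨t, ht⟩
    have h1 : t * y * t⁻¹ = x := hyx
    have h2 : t⁻¹ * x * t = y := by rw [← h1]; group
    rw [h2]
    exact hy
  · intro hx
    refine mem_iInf.2 fun t => ⟨(t : X)⁻¹ * x * t, hx t t.2, ?_⟩
    change (t : X) * ((t : X)⁻¹ * x * t) * (t : X)⁻¹ = x
    group

theorem T_le_normalizer_W (P : Subgroup X) : T ≤ normalizer (W T K E P : Set X) :=
  le_normalizer_of fun g hg x hx => mem_W.2 fun t ht => by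
    have h1 := mem_W.1 hx (g⁻¹ * t) (T.mul_mem (T.inv_mem hg) ht)
    have e : (g⁻¹ * t)⁻¹ * x * (g⁻¹ * t) = t⁻¹ * (g * x * g⁻¹) * t := by group
    rwa [e] at h1

/-- the `T`-conjugates of `F` -/
theorem eq_bot_of (h : CmpG T K E) {x : X} (hx : ∀ t ∈ T, t⁻¹ * x * t ∈ centralizer (E : Set X)) : x = 1 := by
  have h1 : x ∈ centralizer (K : Set X) := by
    have h2 : K ≤ centralizer ({x} : Set X) := by
      refine h.tcl.trans (tcl_le fun t ht => ?_)
      rintro _ ⟨e, he, rfl⟩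
      rw [mem_centralizer_singleton_iff]
      have h3 := mem_centralizer_iff.1 (hx t ht) e he
      change t * e * t⁻¹ * x = x * (t * e * t⁻¹)
      calc t * e * t⁻¹ * x = t * (e * (t⁻¹ * x * t)) * t⁻¹ := by group
        _ = t * ((t⁻¹ * x * t) * e) * t⁻¹ := by rw [h3]
        _ = x * (t * e * t⁻¹) := by group
    rw [mem_centralizer_iff]
    intro k hk
    exact mem_centralizer_singleton_iff.1 (h2 hk)
  rwa [h.cenK, mem_bot] at h1

variable [Finite X]

/-- a 2-subgroup of `K` which contains `T ∩ E` and is normalised by it: its projection is `T ∩ E` -/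
theorem le_PF (h : CmpG T K E) : T ⊓ K ≤ PF K E (T ⊓ E) := by
  have : Fact (Nat.Prime 2) := ⟨Nat.prime_two⟩
  -- `PP = E ∩ (T∩K)F`
  have hFn : T ⊓ K ≤ normalizer ((F K E : Subgroup X) : Set X) := by
    refine inf_le_right.trans ?_
    refine le_normalizer_of fun g hg x hx => ?_
    obtain ⟨e, he, f, hf, rfl⟩ := h.mem_EF hg
    have h1 : f * x * f⁻¹ ∈ F K E := Subgroup.mul_mem _ (Subgroup.mul_mem _ hf hx) (Subgroup.inv_mem _ hf)
    have h2 := comm he h1
    have h3 : e * f * x * (e * f)⁻¹ = f * x * f⁻¹ := by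
      calc e * f * x * (e * f)⁻¹ = e * (f * x * f⁻¹) * e⁻¹ := by group
        _ = (f * x * f⁻¹) * e * e⁻¹ := by rw [h2]
        _ = f * x * f⁻¹ := by group
    rw [h3]
    exact h1
  -- the projection
  let P : Subgroup X :=
    { carrier := {e | e ∈ E ∧ ∃ f ∈ F K E, e * f ∈ T}
      one_mem' := ⟨E.one_mem, 1, one_mem _, by rw [one_mul]; exact T.one_mem⟩
      mul_mem' := by
        rintro a b ⟨ha, f, hf, h1⟩ ⟨hb, g, hg, h2⟩
        refine ⟨E.mul_mem ha hb, f * g, Subgroup.mul_mem _ hf hg, ?_⟩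
        have h3 := comm hb hf
        have h4 : a * b * (f * g) = (a * f) * (b * g) := by
          calc a * b * (f * g) = a * (b * f) * g := by group
            _ = a * (f * b) * g := by rw [h3]
            _ = _ := by group
        rw [h4]
        exact T.mul_mem h1 h2
      inv_mem' := by
        rintro a ⟨ha, f, hf, h1⟩
        refine ⟨E.inv_mem ha, f⁻¹, Subgroup.inv_mem _ hf, ?_⟩
        have h3 := comm ha hf
        have h4 : a⁻¹ * f⁻¹ = (a * f)⁻¹ := by rw [h3, mul_inv_rev]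
        rw [h4]
        exact T.inv_mem h1 }
  have hP2 : IsPGroup 2 P := by
    rintro ⟨e, he, f, hf, h1⟩
    obtain ⟨k, hk⟩ := h.two ⟨_, h1⟩
    refine ⟨k, Subtype.ext ?_⟩
    have h2 : (e * f) ^ 2 ^ k = 1 := congrArg Subtype.val hk
    have h3 : Commute e f := comm he hf
    rw [h3.mul_pow] at h2
    have h4 : e ^ 2 ^ k ∈ E ⊓ centralizer (E : Set X) :=
      ⟨E.pow_mem he _, by rw [mul_eq_one_iff_eq_inv.1 h2]; exact Subgroup.inv_mem _ (Subgroup.pow_mem _ hf.2 _)⟩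
    rw [h.inf] at h4
    exact mem_bot.1 h4
  have hPE : P ≤ E := fun x hx => hx.1
  have hSP : T ⊓ E ≤ P := fun x hx => ⟨hx.2, 1, one_mem _, by rw [mul_one]; exact hx.1⟩
  -- `T ∩ E` is a Sylow subgroup of `E`
  have hEs : E.IsSubnormal := by
    have h1 : (E.subgroupOf K).Normal := (normal_subgroupOf_iff_le_normalizer h.EK).2 (by
      rw [← h.sup]
      exact sup_le le_normalizer fun f hf => centralizer_le_normalizer _ hf.2)
    exact IsSubnormal.trans h.EK h1.isSubnormal h.normK.isSubnormal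
  have h1 := not_dvd_relIndex_of_subnormal h.two h.syl hEs
  have hPS : P = T ⊓ E := by
    have h2 : IsPGroup 2 ((T ⊓ E).subgroupOf E) :=
      (h.two.to_le inf_le_left).comap_of_injective E.subtype E.subtype_injective
    have h3 : ¬ 2 ∣ ((T ⊓ E).subgroupOf E).index := by
      rw [← inf_relIndex_right] at h1
      exact h1
    have h4 := (h2.toSylow h3).is_maximal' (Q := P.subgroupOf E)
      (hP2.comap_of_injective E.subtype E.subtype_injective) (by
        intro x hx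
        exact hSP hx)
    apply le_antisymm _ hSP
    intro x hx
    have h5 : (⟨x, hx.1⟩ : E) ∈ P.subgroupOf E := hx
    rw [h4] at h5
    exact h5
  intro x hx
  obtain ⟨e, he, f, hf, rfl⟩ := h.mem_EF hx.2
  rw [mem_PF inf_le_right]
  refine ⟨e, ?_, f, hf, rfl⟩
  rw [← hPS]
  exact ⟨he, f, hf, hx.1⟩

/-- `WT ∩ K = W`, for `T ∩ E ≤ P` -/
theorem inf_W_sup (h : CmpG T K E) {P : Subgroup X} (hP : P ≤ E) (hTP : T ⊓ E ≤ P) :
    (W T K E P ⊔ T) ⊓ K ≤ W T K E P := by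
  rintro x ⟨hx, hxK⟩
  obtain ⟨w, hw, t, ht, rfl⟩ := sup_eq_mul (T_le_normalizer_W P) hx
  have hwK : w ∈ K := h.PF_le hP (W_le P hw)
  have htK : t ∈ K := by
    have h1 := K.mul_mem (K.inv_mem hwK) hxK
    rwa [inv_mul_cancel_left] at h1
  refine Subgroup.mul_mem _ hw (mem_W.2 fun s hs => ?_)
  have h1 : s⁻¹ * t * s ∈ T ⊓ K := ⟨T.mul_mem (T.mul_mem (T.inv_mem hs) ht) hs, by
    have := h.normK.conj_mem t htK s⁻¹
    rwa [inv_inv] at this⟩
  exact sup_le_sup_right hTP _ (h.le_PF h1)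

/-- `WT < X` for `P < E` -/
theorem sup_ne_top (h : CmpG T K E) {P : Subgroup X} (hP : P ≤ E) (hne : P ≠ E) (hTP : T ⊓ E ≤ P) :
    W T K E P ⊔ T ≠ ⊤ := by
  intro h1
  apply hne
  apply le_antisymm hP
  intro e he
  have h2 : e ∈ W T K E P := h.inf_W_sup hP hTP ⟨h1 ▸ mem_top e, h.EK he⟩
  obtain ⟨p, hp, f, hf, h3⟩ := (mem_PF hP).1 (W_le P h2)
  have h4 := (h.unique he (hP hp) (one_mem _) hf (by rw [mul_one]; exact h3)).1
  rwa [h4]

omit [Finite X] in
/-- `P ≤ W` if `P` is invariant under `N_T(E)` -/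
theorem le_W (h : CmpG T K E) {P : Subgroup X} (hP : P ≤ E)
    (hn : ∀ t ∈ T, t ∈ normalizer (E : Set X) → ∀ p ∈ P, t * p * t⁻¹ ∈ P) : P ≤ W T K E P := by
  intro x hx
  refine mem_W.2 fun t ht => ?_
  by_cases htE : t⁻¹ ∈ normalizer (E : Set X)
  · have h1 := hn _ (T.inv_mem ht) htE x hx
    rw [inv_inv] at h1
    exact mem_sup_left h1
  · have h1 : t⁻¹ * x * t ∈ centralizer (E : Set X) := by
      have h2 := h.conj _ (T.inv_mem ht) htE ⟨x, hP hx, rfl⟩
      have e : t⁻¹ * x * t⁻¹⁻¹ = t⁻¹ * x * t := by rw [inv_inv]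
      rw [← e]
      exact h2
    refine mem_sup_right ⟨?_, h1⟩
    have h2 := h.normK.conj_mem x (h.EK (hP hx)) t⁻¹
    rwa [inv_inv] at h2

/-- `E` is not a 2-group etc.: `K` is not of odd order -/
theorem inf_ne_bot (h : CmpG T K E) : T ⊓ E ≠ ⊥ := by
  have : Fact (Nat.Prime 2) := ⟨Nat.prime_two⟩
  intro h1
  -- `T ∩ K = 1`
  have h2 : T ⊓ K = ⊥ := by
    rw [eq_bot_iff]
    intro x hx
    rw [mem_bot]
    refine h.eq_bot_of fun t ht => ?_
    have h3 : t⁻¹ * x * t ∈ T ⊓ K := ⟨T.mul_mem (T.mul_mem (T.inv_mem ht) hx.1) ht, by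
      have := h.normK.conj_mem x hx.2 t⁻¹
      rwa [inv_inv] at this⟩
    obtain ⟨e, he, f, hf, h4⟩ := (mem_PF inf_le_right).1 (h.le_PF h3)
    rw [h1, mem_bot] at he
    rw [h4, he, one_mul]
    exact hf.2
  have h3 := not_dvd_relIndex_of_subnormal h.two h.syl h.normK.isSubnormal
  have h4 := h.odd K h.normK (odd_of_relIndex h3 h2)
  apply h.nc
  intro x hx
  have h5 := h.EK hx
  rw [h4, mem_bot] at h5
  rw [h5]
  exact one_mem _

/-- **(3a)** `T ∩ E ≤ P < E`, `P` invariant under `N_T(E)`, `b ∈ O₂(WT)` does not normalise `E`: `P = T ∩ E` -/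
theorem eq_of_not_mem (h : CmpG T K E) {P : Subgroup X} (hP : P ≤ E) (hTP : T ⊓ E ≤ P)
    (hn : ∀ t ∈ T, t ∈ normalizer (E : Set X) → ∀ p ∈ P, t * p * t⁻¹ ∈ P) {b : X} (hb : b ∈ o2 (W T K E P ⊔ T))
    (hbT : b ∈ T) (hbE : b ∉ normalizer (E : Set X)) : P = T ⊓ E := by
  have : Fact (Nat.Prime 2) := ⟨Nat.prime_two⟩
  have hcen := h.conj b hbT hbE
  -- `P` is a 2-group
  have hP2 : IsPGroup 2 P := by
    rintro ⟨x, hx⟩
    have hxR : x ∈ W T K E P ⊔ T := mem_sup_left (h.le_W hP hn hx)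
    have h1 : x⁻¹ * (b * x * b⁻¹) ∈ o2 (W T K E P ⊔ T) := by
      have h2 := conj_mem_of_le (le_normalizer_o2 (W T K E P ⊔ T)) (Subgroup.inv_mem _ hxR) hb
      have h3 := Subgroup.mul_mem _ h2 (Subgroup.inv_mem _ hb)
      have e : x⁻¹ * b * x⁻¹⁻¹ * b⁻¹ = x⁻¹ * (b * x * b⁻¹) := by group
      rwa [e] at h3
    obtain ⟨k, hk⟩ := o2_isPGroup _ ⟨_, h1⟩
    have hk1 : (x⁻¹ * (b * x * b⁻¹)) ^ 2 ^ k = 1 := congrArg Subtype.val hk
    have hbx : b * x * b⁻¹ ∈ centralizer (E : Set X) := hcen ⟨x, hP hx, rfl⟩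
    have hc : Commute x⁻¹ (b * x * b⁻¹) := Commute.inv_left (mem_centralizer_iff.1 hbx x (hP hx))
    rw [hc.mul_pow, inv_pow, inv_mul_eq_one] at hk1
    have h4 : x ^ 2 ^ k ∈ E ⊓ centralizer (E : Set X) := ⟨E.pow_mem (hP hx) _, hk1 ▸ Subgroup.pow_mem _ hbx _⟩
    rw [h.inf, mem_bot] at h4
    exact ⟨k, Subtype.ext h4⟩
  -- `T ∩ E` is a Sylow subgroup of `E`
  have hEs : E.IsSubnormal := by
    have h1 : (E.subgroupOf K).Normal := (normal_subgroupOf_iff_le_normalizer h.EK).2 (by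
      rw [← h.sup]
      exact sup_le le_normalizer fun f hf => centralizer_le_normalizer _ hf.2)
    exact IsSubnormal.trans h.EK h1.isSubnormal h.normK.isSubnormal
  have h1 := not_dvd_relIndex_of_subnormal h.two h.syl hEs
  have h2 : IsPGroup 2 ((T ⊓ E).subgroupOf E) :=
    (h.two.to_le inf_le_left).comap_of_injective E.subtype E.subtype_injective
  have h3 : ¬ 2 ∣ ((T ⊓ E).subgroupOf E).index := by
    rw [← inf_relIndex_right] at h1
    exact h1
  have h4 := (h2.toSylow h3).is_maximal' (Q := P.subgroupOf E)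
    (hP2.comap_of_injective E.subtype E.subtype_injective) (by
      intro x hx
      exact hTP hx)
  apply le_antisymm _ hTP
  intro x hx
  have h5 : (⟨x, hP hx⟩ : E) ∈ P.subgroupOf E := hx
  rw [h4] at h5
  exact h5

/-- **(3b)** if `T ∩ E` is the only `N_T(E)`-invariant subgroup `P`, `T ∩ E ≤ P < E`, then `T` is maximal in `X` -/
theorem eq_of_only (h : CmpG T K E) (hP : ∀ P : Subgroup X, P ≤ E → P ≠ E → T ⊓ E ≤ P →
    (∀ t ∈ T, t ∈ normalizer (E : Set X) → ∀ p ∈ P, t * p * t⁻¹ ∈ P) → P = T ⊓ E) {R : Subgroup X} (hTR : T ≤ R)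
    (hR : R ≠ ⊤) : R ≤ T := by
  have : Fact (Nat.Prime 2) := ⟨Nat.prime_two⟩
  -- the projection of `R ∩ K`
  let P : Subgroup X :=
    { carrier := {e | e ∈ E ∧ ∃ f ∈ F K E, e * f ∈ R}
      one_mem' := ⟨E.one_mem, 1, one_mem _, by rw [one_mul]; exact R.one_mem⟩
      mul_mem' := by
        rintro a b ⟨ha, f, hf, h1⟩ ⟨hb, g, hg, h2⟩
        refine ⟨E.mul_mem ha hb, f * g, Subgroup.mul_mem _ hf hg, ?_⟩
        have h3 := comm hb hf
        have h4 : a * b * (f * g) = (a * f) * (b * g) := by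
          calc a * b * (f * g) = a * (b * f) * g := by group
            _ = a * (f * b) * g := by rw [h3]
            _ = _ := by group
        rw [h4]
        exact R.mul_mem h1 h2
      inv_mem' := by
        rintro a ⟨ha, f, hf, h1⟩
        refine ⟨E.inv_mem ha, f⁻¹, Subgroup.inv_mem _ hf, ?_⟩
        have h3 := comm ha hf
        have h4 : a⁻¹ * f⁻¹ = (a * f)⁻¹ := by rw [h3, mul_inv_rev]
        rw [h4]
        exact R.inv_mem h1 }
  have hPE : P ≤ E := fun x hx => hx.1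
  have hSP : T ⊓ E ≤ P := fun x hx => ⟨hx.2, 1, one_mem _, by rw [mul_one]; exact hTR hx.1⟩
  have hcT : ∀ t ∈ T, t ∈ normalizer (E : Set X) → ∀ f ∈ F K E, t * f * t⁻¹ ∈ F K E := by
    intro t ht htE f hf
    refine ⟨h.normK.conj_mem f hf.1 t, mem_centralizer_iff.2 ?_⟩
    intro e he
    have h1 : t⁻¹ * e * t ∈ E := by
      have := (mem_normalizer_iff.1 (inv_mem htE) e).1 he
      rwa [inv_inv] at this
    have h2 := mem_centralizer_iff.1 hf.2 _ h1
    calc e * (t * f * t⁻¹) = t * ((t⁻¹ * e * t) * f) * t⁻¹ := by group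
      _ = t * (f * (t⁻¹ * e * t)) * t⁻¹ := by rw [h2]
      _ = t * f * t⁻¹ * e := by group
  have hPn : ∀ t ∈ T, t ∈ normalizer (E : Set X) → ∀ p ∈ P, t * p * t⁻¹ ∈ P := by
    rintro t ht htE p ⟨hp, f, hf, h1⟩
    refine ⟨(mem_normalizer_iff.1 htE p).1 hp, t * f * t⁻¹, hcT t ht htE f hf, ?_⟩
    have h2 := R.mul_mem (R.mul_mem (hTR ht) h1) (R.inv_mem (hTR ht))
    have e : t * (p * f) * t⁻¹ = t * p * t⁻¹ * (t * f * t⁻¹) := by group
    rwa [e] at h2
  by_cases hne : P = E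
  · -- `E ≤ R`
    exfalso
    apply hR
    have hER : E ≤ R := by
      -- `N = ⟨S₁^E⟩`
      have hsim := h.simple
      have hNn : ((R ⊓ E).subgroupOf E).Normal := by
        refine ⟨fun n hn g => ?_⟩
        have hg : ∀ g ∈ E, ∃ f ∈ F K E, g * f ∈ R := fun g hg => by
          have hg' : g ∈ P := by rw [hne]; exact hg
          exact hg'.2
        obtain ⟨f, hf, h1⟩ := hg g g.2
        refine ⟨?_, (g * n * g⁻¹ : E).2⟩
        have h2 := R.mul_mem (R.mul_mem h1 hn.1) (R.inv_mem h1)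
        have h3 := comm n.2 hf
        have e : (g : X) * f * n * ((g : X) * f)⁻¹ = g * n * (g : X)⁻¹ := by
          calc (g : X) * f * n * ((g : X) * f)⁻¹ = g * (f * n) * f⁻¹ * (g : X)⁻¹ := by group
            _ = g * (n * f) * f⁻¹ * (g : X)⁻¹ := by rw [h3]
            _ = g * n * (g : X)⁻¹ := by group
        change (g : X) * n * (g : X)⁻¹ ∈ R
        rw [← e]
        exact h2
      rcases hNn.eq_bot_or_eq_top with h1 | h1
      · exfalso
        apply h.inf_ne_bot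
        rw [eq_bot_iff]
        intro x hx
        have h2 : (⟨x, hx.2⟩ : E) ∈ (R ⊓ E).subgroupOf E := ⟨hTR hx.1, hx.2⟩
        rw [h1, mem_bot] at h2
        exact mem_bot.2 (congrArg Subtype.val h2)
      · intro x hx
        have h2 : (⟨x, hx⟩ : E) ∈ (R ⊓ E).subgroupOf E := h1 ▸ mem_top _
        exact h2.1
    rw [← top_le_iff, ← h.gen]
    refine sup_le (h.tcl.trans (tcl_le fun t ht => ?_)) hTR
    rintro _ ⟨x, hx, rfl⟩
    exact R.mul_mem (R.mul_mem (hTR ht) (hER hx)) (R.inv_mem (hTR ht))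
  · have hPS := hP P hPE hne hSP hPn
    -- `R ∩ K` is a 2-group
    have h2 : IsPGroup 2 (R ⊓ K : Subgroup X) := by
      rintro ⟨x, hx⟩
      -- a common power
      obtain ⟨n, hn⟩ := (IsPGroup.iff_card.1 (h.two.to_le (inf_le_left : T ⊓ E ≤ T)))
      refine ⟨n, Subtype.ext ?_⟩
      change x ^ 2 ^ n = 1
      refine h.eq_bot_of fun t ht => ?_
      have h1 : t⁻¹ * x * t ∈ R ⊓ K := ⟨R.mul_mem (R.mul_mem (R.inv_mem (hTR ht)) hx.1) (hTR ht), by
        have := h.normK.conj_mem x hx.2 t⁻¹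
        rwa [inv_inv] at this⟩
      obtain ⟨e, he, f, hf, h3⟩ := h.mem_EF h1.2
      have h4 : e ∈ P := ⟨he, f, hf, h3 ▸ h1.1⟩
      rw [hPS] at h4
      have h5 : e ^ 2 ^ n = 1 := by
        have h6 : (⟨e, h4⟩ : (T ⊓ E : Subgroup X)) ^ Nat.card (T ⊓ E : Subgroup X) = 1 := pow_card_eq_one'
        rw [hn] at h6
        exact congrArg Subtype.val h6
      have h6 : t⁻¹ * x ^ 2 ^ n * t = (t⁻¹ * x * t) ^ 2 ^ n := by
        have := conj_pow (a := t⁻¹) (b := x) (i := 2 ^ n)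
        rw [inv_inv] at this
        exact this.symm
      have h7 : Commute e f := comm he hf
      rw [h6, h3, h7.mul_pow, h5, one_mul]
      exact Subgroup.pow_mem _ hf.2 _
    -- `R = (R ∩ K) T`
    have h3 : R ≤ (R ⊓ K) ⊔ T := by
      intro x hx
      have h4 : x ∈ K ⊔ T := h.gen ▸ mem_top x
      have := h.normK
      obtain ⟨k, hk, t, ht, rfl⟩ := mem_sup_of_normal_left.1 h4
      refine Subgroup.mul_mem _ (mem_sup_left ⟨?_, hk⟩) (mem_sup_right ht)
      have h5 := R.mul_mem hx (R.inv_mem (hTR ht))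
      rwa [mul_inv_cancel_right] at h5
    have h4 : IsPGroup 2 ((R ⊓ K) ⊔ T : Subgroup X) := by
      refine h2.to_sup_of_normal_left' h.two ?_
      intro t ht
      exact ((le_normalizer_of fun g hg x hx => ⟨R.mul_mem (R.mul_mem (hTR hg) hx.1) (R.inv_mem (hTR hg)),
        h.normK.conj_mem x hx.2 g⟩) : T ≤ normalizer ((R ⊓ K : Subgroup X) : Set X)) ht
    have h5 := (h.two.toSylow h.syl).is_maximal' (Q := (R ⊓ K) ⊔ T) h4 (fun x hx => mem_sup_right hx)
    exact h3.trans h5.le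

/-- **(3)** `B` normalises `E`. -/
theorem le_normalizer (h : CmpG T K E) {B : Subgroup X} (low : ∀ R : Subgroup X, T ≤ R → R ≠ ⊤ → B ≤ o2 R)
    (nmax : ¬ ∃ L : Subgroup X, L ≠ ⊤ ∧ ∀ R : Subgroup X, T ≤ R → R ≠ ⊤ → R ≤ L) : B ≤ normalizer (E : Set X) := by
  have : Fact (Nat.Prime 2) := ⟨Nat.prime_two⟩
  intro b hb
  by_contra hbE
  by_cases hT : T = ⊤
  · apply nmax
    refine ⟨⊥, ?_, fun R h1 h2 => absurd (top_le_iff.1 (hT ▸ h1)) h2⟩
    intro h1
    apply h.nc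
    intro x _
    have h2 : x ∈ (⊥ : Subgroup X) := h1 ▸ mem_top x
    rw [mem_bot.1 h2]
    exact one_mem _
  · have hbT : b ∈ T := o2_le T (low T le_rfl hT hb)
    refine nmax ⟨T, hT, fun R h1 h2 => h.eq_of_only (fun P hP hne hTP hn => ?_) h1 h2⟩
    exact h.eq_of_not_mem hP hTP hn (low _ le_sup_right (h.sup_ne_top hP hne hTP) hb) hbT hbE

end CmpG

end Cfsg.Agent.Omega.ML.Ex.Red
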