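import Cfsg.Agent.Omega.ML.ExEx.SheetRow
import Cfsg.Agent.Omega.ML.Ex.DefN
import Cfsg.Agent.Omega.ML.Ex.SheetCo1
import Cfsg.Agent.KFacts.CoTwo.QuotInst
import Cfsg.Agent.KFacts.CoTwo.Sheets
import Cfsg.Agent.Co2Type.Setup

/-!
# K-list "exact + low": the row `Co2` (helper43)

The sheet of type (E) of `Co2` (helper902): `P = C(z) = 2^{1+8}.Sp6(2)`, `R = 2^{1+8}`, `n = 4`;
`|Sp6(2)| > |GL_k(2)|` for `k < 5`.
-/

set_option autoImplicit false

namespace Cfsg.Agent.Omega.ML.Ex.RowCo2E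

open Subgroup Cfsg Cfsg.Agent.KFacts
open Cfsg.Agent.Omega.Lie.Heis (LB)
open Cfsg.Agent.Omega.Lie.PairOrd
open Cfsg.Agent.Omega.ML.ExRec Cfsg.Agent.Omega.ML.Ex
open Cfsg.Agent.OddHalf.D8.Sheet Cfsg.Agent.OddHalf.D8.JTwo.Sheet
open Cfsg.Agent.Co2Type.TData Cfsg.Agent.Co2Type.FactsD
open Cfsg.Agent.KFacts.CoTwo.RSub Cfsg.Agent.KFacts.CoTwo.RLarge

universe u v w

/-- **LB** for `Sp6(2)` -/
theorem lb_Sp62 : LB.{0, u, v} CoTwo.Quot.Sp62 5 := by
  refine SheetCo1.lb_of_card_gt fun k hk => ?_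
  have h1 : ∀ k < 5, glc k < 1451520 := by decide +kernel
  have h2 : Nat.card CoTwo.Quot.Sp62 = 1451520 := Cfsg.Agent.Co2Type.Setup.card_sp6
  rw [h2]
  exact h1 k hk

/-- **the sheet** -/
theorem exists_sheet (S : Type w) [Group S] [Finite S] (h : Spor.IsoCo2 S) :
    ∃ (z : S) (P R : Subgroup S) (n : ℕ), SheetE z P R ∧ 2 ≤ n ∧ Nat.card R = 2 ^ (2 * n + 1) ∧
      TrivC.{u, v, w} (centralizer ({z} : Set S)) P n := by
  obtain ⟨e⟩ := h
  have hfin := Cfsg.Agent.Schreier.CoTwoStab.finite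
  obtain ⟨π, hs, hk⟩ := CoTwo.QuotInst.dataT.quot
  have hE := Cfsg.Agent.OddHalf.D8.SheetMap.sheetE_map e.symm (CoTwo.Sheets.sheets CoTwo.QuotInst.dataT).1
  have hX := of_sheetE hE
  obtain ⟨C, hC⟩ : ∃ C, C = centralizer ({ge mz} : Set Spor.Co2) := ⟨_, rfl⟩
  rw [← hC] at hE hX
  obtain ⟨ρ, hρs, hρk⟩ : ∃ ρ : C →* CoTwo.Quot.Sp62, Function.Surjective ρ ∧ ∀ c, ρ c = 1 ↔ (c : Spor.Co2) ∈ R := by
    subst hC
    exact ⟨π, hs, hk⟩
  obtain ⟨f, hf⟩ : ∃ f : C ≃* C.map e.symm.toMonoidHom, ∀ c, (f c : S) = e.symm c :=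
    ⟨C.equivMapOfInjective _ e.symm.injective, fun c => rfl⟩
  have hPC : C.map e.symm.toMonoidHom ≤ centralizer ({e.symm (ge mz)} : Set S) := by
    rintro _ ⟨c, hc, rfl⟩
    rw [mem_centralizer_singleton_iff]
    have h1 : c * ge mz = ge mz * c := by
      rw [hC] at hc
      exact mem_centralizer_singleton_iff.1 hc
    show e.symm c * e.symm (ge mz) = e.symm (ge mz) * e.symm c
    rw [← map_mul, h1, map_mul]
  have hk' : ∀ c, (ρ.comp f.symm.toMonoidHom) c = 1 ↔ (c : S) ∈ R.map e.symm.toMonoidHom := by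
    intro c
    obtain ⟨c, rfl⟩ := f.surjective c
    show ρ (f.symm (f c)) = 1 ↔ _
    rw [f.symm_apply_apply, hρk, hf]
    constructor
    · intro h1
      exact ⟨c, h1, rfl⟩
    · rintro ⟨q, hq, h1⟩
      rwa [← e.symm.injective h1]
  refine ⟨_, _, _, 4, hE, by norm_num, ?_, ?_⟩
  · have h1 : Nat.card (R.map e.symm.toMonoidHom) = Nat.card R :=
      (Nat.card_congr (R.equivMapOfInjective _ e.symm.injective).toEquiv).symm
    exact h1.trans card_R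
  · refine ExTriv.trivC_of_lb hPC hX.R2 hX.Rn hX.perf (ρ.comp f.symm.toMonoidHom) (hρs.comp f.symm.surjective)
      (fun x hx => (hk' x).2 hx) ?_ ?_ lb_Sp62
    · intro x hx y
      have h1 := (hk' x).1 hx
      have h2 := hX.Rn _ y.2 _ (Subgroup.inv_mem _ h1)
      have h3 := Subgroup.mul_mem _ h1 h2
      have h4 : (x : S) * ((y : S) * (x : S)⁻¹ * (y : S)⁻¹) = x * y * (x : S)⁻¹ * (y : S)⁻¹ := by group
      rwa [h4] at h3
    · have h1 : (ρ.comp f.symm.toMonoidHom).ker = (R.map e.symm.toMonoidHom).subgroupOf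
          (C.map e.symm.toMonoidHom) := by
        ext c
        rw [MonoidHom.mem_ker, hk', mem_subgroupOf]
      rw [h1, relIndex_self]
      exact odd_one

/-- **The row `Co2`.** (no atom, no `sub`) -/
theorem deadX : DeadX.{u, v} @Spor.IsoCo2 :=
  ExEx.SheetRow.deadX_of_sheet fun S _ _ hS => exists_sheet S hS

/-- the row for `InN` -/
theorem deadN : DeadN.{u, v} @Spor.IsoCo2 := DeadX.deadN deadX

end Cfsg.Agent.Omega.ML.Ex.RowCo2E
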