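import Cfsg.Agent.Omega.ML.Ex.Def
import Cfsg.Agent.Omega.ML.ExLow.NumX
import Cfsg.Agent.Omega.ML.RowFi22
import Cfsg.Agent.Omega.ML.RowHe

/-!
# Exact and low configurations: the numerical rows `Fi22` and `He` (helper114)

* `false_of_nx`, `deadX_of_nx` : the numerical criterion `NX` (`LB K n`, `|X| < 2 ^ n`) over `InX`;
* `fi22 : DeadX @Spor.IsoFi22` (`|M| ≥ 2 ^ 54`, `|H| < 2 ^ 47`);
* `he : DeadX @Spor.IsoHe` (`|M| ≥ 2 ^ 42`, `|H| < 2 ^ 33`).
-/

set_option autoImplicit false

namespace Cfsg.Agent.Omega.ML.Ex.RowFi22X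

open Subgroup Cfsg Cfsg.Agent.ClassTwoFusion.Quad Cfsg.Agent.Omega.NOThree.NoOver Cfsg.Agent.Omega.ML.CD
open Cfsg.Agent.Omega.ML.ExLow.NumX Cfsg.Agent.Omega.Lie

universe u v w

/-- a simple group which is not abelian is perfect -/
theorem perfect {K : Type u} [Group K] (hs : IsSimpleGroup K) (hc : ¬ ∀ a b : K, a * b = b * a) :
    _root_.commutator K = ⊤ := by
  rcases hs.eq_bot_or_eq_top_of_normal (_root_.commutator K) inferInstance with h | h
  · exfalso
    apply hc
    intro a b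
    rw [_root_.commutator_def, commutator_eq_bot_iff_le_centralizer] at h
    exact (mem_centralizer_iff.1 (h (mem_top a)) b (mem_top b)).symm
  · exact h

/-- `K` is not abelian -/
theorem not_comm {H : Type u} [Group H] {M : Type v} [Group M] [MulDistribMulAction H M] {K T A : Subgroup H}
    (h : InX H M K T A) : ¬ ∀ a b : K, a * b = b * a := by
  intro hc
  have h1 : K ≤ centralizer (K : Set H) := by
    intro x hx
    rw [mem_centralizer_iff]
    intro y hy
    exact congrArg Subtype.val (hc ⟨y, hy⟩ ⟨x, hx⟩)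
  rw [h.cen] at h1
  have hs := h.simple
  obtain ⟨x, hx⟩ := exists_ne (1 : K)
  exact hx (Subtype.ext (mem_bot.1 (h1 x.2)))

/-- `|M| = |A| |C_M(A)|` -/
theorem card_eq {H : Type u} [Group H] {M : Type v} [Group M] [MulDistribMulAction H M] {K T A : Subgroup H}
    (h : InX H M K T A) : Nat.card M = fo M A := by
  rw [fo, ← h.exact, mul_comm]
  exact ((cv M (A : Set H)).card_mul_index).symm

/-- **The numerical criterion.** -/
theorem false_of_nx {H : Type u} [Group H] [Finite H] {M : Type v} [Group M] [Finite M] [MulDistribMulAction H M]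
    {K T A : Subgroup H} (h : InX H M K T A) (hS : NX.{u, v} K) : False := by
  refine false_of h.norm h.simple (perfect h.simple (not_comm h)) h.cen h.sq ?_ h.el h.A_ne_bot (card_eq h).le hS
  by_contra hcon
  have h1 : ∀ k ∈ K, ∀ m : M, k • m = m := fun k hk m => not_mv hcon hk m
  have hs := h.simple
  obtain ⟨x, hx⟩ := exists_ne (1 : K)
  exact hx (Subtype.ext (h.faith x (h1 x x.2)))

/-- **The numerical criterion for a class.** -/
theorem deadX_of_nx {𝒮 : ∀ (S : Type u) [Group S], Prop}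
    (h : ∀ (S : Type u) [Group S] [Finite S], 𝒮 S → NX.{u, v} S) : DeadX.{u, v} 𝒮 :=
  fun _ _ _ _ _ _ _ K _ _ hI hS => false_of_nx hI (h K hS)

theorem nx_fi22 {S : Type u} [Group S] (hS : Spor.IsoFi22 S) : NX.{u, v} S := by
  refine NX.of_lt (n := 54) (b := 1) (RowFi22.lb hS) ?_ ?_
  · obtain ⟨e⟩ := hS
    exact RowFi22.outB e
  · obtain ⟨e⟩ := hS
    rw [Nat.card_congr e.toEquiv, RowFi22.isFi22.2]
    norm_num

/-- **The row `Fi22`.** -/
theorem fi22 : DeadX.{u, v} @Spor.IsoFi22 := deadX_of_nx fun _ _ _ hS => nx_fi22 hS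

theorem nx_he {S : Type u} [Group S] (hS : Spor.IsoHe S) : NX.{u, v} S := by
  refine NX.of_lt (n := 42) (b := 1) (RowHe.lb hS) (RowHe.outB hS) ?_
  rw [(TwoF.RowHe.card_of hS).2]
  norm_num

/-- **The row `He`.** -/
theorem he : DeadX.{u, v} @Spor.IsoHe := deadX_of_nx fun _ _ _ hS => nx_he hS

end Cfsg.Agent.Omega.ML.Ex.RowFi22X
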