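import Cfsg.Agent.Omega.ML.RowGTwoFive
import Cfsg.Agent.Omega.ML.ExLow.Dead

/-!
# K-list 'exact + low': `G₂(5)` (helper351)

`LB (G₂(5)) 100` (helper232 / helper351), 2-rank of `Aut` at most 6, `|G₂(5)| ≤ 2 ^ 40`: numerical.

* `nx : G₂(5) ≅ K → NX K`;  **`deadX : DeadX IsGTwoFive`**.
-/

set_option autoImplicit false

universe u v w

namespace Cfsg.Agent.Omega.ML.Ex.RowGTwoFiveX

open Cfsg Cfsg.Lie Cfsg.Agent.Omega.ML Cfsg.Agent.Omega.ML.RowGTwoFive Cfsg.Agent.Omega.ML.ExLow.NumX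
  Cfsg.Agent.Omega.Lie Cfsg.Agent.Omega.TwoF Cfsg.Agent.Omega.ML.Num

/-- **`G₂(5)`.** -/
theorem nx {K : Type u} [Group K] {F : Type} [Field F] [Fintype F] (h5 : Fintype.card F = 5)
    (e : K ≃* ↥(chevG2.group F)) : NX.{u, v} K := by
  have hp : Fact (Nat.Prime 5) := ⟨by norm_num⟩
  have hch : CharP F 5 := by
    have h1 : ((5 : ℕ) : F) = 0 := by
      rw [← h5]
      exact FiniteField.cast_card_eq_zero F
    exact (CharP.charP_iff_prime_eq_zero (by norm_num)).2 h1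
  have h2 : (2 : F) ≠ 0 := RowGTwo.two_ne (p := 5) Fact.out (by norm_num)
  have hs := (RowGTwo.simple' h2).1
  have hlb := lb.{0, u, v} (F := F) (by rw [Nat.card_eq_fintype_card, h5])
  rw [Nat.card_eq_fintype_card, h5] at hlb
  obtain ⟨hr6, hr4⟩ := RowGTwo.rk (F := F) (p := 5) Fact.out (by norm_num)
  refine NX.congr e hlb (CardB.of_out (OutB.of_rk (OddExcNum.rk_of_rk hr6)) ?_)
  have hc : Nat.card ↥(chevG2.group F) ≤ 2 ^ 40 := by
    refine GTwoTorus.card_le.trans ?_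
    rw [h5]
    norm_num
  calc Nat.card ↥(chevG2.group F) * 2 ^ 6 ≤ 2 ^ 40 * 2 ^ 6 := Nat.mul_le_mul_right _ hc
    _ < 2 ^ ((5 - 1) * 5 ^ 2) := by norm_num

/-- **The row `G₂(5)`, exact form.** -/
theorem deadX : DeadX.{u, v} (fun S _ => IsGTwoFive S) :=
  ExLow.Dead.deadX_of fun _ _ ⟨_, _, _, h5, ⟨e⟩⟩ => nx h5 e

end Cfsg.Agent.Omega.ML.Ex.RowGTwoFiveX
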