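import Cfsg.Agent.Omega.ML.Ex.Def
import Cfsg.Agent.Omega.ML.ExLow.NumX
import Cfsg.Agent.Omega.ML.RowHe
import Cfsg.Agent.Omega.ML.RowFi22

/-!
# The K-list for EXACT subgroups (EXL): the numerical rows `He`, `Fi22` (helper68)

* `InX.false_of_nx` : `NX K` is impossible in the situation `InX`;
* `deadX_he` (`LB 42`, `|He| ≤ 2 ^ 32`, `|Out| ≤ 2`), `deadX_fi22` (`LB 54`, `|Fi22| ≤ 2 ^ 46`, `|Out| ≤ 2`).
-/

set_option autoImplicit false

namespace Cfsg.Agent.Omega.ML.Ex.RowHeFiX

open Subgroup Cfsg Cfsg.Agent.Omega.ML.ExLow.NumX Cfsg.Agent.ClassTwoFusion.Quad Cfsg.Agent.Omega.ML.CD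

universe u v

open scoped commutatorElement

/-- `K` is perfect -/
theorem perfect {H : Type u} [Group H] {M : Type v} [Group M] [MulDistribMulAction H M] {K T A : Subgroup H}
    (h : InX H M K T A) : _root_.commutator K = ⊤ := by
  have hs := h.simple
  rcases hs.eq_bot_or_eq_top_of_normal (_root_.commutator K) inferInstance with h1 | h1
  · exfalso
    have h2 : K ≤ centralizer (K : Set H) := by
      intro x hx
      rw [mem_centralizer_iff]
      intro y hy
      have h3 : ⁅(⟨y, hy⟩ : K), (⟨x, hx⟩ : K)⁆ ∈ _root_.commutator K :=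
        commutator_mem_commutator (mem_top _) (mem_top _)
      rw [h1, mem_bot, commutatorElement_eq_one_iff_mul_comm] at h3
      exact congrArg Subtype.val h3
    rw [h.cen] at h2
    obtain ⟨x, hx⟩ := exists_ne (1 : K)
    exact hx (Subtype.ext (mem_bot.1 (h2 x.2)))
  · exact h1

/-- **The numerical criterion.** -/
theorem false_of_nx {H : Type u} [Group H] [Finite H] {M : Type v} [Group M] [Finite M] [MulDistribMulAction H M]
    {K T A : Subgroup H} (h : InX H M K T A) (hS : NX.{u, v} K) : False := by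
  refine false_of (A := A) h.norm h.simple (perfect h) h.cen h.sq ?_ h.el h.A_ne_bot ?_ hS
  · have hs := h.simple
    obtain ⟨x, hx⟩ := exists_ne (1 : K)
    by_contra hc
    unfold Mv at hc
    push Not at hc
    exact hx (Subtype.ext (h.faith x fun m => hc x x.2 m))
  · show Nat.card M ≤ Nat.card A * Nat.card (cv M (A : Set H))
    rw [← h.exact, mul_comm, card_mul_index]

/-- **The row `He`.** -/
theorem deadX_he : DeadX.{u, v} @Spor.IsoHe := by
  intro H _ _ M _ _ _ K T A h hS
  refine false_of_nx h (NX.of_card (n := 42) (b := 1) (N := 32) (RowHe.lb hS) (RowHe.outB hS) ?_ (by norm_num))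
  rw [(TwoF.RowHe.card_of hS).2]
  norm_num

/-- **The row `Fi22`.** -/
theorem deadX_fi22 : DeadX.{u, v} @Spor.IsoFi22 := by
  intro H _ _ M _ _ _ K T A h hS
  refine false_of_nx h (NX.of_card (n := 54) (b := 1) (N := 46) (RowFi22.lb hS) ?_ ?_ (by norm_num))
  · obtain ⟨e⟩ := hS
    exact RowFi22.outB e
  · obtain ⟨e⟩ := hS
    rw [Nat.card_congr e.toEquiv, RowFi22.isFi22.2]
    norm_num

end Cfsg.Agent.Omega.ML.Ex.RowHeFiX
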