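import Cfsg.Agent.Omega.ML.RowHe
import Cfsg.Agent.Omega.ML.ExLow.Dead

/-!
# K-list 'exact + low': the row `He` (helper10)

Numerical: `LB 42`, `|He| < 2 ^ 32`, `OutB 1`.
-/

set_option autoImplicit false

namespace Cfsg.Agent.Omega.ML.Ex.RowHeX

universe u v

open Cfsg.Agent.Omega.ML.ExLow

theorem nx {S : Type u} [Group S] (h : Cfsg.Spor.IsoHe S) : NumX.NX.{u, v} S := by
  refine NumX.NX.of_card (n := 42) (b := 1) (N := 32) (RowHe.lb h) (RowHe.outB h) ?_ (by norm_num)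
  rw [(TwoF.RowHe.card_of h).2]
  norm_num

/-- **The row `He`.** -/
theorem deadX : DeadX.{u, v} fun S _ => Cfsg.Spor.IsoHe S :=
  Dead.deadX_of fun _ _ h => nx h

end Cfsg.Agent.Omega.ML.Ex.RowHeX
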