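import Cfsg.Agent.Omega.ML.Ex.RkX
import Cfsg.Agent.Omega.ML.RowJ23

/-!
# Exact and low configurations: the group-theoretic rows J2, J3 over `ASx` (helper333)
-/

set_option autoImplicit false

namespace Cfsg.Agent.Omega.ML.Ex.RowJ23X

open Subgroup Cfsg Cfsg.Agent.OddHalf.D8.JTwo.Sheet Cfsg.Agent.Omega.ML.Rows

universe u

/-- **The row `J3`.** -/
theorem j3 : DeadGx.{u} 4 (fun S _ => Spor.IsoJ3 S) := by
  refine deadGx_of_sheet fun S _ _ hS => ?_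
  obtain ⟨z, Q, v, ρ, M, -, -, h⟩ := Cfsg.Agent.OddHalf.D8.RowJ3.sheet' S hS
  exact ⟨z, _, _, of_sheetE h, fun B hB hBe => Cfsg.Agent.Omega.TwoF.RowJ3.card_le_Q M B hB hBe⟩

/-- **The row `J2`.** -/
theorem j2 : DeadGx.{u} 4 (fun S _ => Spor.IsoJ2 S) := by
  refine deadGx_of_sheet fun S _ _ hS => ?_
  obtain ⟨t, u, Q, v, ρ, D⟩ := Cfsg.Agent.KFacts.J2.Facts.exists_dat_of hS
  exact ⟨t, _, _, Cfsg.Agent.KFacts.J2.SheetX.sheetX D, fun B hB hBe =>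
    Cfsg.Agent.Omega.TwoF.RowJ3.card_le_Q D.M B hB hBe⟩

end Cfsg.Agent.Omega.ML.Ex.RowJ23X
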