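import Cfsg.Agent.Omega.ML.Ex.RkX
import Cfsg.Agent.Omega.ML.RowMJ
import Cfsg.Agent.OddHalf.D4.Spor.J1Out

/-!
# Exact and low configurations: the group-theoretic rows M11 and J1 over `ASx` (helper333)
-/

set_option autoImplicit false

namespace Cfsg.Agent.Omega.ML.Ex.RowMJX

open Subgroup Cfsg Cfsg.Agent.ZN Cfsg.Agent.Omega.TwoF Cfsg.Agent.Omega.ML.Rows

universe u

/-- **The row `M11`.** -/
theorem m11 : DeadGx.{u} 4 (fun S _ => Spor.IsoM11 S) :=
  fun _ _ _ _ _ _ h hS => h.card_le_four_of_rk (RowMJ.M11.rk hS)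

theorem card_le_four_of_eight {X : Type u} [Group X] {S T A : Subgroup X} [Finite X] (h : ASx S T A) (htop : S = ⊤)
    (hsyl : ∀ Q : Sylow 2 S, Nat.card Q = 8 ∧ ∀ x ∈ (Q : Subgroup S), x * x = 1) : Nat.card A ≤ 4 := by
  have hp : Fact (Nat.Prime 2) := ⟨Nat.prime_two⟩
  by_cases hA : A = ⊥
  · rw [hA, card_bot]
    norm_num
  -- `T` is a Sylow subgroup of `S`
  have hT : Nat.card T = 8 := by
    have h1 : ¬ 2 ∣ (T.subgroupOf S).index := by
      intro h2
      have h3 : (T.subgroupOf S).index = T.index := by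
        rw [htop]
        exact relIndex_top_right T
      exact h.syl (h3 ▸ h2)
    have h2 : IsPGroup 2 (T.subgroupOf S) := h.two.comap_subtype
    have h3 := (hsyl (h2.toSylow h1)).1
    have h4 : Nat.card (T.subgroupOf S) = 8 := h3
    rw [← h4]
    exact (Nat.card_congr (subgroupOfEquivOfLe (htop ▸ le_top)).toEquiv).symm
  have h1 := h.two_mul_card_le hA
  omega

/-- **The row `J1`.** -/
theorem j1 : DeadGx.{u} 4 (fun S _ => Spor.IsoJ1 S) := by
  intro X _ _ S T A h hS
  have htop : S = ⊤ := h.top_of_inn fun α => by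
    obtain ⟨e⟩ := hS
    exact inner_of_equiv e Cfsg.Agent.OddHalf.D4.Spor.J1Out.inn α
  exact card_le_four_of_eight h htop (RowMJ.J1.syl hS)

end Cfsg.Agent.Omega.ML.Ex.RowMJX
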