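import Cfsg.Agent.Omega.ML.Ex.Gen
import Cfsg.Agent.Omega.ML.Ex.RkX
import Cfsg.Agent.Omega.ML.RowTits
import Cfsg.Agent.Omega.TwoF.TitsInv
import Cfsg.Agent.Omega.TwoF.TitsAut
import Cfsg.Agent.Omega.TwoF.RowTool
import Cfsg.Agent.TitsK.CentOdd
import Cfsg.Agent.TitsK.RankRK

/-!
# Exact and low configurations: the row of the Tits group (helper956)

`|A| ≤ 2^5`, both classes of involutions `x` of `K` invert elements of `5²` and satisfy `|M : C_M(x)| ≥ 2^6`.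
Neither `low` nor `nmax` nor `atom` is used.
-/

set_option autoImplicit false

namespace Cfsg.Agent.Omega.ML.Ex.RowTitsX

open Subgroup Cfsg Cfsg.Agent.ZN Cfsg.Agent.TitsK Cfsg.Agent.Omega.TwoF Cfsg.Agent.Omega.ML.Rows
open Cfsg.Agent.Omega.TwoF.Orb Cfsg.Agent.TitsK.Abs
open Cfsg.Agent.ClassTwoFusion.Quad

universe u v w

/-- the abstract core: every involution of `H` is conjugate to `u₁` or `u₂` -/
theorem exists_conj {H : Type u} [Group H] {K : Subgroup H} {G : Type v} [Group G] [Finite G] (D : TData G)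
    (three : ∀ g ∈ D.H, g ^ 3 = 1 → g * D.z * g⁻¹ = D.z → g = 1)
    (five : ∀ g ∈ D.H, g ^ 5 = 1 → g * D.d * g⁻¹ = D.d → g = 1)
    {φ : H →* G} (hφ : Function.Injective φ) (hT : ∀ t ∈ D.T, ∃ k ∈ K, φ k = t) (hK : ∀ k ∈ K, φ k ∈ D.T)
    (hH : ∀ x, φ x ∈ D.H) {u₁ u₂ : H} (hu₁ : u₁ ∈ K) (hu₂ : u₂ ∈ K) (h1 : u₁ * u₁ = 1) (h2 : u₂ * u₂ = 1)
    (h3 : u₁ ≠ 1) (h4 : u₂ ≠ 1) (h5 : ∃ g ∈ K, g ^ 5 = 1 ∧ g ≠ 1 ∧ g * u₁ = u₁ * g)
    (h6 : ∃ g ∈ K, g ^ 3 = 1 ∧ g ≠ 1 ∧ g * u₂ = u₂ * g) {x : H} (hx : x * x = 1) (hx1 : x ≠ 1) :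
    ∃ g : H, x = g * u₁ * g⁻¹ ∨ x = g * u₂ * g⁻¹ := by
  have hone : ∀ {y : H}, y ≠ 1 → φ y ≠ 1 := fun {y} hy h => hy (hφ (h.trans (map_one φ).symm))
  -- `φ x ∈ T`
  have hxT : φ x ∈ D.T := by
    have hp : IsPGroup 2 ↥(zpowers (φ x)) := by
      have h7 : (φ x) ^ 2 = 1 := by rw [pow_two, ← map_mul, hx, map_one]
      have : Fact (Nat.Prime 2) := ⟨Nat.prime_two⟩
      have ho : orderOf (φ x) = 2 := orderOf_eq_prime h7 (hone hx1)
      exact IsPGroup.of_card (n := 1) (by rw [Nat.card_zpowers, ho, pow_one])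
    obtain ⟨g, hg, h⟩ := exists_conj_sub D.U_le D.isPGroup_U D.odd_U
      (zpowers_le.2 (hH x) : zpowers (φ x) ≤ D.H) hp
    have h7 := h (φ x) (mem_zpowers _)
    have h8 : g * φ x * g⁻¹ * (g * φ x * g⁻¹) = 1 := by
      have e : g * φ x * g⁻¹ * (g * φ x * g⁻¹) = g * (φ x * φ x) * g⁻¹ := by group
      rw [e, ← map_mul, hx, map_one]
      group
    have h9 := D.no_outer _ h7 h8
    have h10 := D.T_conj g⁻¹ (inv_mem hg) _ h9
    have e : g⁻¹ * (g * φ x * g⁻¹) * g⁻¹⁻¹ = φ x := by group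
    rwa [e] at h10
  have hsq : ∀ {y : H}, y * y = 1 → φ y * φ y = 1 := fun {y} hy => by rw [← map_mul, hy, map_one]
  -- `u₁ ~ z`
  have hz : ∃ t ∈ D.T, t * φ u₁ * t⁻¹ = D.z := by
    rcases D.invol_cases (hK _ hu₁) (hsq h1) (hone h3) with h | ⟨t, ht, h⟩
    · exact h
    · exfalso
      obtain ⟨g, -, hg5, hg1, hgu⟩ := h5
      have h7 := five (t * φ g * t⁻¹) (D.H.mul_mem (D.H.mul_mem (D.T_le ht) (hH g)) (D.H.inv_mem (D.T_le ht)))
        (by rw [conj_pow, ← map_pow, hg5, map_one]; group) (by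
          rw [← h]
          have e1 : φ g * φ u₁ = φ u₁ * φ g := by rw [← map_mul, hgu, map_mul]
          calc t * φ g * t⁻¹ * (t * φ u₁ * t⁻¹) * (t * φ g * t⁻¹)⁻¹ = t * (φ g * φ u₁) * (φ g)⁻¹ * t⁻¹ := by group
            _ = t * φ u₁ * t⁻¹ := by rw [e1]; group)
      apply hone hg1
      have e : φ g = t⁻¹ * (t * φ g * t⁻¹) * t := by group
      rw [e, h7]
      group
  -- `u₂ ~ d`
  have hd : ∃ t ∈ D.T, t * φ u₂ * t⁻¹ = D.d := by
    rcases D.invol_cases (hK _ hu₂) (hsq h2) (hone h4) with ⟨t, ht, h⟩ | h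
    · exfalso
      obtain ⟨g, -, hg5, hg1, hgu⟩ := h6
      have h7 := three (t * φ g * t⁻¹) (D.H.mul_mem (D.H.mul_mem (D.T_le ht) (hH g)) (D.H.inv_mem (D.T_le ht)))
        (by rw [conj_pow, ← map_pow, hg5, map_one]; group) (by
          rw [← h]
          have e1 : φ g * φ u₂ = φ u₂ * φ g := by rw [← map_mul, hgu, map_mul]
          calc t * φ g * t⁻¹ * (t * φ u₂ * t⁻¹) * (t * φ g * t⁻¹)⁻¹ = t * (φ g * φ u₂) * (φ g)⁻¹ * t⁻¹ := by group
            _ = t * φ u₂ * t⁻¹ := by rw [e1]; group)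
      apply hone hg1
      have e : φ g = t⁻¹ * (t * φ g * t⁻¹) * t := by group
      rw [e, h7]
      group
    · exact h
  have key : ∀ {u : H} {y : G}, (∃ t ∈ D.T, t * φ u * t⁻¹ = y) → (∃ t ∈ D.T, t * φ x * t⁻¹ = y) →
      ∃ g : H, x = g * u * g⁻¹ := by
    rintro u y ⟨t, ht, h7⟩ ⟨s, hs, h8⟩
    obtain ⟨k, -, hk⟩ := hT _ (D.T.mul_mem (D.T.inv_mem hs) ht)
    refine ⟨k, hφ ?_⟩
    rw [map_mul, map_mul, map_inv, hk]
    have e : φ x = s⁻¹ * (s * φ x * s⁻¹) * s := by group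
    rw [e, h8, ← h7]
    group
  rcases D.invol_cases hxT (hsq hx) (hone hx1) with h | h
  · obtain ⟨g, hg⟩ := key hz h
    exact ⟨g, Or.inl hg⟩
  · obtain ⟨g, hg⟩ := key hd h
    exact ⟨g, Or.inr hg⟩

/-- **The row of the Tits group.** -/
theorem deadX : DeadX.{u, v} @Lie.IsoTits := by
  intro H _ _ M _ _ _ K T A h hS
  have hn := h.norm
  have hsim := h.simple
  have hA : Nat.card A ≤ 2 ^ 5 := h.asx.card_le_of_rk (RowTool.toRK (TitsAut.center_iso hS) (rk_five hS))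
  -- the two involutions
  obtain ⟨u₁, u₂, h1, h2, h3, h4, ⟨g₅, h5, h6, h7⟩, ⟨g₃, h8, h9, h10⟩, hB⟩ := TitsInv.invB.{u, v} hS
  -- the action
  let _ : CommGroup M := { ‹Group M› with mul_comm := h.comm }
  let φ : K →* MulAut M := (MulDistribMulAction.toMulAut H M).comp K.subtype
  have hφ : φ ≠ 1 := by
    intro hc
    obtain ⟨x, hx⟩ := exists_ne (1 : K)
    refine hx (Subtype.ext (h.faith x fun m => ?_))
    exact congrArg (fun e : MulAut M => e m) (DFunLike.congr_fun hc x)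
  obtain ⟨hb1, hb2⟩ := hB M φ (fun m => by rw [pow_two]; exact h.sq m) hφ
  have hfx : ∀ x : K, fx φ (zpowers x) = cv M ({(x : H)} : Set H) := by
    intro x
    ext m
    rw [mem_fx, mem_cv_singleton]
    constructor
    · intro hm
      exact hm x (mem_zpowers x)
    · intro hm
      have hz : zpowers (x : H) ≤ MulAction.stabilizer H m := by
        rw [zpowers_le]
        exact MulAction.mem_stabilizer_iff.2 hm
      rintro _ ⟨n, rfl⟩
      show ((x ^ n : K) : H) • m = m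
      have h11 : ((x ^ n : K) : H) ∈ zpowers (x : H) := ⟨n, rfl⟩
      exact MulAction.mem_stabilizer_iff.1 (hz h11)
  rw [hfx] at hb1 hb2
  -- an involution of `A`
  obtain ⟨x, hxA, hx1⟩ : ∃ x ∈ A, x ≠ 1 := by
    by_contra hc
    push Not at hc
    exact h.A_ne_bot ((eq_bot_iff_forall _).2 hc)
  -- the embedding
  obtain ⟨e⟩ := hS
  obtain ⟨e'⟩ := TitsK.exists_equiv
  have e₀ : ↥K ≃* ↥(tdata.T) := e.trans e'
  obtain ⟨ψ, hψ1, hψ2, hψ3⟩ := RowTits.exists_embed tdata hn e₀ h.cen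
  obtain ⟨g, hg⟩ := exists_conj (K := K) tdata (fun g hg h3 hz => three_z hg h3 hz) (fun g hg h5 hd => five_d hg h5 hd)
    hψ1 (fun t ht => ⟨e₀.symm ⟨t, ht⟩, (e₀.symm ⟨t, ht⟩).2, by rw [hψ2, e₀.apply_symm_apply]⟩)
    (fun k hk => by rw [hψ2 ⟨k, hk⟩]; exact (e₀ ⟨k, hk⟩).2) hψ3 (u₁ := (u₁ : H)) (u₂ := (u₂ : H)) u₁.2 u₂.2
    (by rw [← coe_mul, h1, coe_one]) (by rw [← coe_mul, h2, coe_one])
    (fun hc => h3 (Subtype.ext hc)) (fun hc => h4 (Subtype.ext hc))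
    ⟨g₅, g₅.2, by rw [← coe_pow, h5, coe_one], fun hc => h6 (Subtype.ext hc), by rw [← coe_mul, h7, coe_mul]⟩
    ⟨g₃, g₃.2, by rw [← coe_pow, h8, coe_one], fun hc => h9 (Subtype.ext hc), by rw [← coe_mul, h10, coe_mul]⟩
    (h.el x hxA) hx1
  have hle : (cv M ({x} : Set H)).index ≤ 2 ^ 5 := (Gen.index_le_card h hxA).trans hA
  have hge : 2 ^ 6 ≤ (cv M ({x} : Set H)).index := by
    rcases hg with hg | hg
    · rw [hg, InvFrob.index_cv_conj]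
      exact hb1
    · rw [hg, InvFrob.index_cv_conj]
      exact hb2
  omega

end Cfsg.Agent.Omega.ML.Ex.RowTitsX
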