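import Cfsg.Agent.Omega.ML.Ex.DFour.Model
import Cfsg.Agent.Omega.ML.Ex.Prin
import Cfsg.Agent.KFacts.TwDFour.Out
import Cfsg.Agent.Lib.FieldAutCard

/-!
# The row `³D₄(2)` of (EXL) (helper809, helper598)

THEOREM EX for exact `A` (`ExRow.Dat.exists_tr`) at the parabolic subgroup `2^{1+8}.SL₂(8)`: an element of order 9 of
`SL₂(8)` on modules of order at most 16 (`Ex/TrivNine.lean`), `Q = O₂(P)` is irreducible modulo `⟨z⟩` (`Ex/DFour/Core.lean`),
`z` is not a transvection (`Ex/NoTv.lean`).  Only `InX` is used.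

* `le_of_two` : `T ≤ K`;
* **`deadX_twD4_two`**.
-/

set_option autoImplicit false
set_option linter.unusedSectionVars false

namespace Cfsg.Agent.Omega.ML.Ex.RowTwDTwo

open Subgroup Cfsg Cfsg.Agent.ZN Cfsg.Agent.Omega.NOThree.NoOver Cfsg.Agent.Omega.ML.CD
open Cfsg.Agent.ClassTwoFusion.Quad Cfsg.Agent.Omega.ML.Ex.DFour
open Cfsg.Agent.MinSimple.VModule (o2_isPGroup o2_le le_o2 le_normalizer_o2)

universe u v w

/-- 2-subgroups of `N_H(K)`, `C_H(K) = 1`, are in `K` if `K` is `³D₄(2)` -/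
theorem le_of_two {H : Type u} [Group H] {K T : Subgroup H} (hK : K.Normal) (hc : centralizer (K : Set H) = ⊥)
    (hT : IsPGroup 2 T) {F : Type w} [Field F] [Fintype F] [CharP F 2] (hF : Fintype.card F = 2 ^ 3)
    (e : K ≃* ↥(Lie.twistedD4 F 2)) : T ≤ K := by
  have : Fact (Nat.Prime 2) := ⟨Nat.prime_two⟩
  let c : H →* MulAut K := MulAut.conjNormal
  obtain ⟨f, hf⟩ := KFacts.TwDFour.Out.exists_hom Nat.prime_two.isPrimePow hF e 2 (hT.map c)
  have h3 := Lib.FieldAutCard.card_ringAut (F := F) (p := 2) (f := 3) (by norm_num) hF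
  intro t ht
  have h4 : f ⟨c t, t, ht, rfl⟩ = 1 := by
    obtain ⟨k, hk⟩ := hT ⟨t, ht⟩
    have h5 : f ⟨c t, t, ht, rfl⟩ ^ (2 ^ k) = 1 := by
      rw [← map_pow]
      have h6 : (⟨c t, t, ht, rfl⟩ : T.map c) ^ 2 ^ k = 1 := by
        apply Subtype.ext
        change (c t) ^ 2 ^ k = 1
        rw [← map_pow]
        have h7 : t ^ 2 ^ k = 1 := congrArg Subtype.val hk
        rw [h7, map_one]
      rw [h6, map_one]
    have h6 : f ⟨c t, t, ht, rfl⟩ ^ 3 = 1 := by
      rw [← h3]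
      exact pow_card_eq_one'
    have h7 := orderOf_dvd_of_pow_eq_one h5
    have h8 := orderOf_dvd_of_pow_eq_one h6
    have h9 : Nat.Coprime (2 ^ k) 3 := Nat.Coprime.pow_left k (by norm_num)
    have h10 := Nat.eq_one_of_dvd_coprimes h9 h7 h8
    exact orderOf_eq_one_iff.1 h10
  obtain ⟨x, hx⟩ := (hf _).1 h4
  have h7 : (x : H)⁻¹ * t ∈ centralizer (K : Set H) := by
    rw [mem_centralizer_iff]
    intro y hy
    have h8 : (c t) ⟨y, hy⟩ = MulAut.conj x ⟨y, hy⟩ := by rw [← hx]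
    have h9 : t * y * t⁻¹ = x * y * (x : H)⁻¹ := congrArg Subtype.val h8
    calc y * ((x : H)⁻¹ * t) = (x : H)⁻¹ * (x * y * (x : H)⁻¹) * t := by group
      _ = (x : H)⁻¹ * (t * y * t⁻¹) * t := by rw [h9]
      _ = (x : H)⁻¹ * t * y := by group
  rw [hc, mem_bot, inv_mul_eq_one] at h7
  rw [← h7]
  exact x.2

/-- the contradiction in the model -/
theorem false_of_pk {Y : Type w} [Group Y] [Finite Y] {H : Type u} [Group H] [Finite H] {M : Type v} [Group M] [Finite M]
    [MulDistribMulAction H M] {K T A P Q U : Subgroup _} (h : InX H M K T A) (hP : Pk.{w, v} Y P Q U) (e : Y ≃* H) :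
    False := by
  have : Fact (Nat.Prime 2) := ⟨Nat.prime_two⟩
  let _ : MulDistribMulAction Y M := MulDistribMulAction.compHom M e.toMonoidHom
  have hsm : ∀ (y : Y) (m : M), y • m = e y • m := fun _ _ => rfl
  have hme : ∀ (B : Subgroup H) (y : Y), y ∈ B.comap e.toMonoidHom ↔ e y ∈ B := fun _ _ => Iff.rfl
  -- the Sylow subgroups
  have hT2 : IsPGroup 2 (T.comap e.toMonoidHom) := h.two.comap_of_injective _ e.injective
  have hTi : ¬ 2 ∣ (T.comap e.toMonoidHom).index := by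
    rw [index_comap_of_surjective _ e.surjective]
    exact h.syl
  obtain ⟨g, hg⟩ := MulAction.exists_smul_eq Y (hP.U2.toSylow hP.Ui) (hT2.toSylow hTi)
  have hUT : ∀ y, y ∈ T.comap e.toMonoidHom → g⁻¹ * y * g ∈ U := by
    intro y hy
    have h1 : y ∈ (hT2.toSylow hTi : Subgroup Y) := hy
    rw [← hg] at h1
    obtain ⟨x, hx, hxy⟩ := h1
    have h2 : g * x * g⁻¹ = y := hxy
    have h3 : x = g⁻¹ * y * g := by rw [← h2]; group
    rw [← h3]
    exact hx
  -- the overgroup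
  obtain ⟨R, hR⟩ : ∃ R : Subgroup H, ∀ y : Y, e y ∈ R ↔ g⁻¹ * y * g ∈ P := by
    refine ⟨(P.map (MulAut.conj g).toMonoidHom).map e.toMonoidHom, fun y => ?_⟩
    constructor
    · rintro ⟨_, ⟨p, hp, rfl⟩, hy⟩
      have h1 : g * p * g⁻¹ = y := e.injective hy
      rw [← h1]
      have h2 : g⁻¹ * (g * p * g⁻¹) * g = p := by group
      rwa [h2]
    · intro hy
      refine ⟨y, ⟨_, hy, ?_⟩, rfl⟩
      change g * (g⁻¹ * y * g) * g⁻¹ = y
      group
  have hTR : T ≤ R := by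
    intro t ht
    obtain ⟨y, rfl⟩ := e.surjective t
    rw [hR]
    exact hP.UP (hUT y ht)
  have hRt : R ≠ ⊤ := by
    intro h1
    apply hP.ne
    rw [eq_top_iff]
    intro p _
    have h2 := (hR (g * p * g⁻¹)).1 (h1 ▸ mem_top _)
    have h3 : g⁻¹ * (g * p * g⁻¹) * g = p := by group
    rwa [h3] at h2
  have hAR := h.low R hTR hRt
  -- `A` is in a conjugate of `Q`
  have hN : (o2 R).comap (e.toMonoidHom.comp (MulAut.conj g).toMonoidHom) ≤ Q := by
    refine hP.le _ ((o2_isPGroup R).comap_of_injective _ (e.injective.comp (MulAut.conj g).injective)) ?_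
    intro p hp x hx
    have h1 : e (g * x * g⁻¹) ∈ o2 R := hx
    have h2 : e (g * p * g⁻¹) ∈ R := by
      rw [hR]
      have h3 : g⁻¹ * (g * p * g⁻¹) * g = p := by group
      rwa [h3]
    have h3 := (mem_normalizer_iff.1 (le_normalizer_o2 R h2) _).1 h1
    rw [← map_inv, ← map_mul, ← map_mul] at h3
    have h4 : g * p * g⁻¹ * (g * x * g⁻¹) * (g * p * g⁻¹)⁻¹ = g * (p * x * p⁻¹) * g⁻¹ := by group
    rw [h4] at h3
    exact h3
  have hf := ls_fab (H := Y) M 1 1
  have hcA' : Nat.card (A.comap e.toMonoidHom) = Nat.card A :=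
    Nat.card_congr (e.toEquiv.subtypeEquiv fun y => Iff.rfl)
  have hfA : fab M 1 1 (A.comap e.toMonoidHom) = fab M 1 1 A := by
    have h1 : cv M ((A.comap e.toMonoidHom : Subgroup Y) : Set Y) = cv M (A : Set H) := by
      apply le_antisymm
      · intro m hm a ha
        obtain ⟨y, rfl⟩ := e.surjective a
        exact hm y ha
      · intro m hm y hy
        exact hm (e y) hy
    unfold fab
    rw [h1, hcA']
  have hcA : Nat.card (cj g⁻¹ (A.comap e.toMonoidHom)) = Nat.card A := by rw [Ratio.card_cj, hcA']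
  refine hP.fls M h.sq (fun y hy => ?_) (cj g⁻¹ (A.comap e.toMonoidHom)) ?_ ?_ ?_ ?_
  · have h1 := h.faith (e y) hy
    exact e.injective (by rw [h1, map_one])
  · intro x hx
    apply hN
    rw [mem_cj, inv_inv] at hx
    exact hAR hx
  · rw [hf.conj, hfA]
    have h1 := h.off.ge
    rw [CD.fab_bot] at h1 ⊢
    exact h1
  · intro x hx
    rw [mem_cj, inv_inv] at hx
    have h1 := h.el _ hx
    have h2 : g * x * g⁻¹ * (g * x * g⁻¹) = 1 := e.injective (by rw [map_mul, map_one]; exact h1)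
    have h3 : g * (x * x) * g⁻¹ = 1 := by
      rw [← h2]; group
    rw [mul_inv_eq_one] at h3
    exact mul_eq_left.1 h3
  · rw [hcA]
    have := h.four
    omega

/-- **`³D₄(2)`** -/
theorem deadX_twD4_two : DeadX.{u, v} fun S _ => ∃ (F : Type) (_ : Field F) (_ : Fintype F) (_ : CharP F 2),
    Fintype.card F = 2 ^ 3 ∧ Nonempty (S ≃* ↥(Lie.twistedD4 F 2)) := by
  rintro H _ _ M _ _ _ K T A h ⟨F, _, _, _, hF, ⟨e⟩⟩
  have hTK := le_of_two h.norm h.cen h.two hF e
  have hKt : K = ⊤ := by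
    rw [← h.gen]
    exact (sup_eq_left.2 hTK).symm
  obtain ⟨P, Q, U, hP⟩ := exists_pk.{0, v} (K := F) hF
  exact false_of_pk h hP ((e.symm.trans (MulEquiv.subgroupCongr hKt)).trans Subgroup.topEquiv)

end Cfsg.Agent.Omega.ML.Ex.RowTwDTwo
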