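import Cfsg.Agent.Omega.ML.Rows

/-!
# Passage to one component: the group theory of (low) and (nmax) (#21158 (3), (7); helper844)

`K = E F` normal in `X = K T`, `[E, F] = 1 = E ∩ F`, `F = C_K(E)`, `E` simple, the `T`-conjugates of `E` generate `K` and the
others lie in `F`; `T₁ := N_T(E)`.

* `Cp` : this situation;  `AF A` : the elements `a f`, `a ∈ A`;  `hat A` : the intersection of the `T`-conjugates of `A F`;
* `pr_le` : the projection of `T ∩ K` to `E` is `T ∩ E`;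
* `hat_inf`, `le_hat`, `tk_le_hat`, `sup_inf_eq`, `sup_ne_top` : `hat A ∩ E = A`, `hat A T < X` for `T₁`-invariant
  `T ∩ E ≤ A < E`;
* **`low_of`** (low) : `B ≤ O₂(R)` for all `T ≤ R < X` gives `B ≤ O₂(A T₁)` for all those `A`;
* **`exists_max`** (nmax) : if all those `A` lie in one of them, then `T` is in a unique maximal subgroup of `X`.
-/

set_option autoImplicit false

namespace Cfsg.Agent.Omega.ML.Ex.SecLow

open Subgroup Cfsg Cfsg.Agent.ZN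
open Cfsg.Agent.MinSimple.VModule (o2_isPGroup o2_le le_o2 le_normalizer_o2)

variable {X : Type*} [Group X]

/-- The situation. -/
structure Cp (T K E F : Subgroup X) : Prop where
  two : IsPGroup 2 T
  Kn : K.Normal
  gen : K ⊔ T = ⊤
  sylE : ¬ 2 ∣ (T ⊓ E).relIndex E
  EK : E ≤ K
  FK : F ≤ K
  KEF : ∀ k ∈ K, ∃ e ∈ E, ∃ f ∈ F, k = e * f
  cEF : ∀ e ∈ E, ∀ f ∈ F, e * f = f * e
  iEF : ∀ e ∈ E, e ∈ F → e = 1
  cF : ∀ x ∈ K, (∀ e ∈ E, x * e = e * x) → x ∈ F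
  conj : ∀ t ∈ T, (∀ e ∈ E, t * e * t⁻¹ ∈ E) ∨ ∀ e ∈ E, t * e * t⁻¹ ∈ F
  KE : K ≤ closure {x | ∃ t ∈ T, ∃ e ∈ E, x = t * e * t⁻¹}
  simple : IsSimpleGroup E
  nt : T ⊓ E ≠ ⊥

/-- `N_T(E)` -/
def T1 (T E : Subgroup X) : Subgroup X := T ⊓ normalizer (E : Set X)

theorem T1_conj {T E : Subgroup X} {t : X} (ht : t ∈ T1 T E) {e : X} (he : e ∈ E) : t * e * t⁻¹ ∈ E :=
  (mem_normalizer_iff.1 ht.2 e).1 he

namespace Cp

variable {T K E F : Subgroup X}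

theorem mem_T1 [Finite X] (_h : Cp T K E F) {t : X} (ht : t ∈ T) (h1 : ∀ e ∈ E, t * e * t⁻¹ ∈ E) : t ∈ T1 T E := by
  refine ⟨ht, ?_⟩
  have h2 : E.map (MulAut.conj t).toMonoidHom = E := by
    apply Subgroup.eq_of_le_of_card_ge
    · rintro _ ⟨e, he, rfl⟩
      exact h1 e he
    · rw [card_map_of_injective (MulAut.conj t).injective]
  refine mem_normalizer_iff.2 ?_
  intro x
  refine ⟨h1 x, fun hx => ?_⟩
  have h3 : t * x * t⁻¹ ∈ E.map (MulAut.conj t).toMonoidHom := by rw [h2]; exact hx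
  obtain ⟨e, he, he2⟩ := h3
  have h4 : e = x := (MulAut.conj t).injective he2
  exact h4 ▸ he

/-- `F` is normalised by `T₁` -/
theorem F_conj (h : Cp T K E F) {t : X} (ht : t ∈ T1 T E) {f : X} (hf : f ∈ F) : t * f * t⁻¹ ∈ F := by
  refine h.cF _ (h.Kn.conj_mem f (h.FK hf) t) ?_
  intro e he
  have h1 : t⁻¹ * e * t ∈ E := by
    have := T1_conj (inv_mem ht) he
    rwa [inv_inv] at this
  calc t * f * t⁻¹ * e = t * (f * (t⁻¹ * e * t)) * t⁻¹ := by group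
    _ = t * ((t⁻¹ * e * t) * f) * t⁻¹ := by rw [h.cEF _ h1 f hf]
    _ = e * (t * f * t⁻¹) := by group

/-- the elements `a f` -/
def AF (h : Cp T K E F) (A : Subgroup X) (hA : A ≤ E) : Subgroup X where
  carrier := {x | ∃ a ∈ A, ∃ f ∈ F, x = a * f}
  one_mem' := ⟨1, one_mem _, 1, one_mem _, by rw [mul_one]⟩
  mul_mem' := by
    rintro _ _ ⟨a, ha, f, hf, rfl⟩ ⟨b, hb, g, hg, rfl⟩
    refine ⟨a * b, mul_mem ha hb, f * g, mul_mem hf hg, ?_⟩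
    calc a * f * (b * g) = a * (f * b) * g := by group
      _ = a * (b * f) * g := by rw [h.cEF b (hA hb) f hf]
      _ = _ := by group
  inv_mem' := by
    rintro _ ⟨a, ha, f, hf, rfl⟩
    refine ⟨a⁻¹, inv_mem ha, f⁻¹, inv_mem hf, ?_⟩
    rw [h.cEF a (hA ha) f hf, mul_inv_rev]

theorem mem_AF {h : Cp T K E F} {A : Subgroup X} {hA : A ≤ E} {x : X} :
    x ∈ h.AF A hA ↔ ∃ a ∈ A, ∃ f ∈ F, x = a * f := Iff.rfl

/-- the intersection of the `T`-conjugates of `A F` -/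
def hat (h : Cp T K E F) (A : Subgroup X) (hA : A ≤ E) : Subgroup X where
  carrier := {x | ∀ t ∈ T, t * x * t⁻¹ ∈ h.AF A hA}
  one_mem' := fun t _ => by rw [mul_one, mul_inv_cancel]; exact one_mem _
  mul_mem' := fun {x y} hx hy t ht => by
    have h1 : t * (x * y) * t⁻¹ = (t * x * t⁻¹) * (t * y * t⁻¹) := by group
    rw [h1]
    exact mul_mem (hx t ht) (hy t ht)
  inv_mem' := fun {x} hx t ht => by
    have h1 : t * x⁻¹ * t⁻¹ = (t * x * t⁻¹)⁻¹ := by group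
    rw [h1]
    exact inv_mem (hx t ht)

theorem mem_hat {h : Cp T K E F} {A : Subgroup X} {hA : A ≤ E} {x : X} :
    x ∈ h.hat A hA ↔ ∀ t ∈ T, t * x * t⁻¹ ∈ h.AF A hA := Iff.rfl

theorem hat_le_AF (h : Cp T K E F) {A : Subgroup X} (hA : A ≤ E) : h.hat A hA ≤ h.AF A hA := fun x hx => by
  have := hx 1 (one_mem _)
  rwa [one_mul, inv_one, mul_one] at this

theorem AF_le (h : Cp T K E F) {A : Subgroup X} (hA : A ≤ E) : h.AF A hA ≤ K := by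
  rintro _ ⟨a, ha, f, hf, rfl⟩
  exact mul_mem (h.EK (hA ha)) (h.FK hf)

theorem hat_conj (h : Cp T K E F) {A : Subgroup X} (hA : A ≤ E) {t : X} (ht : t ∈ T) {x : X} (hx : x ∈ h.hat A hA) :
    t * x * t⁻¹ ∈ h.hat A hA := by
  intro s hs
  have h1 : s * (t * x * t⁻¹) * s⁻¹ = (s * t) * x * (s * t)⁻¹ := by group
  rw [h1]
  exact hx _ (mul_mem hs ht)

/-- `A F ∩ E = A` -/
theorem mem_of_AF (h : Cp T K E F) {A : Subgroup X} (hA : A ≤ E) {x : X} (hx : x ∈ h.AF A hA) (hxE : x ∈ E) : x ∈ A := by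
  obtain ⟨a, ha, f, hf, rfl⟩ := hx
  have h1 : f ∈ E := by
    have := mul_mem (inv_mem (hA ha)) hxE
    rwa [inv_mul_cancel_left] at this
  rw [h.iEF f h1 hf, mul_one]
  exact ha

theorem le_hat [Finite X] (h : Cp T K E F) {A : Subgroup X} (hA : A ≤ E)
    (hT : ∀ t ∈ T1 T E, ∀ a ∈ A, t * a * t⁻¹ ∈ A) : A ≤ h.hat A hA := by
  intro a ha t ht
  rcases h.conj t ht with h1 | h1
  · exact ⟨_, hT t (h.mem_T1 ht h1) a ha, 1, one_mem _, (mul_one _).symm⟩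
  · exact ⟨1, one_mem _, _, h1 a (hA ha), (one_mul _).symm⟩

/-- the projection of `R ∩ K` to `E` -/
def pr (h : Cp T K E F) (R : Subgroup X) : Subgroup X where
  carrier := {e | e ∈ E ∧ ∃ f ∈ F, e * f ∈ R}
  one_mem' := ⟨one_mem _, 1, one_mem _, by rw [mul_one]; exact one_mem _⟩
  mul_mem' := by
    rintro e e' ⟨he, f, hf, h1⟩ ⟨he', f', hf', h2⟩
    refine ⟨mul_mem he he', f * f', mul_mem hf hf', ?_⟩
    have h3 : e * e' * (f * f') = (e * f) * (e' * f') := by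
      calc e * e' * (f * f') = e * (e' * f) * f' := by group
        _ = e * (f * e') * f' := by rw [h.cEF e' he' f hf]
        _ = _ := by group
    rw [h3]
    exact mul_mem h1 h2
  inv_mem' := by
    rintro e ⟨he, f, hf, h1⟩
    refine ⟨inv_mem he, f⁻¹, inv_mem hf, ?_⟩
    have h3 : e⁻¹ * f⁻¹ = (e * f)⁻¹ := by
      rw [h.cEF e he f hf, mul_inv_rev]
    rw [h3]
    exact inv_mem h1

theorem pr_le_E (h : Cp T K E F) (R : Subgroup X) : h.pr R ≤ E := fun _ he => he.1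

theorem inf_le_pr (h : Cp T K E F) (R : Subgroup X) : R ⊓ E ≤ h.pr R := fun e he =>
  ⟨he.2, 1, one_mem _, by rw [mul_one]; exact he.1⟩

theorem le_AF_pr (h : Cp T K E F) (R : Subgroup X) : R ⊓ K ≤ h.AF (h.pr R) (h.pr_le_E R) := by
  rintro x ⟨hxR, hxK⟩
  obtain ⟨e, he, f, hf, rfl⟩ := h.KEF x hxK
  exact ⟨e, ⟨he, f, hf, hxR⟩, f, hf, rfl⟩

theorem pr_conj (h : Cp T K E F) {R : Subgroup X} (hR : T ≤ R) : ∀ t ∈ T1 T E, ∀ a ∈ h.pr R, t * a * t⁻¹ ∈ h.pr R := by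
  rintro t ht a ⟨ha, f, hf, h1⟩
  refine ⟨T1_conj ht ha, t * f * t⁻¹, h.F_conj ht hf, ?_⟩
  have h2 : t * a * t⁻¹ * (t * f * t⁻¹) = t * (a * f) * t⁻¹ := by group
  rw [h2]
  exact mul_mem (mul_mem (hR ht.1) h1) (inv_mem (hR ht.1))

/-- the projection of `T ∩ K` is `T ∩ E` -/
theorem pr_T [Finite X] (h : Cp T K E F) : h.pr T ≤ T ⊓ E := by
  have hp : IsPGroup 2 (h.pr T) := by
    rintro ⟨e, he, f, hf, h1⟩
    obtain ⟨k, hk⟩ := h.two ⟨e * f, h1⟩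
    refine ⟨k, Subtype.ext ?_⟩
    have h2 : (e * f) ^ (2 ^ k) = 1 := congrArg Subtype.val hk
    have hc : Commute e f := h.cEF e he f hf
    rw [hc.mul_pow] at h2
    have h3 : e ^ (2 ^ k) ∈ F := by
      rw [eq_inv_of_mul_eq_one_left h2]
      exact inv_mem (pow_mem hf _)
    exact h.iEF _ (pow_mem he _) h3
  have hle : T ⊓ E ≤ h.pr T := h.inf_le_pr T
  have h2 : ¬ 2 ∣ (T ⊓ E).relIndex (h.pr T) := fun h3 => h.sylE (h3.trans (by
    have h4 : h.pr T ≤ E := fun e he => he.1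
    exact ⟨_, (relIndex_mul_relIndex (T ⊓ E) (h.pr T) E hle h4).symm⟩))
  obtain ⟨n, hn⟩ := hp.exists_card_eq
  have h3 : (T ⊓ E).relIndex (h.pr T) ∣ 2 ^ n := by
    rw [← hn]
    exact relIndex_dvd_card _ _
  obtain ⟨k, -, hk⟩ := (Nat.dvd_prime_pow Nat.prime_two).1 h3
  rw [← relIndex_eq_one]
  rcases Nat.eq_zero_or_pos k with rfl | hk0
  · exact hk
  · exact absurd (hk ▸ dvd_pow_self 2 hk0.ne') h2

theorem tk_le_hat [Finite X] (h : Cp T K E F) {A : Subgroup X} (hA : A ≤ E) (hTE : T ⊓ E ≤ A) :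
    T ⊓ K ≤ h.hat A hA := by
  rintro x ⟨hxT, hxK⟩ t ht
  obtain ⟨e, he, f, hf, h1⟩ := h.KEF _ (h.Kn.conj_mem x hxK t)
  refine ⟨e, hTE (h.pr_T ⟨he, f, hf, ?_⟩), f, hf, h1⟩
  rw [← h1]
  exact mul_mem (mul_mem ht hxT) (inv_mem ht)

/-- `hat A T ∩ K = hat A` -/
theorem sup_inf [Finite X] (h : Cp T K E F) {A : Subgroup X} (hA : A ≤ E) (hTE : T ⊓ E ≤ A) {x : X}
    (hx : x ∈ h.hat A hA ⊔ T) (hxK : x ∈ K) : x ∈ h.hat A hA := by
  have hn : T ≤ normalizer (h.hat A hA : Set X) := by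
    intro t ht
    rw [mem_normalizer_iff]
    intro x
    refine ⟨fun hx => h.hat_conj hA ht hx, fun hx => ?_⟩
    have h1 := h.hat_conj hA (inv_mem ht) hx
    have h2 : t⁻¹ * (t * x * t⁻¹) * t⁻¹⁻¹ = x := by group
    rwa [h2] at h1
  have h1 := coe_mul_of_right_le_normalizer_left (h.hat A hA) T hn
  have h0 : x ∈ ((h.hat A hA ⊔ T : Subgroup X) : Set X) := hx
  rw [h1] at h0
  obtain ⟨a, ha, t, ht, rfl⟩ := h0
  have h2 : a ∈ K := h.AF_le hA (h.hat_le_AF hA ha)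
  have h3 : t ∈ K := by
    have := mul_mem (inv_mem h2) hxK
    rwa [inv_mul_cancel_left] at this
  exact mul_mem ha (h.tk_le_hat hA hTE ⟨ht, h3⟩)

/-- `hat A T < X` -/
theorem sup_ne_top [Finite X] (h : Cp T K E F) {A : Subgroup X} (hA : A ≤ E) (hTE : T ⊓ E ≤ A) (hne : A ≠ E) :
    h.hat A hA ⊔ T ≠ ⊤ := by
  intro h1
  apply hne
  refine le_antisymm hA fun e he => ?_
  exact h.mem_of_AF hA (h.hat_le_AF hA (h.sup_inf hA hTE (h1 ▸ mem_top e) (h.EK he))) he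

/-- **(low)** -/
theorem low_of [Finite X] (h : Cp T K E F) {B : Subgroup X} (hB : B ≤ T1 T E)
    (low : ∀ R : Subgroup X, T ≤ R → R ≠ ⊤ → B ≤ o2 R) {A : Subgroup X} (hA : A ≤ E) (hTE : T ⊓ E ≤ A)
    (hT : ∀ t ∈ T1 T E, ∀ a ∈ A, t * a * t⁻¹ ∈ A) (hne : A ≠ E) : B ≤ o2 (A ⊔ T1 T E) := by
  have h1 := low _ le_sup_right (h.sup_ne_top hA hTE hne)
  have h2 : A ⊔ T1 T E ≤ h.hat A hA ⊔ T := sup_le_sup (h.le_hat hA hT) inf_le_left
  refine le_trans (le_inf h1 (hB.trans (le_sup_right : T1 T E ≤ A ⊔ T1 T E))) ?_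
  refine le_o2 inf_le_right ((o2_isPGroup _).to_le inf_le_left) ?_
  intro g hg
  rw [mem_normalizer_iff]
  have key : ∀ g ∈ A ⊔ T1 T E, ∀ x ∈ o2 (h.hat A hA ⊔ T) ⊓ (A ⊔ T1 T E),
      g * x * g⁻¹ ∈ o2 (h.hat A hA ⊔ T) ⊓ (A ⊔ T1 T E) := by
    rintro g hg x ⟨hx, hx'⟩
    exact ⟨(mem_normalizer_iff.1 (le_normalizer_o2 _ (h2 hg)) x).1 hx,
      (A ⊔ T1 T E).mul_mem ((A ⊔ T1 T E).mul_mem hg hx') ((A ⊔ T1 T E).inv_mem hg)⟩
  intro x
  refine ⟨key g hg x, fun hx => ?_⟩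
  have h3 := key g⁻¹ ((A ⊔ T1 T E).inv_mem hg) _ hx
  have h4 : g⁻¹ * (g * x * g⁻¹) * g⁻¹⁻¹ = x := by group
  rwa [h4] at h3

/-- `R ∩ K = R ∩ (hat pr(R))` and `pr(R) ≠ E` for `T ≤ R < X` -/
theorem pr_ne [Finite X] (h : Cp T K E F) {R : Subgroup X} (hR : T ≤ R) (hRt : R ≠ ⊤) : h.pr R ≠ E := by
  intro h1
  have hs := h.simple
  -- the normal closure of `T ∩ E` in `E`
  have h2 : ∀ s ∈ T ⊓ E, ∀ e ∈ E, e * s * e⁻¹ ∈ R := by
    intro s hs e he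
    rw [← h1] at he
    obtain ⟨he, f, hf, hef⟩ := he
    have h3 : e * s * e⁻¹ = (e * f) * s * (e * f)⁻¹ := by
      calc e * s * e⁻¹ = e * (s * f) * f⁻¹ * e⁻¹ := by group
        _ = e * (f * s) * f⁻¹ * e⁻¹ := by rw [h.cEF s hs.2 f hf]
        _ = _ := by group
    rw [h3]
    exact mul_mem (mul_mem hef (hR hs.1)) (inv_mem hef)
  let L : Subgroup E := Subgroup.normalClosure ((T ⊓ E).subgroupOf E : Set E)
  have hL : L = ⊤ := by
    rcases hs.eq_bot_or_eq_top_of_normal L inferInstance with h3 | h3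
    · exfalso
      apply h.nt
      rw [eq_bot_iff]
      intro x hx
      have h4 : (⟨x, hx.2⟩ : E) ∈ L := subset_normalClosure (mem_subgroupOf.2 hx)
      rw [h3, mem_bot] at h4
      exact mem_bot.2 (congrArg Subtype.val h4)
    · exact h3
  have hER : E ≤ R := by
    intro e he
    have h3 : (⟨e, he⟩ : E) ∈ L := hL ▸ mem_top _
    have h4 : L ≤ R.subgroupOf E := by
      refine closure_le _ |>.2 ?_
      intro x hx
      obtain ⟨s, hs, hsx⟩ := Group.mem_conjugatesOfSet_iff.1 hx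
      obtain ⟨c, hc⟩ := isConj_iff.1 hsx
      rw [← hc]
      exact h2 s (mem_subgroupOf.1 hs) c c.2
    exact h4 h3
  have hKR : K ≤ R := h.KE.trans (by
    rw [closure_le]
    rintro _ ⟨t, ht, e, he, rfl⟩
    exact mul_mem (mul_mem (hR ht) (hER he)) (inv_mem (hR ht)))
  apply hRt
  rw [eq_top_iff, ← h.gen]
  exact sup_le hKR hR

theorem inf_le_hat [Finite X] (h : Cp T K E F) {R : Subgroup X} (hR : T ≤ R) {A : Subgroup X} (hA : A ≤ E)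
    (hp : h.pr R ≤ A) : R ⊓ K ≤ h.hat A hA := by
  rintro x ⟨hxR, hxK⟩ t ht
  have h1 : t * x * t⁻¹ ∈ R ⊓ K := ⟨R.mul_mem (R.mul_mem (hR ht) hxR) (R.inv_mem (hR ht)), h.Kn.conj_mem x hxK t⟩
  obtain ⟨a, ha, f, hf, e⟩ := h.le_AF_pr R h1
  exact ⟨a, hp ha, f, hf, e⟩

/-- **(nmax)** -/
theorem exists_max [Finite X] (h : Cp T K E F) {A₀ : Subgroup X} (hA : A₀ ≤ E) (hTE : T ⊓ E ≤ A₀) (hne : A₀ ≠ E)
    (hmax : ∀ A : Subgroup X, A ≤ E → T ⊓ E ≤ A → (∀ t ∈ T1 T E, ∀ a ∈ A, t * a * t⁻¹ ∈ A) → A ≠ E → A ≤ A₀) :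
    ∃ N : Subgroup X, N ≠ ⊤ ∧ ∀ R : Subgroup X, T ≤ R → R ≠ ⊤ → R ≤ N := by
  refine ⟨_, h.sup_ne_top hA hTE hne, fun R hR hRt => ?_⟩
  have h1 := hmax (h.pr R) (h.pr_le_E R) ((inf_le_inf_right E hR).trans (h.inf_le_pr R)) (h.pr_conj hR)
    (h.pr_ne hR hRt)
  have h2 := h.inf_le_hat hR hA h1
  intro x hx
  have hKn := h.Kn
  obtain ⟨k, hk, t, ht, rfl⟩ := mem_sup_of_normal_left.1 (h.gen ▸ mem_top x : x ∈ K ⊔ T)
  have h3 : k ∈ R := by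
    have := R.mul_mem hx (R.inv_mem (hR ht))
    rwa [mul_inv_cancel_right] at this
  exact mul_mem (mem_sup_left (h2 ⟨h3, hk⟩)) (mem_sup_right ht)

end Cp

end Cfsg.Agent.Omega.ML.Ex.SecLow
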