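import Cfsg.Agent.Omega.ML.Ex.RkX
import Cfsg.Agent.Omega.ML.InvRow

/-!
# Exact and low configurations: a sheet of type (E) and one inverted element (helper202; ports of ShInv, InvRow)

* `InX.index_elt_le` : `|M : C_M(x)| ≤ |A|` for `x ∈ A`;
* `InX.false_of_inv` : no `x ∈ A` with `InvAt x n` (helper226), `|A| < 2 ^ n`;
* **`deadX_of_sheetInv`** : groups with a sheet `SheetX z P R`, whose elementary abelian subgroups `B ≤ R` have order at
  most `2 ^ n`, and `InvAt y (n + 1)` for every involution `y ∈ R`, `y ≠ z`, form a row.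
-/

set_option autoImplicit false

namespace Cfsg.Agent.Omega.ML.Ex

open Subgroup Cfsg Cfsg.Agent.ZN Cfsg.Agent.Omega.NOThree.NoOver Cfsg.Agent.Omega.ML.CD
open Cfsg.Agent.OddHalf.D8.Sheet Cfsg.Agent.OddHalf.D8.JTwo.Sheet Cfsg.Agent.Omega.ML.InvChain
open Cfsg.Agent.ClassTwoFusion.Quad

universe u v

variable {H : Type u} [Group H] {M : Type v} [Group M] [Finite M] [MulDistribMulAction H M] {K T A : Subgroup H}

/-- `|M : C_M(x)| ≤ |A|` for `x ∈ A`. -/
theorem InX.index_elt_le (h : InX H M K T A) {x : H} (hx : x ∈ A) : (cv M ({x} : Set H)).index ≤ Nat.card A := by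
  rw [← h.exact]
  exact Nat.le_of_dvd (Nat.pos_of_ne_zero index_ne_zero_of_finite)
    (index_dvd_of_le (cv_anti (Set.singleton_subset_iff.2 hx)))

/-- **Kill by one inverted element.** -/
theorem InX.false_of_inv (h : InX H M K T A) {n : ℕ} (hn : Nat.card A < 2 ^ n) {x : H} (hxA : x ∈ A)
    (hx : InvAt x n) : False := by
  have h1 := InvRow.inv_big h.sq h.faith (h.el x hxA) hx
  have h2 := h.index_elt_le hxA
  omega

omit [Finite M] in
/-- An element of `A` different from `1` and from one further element. -/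
theorem InX.exists_mem_ne (h : InX H M K T A) [Finite H] (f : H → H) (hf : Function.Injective f) (z : H) :
    ∃ x ∈ A, x ≠ 1 ∧ f x ≠ z := by
  classical
  by_contra hcon
  push Not at hcon
  have h3 : Function.Injective (fun a : A => (if (a : H) = 1 then false else true : Bool)) := by
    intro a b hab
    apply Subtype.ext
    by_cases ha : (a : H) = 1
    · by_cases hb : (b : H) = 1
      · rw [ha, hb]
      · simp [ha, hb] at hab
    · by_cases hb : (b : H) = 1
      · simp [ha, hb] at hab
      · exact hf ((hcon a a.2 ha).trans (hcon b b.2 hb).symm)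
  have h4 := Nat.card_le_card_of_injective _ h3
  rw [Nat.card_eq_fintype_card (α := Bool), Fintype.card_bool] at h4
  have := h.four
  omega

/-- **The row of a class of groups with a sheet of type (E), `R` of rank at most `n`, `InvAt y (n + 1)` for the
involutions `y ≠ z` of `R`.** -/
theorem deadX_of_sheetInv {𝒮 : ∀ (S : Type u) [Group S], Prop}
    (hs : ∀ (S : Type u) [Group S], Finite S → 𝒮 S → ∃ (z : S) (P R : Subgroup S) (n : ℕ), SheetX z P R ∧
      (∀ B ≤ R, (∀ b ∈ B, b * b = 1) → Nat.card B ≤ 2 ^ n) ∧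
        ∀ y ∈ R, y * y = 1 → y ≠ 1 → y ≠ z → InvAt y (n + 1)) :
    DeadX.{u, v} 𝒮 := by
  intro H _ _ M _ _ _ K T A h hK
  obtain ⟨z, P, R, n, hz, hR, hI⟩ := hs K inferInstance hK
  have has := h.asx
  have hcard : Nat.card A ≤ 2 ^ n := has.card_le_of_sheet hz hR
  obtain ⟨g, hg⟩ := has.le_conj hz
  obtain ⟨x, hxA, hx1, hx2⟩ := h.exists_mem_ne (fun a => (g : H)⁻¹ * a * g)
    (fun a b hab => mul_left_cancel (mul_right_cancel hab)) (z : H)
  obtain ⟨r, hr, hrx⟩ := hg x hxA
  change (r : H) = (g : H)⁻¹ * x * g at hrx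
  have hxx : x * x = 1 := h.el x hxA
  have hI' : InvAt r (n + 1) := by
    refine hI r hr (Subtype.ext ?_) ?_ ?_
    · rw [Subgroup.coe_mul, hrx, Subgroup.coe_one]
      calc (g : H)⁻¹ * x * g * ((g : H)⁻¹ * x * g) = (g : H)⁻¹ * (x * x) * g := by group
        _ = 1 := by rw [hxx]; group
    · intro h1
      apply hx1
      rw [h1, Subgroup.coe_one] at hrx
      calc x = (g : H) * ((g : H)⁻¹ * x * g) * (g : H)⁻¹ := by group
        _ = 1 := by rw [← hrx]; group
    · intro h1
      exact hx2 (by rw [← hrx, h1])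
  have h3 := (hI'.map K.subtype K.subtype_injective).conj (g : H)
  have h4 : (g : H) * K.subtype r * (g : H)⁻¹ = x := by
    change (g : H) * (r : H) * (g : H)⁻¹ = x
    rw [hrx]; group
  rw [h4] at h3
  exact h.false_of_inv (hcard.trans_lt (Nat.pow_lt_pow_right (by norm_num) (by omega))) hxA h3

end Cfsg.Agent.Omega.ML.Ex
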