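import Cfsg.Agent.Omega.ML.Ex.ExX
import Cfsg.Agent.Omega.ML.Ex.DefN
import Cfsg.Agent.Omega.ML.ShE

/-!
# The K-list for EXACT subgroups: the rows with a sheet, by THEOREM EX (helper10)

* `dat_of_rec` : the record `Rec C P R n` in the normal subgroup `K` of `H` gives the situation `Dat` in `H`;
* `le_conj` : in the situation `ASx S T A`, `SheetX z P R` : `A ≤ R^g` for some `g`;
* **`deadN_of_sheet`** : a class of groups with `SheetX z P R`, `|R| = 2^(2n+1)`, `n ≥ 2`, `TrivC .. n` is dead.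
-/

set_option autoImplicit false

namespace Cfsg.Agent.Omega.ML.Ex.Sheet

open Subgroup Cfsg Cfsg.Agent.ClassTwoFusion.Quad Cfsg.Agent.Omega.NOThree.NoOver Cfsg.Agent.Omega.ML.CD
open Cfsg.Agent.ZN (o2)
open Cfsg.Agent.Omega.ML.ExCore Cfsg.Agent.Omega.ML.ExRec Cfsg.Agent.Omega.ML.ExRow
open Cfsg.Agent.OddHalf.D8.Sheet Cfsg.Agent.OddHalf.D8.JTwo.Sheet
open Cfsg.Agent.MinSimple.VModule (o2_isPGroup o2_le le_o2 le_normalizer_o2)

universe u v w

/-! ### Conjugates of exact atoms -/

section cjs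

variable {H : Type u} [Group H] {M : Type v} [Group M] [Finite M] [MulDistribMulAction H M]

theorem index_cv_cj (g : H) (B : Subgroup H) : (cv M (cj g B : Set H)).index = (cv M (B : Set H)).index := by
  have h1 := (cv M (cj g B : Set H)).card_mul_index
  have h2 := (cv M (B : Set H)).card_mul_index
  have h3 : Nat.card (cv M (cj g B : Set H)) = Nat.card (cv M (B : Set H)) := by
    have h4 : cv M (cj g B : Set H) = _ := QData.cv_map_conj (V := M) B g
    rw [h4]
    exact (Nat.card_congr ((cv M (B : Set H)).equivMapOfInjective _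
      (MulDistribMulAction.toMulEquiv M g : M ≃* M).injective).toEquiv).symm
  rw [h3, ← h2] at h1
  exact Nat.eq_of_mul_eq_mul_left Nat.card_pos h1

omit [Finite M] in
theorem card_cj (g : H) (B : Subgroup H) : Nat.card (cj g B) = Nat.card B :=
  (Nat.card_congr (B.equivMapOfInjective _ (MulAut.conj g).injective).toEquiv).symm

/-- **THEOREM EX for a conjugate of the exact atom** -/
theorem false_of_le_cj [Finite H] {G E Q A : Subgroup H} {n : ℕ} (D : Dat.{u, v} H G E Q n) (hn : 2 ≤ n)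
    (sq : ∀ m : M, m * m = 1) (faith : ∀ h : H, (∀ m : M, h • m = m) → h = 1) (g : H) (hAQ : cj g A ≤ Q)
    (el : ∀ a ∈ A, a * a = 1) (four : 4 ≤ Nat.card A) (exact : (cv M (A : Set H)).index = Nat.card A)
    (atom : ∀ C : Subgroup H, C ≤ A → C ≠ ⊥ → C ≠ A → Nat.card C < (cv M (C : Set H)).index) : False := by
  refine ExX.Dat.falseX D hn sq faith hAQ ?_ ?_ ?_ ?_
  · rintro _ ⟨a, ha, rfl⟩
    show g * a * g⁻¹ * (g * a * g⁻¹) = 1
    have h1 : g * a * g⁻¹ * (g * a * g⁻¹) = g * (a * a) * g⁻¹ := by group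
    rw [h1, el a ha, mul_one, mul_inv_cancel]
  · rwa [card_cj]
  · rw [index_cv_cj, card_cj, exact]
  · intro C hC hC1 hCA
    have h1 : cj g⁻¹ C ≤ A := by
      rw [cj_le_iff, inv_inv]
      exact hC
    have h2 := atom (cj g⁻¹ C) h1 (fun h3 => hC1 (by
      have h4 : cj g (cj g⁻¹ C) = C := by rw [cj_cj, mul_inv_cancel, cj_one]
      rw [← h4, h3]
      exact Subgroup.map_bot _)) (fun h3 => hCA (by
      rw [← h3, cj_cj, mul_inv_cancel, cj_one]))
    rwa [card_cj, index_cv_cj] at h2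

end cjs

/-! ### The record in a normal subgroup -/

/-- **the record in `K` gives the situation in `H`** -/
theorem dat_of_rec {H : Type u} [Group H] [Finite H] {K : Subgroup H} {C P R : Subgroup K} {n : ℕ}
    (h : Rec.{u, v, u} C P R n) : Dat.{u, v} H (C.map K.subtype) (P.map K.subtype) (R.map K.subtype) n where
  QG := map_mono h.RC
  EG := map_mono h.PC
  nQ := by
    rintro _ ⟨c, hc, rfl⟩ _ ⟨r, hr, rfl⟩
    exact ⟨c * r * c⁻¹, h.nR c hc r hr, by simp⟩
  card := by rw [card_map_of_injective K.subtype_injective, h.card]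
  nab := by
    obtain ⟨a, ha, b, hb, hab⟩ := h.nab
    exact ⟨a, ⟨a, ha, rfl⟩, b, ⟨b, hb, rfl⟩, fun h1 => hab (Subtype.ext h1)⟩
  irr := by
    intro D hD hDE
    have hmap : (D.comap K.subtype).map K.subtype = D := by
      refine map_comap_eq_self ?_
      rw [range_subtype]
      exact hD.trans (map_subtype_le _)
    have h1 : D.comap K.subtype ≤ R := by
      intro x hx
      obtain ⟨r, hr, hrx⟩ := hD hx
      rwa [← K.subtype_injective hrx]
    rcases h.irr _ h1 (fun x hx b hb => by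
      have h2 := hDE (x : H) ⟨x, hx, rfl⟩ (b : H) hb
      exact h2) with h2 | h2
    · left
      rwa [← hmap, card_map_of_injective K.subtype_injective]
    · right
      rw [← hmap, h2]
  triv := by
    -- the group `C.map K.subtype ≃* C`
    let e : C ≃* C.map K.subtype := C.equivMapOfInjective _ K.subtype_injective
    have he : ∀ c : C, ((e c : C.map K.subtype) : H) = ((c : K) : H) := fun c => rfl
    let p : (C.map K.subtype : Subgroup H) →* C := e.symm.toMonoidHom
    have hp : ∀ g, (((p g : C) : K) : H) = g := by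
      intro g
      have h1 : e (p g) = g := e.apply_symm_apply g
      rw [← he, h1]
    have hker : p.ker = ⊥ := by
      rw [MonoidHom.ker_eq_bot_iff]
      exact e.symm.injective
    have h1 := h.triv (C.map K.subtype) p e.symm.surjective (by rw [hker]; exact bot_le) (by
      rw [hker, card_bot]; exact odd_one)
    intro V _ _ _ h2 hc l hl
    refine h1 V h2 hc l ?_
    -- `E ≤ [E, E]`
    have h3 : (P.subgroupOf C).comap p = (P.map K.subtype).subgroupOf (C.map K.subtype) := by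
      ext x
      rw [mem_comap, mem_subgroupOf, mem_subgroupOf]
      constructor
      · intro hx
        exact ⟨_, hx, hp x⟩
      · rintro ⟨y, hy, hyx⟩
        have h4 : y = ((p x : C) : K) := K.subtype_injective (hyx.trans (hp x).symm)
        rwa [← h4]
    rw [h3]
    have h4 : ((⁅(P.map K.subtype).subgroupOf (C.map K.subtype),
        (P.map K.subtype).subgroupOf (C.map K.subtype)⁆ : Subgroup (C.map K.subtype)).map
          (C.map K.subtype).subtype) = P.map K.subtype := by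
      rw [map_commutator, subgroupOf_map_subtype, inf_eq_left.2 (map_mono h.PC), ← map_commutator, h.perf]
    have h5 : (l : H) ∈ P.map K.subtype := hl
    rw [← h4] at h5
    obtain ⟨y, hy, hyl⟩ := h5
    rwa [← Subtype.ext hyl]

/-! ### The group-theoretic part (`ShE.lean` with `H = KT`) -/

section group

variable {X : Type u} [Group X] {S T A : Subgroup X}

/-- **`A ≤ O₂(C_X(z))^g`, `g ∈ S`.** -/
theorem le_o2_conj [Finite X] (h : ASx S T A) {z : S} (hz1 : z ≠ 1)
    (hz : ∃ S₀ : Sylow 2 S, z ∈ S₀ ∧ (∀ x ∈ S₀, x * z = z * x) ∧ ∀ y ∈ S₀, (∀ x ∈ S₀, x * y = y * x) → y = 1 ∨ y = z) :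
    ∃ g : S, ∀ a ∈ A, (g : X)⁻¹ * a * g ∈ o2 (centralizer ({(z : X)} : Set X)) := by
  have hS := h.norm
  obtain ⟨g, hg⟩ := ShE.exists_conj hS h.two h.syl hz
  refine ⟨g, ?_⟩
  have hne : centralizer ({((g : X) * z * (g : X)⁻¹)} : Set X) ≠ ⊤ := by
    intro h1
    have h2 : (z : X) ∈ centralizer (S : Set X) := by
      rw [mem_centralizer_iff]
      intro y _
      have h3 : (g * y * (g : X)⁻¹) * (g * z * (g : X)⁻¹) = (g * z * (g : X)⁻¹) * (g * y * (g : X)⁻¹) :=
        mem_centralizer_singleton_iff.1 (h1 ▸ mem_top _)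
      calc y * (z : X) = (g : X)⁻¹ * ((g * y * (g : X)⁻¹) * (g * z * (g : X)⁻¹)) * g := by group
        _ = (g : X)⁻¹ * ((g * z * (g : X)⁻¹) * (g * y * (g : X)⁻¹)) * g := by rw [h3]
        _ = z * y := by group
    rw [h.cen, mem_bot] at h2
    exact hz1 (Subtype.ext h2)
  have hle := h.low _ hg hne
  intro a ha
  have h1 := hle ha
  have h2 : (o2 (centralizer ({((g : X) * z * (g : X)⁻¹)} : Set X))).map (MulAut.conj (g : X)⁻¹).toMonoidHom ≤
      o2 (centralizer ({(z : X)} : Set X)) := by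
    have hc1 : ∀ x ∈ centralizer ({((g : X) * z * (g : X)⁻¹)} : Set X), (g : X)⁻¹ * x * g ∈ centralizer ({(z : X)} : Set X) := by
      intro x hx
      rw [mem_centralizer_singleton_iff] at hx ⊢
      calc (g : X)⁻¹ * x * g * z = (g : X)⁻¹ * (x * (g * z * (g : X)⁻¹)) * g := by group
        _ = (g : X)⁻¹ * ((g * z * (g : X)⁻¹) * x) * g := by rw [hx]
        _ = z * ((g : X)⁻¹ * x * g) := by group
    have hc2 : ∀ x ∈ centralizer ({(z : X)} : Set X), (g : X) * x * (g : X)⁻¹ ∈ centralizer ({((g : X) * z * (g : X)⁻¹)} : Set X) := by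
      intro x hx
      rw [mem_centralizer_singleton_iff] at hx ⊢
      calc (g : X) * x * (g : X)⁻¹ * (g * z * (g : X)⁻¹) = (g : X) * (x * z) * (g : X)⁻¹ := by group
        _ = (g : X) * (z * x) * (g : X)⁻¹ := by rw [hx]
        _ = _ := by group
    refine le_o2 ?_ ((o2_isPGroup _).map _) ?_
    · rintro _ ⟨x, hx, rfl⟩
      have h3 := hc1 x (o2_le _ hx)
      rw [MulEquiv.toMonoidHom_eq_coe, MonoidHom.coe_coe, MulAut.conj_apply, inv_inv]
      exact h3
    · have key : ∀ x ∈ centralizer ({(z : X)} : Set X), ∀ y ∈ (o2 (centralizer ({((g : X) * z * (g : X)⁻¹)} : Set X))).map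
          (MulAut.conj (g : X)⁻¹).toMonoidHom, x * y * x⁻¹ ∈ (o2 (centralizer ({((g : X) * z * (g : X)⁻¹)} : Set X))).map
          (MulAut.conj (g : X)⁻¹).toMonoidHom := by
        rintro x hx _ ⟨y, hy, rfl⟩
        refine ⟨(g * x * (g : X)⁻¹) * y * (g * x * (g : X)⁻¹)⁻¹, ?_, ?_⟩
        · exact (mem_normalizer_iff.1 (le_normalizer_o2 _ (hc2 x hx)) y).1 hy
        · rw [MulEquiv.toMonoidHom_eq_coe, MonoidHom.coe_coe, MulAut.conj_apply, MulAut.conj_apply]
          group
      intro x hx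
      rw [mem_normalizer_iff]
      intro y
      refine ⟨fun hy => key x hx y hy, fun hy => ?_⟩
      have h3 := key x⁻¹ (inv_mem hx) _ hy
      have h4 : x⁻¹ * (x * y * x⁻¹) * x⁻¹⁻¹ = y := by group
      rwa [h4] at h3
  apply h2
  refine ⟨a, h1, ?_⟩
  rw [MulEquiv.toMonoidHom_eq_coe, MonoidHom.coe_coe, MulAut.conj_apply, inv_inv]

/-- **`A ≤ R^g`.** -/
theorem le_conj [Finite X] (h : ASx S T A) {z : S} {P R : Subgroup S} (hz : SheetX z P R) :
    ∃ g : X, ∀ a ∈ A, g⁻¹ * a * g ∈ R.map S.subtype := by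
  obtain ⟨g, hg⟩ := le_o2_conj h hz.z1 hz.syl
  exact ⟨g, fun a ha => ShE.o2_le_R h.norm h.cen hz (hg a ha)⟩

end group

/-! ### The rows -/

/-- **The row of a class of groups with a sheet.** -/
theorem deadN_of_sheet {𝒮 : ∀ (S : Type u) [Group S], Prop}
    (hS : ∀ (S : Type u) [Group S] [Finite S], 𝒮 S → ∃ (z : S) (P R : Subgroup S) (n : ℕ), 2 ≤ n ∧ SheetX z P R ∧
      Nat.card R = 2 ^ (2 * n + 1) ∧ TrivC.{u, v, u} (centralizer ({z} : Set S)) P n) : DeadN.{u, v} 𝒮 := by
  intro H _ _ M _ _ _ K T A h hK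
  obtain ⟨z, P, R, n, hn, hsh, hcard, ht⟩ := hS K hK
  obtain ⟨g, hg⟩ := le_conj h.asx hsh
  refine false_of_le_cj (dat_of_rec (Rec.of_sheet hsh hcard ht)) hn h.sq h.faith g⁻¹ (A := A) ?_ h.el h.four h.exact
    h.atom
  rintro _ ⟨a, ha, rfl⟩
  have h1 := hg a ha
  rw [MulEquiv.toMonoidHom_eq_coe, MonoidHom.coe_coe, MulAut.conj_apply, inv_inv]
  exact h1

end Cfsg.Agent.Omega.ML.Ex.Sheet
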