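import Cfsg.Agent.OddHalf.D8.SheetMap
import Cfsg.Agent.OddHalf.D8.JTwo.Sheet
import Cfsg.Agent.Omega.Lie.PairOrd
import Cfsg.Agent.Omega.Lie.HeisCover
import Cfsg.Agent.Omega.ML.ExTriv

/-!
# Exact K-list: the sheet on an isomorphic group, light imports (helper376, after helper552's `ExInst`)

* `lb_of_card` : `c ∣ |K|`, `c ∤ |GL_k(2)|` for `k < m` ⟹ `LB K m`;
* `exists_sheet` : the sheet `SheetE z P R` with `P = C(z)` and the homomorphism onto `L`, on a group isomorphic
  to `G`;
* `trivC` : the last field of the record (copy of `RowBM.trivC`, without the instances `M`, `B`, `Th`).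
-/

set_option autoImplicit false

namespace Cfsg.Agent.Omega.ML.Ex.SheetOf

open Subgroup Cfsg
open Cfsg.Agent.OddHalf.D8.Sheet Cfsg.Agent.OddHalf.D8.JTwo.Sheet
open Cfsg.Agent.Omega.Lie.Heis (LB Irr)
open Cfsg.Agent.Omega.Lie.PairOrd
open Cfsg.Agent.Omega.ML.ExCore Cfsg.Agent.Omega.ML.ExRec

universe u v w

/-- A lower bound by the order of the group. -/
theorem lb_of_card {K : Type u} [Group K] [Finite K] [IsSimpleGroup K] {m c : ℕ} (hc : c ∣ Nat.card K)
    (h : ∀ k < m, ¬ c ∣ glc k) : LB.{u, v, w} K m := by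
  apply LB.of_irr
  intro L _ _ π hπ _ _ _ V _ _ h2 φ hφ hirr
  -- `V` is elementary abelian
  have hV : Nontrivial V := by
    by_contra hn
    rw [not_nontrivial_iff_subsingleton] at hn
    obtain ⟨x, hx⟩ := exists_ne (1 : K)
    obtain ⟨g, rfl⟩ := hπ x
    apply hx
    have h3 : g = 1 := hφ (by
      rw [map_one]
      ext v
      exact Subsingleton.elim _ _)
    rw [h3, map_one]
  let U : Subgroup V :=
    { carrier := {x | x ^ 2 = 1}
      one_mem' := one_pow 2
      mul_mem' := fun {a b} ha hb => by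
        show (a * b) ^ 2 = 1
        rw [mul_pow, show a ^ 2 = 1 from ha, show b ^ 2 = 1 from hb, one_mul]
      inv_mem' := fun {a} ha => by
        show a⁻¹ ^ 2 = 1
        rw [inv_pow, show a ^ 2 = 1 from ha, inv_one] }
  have hU : U = ⊤ := by
    refine (hirr U fun g x hx => ?_).resolve_left fun h3 => ?_
    · show (φ g x) ^ 2 = 1
      rw [← map_pow, show x ^ 2 = 1 from hx, map_one]
    · have : Fact (Nat.Prime 2) := ⟨Nat.prime_two⟩
      obtain ⟨n, hn⟩ := IsPGroup.iff_card.1 h2
      have h4 : 2 ∣ Nat.card V := by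
        rw [hn]
        refine dvd_pow_self 2 ?_
        rintro rfl
        rw [pow_zero] at hn
        have := Finite.one_lt_card (α := V)
        omega
      obtain ⟨x, hx⟩ := exists_prime_orderOf_dvd_card' 2 h4
      have h5 : x ∈ U := by
        show x ^ 2 = 1
        rw [← hx]
        exact pow_orderOf_eq_one x
      rw [h3, mem_bot] at h5
      rw [h5, orderOf_one] at hx
      omega
  have hel : ∀ x : V, x ^ 2 = 1 := fun x => by
    have h3 : x ∈ U := by rw [hU]; exact mem_top x
    exact h3
  by_contra hlt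
  push Not at hlt
  obtain ⟨k, hk, hk'⟩ := exists_card hel hlt.le
  have hkm : k < m := by
    rw [hk'] at hlt
    exact (Nat.pow_lt_pow_iff_right (by norm_num)).1 hlt
  apply h k hkm
  rw [← card_mulAut hel hk']
  refine hc.trans ((Subgroup.card_dvd_of_surjective π hπ).trans ?_)
  rw [Nat.card_congr (MonoidHom.ofInjective hφ).toEquiv]
  exact Subgroup.card_subgroup_dvd_card φ.range

/-- the sheet on an isomorphic group `S` -/
theorem exists_sheet {G : Type w} [Group G] {z : G} {Q : Subgroup G} (hs : SheetE z (centralizer ({z} : Set G)) Q)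
    {L : Type} [Group L] {π : centralizer ({z} : Set G) →* L} (hsurj : Function.Surjective π)
    (hker : ∀ c, π c = 1 ↔ (c : G) ∈ Q) {S : Type u} [Group S] (e : S ≃* G) :
    ∃ (z : S) (P R : Subgroup S) (π : P →* L), SheetE z P R ∧ P = centralizer ({z} : Set S) ∧
      Nat.card R = Nat.card Q ∧ Function.Surjective π ∧ (∀ c, π c = 1 ↔ (c : S) ∈ R) := by
  have hs := Cfsg.Agent.OddHalf.D8.SheetMap.sheetE_map e.symm hs
  let f : (centralizer ({z} : Set G)) ≃* ((centralizer ({z} : Set G)).map (e.symm : G →* S)) :=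
    (centralizer ({z} : Set G)).equivMapOfInjective _ e.symm.injective
  have hf : ∀ c, (f c : S) = e.symm c := fun c => rfl
  refine ⟨_, _, _, π.comp f.symm.toMonoidHom, hs, ?_, ?_, hsurj.comp f.symm.surjective, fun c => ?_⟩
  · ext x
    constructor
    · rintro ⟨c, hc, rfl⟩
      rw [mem_centralizer_singleton_iff]
      have h1 := mem_centralizer_singleton_iff.1 hc
      show e.symm c * e.symm z = e.symm z * e.symm c
      rw [← map_mul, h1, map_mul]
    · intro hx
      refine ⟨e x, ?_, e.symm_apply_apply x⟩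
      have h1 : x * e.symm z = e.symm z * x := mem_centralizer_singleton_iff.1 hx
      refine mem_centralizer_singleton_iff.2 ?_
      have h2 := congrArg e h1
      rwa [map_mul, map_mul, e.apply_symm_apply] at h2
  · exact (Nat.card_congr (Q.equivMapOfInjective _ e.symm.injective).toEquiv).symm
  · obtain ⟨c, rfl⟩ := f.surjective c
    show π (f.symm (f c)) = 1 ↔ _
    rw [f.symm_apply_apply, hker, hf]
    constructor
    · intro h1
      exact ⟨c, h1, rfl⟩
    · rintro ⟨q, hq, h1⟩
      rwa [← e.symm.injective h1]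

/-- the last field of the record: `C = P` -/
theorem trivC {S : Type u} [Group S] [Finite S] {z : S} {P R : Subgroup S} (h : SheetX z P R)
    (hP : P = centralizer ({z} : Set S)) {L : Type} [Group L] (π : P →* L) (hs : Function.Surjective π)
    (hk : ∀ c, π c = 1 ↔ (c : S) ∈ R) {n : ℕ} (hlb : LB.{0, u, v} L (n + 1)) :
    TrivC.{u, v, u} (centralizer ({z} : Set S)) P n := by
  refine ExTriv.trivC_of_lb hP.le h.R2 h.Rn h.perf π hs (fun x hx => (hk x).2 hx) ?_ ?_ hlb
  · intro x hx y
    have h1 : (x : S) ∈ R := (hk x).1 hx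
    have h2 : (y : S) * (x : S)⁻¹ * (y : S)⁻¹ ∈ R := h.Rn _ y.2 _ (R.inv_mem h1)
    have h3 := R.mul_mem h1 h2
    have h4 : (x : S) * ((y : S) * (x : S)⁻¹ * (y : S)⁻¹) = x * y * (x : S)⁻¹ * (y : S)⁻¹ := by group
    rwa [h4] at h3
  · have h1 : π.ker = R.subgroupOf P := by
      ext c
      rw [MonoidHom.mem_ker, hk, mem_subgroupOf]
    rw [h1, relIndex_self]
    exact odd_one

end Cfsg.Agent.Omega.ML.Ex.SheetOf
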