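import Cfsg.Agent.Omega.ML.Ex.InA
import Cfsg.Agent.Omega.ML.Ex.TieIn

/-!
# The dichotomy (D) over `InA` (an exact atom on a faithful module) (helper269)

* `InA.quad` : `A` is quadratic on `M`;
* **`InA.lt_or_tie`** : `|M : C_M(x)| < |A|` or `TieX A (EE F) F x`, `F = C_M(A)`, for `x ∈ A`;
* **`InA.index_lt`** : `NoTie A x → |M : C_M(x)| < |A|`;
* **`InA.false_of_four`** : `|A| = 4`, `NoTie A x` for one `x ∈ A#` : impossible;
* `InA.false_of_eq_noTie` : EQ(x) and `NoTie A x` : impossible.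
-/

set_option autoImplicit false

namespace Cfsg.Agent.Omega.ML.Ex

open Subgroup Cfsg Cfsg.Agent.ZN Cfsg.Agent.ClassTwoFusion.Quad Cfsg.Agent.Omega.ML.Ex.TIE
  Cfsg.Agent.Omega.ML.Ex.TieX

universe u v w

variable {H : Type u} [Group H] {M : Type v} [Group M] [MulDistribMulAction H M] {K T A : Subgroup H}

namespace InA

/-- `|A| |C_M(A)| = |M|` -/
theorem card_eq_mul (h : InA H M K T A) : Nat.card A * Nat.card (cv M (A : Set H)) = Nat.card M := by
  rw [← h.exact, mul_comm]
  exact card_mul_index _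

/-- `A` is quadratic on `M`. -/
theorem quad (h : InA H M K T A) [Finite H] [Finite M] :
    ∀ a ∈ A, ∀ b ∈ A, ∀ m : M, b • ((a • m) * m⁻¹) = (a • m) * m⁻¹ := by
  refine quad_of_atom h.sq h.A_comm h.A_ne_bot h.card_eq_mul.ge fun D hD hD1 => ?_
  rw [h.card_eq_mul, ← card_mul_index (cv M (D : Set H)), mul_comm]
  exact Nat.mul_lt_mul_of_pos_left (h.atom D hD.le hD1 hD.ne) Nat.card_pos

/-- no normal subgroup `≠ 1` of exponent 2 -/
theorem eq_bot_of_normal (h : InA H M K T A) {E : Subgroup H} (hE : E.Normal) (el : ∀ e ∈ E, e * e = 1) : E = ⊥ :=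
  normal_eq_bot h.norm h.simple h.cen hE el

/-- EQ(x) gives `TieX`. -/
theorem tie (h : InA H M K T A) [Finite H] [Finite M] {x : H} (hx : x ∈ A)
    (eq : cv M ({x} : Set H) = cv M (A : Set H)) :
    TieX A (EE (cv M (A : Set H)) : Subgroup H) (cv M (A : Set H)) x :=
  exists_tieX h.sq h.faith hx eq h.quad

/-- `N_H(E) ≠ H` -/
theorem normalizer_ne_top (h : InA H M K T A) {E : Subgroup H} (el : ∀ e ∈ E, e * e = 1) (hAE : A ≤ E) :
    normalizer (E : Set H) ≠ ⊤ := by
  intro h1
  have h2 := h.eq_bot_of_normal (normalizer_eq_top_iff.1 h1) el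
  rw [h2, le_bot_iff] at hAE
  exact h.A_ne_bot hAE

/-- **The dichotomy (D).** -/
theorem lt_or_tie (h : InA H M K T A) [Finite H] [Finite M] {x : H} (hx : x ∈ A) :
    (cv M ({x} : Set H)).index < Nat.card A ∨
      TieX A (EE (cv M (A : Set H)) : Subgroup H) (cv M (A : Set H)) x := by
  by_cases h1 : (cv M ({x} : Set H)).index < Nat.card A
  · exact Or.inl h1
  · right
    refine h.tie hx ?_
    have hle : cv M (A : Set H) ≤ cv M ({x} : Set H) := cv_anti (by simpa using hx)
    refine (Subgroup.eq_of_le_of_card_ge hle ?_).symm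
    have h2 := card_mul_index (cv M ({x} : Set H))
    have h3 := h.card_eq_mul
    have h4 : Nat.card (cv M ({x} : Set H)) * Nat.card A ≤ Nat.card A * Nat.card (cv M (A : Set H)) := by
      rw [h3, ← h2]
      exact Nat.mul_le_mul_left _ (not_lt.1 h1)
    rw [mul_comm] at h4
    exact Nat.le_of_mul_le_mul_left h4 Nat.card_pos

/-- **`NoTie A x → |M : C_M(x)| < |A|`.** -/
theorem index_lt (h : InA H M K T A) [Finite H] [Finite M] {x : H} (hx : x ∈ A) (hn : NoTie A x) :
    (cv M ({x} : Set H)).index < Nat.card A := by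
  rcases h.lt_or_tie hx with h1 | ht
  · exact h1
  · exact (hn _ ht.el ht.le ht.mem ht.le_centralizer ht.cent (h.normalizer_ne_top ht.el ht.le) ht.ti).elim

/-- **`|A| = 4`** -/
theorem false_of_four (h : InA H M K T A) [Finite H] [Finite M] (h4 : Nat.card A = 4) {x : H} (hx : x ∈ A)
    (hx1 : x ≠ 1) (hn : NoTie A x) : False := by
  have h1 := h.index_lt hx hn
  rw [h.index_four h4 hx hx1, h4] at h1
  exact lt_irrefl _ h1

/-- EQ(x) and `NoTie A x` -/
theorem false_of_eq_noTie (h : InA H M K T A) [Finite H] [Finite M] {x : H} (hx : x ∈ A) (hn : NoTie A x)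
    (he : cv M ({x} : Set H) = cv M (A : Set H)) : False := by
  have h1 := h.index_lt hx hn
  rw [he, h.exact] at h1
  exact lt_irrefl _ h1

end InA

end Cfsg.Agent.Omega.ML.Ex
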