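import Cfsg.Agent.Omega.Tools.OddFix

/-!
# The W-part of the exact rows (T10 of the K-list "exact + low"; helper844)

`X = K T` acts on `M` (the irreducible module of `Ex X M K T A`) and on a 2-group `W` of exponent 2 with `W / C_W(K) = M` and
`C_W(T) ≤ C_W(K)` (#21287 (6), #21163 (4)).

* `WPart K T p` : this situation, `p : W → M`;
* `WPart.gl` : `C_W(T ∩ L) = C_W(L)` for `T`-invariant `L ≤ K` with `T ∩ L` Sylow in `L`;
* `WPart.moved` : `T ∩ K` moves every lift of a nontrivial `m ∈ C_M(T ∩ K)`;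
* `WPart.chi w` : the homomorphism `C_K(p w) → ker p`, `k ↦ (k w) w⁻¹`; `chi_eq`: it depends on `p w` only;
  `chi_ne`: it is nontrivial on `T ∩ K` if `T ∩ K` fixes `p w ≠ 1`; `chi_fix` : if `χ(T ∩ L) = 1` then `L` fixes `w`;
* `WPart.exists_index` : the stabiliser in `K` of `m` has a subgroup of index 2 which does not contain `T ∩ K`.
-/

set_option autoImplicit false
set_option linter.style.haveILetI false

namespace Cfsg.Agent.Omega.ML.Ex

open Subgroup

section act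

variable {X : Type*} [Group X] {W : Type*} [CommGroup W] [MulDistribMulAction X W]

/-- the action on `W` written additively -/
@[reducible] def addAct : DistribMulAction X (Additive W) where
  smul x w := Additive.ofMul (x • w.toMul)
  one_smul w := by
    change Additive.ofMul ((1 : X) • w.toMul) = w
    rw [one_smul]; rfl
  mul_smul x y w := by
    change Additive.ofMul ((x * y) • w.toMul) = Additive.ofMul (x • (y • w.toMul))
    rw [mul_smul]
  smul_zero x := by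
    change Additive.ofMul (x • (1 : W)) = 0
    rw [smul_one]; rfl
  smul_add x v w := by
    change Additive.ofMul (x • (v.toMul * w.toMul)) = Additive.ofMul (x • v.toMul) + Additive.ofMul (x • w.toMul)
    rw [smul_mul']; rfl

/-- `Tools.OddFix.odd_fix`, multiplicative form -/
theorem odd_fix_mul [Finite W] (sq : ∀ w : W, w * w = 1) {T L : Subgroup X} (hT : IsPGroup 2 T)
    (hn : ∀ t ∈ T, ∀ k ∈ L, t * k * t⁻¹ ∈ L) (hodd : ¬ 2 ∣ (T ⊓ L).relIndex L)
    (hfix : ∀ w : W, (∀ t ∈ T, t • w = w) → ∀ k ∈ L, k • w = w) {w : W} (hw : ∀ t ∈ T ⊓ L, t • w = w) :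
    ∀ k ∈ L, k • w = w := by
  letI : DistribMulAction X (Additive W) := addAct
  haveI : Finite (Additive W) := ‹Finite W›
  exact Tools.OddFix.odd_fix (W := Additive W) (fun w => sq w.toMul) hT hn hodd (fun w h => hfix w.toMul h)
    (Additive.ofMul w) hw

end act

variable {X : Type*} [Group X] {M : Type*} [Group M] [MulDistribMulAction X M] {W : Type*} [CommGroup W]
  [MulDistribMulAction X W]

/-- The W-part: `W / C_W(K) = M`, `C_W(T) ≤ C_W(K)`. -/
structure WPart (K T : Subgroup X) (p : W →* M) : Prop where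
  sq : ∀ w : W, w * w = 1
  eqv : ∀ (x : X) (w : W), p (x • w) = x • p w
  surj : Function.Surjective p
  ker : ∀ w : W, p w = 1 ↔ ∀ k ∈ K, k • w = w
  fixT : ∀ w : W, (∀ t ∈ T, t • w = w) → ∀ k ∈ K, k • w = w

namespace WPart

variable {K T : Subgroup X} {p : W →* M}

/-- **GL\*.** -/
theorem gl [Finite W] (h : WPart K T p) (hT : IsPGroup 2 T) {L : Subgroup X} (hLK : L ≤ K)
    (hn : ∀ t ∈ T, ∀ k ∈ L, t * k * t⁻¹ ∈ L) (hodd : ¬ 2 ∣ (T ⊓ L).relIndex L) {w : W}
    (hw : ∀ t ∈ T ⊓ L, t • w = w) : ∀ k ∈ L, k • w = w :=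
  odd_fix_mul h.sq hT hn hodd (fun w h1 k hk => h.fixT w h1 k (hLK hk)) hw

/-- A vector fixed by `T ∩ K` lies in the kernel. -/
theorem eq_one_of_fixed [Finite W] (h : WPart K T p) (hT : IsPGroup 2 T) (hK : K.Normal)
    (hodd : ¬ 2 ∣ (T ⊓ K).relIndex K) {w : W} (hw : ∀ t ∈ T ⊓ K, t • w = w) : p w = 1 :=
  (h.ker w).2 (h.gl hT le_rfl (fun t _ k hk => hK.conj_mem k hk t) hodd hw)

/-- **`T ∩ K` moves all lifts.** -/
theorem moved [Finite W] (h : WPart K T p) (hT : IsPGroup 2 T) (hK : K.Normal)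
    (hodd : ¬ 2 ∣ (T ⊓ K).relIndex K) {w : W} (hw : p w ≠ 1) : ∃ s ∈ T ⊓ K, s • w ≠ w := by
  by_contra hcon
  push Not at hcon
  exact hw (h.eq_one_of_fixed hT hK hodd hcon)

theorem mem_ker_of (h : WPart K T p) {w : W} {x : X} (hx : x • p w = p w) : (x • w) * w⁻¹ ∈ p.ker := by
  rw [MonoidHom.mem_ker, map_mul, h.eqv, hx, map_inv, mul_inv_cancel]

/-- `K` is trivial on the kernel. -/
theorem smul_ker (h : WPart K T p) {k : X} (hk : k ∈ K) {z : W} (hz : z ∈ p.ker) : k • z = z :=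
  (h.ker z).1 hz k hk

/-- the stabiliser of `p w` in `K` -/
def st (K : Subgroup X) (m : M) : Subgroup X := K ⊓ MulAction.stabilizer X m

theorem mem_st {m : M} {x : X} : x ∈ st K m ↔ x ∈ K ∧ x • m = m := Iff.rfl

/-- **the homomorphism `χ`** -/
def chi (h : WPart K T p) (w : W) : (st K (p w) : Subgroup X) →* p.ker where
  toFun x := ⟨((x : X) • w) * w⁻¹, h.mem_ker_of x.2.2⟩
  map_one' := Subtype.ext (by
    show (((1 : (st K (p w) : Subgroup X)) : X) • w) * w⁻¹ = 1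
    rw [OneMemClass.coe_one, one_smul, mul_inv_cancel])
  map_mul' x y := Subtype.ext (by
    show (((x * y : (st K (p w) : Subgroup X)) : X) • w) * w⁻¹ = (((x : X) • w) * w⁻¹) * (((y : X) • w) * w⁻¹)
    have h1 : (x : X) • (((y : X) • w) * w⁻¹) = ((y : X) • w) * w⁻¹ := h.smul_ker x.2.1 (h.mem_ker_of y.2.2)
    have h2 : (x : X) • ((y : X) • w) = (((y : X) • w) * w⁻¹) * ((x : X) • w) := by
      conv_lhs => rw [show (y : X) • w = (((y : X) • w) * w⁻¹) * w from by group]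
      rw [smul_mul', h1]
    rw [Subgroup.coe_mul, mul_smul, h2]
    rw [mul_assoc, mul_comm])

theorem chi_apply (h : WPart K T p) (w : W) (x : (st K (p w) : Subgroup X)) :
    ((h.chi w x : p.ker) : W) = ((x : X) • w) * w⁻¹ := rfl

/-- `(x w) w⁻¹` depends on `p w` only. -/
theorem chi_eq (h : WPart K T p) {w w' : W} (hw : p w = p w') {x : X} (hx : x ∈ K) :
    (x • w) * w⁻¹ = (x • w') * w'⁻¹ := by
  have h1 : w * w'⁻¹ ∈ p.ker := by rw [MonoidHom.mem_ker, map_mul, map_inv, hw, mul_inv_cancel]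
  have h2 := h.smul_ker hx h1
  rw [smul_mul', smul_inv'] at h2
  calc (x • w) * w⁻¹ = ((x • w) * (x • w')⁻¹) * ((x • w') * w⁻¹) := by group
    _ = (w * w'⁻¹) * ((x • w') * w⁻¹) := by rw [h2]
    _ = (x • w') * w'⁻¹ := by
      rw [mul_comm (w * w'⁻¹), mul_assoc, ← mul_assoc w⁻¹ w, inv_mul_cancel, one_mul]

/-- **`χ` is nontrivial on `T ∩ K`.** -/
theorem chi_ne [Finite W] (h : WPart K T p) (hT : IsPGroup 2 T) (hK : K.Normal)
    (hodd : ¬ 2 ∣ (T ⊓ K).relIndex K) {w : W} (hw : p w ≠ 1) : ∃ s ∈ T ⊓ K, (s • w) * w⁻¹ ≠ 1 := by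
  obtain ⟨s, hs, h1⟩ := h.moved hT hK hodd hw
  exact ⟨s, hs, fun h2 => h1 (mul_inv_eq_one.1 h2)⟩

/-- If `χ(T ∩ L) = 1` then `L` fixes `w`. -/
theorem chi_fix [Finite W] (h : WPart K T p) (hT : IsPGroup 2 T) {L : Subgroup X} (hLK : L ≤ K)
    (hn : ∀ t ∈ T, ∀ k ∈ L, t * k * t⁻¹ ∈ L) (hodd : ¬ 2 ∣ (T ⊓ L).relIndex L) {w : W}
    (hw : ∀ t ∈ T ⊓ L, (t • w) * w⁻¹ = 1) : (∀ k ∈ L, k • w = w) ∧ ∀ k ∈ L, k • p w = p w := by
  have h1 := h.gl hT hLK hn hodd (w := w) fun t ht => mul_inv_eq_one.1 (hw t ht)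
  exact ⟨h1, fun k hk => by rw [← h.eqv, h1 k hk]⟩

/-- If `L ≤ K` fixes `p w`, then `[L, L]` fixes `w`. -/
theorem commutator_fix (h : WPart K T p) {L : Subgroup X} (hLK : L ≤ K) {w : W} (hL : ∀ k ∈ L, k • p w = p w) :
    ∀ k ∈ ⁅L, L⁆, k • w = w := by
  intro k hk
  have h1 : ⁅L, L⁆ ≤ MulAction.stabilizer X w := by
    rw [commutator_le]
    intro a ha b hb
    have ha' : a ∈ st K (p w) := ⟨hLK ha, hL a ha⟩
    have hb' : b ∈ st K (p w) := ⟨hLK hb, hL b hb⟩
    let a' : (st K (p w) : Subgroup X) := ⟨a, ha'⟩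
    let b' : (st K (p w) : Subgroup X) := ⟨b, hb'⟩
    have h2 : h.chi w (a' * b' * a'⁻¹ * b'⁻¹) = 1 := by
      rw [map_mul, map_mul, map_mul, map_inv, map_inv]
      refine Subtype.ext ?_
      show ((h.chi w a' : p.ker) : W) * (h.chi w b' : p.ker) * ((h.chi w a' : p.ker) : W)⁻¹ *
        ((h.chi w b' : p.ker) : W)⁻¹ = 1
      rw [mul_comm ((h.chi w a' : p.ker) : W), mul_assoc ((h.chi w b' : p.ker) : W), mul_inv_cancel, mul_one,
        mul_inv_cancel]
    have h3 := congrArg (Subtype.val) h2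
    rw [chi_apply] at h3
    exact mul_inv_eq_one.1 h3
  exact h1 hk

/-- If `L ≤ K` fixes `p w`, then every element of odd order of `L` fixes `w`. -/
theorem odd_elt_fix (h : WPart K T p) {w : W} {x : X} (hxK : x ∈ K) (hx : x • p w = p w) (ho : Odd (orderOf x)) :
    x • w = w := by
  have hx' : x ∈ st K (p w) := ⟨hxK, hx⟩
  have h1 : orderOf (h.chi w ⟨x, hx'⟩) ∣ orderOf x := by
    have h0 : orderOf (⟨x, hx'⟩ : (st K (p w) : Subgroup X)) = orderOf x := Subgroup.orderOf_mk x hx'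
    exact h0 ▸ orderOf_map_dvd (h.chi w) ⟨x, hx'⟩
  have h2 : orderOf (h.chi w ⟨x, hx'⟩) ∣ 2 :=
    orderOf_dvd_of_pow_eq_one (Subtype.ext (by rw [pow_two]; exact h.sq _))
  have h3 : h.chi w ⟨x, hx'⟩ = 1 := by
    have h4 : Nat.Coprime 2 (orderOf x) := Nat.coprime_two_left.2 ho
    exact orderOf_eq_one_iff.1 (Nat.eq_one_of_dvd_coprimes h4 h2 h1)
  have h5 := congrArg Subtype.val h3
  rw [chi_apply] at h5
  exact mul_inv_eq_one.1 h5

end WPart

end Cfsg.Agent.Omega.ML.Ex
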