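import Cfsg.Agent.Nodes.Coroot

/-!
# Pairs of reflections of a finite crystallographic Coxeter group

(helper530, for the WALL THEOREM #22477, part (3))

* `conj_simple_eq` : `w s_i w⁻¹` is determined by the root `± w α_i`;
* `exists_pow` : for reflections `r ≠ s` there are `i ≠ j` with `(r s) ^ M i j = 1`;
* `pow_two_or_pow_three` : all labels at most 3: `(r s)² = 1` or `(r s)³ = 1`;
* `conj_eq` : all labels at most 3: `s r s = r` or `s r s = r s r`.
-/

set_option autoImplicit false
set_option linter.unusedSectionVars false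

namespace Cfsg.Agent.Omega.ML.Ex.WallCox

open CoxeterSystem Cfsg.Agent.ChevalleyStructure.CoxeterGeom Cfsg.Agent.Tits.Roots Cfsg.Agent.Tits.Core
  Cfsg.Agent.Tits.RootComb Cfsg.Agent.Nodes.Comb Cfsg.Agent.Nodes.SubComb Cfsg.Agent.Nodes.Coroot

section Cartan

variable {I W : Type*} [Fintype I] [DecidableEq I] [Group W] {M : CoxeterMatrix I}
  (cs : CoxeterSystem M W) {A : I → I → ℤ} (h : IsCartan M A)

/-- The reflection is determined by the root. -/
theorem conj_simple_eq [Finite W] {w w' : W} {i i' : I}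
    (e : rep cs h w (sr i) = rep cs h w' (sr i') ∨ rep cs h w (sr i) = -rep cs h w' (sr i')) :
    w * cs.simple i * w⁻¹ = w' * cs.simple i' * w'⁻¹ := by
  apply rep_injective cs h
  refine LinearMap.ext fun x => ?_
  have h1 := rep_rfl'_eq cs h w i x
  have h2 := rep_rfl'_eq cs h w' i' x
  rw [show w * cs.simple i * w⁻¹ = rfl' cs w i from rfl, show w' * cs.simple i' * w'⁻¹ = rfl' cs w' i' from rfl,
    h1, h2]
  rcases e with e | e
  · rw [e]
  · rw [e, cpr_neg_right cs h x ⟨w', i', rfl⟩]
    module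

/-- Products of two reflections of `⟨s_i, s_j⟩` are powers of `s_i s_j`. -/
theorem mem_rot {i j : I} {v : W} (hv : v ∈ WJ cs {i, j}) {k : I} (hk : k = i ∨ k = j) :
    ∃ z ∈ Subgroup.zpowers (cs.simple i * cs.simple j), v * cs.simple k * v⁻¹ = z * cs.simple i := by
  set Z := Subgroup.zpowers (cs.simple i * cs.simple j) with hZ
  have hgi : cs.simple i * cs.simple j ∈ Z := Subgroup.mem_zpowers _
  have hinv : cs.simple j * cs.simple i ∈ Z := by
    have h1 := inv_mem hgi
    rwa [mul_inv_rev, cs.inv_simple, cs.inv_simple] at h1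
  -- conjugation by `s_i` and `s_j` inverts `Z`
  have hci : ∀ z ∈ Z, cs.simple i * z * cs.simple i ∈ Z := by
    intro z hz
    obtain ⟨n, rfl⟩ := Subgroup.mem_zpowers_iff.1 hz
    have h1 : cs.simple i * (cs.simple i * cs.simple j) ^ n * (cs.simple i)⁻¹ =
        (cs.simple i * (cs.simple i * cs.simple j) * (cs.simple i)⁻¹) ^ n := by
      rw [conj_zpow]
    rw [cs.inv_simple] at h1
    rw [h1]
    refine zpow_mem ?_ n
    rw [← mul_assoc, cs.simple_mul_simple_self, one_mul]
    exact hinv
  have hcj : ∀ z ∈ Z, cs.simple j * z * cs.simple j ∈ Z := by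
    intro z hz
    obtain ⟨n, rfl⟩ := Subgroup.mem_zpowers_iff.1 hz
    have h1 : cs.simple j * (cs.simple i * cs.simple j) ^ n * (cs.simple j)⁻¹ =
        (cs.simple j * (cs.simple i * cs.simple j) * (cs.simple j)⁻¹) ^ n := by
      rw [conj_zpow]
    rw [cs.inv_simple] at h1
    rw [h1]
    refine zpow_mem ?_ n
    rw [mul_assoc, mul_assoc, cs.simple_mul_simple_self, mul_one]
    exact hinv
  have hij : ∀ k, (k = i ∨ k = j) → ∀ x, (∃ z ∈ Z, x = z * cs.simple i) →
      ∃ z ∈ Z, cs.simple k * x * cs.simple k = z * cs.simple i := by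
    rintro k (rfl | rfl) x ⟨z, hz, rfl⟩
    · exact ⟨cs.simple k * z * cs.simple k, hci z hz, by simp only [mul_assoc]⟩
    · refine ⟨cs.simple k * z * cs.simple k * (cs.simple k * cs.simple i) * (cs.simple k * cs.simple i),
        mul_mem (mul_mem (hcj z hz) hinv) hinv, ?_⟩
      have h1 := cs.simple_mul_simple_self k
      have h2 := cs.simple_mul_simple_self i
      calc cs.simple k * (z * cs.simple i) * cs.simple k
          = cs.simple k * z * (cs.simple k * cs.simple k) * cs.simple i * cs.simple k *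
            (cs.simple i * cs.simple i) := by rw [h1, h2]; simp only [mul_one, mul_assoc]
        _ = _ := by simp only [mul_assoc]
  have hbase : ∃ z ∈ Z, cs.simple k = z * cs.simple i := by
    rcases hk with rfl | rfl
    · exact ⟨1, one_mem _, (one_mul _).symm⟩
    · exact ⟨_, hinv, by rw [mul_assoc, cs.simple_mul_simple_self, mul_one]⟩
  have key : ∀ x, (∃ z ∈ Z, v * x * v⁻¹ = z * cs.simple i) ↔ ∃ z ∈ Z, x = z * cs.simple i := by
    clear_value Z
    induction hv using Subgroup.closure_induction with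
    | mem y hy =>
      obtain ⟨l, hl, rfl⟩ := hy
      intro x
      rw [cs.inv_simple]
      refine ⟨fun hx => ?_, hij l hl x⟩
      have h1 := hij l hl _ hx
      have h2 : cs.simple l * (cs.simple l * x * cs.simple l) * cs.simple l =
          (cs.simple l * cs.simple l) * x * (cs.simple l * cs.simple l) := by simp only [mul_assoc]
      rwa [h2, cs.simple_mul_simple_self, one_mul, mul_one] at h1
    | one => intro x; rw [one_mul, inv_one, mul_one]
    | mul a b ha hb iha ihb =>
      intro x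
      have h1 : a * b * x * (a * b)⁻¹ = a * (b * x * b⁻¹) * a⁻¹ := by group
      rw [h1, iha, ihb]
    | inv a ha iha =>
      intro x
      have h1 := iha (a⁻¹ * x * a⁻¹⁻¹)
      have h2 : a * (a⁻¹ * x * a⁻¹⁻¹) * a⁻¹ = x := by group
      rw [h2] at h1
      exact h1.symm
  exact (key _).2 hbase

/-- Two roots in the span of `α_i`, `α_j`. -/
theorem prod_mem_rot {i j : I} {v v' : W} (hv : v ∈ WJ cs {i, j}) (hv' : v' ∈ WJ cs {i, j}) {k k' : I}
    (hk : k = i ∨ k = j) (hk' : k' = i ∨ k' = j) :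
    (v * cs.simple k * v⁻¹ * (v' * cs.simple k' * v'⁻¹)) ^ M i j = 1 := by
  obtain ⟨z, hz, e⟩ := mem_rot cs hv hk
  obtain ⟨z', hz', e'⟩ := mem_rot cs hv' hk'
  have h1 : (v' * cs.simple k' * v'⁻¹) * (v' * cs.simple k' * v'⁻¹) = 1 := by
    have : (v' * cs.simple k' * v'⁻¹) * (v' * cs.simple k' * v'⁻¹) =
      v' * (cs.simple k' * cs.simple k') * v'⁻¹ := by group
    rw [this, cs.simple_mul_simple_self, mul_one, mul_inv_cancel]
  have h2 : v' * cs.simple k' * v'⁻¹ = cs.simple i * z'⁻¹ := by
    have h3 := inv_eq_of_mul_eq_one_right h1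
    rw [← h3, e', mul_inv_rev, cs.inv_simple]
  have h3 : v * cs.simple k * v⁻¹ * (v' * cs.simple k' * v'⁻¹) = z * z'⁻¹ := by
    rw [e, h2]
    calc z * cs.simple i * (cs.simple i * z'⁻¹) = z * (cs.simple i * cs.simple i) * z'⁻¹ := by
          simp only [mul_assoc]
      _ = _ := by rw [cs.simple_mul_simple_self, mul_one]
  rw [h3]
  obtain ⟨n, hn⟩ := Subgroup.mem_zpowers_iff.1 (mul_mem hz (inv_mem hz'))
  rw [← hn, ← zpow_natCast, zpow_comm, zpow_natCast, cs.simple_mul_simple_pow, one_zpow]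

include h in
/-- **Two reflections of a finite crystallographic Coxeter group**. -/
theorem exists_pow [Finite W] {r s : W} (hr : cs.IsReflection r) (hs : cs.IsReflection s) (hrs : r ≠ s) :
    ∃ i j : I, i ≠ j ∧ (r * s) ^ M i j = 1 := by
  obtain ⟨w, a, rfl⟩ := hr
  obtain ⟨w', b, rfl⟩ := hs
  have hx : IsRoot cs h (rep cs h w (sr a)) := ⟨w, a, rfl⟩
  have hy : IsRoot cs h (rep cs h w' (sr b)) := ⟨w', b, rfl⟩
  have hne : rep cs h w (sr a) ≠ rep cs h w' (sr b) := fun e => hrs (conj_simple_eq cs h (Or.inl e))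
  have hne' : rep cs h w (sr a) ≠ -rep cs h w' (sr b) := fun e => hrs (conj_simple_eq cs h (Or.inr e))
  obtain ⟨g, i, j, hij, hsx, hsy⟩ := exists_plane cs h hx hy hne hne'
  obtain ⟨v, hv, k, hk, ek⟩ := exists_of_supp cs h (hx.act g) hsx
  obtain ⟨v', hv', k', hk', ek'⟩ := exists_of_supp cs h (hy.act g) hsy
  refine ⟨i, j, hij, ?_⟩
  have h1 : (g * w) * cs.simple a * (g * w)⁻¹ = v * cs.simple k * v⁻¹ := by
    apply conj_simple_eq cs h
    left
    rw [← ek, rep_mul_apply]
  have h2 : (g * w') * cs.simple b * (g * w')⁻¹ = v' * cs.simple k' * v'⁻¹ := by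
    apply conj_simple_eq cs h
    left
    rw [← ek', rep_mul_apply]
  have h3 := prod_mem_rot cs hv hv' hk hk'
  rw [← h1, ← h2] at h3
  have h4 : g * w * cs.simple a * (g * w)⁻¹ * (g * w' * cs.simple b * (g * w')⁻¹) =
      g * (w * cs.simple a * w⁻¹ * (w' * cs.simple b * w'⁻¹)) * g⁻¹ := by group
  rw [h4, conj_pow] at h3
  have h5 : g⁻¹ * (g * (w * cs.simple a * w⁻¹ * (w' * cs.simple b * w'⁻¹)) ^ M i j * g⁻¹) * g = 1 := by
    rw [h3, mul_one, inv_mul_cancel]
  rw [← h5]
  group

end Cartan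

/-! ### All labels at most three -/

variable {I W : Type*} [Finite I] [Group W] {M : CoxeterMatrix I} (cs : CoxeterSystem M W)

/-- **Simply laced**: the product of two reflections has order 1, 2 or 3. -/
theorem pow_two_or_pow_three [Finite W] (hM : ∀ i j, i ≠ j → M i j = 2 ∨ M i j = 3) {r s : W}
    (hr : cs.IsReflection r) (hs : cs.IsReflection s) : (r * s) ^ 2 = 1 ∨ (r * s) ^ 3 = 1 := by
  classical
  have := Fintype.ofFinite I
  by_cases hrs : r = s
  · left
    rw [hrs, hs.mul_self, one_pow]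
  obtain ⟨A, hA⟩ := exists_cartan M fun i j hij => (hM i j hij).imp_right Or.inl
  obtain ⟨i, j, hij, h1⟩ := exists_pow cs hA hr hs hrs
  rcases hM i j hij with h2 | h2
  · left; rwa [h2] at h1
  · right; rwa [h2] at h1

/-- **Simply laced**: `s r s = r` or `s r s = r s r`. -/
theorem conj_eq [Finite W] (hM : ∀ i j, i ≠ j → M i j = 2 ∨ M i j = 3) {r s : W}
    (hr : cs.IsReflection r) (hs : cs.IsReflection s) : s * r * s = r ∨ s * r * s = r * s * r := by
  have hrr := hr.mul_self
  have hss := hs.mul_self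
  rcases pow_two_or_pow_three cs hM hr hs with h1 | h1
  · left
    have h2 : r * (s * r * s) = 1 := by
      rw [← h1, pow_two]
      simp only [mul_assoc]
    rw [← inv_eq_of_mul_eq_one_right h2, inv_eq_of_mul_eq_one_right hrr]
  · right
    have h2 : (r * s * r) * (s * r * s) = 1 := by
      rw [← h1, pow_succ, pow_two]
      simp only [mul_assoc]
    have h3 : (r * s * r) * (r * s * r) = 1 := by
      calc (r * s * r) * (r * s * r) = r * (s * (r * r) * s) * r := by simp only [mul_assoc]
        _ = 1 := by rw [hrr, mul_one, hss, mul_one, hrr]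
    rw [← inv_eq_of_mul_eq_one_right h2, inv_eq_of_mul_eq_one_right h3]

end Cfsg.Agent.Omega.ML.Ex.WallCox
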