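import Cfsg.Agent.Omega.ML.LieRow.Row
import Cfsg.Agent.Omega.ML.TwF4Opp

/-!
# Exact groups in rank two: the walk around an apartment (helper333)

`Hyp m X` : `Z : ZSys m X` (root groups of a Moufang `m`-gon), all `X k` 2-groups, all minimal parabolics
`J X k (k + m)` perfect, the involutions of `X k` central in `X k`.  `G` acts on the elementary abelian 2-group `M`
such that NO minimal parabolic fixes a nontrivial vector.

**`false_of`** : then there is no `B ≠ 1`, `B ≤ J X 2 m`, `B ≤ J X 1 (m - 1)`, elementary abelian, with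
`|M : C_M(B)| ≤ |B|` and `|C| < |M : C_M(C)|` for `1 < C < B`.

Proof: let `B ≤ U` (a chamber), `P` a minimal parabolic over `U` with radical `Q`, `B` not in `Q`.  `N := [C_M(Q), P]`;
the dual count (`no`) gives `|B : C_B(N)| ≤ |N : C_N(B)|`, so (`sup_eq_top`) `C_B(N) = 1` and `M = N C_M(B)`:
`E := [M, B] = [N, B] ≤ C_M(Q)` is `U`-invariant (`bad`), but not invariant under `P` or the other minimal parabolic `P'`
over `U` (`bad'`).  Walking around the apartment from the chamber 1 in both directions, two different chambers with this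
property are found; the two chambers generate `P` or `P'` of one of them.
-/

set_option autoImplicit false
set_option linter.unusedSectionVars false
set_option linter.unusedVariables false

namespace Cfsg.Agent.Omega.ML.Ex.ZWalk

open Subgroup Cfsg.Agent.ClassTwoFusion.Quad Cfsg.Agent.Omega.ML.Dual
  Cfsg.Agent.Omega.NOThree.NoOver
open Cfsg.Agent.SplitTwo Cfsg.Agent.SplitTwo.ZS
open scoped commutatorElement

section par

variable {G : Type*} [Group G]

/-- chamber `U`, minimal parabolic `P`, radical `Q`, opposite chamber `V` of `P` -/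
structure Par (U P Q V : Subgroup G) : Prop where
  QU : Q ≤ U
  UP : U ≤ P
  QV : Q ≤ V
  VP : V ≤ P
  norm : ∀ p ∈ P, ∀ q ∈ Q, p * q * p⁻¹ ∈ Q
  two : IsPGroup 2 U
  twoV : IsPGroup 2 V
  perf : ⁅P, P⁆ = P
  gen : ∀ u ∈ U, u ∉ Q → ∀ R : Subgroup G, V ≤ R → u ∈ R → P ≤ R
  nc : ∀ u ∈ U, u ∉ Q → ∀ N : Subgroup G, N ≤ P → (∀ p ∈ P, ∀ n ∈ N, p * n * p⁻¹ ∈ N) → Q ≤ N → u ∈ N → P ≤ N
  comm : ∀ b ∈ U, b * b = 1 → ∀ u ∈ U, u * b * u⁻¹ * b⁻¹ ∈ Q

end par

section mod

variable {G : Type*} [Group G] {M : Type*} [Group M] [MulDistribMulAction G M]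

/-- `[W, P]` -/
def cmt (P : Subgroup G) (W : Subgroup M) : Subgroup M := closure {x | ∃ p ∈ P, ∃ v ∈ W, x = (p • v) * v⁻¹}

theorem mem_cmt {P : Subgroup G} {W : Subgroup M} {p : G} (hp : p ∈ P) {v : M} (hv : v ∈ W) :
    (p • v) * v⁻¹ ∈ cmt P W := subset_closure ⟨p, hp, v, hv, rfl⟩

theorem cmt_le {P : Subgroup G} {W K : Subgroup M} (h : ∀ p ∈ P, ∀ v ∈ W, (p • v) * v⁻¹ ∈ K) : cmt P W ≤ K := by
  refine (closure_le _).2 ?_
  rintro x ⟨p, hp, v, hv, rfl⟩
  exact h p hp v hv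

theorem cmt_le_self {P : Subgroup G} {W : Subgroup M} (hW : ∀ p ∈ P, ∀ v ∈ W, p • v ∈ W) : cmt P W ≤ W :=
  cmt_le fun p hp v hv => mul_mem (hW p hp v hv) (inv_mem hv)

/-- invariance of `[W, P]` under an element normalising `P` and `W` -/
theorem smul_cmt {P : Subgroup G} {W : Subgroup M} {g : G} (hg : ∀ p ∈ P, g * p * g⁻¹ ∈ P) (hgW : ∀ v ∈ W, g • v ∈ W)
    {x : M} (hx : x ∈ cmt P W) : g • x ∈ cmt P W := by
  have h1 : cmt P W ≤ (cmt P W).comap (MulDistribMulAction.toMonoidHom M g) := by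
    refine cmt_le fun p hp v hv => ?_
    show g • ((p • v) * v⁻¹) ∈ cmt P W
    have e : g • ((p • v) * v⁻¹) = ((g * p * g⁻¹) • (g • v)) * (g • v)⁻¹ := by
      rw [smul_mul', smul_inv', mul_smul, mul_smul, inv_smul_smul]
    rw [e]
    exact mem_cmt (hg p hp) (hgW v hv)
  exact h1 hx

theorem cmt_inv {P : Subgroup G} {W : Subgroup M} (hW : ∀ p ∈ P, ∀ v ∈ W, p • v ∈ W) :
    ∀ p ∈ P, ∀ v ∈ cmt P W, p • v ∈ cmt P W := fun p hp v hv =>
  smul_cmt (fun x hx => mul_mem (mul_mem hp hx) (inv_mem hp)) (hW p hp) hv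

/-- `[W, P] ≤ [[W, P], P]` for perfect `P` -/
theorem cmt_cmt (hc : ∀ x y : M, x * y = y * x) {P : Subgroup G} (hp : ⁅P, P⁆ = P) {W : Subgroup M}
    (hW : ∀ p ∈ P, ∀ v ∈ W, p • v ∈ W) : cmt P W ≤ cmt P (cmt P W) := by
  refine cmt_le fun p hp0 v hv => ?_
  set K := cmt P (cmt P W) with hK
  let D : G → M := fun p => (p • v) * v⁻¹
  have hD : ∀ p ∈ P, D p ∈ cmt P W := fun p hp => mem_cmt hp hv
  have hmul : ∀ p ∈ P, ∀ q ∈ P, D (p * q) * (D p * D q)⁻¹ ∈ K := by
    intro p hp q hq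
    have e : D (p * q) * (D p * D q)⁻¹ = (p • D q) * (D q)⁻¹ := by
      have e1 : D (p * q) = (p • D q) * D p := by
        show ((p * q) • v) * v⁻¹ = (p • ((q • v) * v⁻¹)) * ((p • v) * v⁻¹)
        rw [smul_mul', smul_inv', mul_smul]; group
      rw [e1, mul_inv_rev, hc (D q)⁻¹ (D p)⁻¹]; group
    rw [e]
    exact mem_cmt hp (hD q hq)
  have key : ∀ x ∈ ⁅P, P⁆, D x ∈ K := by
    let T : Subgroup G :=
      { carrier := {x | x ∈ P ∧ D x ∈ K}
        one_mem' := ⟨one_mem _, by show ((1 : G) • v) * v⁻¹ ∈ K; rw [one_smul, mul_inv_cancel]; exact one_mem _⟩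
        mul_mem' := by
          rintro a b ⟨ha, ha'⟩ ⟨hb, hb'⟩
          refine ⟨mul_mem ha hb, ?_⟩
          have e : D (a * b) = (D (a * b) * (D a * D b)⁻¹) * (D a * D b) := by group
          rw [e]
          exact mul_mem (hmul a ha b hb) (mul_mem ha' hb')
        inv_mem' := by
          rintro a ⟨ha, ha'⟩
          refine ⟨inv_mem ha, ?_⟩
          have h1 := hmul a ha a⁻¹ (inv_mem ha)
          have h2 : D (a * a⁻¹) = 1 := by
            show ((a * a⁻¹) • v) * v⁻¹ = 1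
            rw [mul_inv_cancel, one_smul, mul_inv_cancel]
          rw [h2, one_mul, inv_mem_iff] at h1
          have e : D a⁻¹ = (D a)⁻¹ * (D a * D a⁻¹) := by group
          rw [e]
          exact mul_mem (inv_mem ha') h1 }
    have h1 : ⁅P, P⁆ ≤ T := by
      rw [Subgroup.commutator_le]
      intro a ha b hb
      have hcm : ⁅a, b⁆ ∈ P := by rw [← hp]; exact Subgroup.commutator_mem_commutator ha hb
      refine ⟨hcm, ?_⟩
      have k1 := hmul _ hcm _ (mul_mem hb ha)
      have k2 := hmul b hb a ha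
      have k3 := hmul a ha b hb
      rw [show ⁅a, b⁆ * (b * a) = a * b by rw [commutatorElement_def]; group] at k1
      rw [hc (D b) (D a)] at k2
      have e : D ⁅a, b⁆ = (D (a * b) * (D ⁅a, b⁆ * D (b * a))⁻¹)⁻¹ * (D (a * b) * (D a * D b)⁻¹) *
          (D (b * a) * (D a * D b)⁻¹)⁻¹ := by group
      rw [e]
      exact mul_mem (mul_mem (inv_mem k1) k3) (inv_mem k2)
    exact fun x hx => (h1 hx).2
  exact key p (by rw [hp]; exact hp0)

/-- `C_M(Q)` is invariant under an element normalising `Q` -/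
theorem smul_cv {Q : Subgroup G} {g : G} (hg : ∀ q ∈ Q, g⁻¹ * q * g ∈ Q) {v : M} (hv : v ∈ cv M (Q : Set G)) :
    g • v ∈ cv M (Q : Set G) := by
  intro q hq
  have h1 := hv _ (hg q hq)
  have e : q • g • v = g • ((g⁻¹ * q * g) • v) := by
    rw [← mul_smul, ← mul_smul]; congr 1; group
  rw [e, h1]

variable [Finite G] [Finite M]

/-- a 2-group fixes a functional of an invariant subgroup -/
theorem exists_fn (sq : ∀ m : M, m * m = 1) {P : Subgroup G} {N : Subgroup M} (hN : ∀ p ∈ P, ∀ n ∈ N, p • n ∈ N)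
    (hne : N ≠ ⊥) {T : Subgroup G} (hT : IsPGroup 2 T) (hTP : T ≤ P) :
    ∃ u : M → ℤˣ, Fn N u ∧ (∃ w ∈ N, u w ≠ 1) ∧ ∀ t ∈ T, ∀ w ∈ N, u (t • w) = u w := by
  classical
  let _ : MulDistribMulAction P N :=
    { smul := fun p n => ⟨(p : G) • (n : M), hN p p.2 n n.2⟩
      one_smul := fun n => Subtype.ext (one_smul G (n : M))
      mul_smul := fun p q n => Subtype.ext (mul_smul (p : G) (q : G) (n : M))
      smul_mul := fun p n n' => Subtype.ext (smul_mul' (p : G) (n : M) (n' : M))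
      smul_one := fun p => Subtype.ext (smul_one (p : G)) }
  have hnt : Nontrivial N := N.nontrivial_iff_ne_bot.2 hne
  obtain ⟨u, h1, ⟨w, hw⟩, h2⟩ := LieRow.exists_functional (H := P) (M := N) (fun n => Subtype.ext (sq n)) hnt
    (T := T.subgroupOf P) (hT.comap_of_injective P.subtype P.subtype_injective)
  have e : ∀ (n : M) (hn : n ∈ N), (if h : n ∈ N then u ⟨n, h⟩ else 1) = u ⟨n, hn⟩ := fun n hn => dif_pos hn
  refine ⟨fun m => if h : m ∈ N then u ⟨m, h⟩ else 1, ?_, ⟨w, w.2, ?_⟩, ?_⟩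
  · intro a ha b hb
    simp only
    rw [e _ (mul_mem ha hb), e _ ha, e _ hb, ← h1]
    rfl
  · simp only
    rw [e _ w.2]
    exact hw
  · intro t ht w hw
    simp only
    rw [e _ hw, e _ (hN t (hTP ht) w hw)]
    exact h2 ⟨t, hTP ht⟩ (mem_subgroupOf.2 ht) ⟨w, hw⟩

/-- a functional of `N` fixed by `P` is trivial on `[N, P]` -/
theorem fn_cmt {P : Subgroup G} {N : Subgroup M} (hN : ∀ p ∈ P, ∀ n ∈ N, p • n ∈ N) {u : M → ℤˣ} (hu : Fn N u)
    (h : ∀ p ∈ P, ∀ w ∈ N, u (p • w) = u w) : ∀ w ∈ cmt P N, u w = 1 := by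
  let K : Subgroup M :=
    { carrier := {w | w ∈ N ∧ u w = 1}
      one_mem' := ⟨one_mem _, hu.one⟩
      mul_mem' := fun {a b} ha hb => ⟨mul_mem ha.1 hb.1, by rw [hu a ha.1 b hb.1, ha.2, hb.2, one_mul]⟩
      inv_mem' := fun {a} ha => ⟨inv_mem ha.1, by rw [hu.inv ha.1, ha.2]⟩ }
  have h1 : cmt P N ≤ K := by
    refine cmt_le fun p hp v hv => ⟨mul_mem (hN p hp v hv) (inv_mem hv), ?_⟩
    rw [hu _ (hN p hp v hv) _ (inv_mem hv), hu.inv hv, h p hp v hv]
    exact Int.units_mul_self _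
  exact fun w hw => (h1 hw).2

/-- **the dual count** -/
theorem no {U P Q V : Subgroup G} (hP : Par U P Q V) (sq : ∀ m : M, m * m = 1) {N : Subgroup M}
    (hN : ∀ p ∈ P, ∀ n ∈ N, p • n ∈ N) (hQ : ∀ q ∈ Q, ∀ n ∈ N, q • n = n) (hpN : N ≤ cmt P N) (hne : N ≠ ⊥)
    {B : Subgroup G} (hBU : B ≤ U) :
    (cw B N).relIndex B ≤ (cv M (B : Set G)).relIndex N := by
  obtain ⟨u, hu, ⟨w, hw, hw1⟩, hfix⟩ := exists_fn sq hN hne hP.twoV hP.VP
  have hBI : Iv B N := fun b hb w hw => hN b (hP.UP (hBU hb)) w hw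
  have hPI : Iv P N := hN
  refine le_trans ?_ (dc hBI hu)
  refine relIndex_le_of_le_left ?_ (relIndex_ne _ _)
  intro b hb
  have hb' := (mem_st hBI).1 hb
  refine ⟨hb'.1, ?_⟩
  by_cases hbQ : b ∈ Q
  · exact hQ b hbQ
  exfalso
  have h1 : P ≤ st P N u := by
    refine hP.gen b (hBU hb'.1) hbQ _ (fun v hv => ?_) ?_
    · exact (mem_st hPI).2 ⟨hP.VP hv, hfix v hv⟩
    · exact (mem_st hPI).2 ⟨hP.UP (hBU hb'.1), hb'.2⟩
  exact hw1 (fn_cmt hN hu (fun p hp => ((mem_st hPI).1 (h1 hp)).2) w (hpN hw))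

/-- **minimal exact groups** -/
theorem sup_eq_top (hc : ∀ x y : M, x * y = y * x) {B : Subgroup G} (hB : (cv M (B : Set G)).index ≤ Nat.card B)
    (hmin : ∀ C : Subgroup G, C ≤ B → C ≠ ⊥ → C ≠ B → Nat.card C < (cv M (C : Set G)).index) {W : Subgroup M}
    (hNO : (cw B W).relIndex B ≤ (cv M (B : Set G)).relIndex W) (hmv : cw B W ≠ B) :
    cv M (B : Set G) ⊔ W = ⊤ := by
  have hnorm : ∀ K : Subgroup M, K.Normal := fun K => ⟨fun n hn g => by rw [hc g n, mul_inv_cancel_right]; exact hn⟩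
  have := hnorm (cv M (B : Set G))
  have h1 : (cv M (B : Set G)).relIndex (cv M (B : Set G) ⊔ W) * (cv M (B : Set G) ⊔ W).index =
      (cv M (B : Set G)).index := relIndex_mul_index le_sup_left
  have h2 : (cv M (B : Set G)).relIndex (cv M (B : Set G) ⊔ W) = (cv M (B : Set G)).relIndex W := by
    rw [sup_comm, relIndex_sup_right]
  rw [h2] at h1
  have h3 : Nat.card (cw B W) * (cw B W).relIndex B = Nat.card B := by
    have h4 : (cw B W).relIndex B * Nat.card (cw B W) = Nat.card B := by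
      have h5 := Subgroup.relIndex_mul_relIndex ⊥ (cw B W) B bot_le (cw_le B W)
      rw [relIndex_bot_left, relIndex_bot_left] at h5
      rw [mul_comm]; exact h5
    rw [mul_comm]; exact h4
  have hpos : 0 < Nat.card (cw B W) := Nat.card_pos
  have hposj : 0 < (cv M (B : Set G) ⊔ W).index := Nat.pos_of_ne_zero index_ne_zero_of_finite
  have hposi : 0 < (cv M (B : Set G)).relIndex W := Nat.pos_of_ne_zero (relIndex_ne _ _)
  by_cases hC : cw B W = ⊥
  · have h4 : Nat.card (cw B W) = 1 := by rw [hC]; exact card_bot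
    rw [h4, one_mul] at h3
    have h5 : (cv M (B : Set G)).relIndex W * (cv M (B : Set G) ⊔ W).index ≤ (cv M (B : Set G)).relIndex W * 1 := by
      rw [h1, mul_one]
      exact (hB.trans_eq h3.symm).trans hNO
    have h6 := Nat.le_of_mul_le_mul_left h5 hposi
    exact index_eq_one.1 (le_antisymm h6 hposj)
  · exfalso
    have h4 := hmin _ (cw_le B W) hC hmv
    have h5 : (cv M ((cw B W : Subgroup G) : Set G)).index ≤ (cv M (B : Set G) ⊔ W).index := by
      refine Nat.le_of_dvd hposj (index_dvd_of_le (sup_le ?_ ?_))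
      · exact cv_anti (cw_le B W)
      · intro w hw a ha
        exact ha.2 w hw
    have h6 : Nat.card (cw B W) * (cw B W).relIndex B < (cv M (B : Set G) ⊔ W).index * (cv M (B : Set G)).relIndex W :=
      calc _ ≤ Nat.card (cw B W) * (cv M (B : Set G)).relIndex W := Nat.mul_le_mul_left _ hNO
        _ < _ := Nat.mul_lt_mul_of_pos_right (lt_of_lt_of_le h4 h5) hposi
    rw [h3, mul_comm, h1] at h6
    omega

/-- a 2-group acting on a nontrivial subgroup has a nontrivial fixed vector -/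
theorem exists_fixed (sq : ∀ m : M, m * m = 1) {U : Subgroup G} (hU : IsPGroup 2 U) {E : Subgroup M}
    (hE : ∀ u ∈ U, ∀ e ∈ E, u • e ∈ E) (hne : E ≠ ⊥) : ∃ f ∈ E, f ≠ 1 ∧ ∀ u ∈ U, u • f = f := by
  classical
  have hp : Fact (Nat.Prime 2) := ⟨Nat.prime_two⟩
  let _ : MulAction U E :=
    { smul := fun p n => ⟨(p : G) • (n : M), hE p p.2 n n.2⟩
      one_smul := fun n => Subtype.ext (one_smul G (n : M))
      mul_smul := fun p q n => Subtype.ext (mul_smul (p : G) (q : G) (n : M)) }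
  have hsm : ∀ (u : U) (e : E), ((u • e : E) : M) = (u : G) • (e : M) := fun _ _ => rfl
  have hE2 : IsPGroup 2 E := fun m => ⟨1, by rw [pow_one, pow_two]; exact Subtype.ext (sq m)⟩
  have hnt : Nontrivial E := E.nontrivial_iff_ne_bot.2 hne
  have hd : 2 ∣ Nat.card E := by
    obtain ⟨n, hn⟩ := IsPGroup.iff_card.1 hE2
    rcases Nat.eq_zero_or_pos n with h0 | h0
    · rw [h0, pow_zero] at hn
      exact absurd hn (Finite.one_lt_card (α := E)).ne'
    · rw [hn]; exact dvd_pow_self 2 h0.ne'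
  have h1 : (1 : E) ∈ MulAction.fixedPoints U E := fun u => Subtype.ext (smul_one (u : G))
  obtain ⟨f, hf, hne⟩ := hU.exists_fixed_point_of_prime_dvd_card_of_fixed_point E hd h1
  refine ⟨f, f.2, fun h => hne (Subtype.ext h.symm), fun u hu => ?_⟩
  have := congrArg Subtype.val (hf ⟨u, hu⟩)
  exact this

/-- `[M, B]` at a chamber `U` where `B` is not in the radical `Q` of a minimal parabolic `P` -/
theorem bad {U P Q V : Subgroup G} (hP : Par U P Q V) (sq : ∀ m : M, m * m = 1) (hc : ∀ x y : M, x * y = y * x)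
    (hmov : ∀ f : M, f ≠ 1 → (∀ u ∈ U, u • f = f) → ∃ p ∈ P, p • f ≠ f)
    {B : Subgroup G} (hel : ∀ b ∈ B, b * b = 1) (hB : (cv M (B : Set G)).index ≤ Nat.card B)
    (hmin : ∀ C : Subgroup G, C ≤ B → C ≠ ⊥ → C ≠ B → Nat.card C < (cv M (C : Set G)).index)
    (hBU : B ≤ U) (hBQ : ¬ B ≤ Q) (hM : Nontrivial M) :
    cmt B (⊤ : Subgroup M) ≤ cv M (Q : Set G) ∧ (∀ u ∈ U, ∀ e ∈ cmt B (⊤ : Subgroup M), u • e ∈ cmt B (⊤ : Subgroup M)) ∧
      cmt B (⊤ : Subgroup M) ≠ ⊥ ∧
        ¬ ∀ p ∈ P, ∀ e ∈ cmt B (⊤ : Subgroup M), p • e ∈ cmt B (⊤ : Subgroup M) := by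
  obtain ⟨b₀, hb₀, hb₀Q⟩ := SetLike.not_le_iff_exists.1 hBQ
  have hBP : B ≤ P := hBU.trans hP.UP
  -- the module `N`
  have hCinv : ∀ p ∈ P, ∀ v ∈ cv M (Q : Set G), p • v ∈ cv M (Q : Set G) := fun p hp v hv =>
    smul_cv (fun q hq => by
      have := hP.norm p⁻¹ (inv_mem hp) q hq
      rwa [inv_inv] at this) hv
  set N : Subgroup M := cmt P (cv M (Q : Set G)) with hN
  have hNinv : ∀ p ∈ P, ∀ n ∈ N, p • n ∈ N := cmt_inv hCinv
  have hNC : N ≤ cv M (Q : Set G) := cmt_le_self hCinv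
  have hQN : ∀ q ∈ Q, ∀ n ∈ N, q • n = n := fun q hq n hn => hNC hn q hq
  have hpN : N ≤ cmt P N := cmt_cmt hc hP.perf hCinv
  obtain ⟨f, -, hf1, hfU⟩ := exists_fixed (G := G) (U := U) sq hP.two (E := (⊤ : Subgroup M))
    (fun _ _ _ _ => mem_top _) (by
      intro h
      obtain ⟨x, hx⟩ := exists_ne (1 : M)
      exact hx (mem_bot.1 (h ▸ mem_top x)))
  have hNne : N ≠ ⊥ := by
    intro h
    obtain ⟨p, hp, hpf⟩ := hmov f hf1 hfU
    apply hpf
    have h1 : (p • f) * f⁻¹ ∈ N := mem_cmt hp fun q hq => hfU q (hP.QU hq)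
    rw [h, mem_bot] at h1
    exact mul_inv_eq_one.1 h1
  -- `B` moves `N`
  have hmvN : cw B N ≠ B := by
    intro h
    let K : Subgroup G :=
      { carrier := {p | p ∈ P ∧ ∀ n ∈ N, p • n = n}
        one_mem' := ⟨one_mem _, fun n _ => one_smul G n⟩
        mul_mem' := fun {a b} ha hb => ⟨mul_mem ha.1 hb.1, fun n hn => by rw [mul_smul, hb.2 n hn, ha.2 n hn]⟩
        inv_mem' := fun {a} ha => ⟨inv_mem ha.1, fun n hn => by
          have := ha.2 n hn
          rw [inv_smul_eq_iff, this]⟩ }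
    have h1 : P ≤ K := by
      refine hP.nc b₀ (hBU hb₀) hb₀Q K (fun x hx => hx.1) (fun p hp k hk => ?_) (fun q hq => ?_) ?_
      · refine ⟨mul_mem (mul_mem hp hk.1) (inv_mem hp), fun n hn => ?_⟩
        rw [mul_smul, mul_smul, hk.2 _ (hNinv _ (inv_mem hp) n hn), smul_inv_smul]
      · exact ⟨hP.UP (hP.QU hq), hQN q hq⟩
      · refine ⟨hBP hb₀, ?_⟩
        have : b₀ ∈ cw B N := by rw [h]; exact hb₀
        exact this.2
    apply hNne
    rw [eq_bot_iff]
    refine hpN.trans (cmt_le fun p hp v hv => ?_)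
    rw [(h1 hp).2 v hv, mul_inv_cancel]
    exact one_mem _
  have hNO := no hP sq hNinv hQN hpN hNne hBU
  have htop := sup_eq_top hc hB hmin hNO hmvN
  -- `E = [N, B]`
  set E : Subgroup M := cmt B (⊤ : Subgroup M) with hE
  have hEN : E ≤ cmt B N := by
    refine cmt_le fun b hb m _ => ?_
    have h1 : m ∈ cv M (B : Set G) ⊔ N := by rw [htop]; exact mem_top _
    have hnormal : (cv M (B : Set G)).Normal :=
      ⟨fun n hn g => by rw [hc g n, mul_inv_cancel_right]; exact hn⟩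
    obtain ⟨c, hc', n, hn, rfl⟩ := Subgroup.mem_sup_of_normal_left.1 h1
    have e : (b • (c * n)) * (c * n)⁻¹ = (b • n) * n⁻¹ := by
      rw [smul_mul', hc' b hb, mul_inv_rev, hc c (b • n)]
      rw [mul_assoc, hc n⁻¹ c⁻¹, ← mul_assoc c, mul_inv_cancel, one_mul]
    rw [e]
    exact mem_cmt hb hn
  have hEN' : E ≤ N := hEN.trans (cmt_le_self fun b hb n hn => hNinv b (hBP hb) n hn)
  have hsub : cmt B N ≤ E := cmt_le fun b hb n _ => mem_cmt hb (mem_top n)
  refine ⟨hEN'.trans hNC, ?_, ?_, ?_⟩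
  · -- `U`-invariance
    intro u hu e he
    have h1 : E ≤ E.comap (MulDistribMulAction.toMonoidHom M u) := by
      refine hEN.trans (cmt_le fun b hb n hn => ?_)
      show u • ((b • n) * n⁻¹) ∈ E
      have hun := hNinv u (hP.UP hu) n hn
      have hq := hP.comm b (hBU hb) (hel b hb) u hu
      have e1 : u • ((b • n) * n⁻¹) = (b • (u • n)) * (u • n)⁻¹ := by
        rw [smul_mul', smul_inv']
        congr 1
        have e2 : u • b • n = (u * b * u⁻¹ * b⁻¹) • (b • (u • n)) := by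
          rw [← mul_smul, ← mul_smul, ← mul_smul]; congr 1; group
        rw [e2, hQN _ hq _ (hNinv b (hBP hb) _ hun)]
      rw [e1]
      exact mem_cmt hb (mem_top _)
    exact h1 he
  · -- `E ≠ 1`
    intro h
    apply hmvN
    refine le_antisymm (cw_le B N) fun b hb => ⟨hb, fun n hn => ?_⟩
    have h1 : (b • n) * n⁻¹ ∈ E := mem_cmt hb (mem_top n)
    rw [h, mem_bot] at h1
    exact mul_inv_eq_one.1 h1
  · -- `E` is not `P`-invariant
    intro hinv
    let K : Subgroup G :=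
      { carrier := {p | p ∈ P ∧ ∀ n ∈ N, (p • n) * n⁻¹ ∈ E}
        one_mem' := ⟨one_mem _, fun n _ => by rw [one_smul, mul_inv_cancel]; exact one_mem _⟩
        mul_mem' := by
          rintro a b ⟨ha, ha'⟩ ⟨hb, hb'⟩
          refine ⟨mul_mem ha hb, fun n hn => ?_⟩
          have e : ((a * b) • n) * n⁻¹ = ((a • (b • n)) * (b • n)⁻¹) * ((b • n) * n⁻¹) := by
            rw [mul_smul]; group
          rw [e]
          exact mul_mem (ha' _ (hNinv b hb n hn)) (hb' n hn)
        inv_mem' := by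
          rintro a ⟨ha, ha'⟩
          refine ⟨inv_mem ha, fun n hn => ?_⟩
          have h1 := ha' _ (hNinv a⁻¹ (inv_mem ha) n hn)
          rw [smul_inv_smul] at h1
          have e : (a⁻¹ • n) * n⁻¹ = (n * (a⁻¹ • n)⁻¹)⁻¹ := by group
          rw [e]
          exact inv_mem h1 }
    have h1 : P ≤ K := by
      refine hP.nc b₀ (hBU hb₀) hb₀Q K (fun x hx => hx.1) (fun p hp k hk => ?_) (fun q hq => ?_) ?_
      · refine ⟨mul_mem (mul_mem hp hk.1) (inv_mem hp), fun n hn => ?_⟩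
        have h2 := hk.2 _ (hNinv p⁻¹ (inv_mem hp) n hn)
        have e : ((p * k * p⁻¹) • n) * n⁻¹ = p • ((k • (p⁻¹ • n)) * (p⁻¹ • n)⁻¹) := by
          rw [smul_mul', smul_inv', smul_inv_smul, mul_smul, mul_smul]
        rw [e]
        exact hinv p hp _ h2
      · refine ⟨hP.UP (hP.QU hq), fun n hn => ?_⟩
        rw [hQN q hq n hn, mul_inv_cancel]; exact one_mem _
      · exact ⟨hBP hb₀, fun n _ => mem_cmt hb₀ (mem_top n)⟩
    have h2 : N ≤ E := hpN.trans (cmt_le fun p hp v hv => (h1 hp).2 v hv)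
    obtain ⟨u, hu, ⟨w, hw, hw1⟩, hfix⟩ := exists_fn sq hNinv hNne hP.two hP.UP
    apply hw1
    exact fn_cmt (P := B) (N := N) (fun b hb n hn => hNinv b (hBP hb) n hn) hu (fun b hb n hn => hfix b (hBU hb) n hn) w
      (hEN (h2 hw))

/-- the second minimal parabolic -/
theorem bad' {U P' Q' V' : Subgroup G} (hP : Par U P' Q' V') (sq : ∀ m : M, m * m = 1)
    (hmov : ∀ f : M, f ≠ 1 → (∀ u ∈ U, u • f = f) → ∃ p ∈ P', p • f ≠ f) {E : Subgroup M} {Q : Subgroup G}
    (hEQ : E ≤ cv M (Q : Set G)) (hEU : ∀ u ∈ U, ∀ e ∈ E, u • e ∈ E) (hne : E ≠ ⊥) {x : G} (hxU : x ∈ U) (hx : x ∈ Q)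
    (hx' : x ∉ Q') (hinv : ∀ p ∈ P', ∀ e ∈ E, p • e ∈ E) : False := by
  obtain ⟨f, hfE, hf1, hfU⟩ := exists_fixed sq hP.two hEU hne
  obtain ⟨p, hp, hpf⟩ := hmov f hf1 hfU
  -- the elements of `P'` centralising `E`
  let C : Subgroup G :=
    { carrier := {p | p ∈ P' ∧ ∀ n ∈ E, p • n = n}
      one_mem' := ⟨one_mem _, fun n _ => one_smul G n⟩
      mul_mem' := fun {a b} ha hb => ⟨mul_mem ha.1 hb.1, fun n hn => by rw [mul_smul, hb.2 n hn, ha.2 n hn]⟩
      inv_mem' := fun {a} ha => ⟨inv_mem ha.1, fun n hn => by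
        have := ha.2 n hn
        rw [inv_smul_eq_iff, this]⟩ }
  have hCn : ∀ p ∈ P', ∀ k ∈ C, p * k * p⁻¹ ∈ C := fun p hp k hk => by
    refine ⟨mul_mem (mul_mem hp hk.1) (inv_mem hp), fun n hn => ?_⟩
    rw [mul_smul, mul_smul, hk.2 _ (hinv _ (inv_mem hp) n hn), smul_inv_smul]
  have hn : ∀ p ∈ P', ∀ n ∈ C ⊔ Q', p * n * p⁻¹ ∈ C ⊔ Q' := by
    intro p hp n hn
    have h1 : C ⊔ Q' ≤ (C ⊔ Q').comap (MulAut.conj p).toMonoidHom := sup_le
      (fun k hk => mem_sup_left (hCn p hp k hk)) (fun k hk => mem_sup_right (hP.norm p hp k hk))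
    exact h1 hn
  have h1 : P' ≤ C ⊔ Q' := hP.nc x hxU hx' (C ⊔ Q') (sup_le (fun k hk => hk.1) (hP.QU.trans hP.UP)) hn le_sup_right
    (mem_sup_left ⟨hP.UP hxU, fun n hn => hEQ hn x hx⟩)
  have h2 : C ⊔ Q' ≤ MulAction.stabilizer G f := sup_le (fun k hk => hk.2 f hfE) fun q hq => hfU q (hP.QU hq)
  exact hpf (h2 (h1 hp))

end mod

section zsys

variable {G : Type*} [Group G]

/-- a perfect group is not covered by a proper normal subgroup and a solvable subgroup -/
theorem perfect_le {H A N : Subgroup G} (hp : ⁅H, H⁆ = H) (hA : Group.IsSolvable A) (hAH : A ≤ H) (hNH : N ≤ H)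
    (hn : ∀ h ∈ H, ∀ n ∈ N, h * n * h⁻¹ ∈ N) (hH : H ≤ A ⊔ N) : H ≤ N := by
  let N' : Subgroup H := N.subgroupOf H
  have hN' : N'.Normal := ⟨fun x hx g => hn g g.2 x hx⟩
  let f : A →* H ⧸ N' := (QuotientGroup.mk' N').comp (Subgroup.inclusion hAH)
  have hf : Function.Surjective f := by
    intro q
    obtain ⟨g, rfl⟩ := QuotientGroup.mk'_surjective N' q
    obtain ⟨a, ha, b, hb, h⟩ := mem_sup_of_norm (fun a ha b hb => hn a (hAH ha) b hb) (hH g.2)
    refine ⟨⟨a, ha⟩, ?_⟩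
    show (QuotientGroup.mk' N') ⟨a, hAH ha⟩ = QuotientGroup.mk' N' g
    rw [QuotientGroup.mk'_eq_mk']
    exact ⟨⟨b, hNH hb⟩, hb, Subtype.ext h.symm⟩
  have : Group.IsSolvable (H ⧸ N') := Group.isSolvable_of_surjective hf
  by_contra hne
  have hNt : N' ≠ ⊤ := by
    intro hN
    rw [Subgroup.subgroupOf_eq_top] at hN
    exact hne hN
  have : Nontrivial (H ⧸ N') := QuotientGroup.nontrivial_iff.2 hNt
  have h1 : commutator (H ⧸ N') < ⊤ := Group.IsSolvable.commutator_lt_top_of_nontrivial _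
  apply h1.ne
  have h2 : commutator H = ⊤ := by
    have h3 : (commutator H).map H.subtype = (⊤ : Subgroup H).map H.subtype := by
      rw [Subgroup.map_subtype_commutator, hp, ← MonoidHom.range_eq_map, Subgroup.range_subtype]
    exact Subgroup.map_injective H.subtype_injective h3
  have h4 : Subgroup.map (QuotientGroup.mk' N') (commutator H) = commutator (H ⧸ N') := by
    rw [commutator_def, commutator_def, Subgroup.map_commutator, Subgroup.map_top_of_surjective _
      (QuotientGroup.mk'_surjective N')]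
  rw [← h4, h2, Subgroup.map_top_of_surjective _ (QuotientGroup.mk'_surjective N')]

/-- the hypotheses on the root groups -/
structure Hyp (m : ℤ) (X : ℤ → Subgroup G) : Prop where
  Z : ZSys m X
  h2 : ∀ k, IsPGroup 2 (X k)
  perf : ∀ k, ⁅J X k (k + m), J X k (k + m)⁆ = J X k (k + m)
  cin : ∀ k, ∀ y ∈ X k, y * y = 1 → ∀ x ∈ X k, x * y = y * x

variable {X : ℤ → Subgroup G} {m : ℤ}

theorem Hyp.rev (H : Hyp m X) (s : ℤ) : Hyp m (fun k => X (s - k)) := by
  refine ⟨H.Z.rev s, fun k => H.h2 _, fun k => ?_, fun k => H.cin _⟩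
  rw [ZSys.J_rev]
  have := H.perf (s - (k + m))
  rw [show s - (k + m) + m = s - k by ring] at this
  exact this

variable [Finite G]

theorem par_plus (H : Hyp m X) (k : ℤ) :
    Par (J X k (k + m - 1)) (J X k (k + m)) (J X (k + 1) (k + m - 1)) (J X (k + 1) (k + m)) := by
  have hm := H.Z.two_lt
  have hnorm : ∀ p ∈ J X k (k + m), ∀ q ∈ J X (k + 1) (k + m - 1), p * q * p⁻¹ ∈ J X (k + 1) (k + m - 1) :=
    fun p hp q hq => H.Z.conj_J (a := k + 1) (b := k + m - 1) (by omega) (by omega) (by omega) hp hq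
  have hgen : ∀ u ∈ J X k (k + m - 1), u ∉ J X (k + 1) (k + m - 1) → ∀ R : Subgroup G, J X (k + 1) (k + m) ≤ R →
      u ∈ R → J X k (k + m) ≤ R := by
    intro u hu huQ R hV huR
    obtain ⟨y, hy, q, hq, e⟩ := H.Z.split_ll (a := k) (b := k + m - 1) (by omega) (by omega) hu
    have hy1 : y ≠ 1 := by
      rintro rfl
      rw [one_mul] at e
      exact huQ (e ▸ hq)
    have hyR : y ∈ R := by
      have e1 : y = u * q⁻¹ := by rw [e]; group
      rw [e1]
      exact mul_mem huR (inv_mem (hV (J_mono le_rfl (by omega) hq)))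
    have ho : X (k + m) ≤ R := (X_le_J (by omega) le_rfl).trans hV
    obtain ⟨v, hv, v', hv', hn⟩ := H.Z.mu k y hy hy1
    rw [TwF4Opp.per_m H.Z] at hv hv'
    have hnR : v * y * v' ∈ R := mul_mem (mul_mem (ho hv) hyR) (ho hv')
    refine J_le fun j h1 h2 w hw => ?_
    rcases eq_or_lt_of_le h1 with h3 | h3
    · rw [← h3] at hw
      have h4 : (v * y * v') * w * (v * y * v')⁻¹ ∈ X (2 * k - m - k) := hn.mem hw
      rw [show 2 * k - m - k = k - m by ring, TwF4Opp.per_m H.Z] at h4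
      have e1 : w = (v * y * v')⁻¹ * ((v * y * v') * w * (v * y * v')⁻¹) * (v * y * v') := by group
      rw [e1]
      exact mul_mem (mul_mem (inv_mem hnR) (ho h4)) hnR
    · exact hV (mem_J hw (by omega) h2)
  refine ⟨J_mono (by omega) le_rfl, J_mono le_rfl (by omega), J_mono le_rfl (by omega), J_mono (by omega) le_rfl,
    hnorm, TwF4Opp.two_arc H.Z H.h2 (by omega), TwF4Opp.two_arc H.Z H.h2 (by omega), H.perf k, hgen, ?_, ?_⟩
  · intro u hu huQ N hNP hn hQN huN
    have hXP : X (k + m) ≤ J X k (k + m) := X_le_J (by omega) le_rfl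
    have hsol : Group.IsSolvable (X (k + m)) := by
      have : Group.IsNilpotent (X (k + m)) := (H.h2 (k + m)).isNilpotent
      infer_instance
    refine perfect_le (H.perf k) hsol hXP hNP hn ?_
    refine hgen u hu huQ _ (J_le fun j h1 h2 => ?_) (mem_sup_right huN)
    rcases eq_or_lt_of_le h2 with h3 | h3
    · rw [h3]; exact le_sup_left
    · exact ((X_le_J h1 (by omega)).trans hQN).trans le_sup_right
  · intro b hb hbb u hu
    obtain ⟨y, hy, q, hq, rfl⟩ := H.Z.split_ll (a := k) (b := k + m - 1) (by omega) (by omega) hb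
    obtain ⟨z, hz, r, hr, rfl⟩ := H.Z.split_ll (a := k) (b := k + m - 1) (by omega) (by omega) hu
    have hyP : y ∈ J X k (k + m) := mem_J hy le_rfl (by omega)
    have hzP : z ∈ J X k (k + m) := mem_J hz le_rfl (by omega)
    have hn' : ∀ p ∈ J X k (k + m), ∀ q ∈ J X (k + 1) (k + m - 1), p⁻¹ * q * p ∈ J X (k + 1) (k + m - 1) := by
      intro p hp q hq
      have := hnorm p⁻¹ (inv_mem hp) q hq
      rwa [inv_inv] at this
    have hyy : y * y = 1 := by
      refine H.Z.inter k _ (mul_mem hy hy) ?_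
      have e : y * y = ((y⁻¹ * q * y) * q)⁻¹ := by
        have e1 : y * y * ((y⁻¹ * q * y) * q) = (y * q) * (y * q) := by group
        rw [eq_inv_iff_mul_eq_one, e1, hbb]
      rw [e]
      exact inv_mem (mul_mem (hn' y hyP q hq) hq)
    have hyz : z * y = y * z := H.cin k y hy hyy z hz
    have e : z * r * (y * q) * (z * r)⁻¹ * (y * q)⁻¹ =
        (z * y) * (((y⁻¹ * r * y) * q * r⁻¹) * (z⁻¹ * q⁻¹ * z)) * (z * y)⁻¹ := by
      have e1 : (z * y)⁻¹ = z⁻¹ * y⁻¹ := by rw [hyz]; group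
      rw [e1]; group
    rw [e]
    exact hnorm _ (mul_mem hzP hyP) _
      (mul_mem (mul_mem (mul_mem (hn' y hyP r hr) hq) (inv_mem hr)) (hn' z hzP _ (inv_mem hq)))

theorem par_minus (H : Hyp m X) (k : ℤ) :
    Par (J X k (k + m - 1)) (J X (k - 1) (k + m - 1)) (J X k (k + m - 2)) (J X (k - 1) (k + m - 2)) := by
  have h := par_plus (H.rev (2 * k + m - 1)) k
  rw [ZSys.J_rev, ZSys.J_rev, ZSys.J_rev, ZSys.J_rev, show 2 * k + m - 1 - (k + m - 1) = k by ring,
    show 2 * k + m - 1 - k = k + m - 1 by ring, show 2 * k + m - 1 - (k + m) = k - 1 by ring,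
    show 2 * k + m - 1 - (k + 1) = k + m - 2 by ring] at h
  exact h

variable {M : Type*} [Group M] [MulDistribMulAction G M]

/-- the elements leaving `E` invariant -/
def inv (E : Subgroup M) : Subgroup G where
  carrier := {g | ∀ e, e ∈ E ↔ g • e ∈ E}
  one_mem' := fun e => by rw [one_smul]
  mul_mem' := fun {a b} ha hb e => by rw [mul_smul, hb e, ha]
  inv_mem' := fun {a} ha e => by
    have := ha (a⁻¹ • e)
    rw [smul_inv_smul] at this
    exact this.symm

theorem le_inv {E : Subgroup M} {K : Subgroup G} (h : ∀ k ∈ K, ∀ e ∈ E, k • e ∈ E) : K ≤ inv E := by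
  intro k hk e
  refine ⟨h k hk e, fun he => ?_⟩
  have := h k⁻¹ (inv_mem hk) _ he
  rwa [inv_smul_smul] at this

variable [Finite M]

/-- **the walk around the apartment** -/
theorem false_of (H : Hyp m X) (hopp : ∀ x ∈ J X 1 m, x ∈ J X (m + 1) (2 * m) → x = 1)
    (sq : ∀ m : M, m * m = 1) (hc : ∀ x y : M, x * y = y * x) (hM : Nontrivial M)
    (hp : ∀ k, ∀ f : M, (∀ p ∈ J X k (k + m), p • f = f) → f = 1)
    {B : Subgroup G} (hB0 : B ≠ ⊥) (hel : ∀ b ∈ B, b * b = 1) (hB1 : B ≤ J X 2 m) (hB2 : B ≤ J X 1 (m - 1))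
    (hB : (cv M (B : Set G)).index ≤ Nat.card B)
    (hmin : ∀ C : Subgroup G, C ≤ B → C ≠ ⊥ → C ≠ B → Nat.card C < (cv M (C : Set G)).index) : False := by
  have hm := H.Z.two_lt
  have mov : ∀ k, ∀ f : M, f ≠ 1 → (∀ u ∈ J X k (k + m - 1), u • f = f) → ∃ p ∈ J X k (k + m), p • f ≠ f := by
    intro k f hf hU
    by_contra hcon
    push Not at hcon
    exact hf (hp k f hcon)
  have mov' : ∀ k, ∀ f : M, f ≠ 1 → (∀ u ∈ J X k (k + m - 1), u • f = f) →
      ∃ p ∈ J X (k - 1) (k + m - 1), p • f ≠ f := by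
    intro k f hf hU
    by_contra hcon
    push Not at hcon
    refine hf (hp (k - 1) f ?_)
    rw [show k - 1 + m = k + m - 1 by ring]
    exact hcon
  -- up
  have up : ∃ k : ℤ, 2 ≤ k ∧ k ≤ m ∧ B ≤ J X k (k + m - 1) ∧ ¬ B ≤ J X (k + 1) (k + m - 1) := by
    by_contra hcon
    push Not at hcon
    have key : ∀ n : ℕ, (n : ℤ) ≤ m → B ≤ J X (n + 1) (n + m) := by
      intro n
      induction n with
      | zero => intro _; exact hB2.trans (J_mono (by simp) (by simp))
      | succ n ih =>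
        intro hn
        push_cast at hn ⊢
        have h1 := ih (by omega)
        rcases Nat.eq_zero_or_pos n with h0 | h0
        · subst h0
          exact hB1.trans (J_mono (by simp) (by push_cast; omega))
        · have h2 := hcon (n + 1) (by omega) (by omega) (h1.trans (J_mono le_rfl (by omega)))
          exact h2.trans (J_mono le_rfl (by omega))
    have h1 := key m.toNat (by omega)
    rw [Int.toNat_of_nonneg (by omega)] at h1
    apply hB0
    rw [eq_bot_iff]
    intro x hx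
    rw [mem_bot]
    exact hopp x (J_mono le_rfl (by omega) (hB2 hx)) (J_mono le_rfl (by omega) (h1 hx))
  -- down
  have dn : ∃ k : ℤ, 2 - m ≤ k ∧ k ≤ 0 ∧ B ≤ J X k (k + m - 1) ∧ ¬ B ≤ J X k (k + m - 2) := by
    by_contra hcon
    push Not at hcon
    have key : ∀ n : ℕ, (n : ℤ) ≤ m → B ≤ J X (1 - n) (m - n) := by
      intro n
      induction n with
      | zero => intro _; exact hB2.trans (J_mono (by simp) (by simp))
      | succ n ih =>
        intro hn
        push_cast at hn ⊢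
        have h1 := ih (by omega)
        rcases Nat.eq_zero_or_pos n with h0 | h0
        · subst h0
          exact hB2.trans (J_mono (by simp) (by simp))
        · have h2 := hcon (1 - n) (by omega) (by omega) (h1.trans (J_mono le_rfl (by omega)))
          exact h2.trans (J_mono (by omega) (by omega))
    have h1 := key m.toNat (by omega)
    rw [Int.toNat_of_nonneg (by omega)] at h1
    apply hB0
    rw [eq_bot_iff]
    intro x hx
    rw [mem_bot]
    refine hopp x (J_mono le_rfl (by omega) (hB2 hx)) ?_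
    have h2 := h1 hx
    have h3 : J X (1 - m) (m - m) ≤ J X (m + 1) (2 * m) := J_le fun j h4 h5 => by
      have e : X j = X (j + 2 * m) := (H.Z.per j).symm
      rw [e]
      exact X_le_J (by omega) (by omega)
    exact h3 h2
  obtain ⟨k, hk1, hk2, hkU, hkQ⟩ := up
  obtain ⟨l, hl1, hl2, hlU, hlQ⟩ := dn
  obtain ⟨hEQ, hEU, hE0, hEP⟩ := bad (par_plus H k) sq hc (mov k) hel hB hmin hkU hkQ hM
  obtain ⟨-, hEU', -, -⟩ := bad (par_minus H l) sq hc (mov' l) hel hB hmin hlU hlQ hM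
  have i1 := le_inv hEU
  have i2 := le_inv hEU'
  rcases le_or_gt (k - l) m with h | h
  · -- `X (k - 1)` leaves `E` invariant
    obtain ⟨x, hx, hx1⟩ := H.Z.exists_ne (k + m - 1)
    refine bad' (par_minus H k) sq (mov' k) hEQ hEU hE0 (x := x) (mem_J hx (by omega) le_rfl)
      (mem_J hx (by omega) le_rfl) (fun hx' => ?_) ?_
    · exact hx1 (H.Z.inter' hx (J_mono (by omega) (by omega) hx'))
    · have h1 : J X (k - 1) (k + m - 1) ≤ inv (cmt B (⊤ : Subgroup M)) := J_le fun j h2 h3 => by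
        rcases eq_or_lt_of_le h2 with h4 | h4
        · exact (X_le_J (by omega) (by omega)).trans i2
        · exact (X_le_J (by omega) h3).trans i1
      exact fun p hp e he => (h1 hp e).1 he
  · -- `X (k + m) = X (k - m)`
    refine hEP ?_
    have h1 : J X k (k + m) ≤ inv (cmt B (⊤ : Subgroup M)) := J_le fun j h2 h3 => by
      rcases eq_or_lt_of_le h3 with h4 | h4
      · have e : X j = X (k - m) := by rw [h4, TwF4Opp.per_m H.Z]
        rw [e]
        exact (X_le_J (by omega) (by omega)).trans i2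
      · exact (X_le_J h2 (by omega)).trans i1
    exact fun p hp e he => (h1 hp e).1 he

end zsys

end Cfsg.Agent.Omega.ML.Ex.ZWalk
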